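import Mathlib
import Cfsg.Prelude.Def_Characters
import Cfsg.Agent.Lib.Helper25.CharOrth
import Cfsg.Agent.Lib.helper7.ClassSum

set_option autoImplicit false
set_option linter.style.haveILetI false
set_option linter.unusedSimpArgs false
set_option linter.deprecated false

namespace Cfsg.Agent.Lib.helper2

open scoped ComplexConjugate
open Cfsg.Agent.Lib.Helper25 Cfsg.Agent.Lib.helper7


theorem roots_pow_eq_one {G : Type*} [Group G] [Finite G] {V : Type*} [AddCommGroup V] [Module ℂ V] [FiniteDimensional ℂ V] (ρ : Representation ℂ G V) (g : G) :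
    ∀ μ ∈ (ρ g).charpoly.roots, μ ^ orderOf g = 1 := by
  set f : Module.End ℂ V := ρ g with hf
  have hfm : f ^ orderOf g = 1 := by
    rw [hf, ← map_pow, pow_orderOf_eq_one, map_one]
  intro μ hμ
  have hroot : f.charpoly.IsRoot μ := (Polynomial.mem_roots'.mp hμ).2
  have hev : f.HasEigenvalue μ := (Module.End.hasEigenvalue_iff_isRoot_charpoly f μ).mpr hroot
  obtain ⟨v, hv⟩ := hev.exists_hasEigenvector
  have h1 : (f ^ orderOf g) v = μ ^ orderOf g • v := hv.pow_apply (orderOf g)
  rw [hfm, Module.End.one_apply] at h1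
  by_contra hne
  have : (μ ^ orderOf g - 1) • v = 0 := by rw [sub_smul, one_smul, ← h1, sub_self]
  rcases smul_eq_zero.mp this with h | h
  · exact hne (sub_eq_zero.mp h)
  · exact hv.2 h

theorem char_eq_sum_roots {G : Type*} [Group G] {V : Type*} [AddCommGroup V] [Module ℂ V] [FiniteDimensional ℂ V] (ρ : Representation ℂ G V) (g : G) :
    ρ.character g = (ρ g).charpoly.roots.sum :=
  Module.End.trace_eq_sum_roots_charpoly_of_splits (IsAlgClosed.splits _)

theorem char_integral {G : Type*} [Group G] [Finite G] {V : Type*} [AddCommGroup V] [Module ℂ V] [FiniteDimensional ℂ V] (ρ : Representation ℂ G V) (g : G) : IsIntegral ℤ (ρ.character g) := by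
  rw [char_eq_sum_roots]
  apply IsIntegral.multiset_sum
  intro μ hμ
  have h := roots_pow_eq_one ρ g μ hμ
  apply IsIntegral.of_pow (orderOf_pos g)
  rw [h]
  exact isIntegral_one


theorem rep_int_comb_integral {G : Type*} [Group G] [Finite G] {V : Type*} [AddCommGroup V]
    [Module ℂ V] (ρ : Representation ℂ G V) (s : Finset G) (c : G → ℤ) :
    IsIntegral ℤ (∑ x ∈ s, c x • ρ x) := by
  let F : MonoidAlgebra ℤ G →ₐ[ℤ] Module.End ℂ V := MonoidAlgebra.lift ℤ (Module.End ℂ V) G ρ
  have h1 : ∑ x ∈ s, c x • ρ x = F (∑ x ∈ s, c x • MonoidAlgebra.of ℤ G x) := by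
    rw [map_sum]
    refine Finset.sum_congr rfl fun x _ => ?_
    rw [map_zsmul]
    congr 1
    simp [F]
  rw [h1]
  exact IsIntegral.map F (Algebra.IsIntegral.isIntegral _)

theorem class_sum_scalar {G : Type*} [Group G] [Fintype G] {V : Type*} [AddCommGroup V]
    [Module ℂ V] [FiniteDimensional ℂ V] (ρ : Representation ℂ G V) [ρ.IsIrreducible] (g : G)
    [DecidablePred (fun x : G => IsConj g x)] :
    ∑ x ∈ Finset.univ.filter (fun x : G => IsConj g x), ρ x =
      (((Subgroup.centralizer ({g} : Set G)).index : ℂ) * ρ.character g /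
        (Module.finrank ℂ V : ℂ)) • (LinearMap.id : V →ₗ[ℂ] V) := by
  classical
  set T : V →ₗ[ℂ] V := ∑ x ∈ Finset.univ.filter (fun x : G => IsConj g x), ρ x with hT
  have hcomm : ∀ h : G, T ∘ₗ ρ h = ρ h ∘ₗ T := by
    intro h
    rw [← Module.End.mul_eq_comp, ← Module.End.mul_eq_comp, hT, Finset.sum_mul, Finset.mul_sum]
    refine Finset.sum_bij (fun x _ => h⁻¹ * x * h) ?_ ?_ ?_ ?_
    · intro x hx
      simp only [Finset.mem_filter, Finset.mem_univ, true_and] at hx ⊢
      exact hx.trans (isConj_iff.mpr ⟨h⁻¹, by group⟩)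
    · intro x _ y _ hxy
      have := congrArg (fun z => h * z * h⁻¹) hxy
      simpa [mul_assoc] using this
    · intro y hy
      simp only [Finset.mem_filter, Finset.mem_univ, true_and] at hy
      refine ⟨h * y * h⁻¹, ?_, by group⟩
      simp only [Finset.mem_filter, Finset.mem_univ, true_and]
      exact hy.trans (isConj_iff.mpr ⟨h, rfl⟩)
    · intro x _
      rw [← map_mul, ← map_mul]
      congr 1
      group
  obtain ⟨c, hc⟩ := commuting_end_scalar ρ T hcomm
  have htr : LinearMap.trace ℂ V T =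
      ((Subgroup.centralizer ({g} : Set G)).index : ℂ) * ρ.character g := by
    rw [hT, map_sum]
    have : ∀ x ∈ Finset.univ.filter (fun x : G => IsConj g x),
        LinearMap.trace ℂ V (ρ x) = ρ.character g := by
      intro x hx
      simp only [Finset.mem_filter, Finset.mem_univ, true_and] at hx
      obtain ⟨y, hy⟩ := isConj_iff.mp hx
      rw [← hy]
      exact Representation.char_conj ρ g y
    rw [Finset.sum_congr rfl this, Finset.sum_const, nsmul_eq_mul,
      h7_index_centralizer_eq_card_class, Nat.card_eq_fintype_card, Fintype.card_subtype]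
  have htr2 : LinearMap.trace ℂ V T = c * (Module.finrank ℂ V : ℂ) := by
    rw [hc, map_smul, LinearMap.trace_id, smul_eq_mul]
  have h1 : (Module.finrank ℂ V : ℂ) ≠ 0 := by
    exact_mod_cast finrank_ne_zero_of_irr ρ
  rw [hc]
  congr 1
  rw [eq_div_iff h1, ← htr2, htr]

theorem central_char_integral {G : Type*} [Group G] [Finite G] {V : Type*} [AddCommGroup V]
    [Module ℂ V] [FiniteDimensional ℂ V] (ρ : Representation ℂ G V) [ρ.IsIrreducible] (g : G) :
    IsIntegral ℤ (((Subgroup.centralizer ({g} : Set G)).index : ℂ) * ρ.character g /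
      (Module.finrank ℂ V : ℂ)) := by
  classical
  have : Fintype G := Fintype.ofFinite G
  have h1 := class_sum_scalar ρ g
  have h2 := rep_int_comb_integral ρ (Finset.univ.filter (fun x : G => IsConj g x)) (fun _ => 1)
  simp only [one_smul] at h2
  rw [h1] at h2
  have : Nontrivial V := Module.nontrivial_of_finrank_pos (R := ℂ)
    (Nat.pos_of_ne_zero (finrank_ne_zero_of_irr ρ))
  have hinj : Function.Injective (algebraMap ℂ (Module.End ℂ V)) :=
    FaithfulSMul.algebraMap_injective ℂ (Module.End ℂ V)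
  rw [← isIntegral_algebraMap_iff hinj]
  convert h2 using 1
  exact Algebra.algebraMap_eq_smul_one _

theorem nat_dvd_of_isIntegral_div (a n : ℕ) (hn : n ≠ 0) (h : IsIntegral ℤ ((a : ℂ) / (n : ℂ))) :
    n ∣ a := by
  have hq : IsIntegral ℤ ((a : ℚ) / (n : ℚ)) := by
    rw [← isIntegral_algebraMap_iff (algebraMap ℚ ℂ).injective]
    simpa using h
  obtain ⟨z, hz⟩ := IsIntegrallyClosed.isIntegral_iff.mp hq
  have hn' : (n : ℚ) ≠ 0 := by exact_mod_cast hn
  have h1 : (a : ℚ) = (z : ℚ) * (n : ℚ) := by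
    rw [eq_div_iff hn'] at hz
    rw [← hz]; simp
  have h2 : (a : ℤ) = z * (n : ℤ) := by exact_mod_cast h1
  have h3 : (n : ℤ) ∣ (a : ℤ) := ⟨z, by rw [h2, mul_comm]⟩
  exact_mod_cast h3

theorem degree_dvd_card {G : Type*} [Group G] [Finite G] {V : Type*} [AddCommGroup V] [Module ℂ V] [FiniteDimensional ℂ V] (ρ : Representation ℂ G V) [ρ.IsIrreducible] : Module.finrank ℂ V ∣ Nat.card G := by
  classical
  have : Fintype G := Fintype.ofFinite G
  have : Fintype (ConjClasses G) := Fintype.ofFinite _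
  have hn : Module.finrank ℂ V ≠ 0 := finrank_ne_zero_of_irr ρ
  have hnC : (Module.finrank ℂ V : ℂ) ≠ 0 := by exact_mod_cast hn
  apply nat_dvd_of_isIntegral_div _ _ hn
  have h1 : Cfsg.classInner ρ.character ρ.character = 1 :=
    (classInner_rep ρ ρ).1 ⟨Representation.Equiv.refl ρ⟩
  have hne : (Nat.card G : ℂ) ≠ 0 := by exact_mod_cast Nat.card_pos.ne'
  have h2 : (Nat.card G : ℂ) = ∑ g : G, ρ.character g * conj (ρ.character g) := by
    unfold Cfsg.classInner at h1
    field_simp at h1
    exact h1.symm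
  have hcl : ∀ g h : G, ρ.character (h * g * h⁻¹) * conj (ρ.character (h * g * h⁻¹)) =
      ρ.character g * conj (ρ.character g) := by
    intro g h
    rw [Representation.char_conj]
  rw [h7_sum_eq_sum_conjClasses _ hcl] at h2
  rw [h2, Finset.sum_div]
  apply IsIntegral.sum
  intro K _
  have h3 : ((Subgroup.centralizer ({Quotient.out K} : Set G)).index •
      (ρ.character (Quotient.out K) * conj (ρ.character (Quotient.out K)))) /
      (Module.finrank ℂ V : ℂ) =
      (((Subgroup.centralizer ({Quotient.out K} : Set G)).index : ℂ) *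
        ρ.character (Quotient.out K) / (Module.finrank ℂ V : ℂ)) *
        conj (ρ.character (Quotient.out K)) := by
    rw [nsmul_eq_mul]
    ring
  rw [h3]
  exact (central_char_integral ρ _).mul (map_isIntegral_int (starRingEnd ℂ) (char_integral ρ _))


theorem irr_integral {G : Type*} [Group G] [Finite G] (χ : Cfsg.IrrCharacter G) (g : G) :
    IsIntegral ℤ ((χ : G → ℂ) g) := by
  obtain ⟨n, ρ, hρ, hχ⟩ := χ.2
  rw [← hχ]
  exact char_integral ρ g

theorem irr_degree_dvd_card {G : Type*} [Group G] [Finite G] (χ : Cfsg.IrrCharacter G) :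
    ∃ n : ℕ, 0 < n ∧ (χ : G → ℂ) 1 = (n : ℂ) ∧ n ∣ Nat.card G := by
  obtain ⟨n, ρ, hρ, hχ⟩ := χ.2
  haveI := hρ
  refine ⟨Module.finrank ℂ (Fin n → ℂ), Nat.pos_of_ne_zero (finrank_ne_zero_of_irr ρ), ?_,
    degree_dvd_card ρ⟩
  rw [← hχ, Representation.char_one]

theorem irr_central_char_integral {G : Type*} [Group G] [Finite G] (χ : Cfsg.IrrCharacter G)
    (g : G) :
    IsIntegral ℤ (((Subgroup.centralizer ({g} : Set G)).index : ℂ) * (χ : G → ℂ) g /
      (χ : G → ℂ) 1) := by
  obtain ⟨n, ρ, hρ, hχ⟩ := χ.2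
  haveI := hρ
  rw [← hχ, Representation.char_one]
  exact central_char_integral ρ g

end Cfsg.Agent.Lib.helper2
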