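import Mathlib
import Cfsg.Prelude.Def_Characters
import Cfsg.Agent.Lib.helper2.CharInt

set_option autoImplicit false
set_option linter.style.haveILetI false
set_option linter.unusedSimpArgs false
set_option linter.deprecated false

namespace Cfsg.Agent.Lib.helper2

open scoped ComplexConjugate
open IntermediateField
open Cfsg.Agent.Lib.Helper25

theorem conj_norm_le {ι : Type*} [Fintype ι] (z : ι → ℂ) (k : ℕ) (hk : 0 < k)
    (hz : ∀ i, z i ^ k = 1) (hn : 0 < Fintype.card ι) (β : ℂ)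
    (hβ : Polynomial.aeval β (minpoly ℚ ((∑ i, z i) / (Fintype.card ι : ℂ))) = 0) : ‖β‖ ≤ 1 := by
  classical
  set α : ℂ := (∑ i, z i) / (Fintype.card ι : ℂ) with hα
  set S : Set ℂ := Set.range z with hS
  have hK : ∀ s ∈ S, IsIntegral ℚ s ∧ ((minpoly ℚ s).map (algebraMap ℚ ℂ)).Splits := by
    intro s hs
    obtain ⟨i, rfl⟩ := hs
    refine ⟨?_, IsAlgClosed.splits _⟩
    apply IsIntegral.of_pow hk
    rw [hz i]
    exact isIntegral_one
  have hmem : ∀ i, z i ∈ adjoin ℚ S := fun i => subset_adjoin ℚ S ⟨i, rfl⟩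
  have hx : α ∈ adjoin ℚ S := by
    rw [hα]
    apply div_mem
    · exact sum_mem fun i _ => hmem i
    · exact _root_.natCast_mem _ _
  obtain ⟨φ, hφ⟩ := exists_algHom_adjoin_of_splits_of_aeval hK hx hβ
  have h1 : (⟨α, hx⟩ : adjoin ℚ S) = (∑ i, (⟨z i, hmem i⟩ : adjoin ℚ S)) / (Fintype.card ι : adjoin ℚ S) := by
    apply Subtype.ext
    push_cast
    rfl
  rw [h1, map_div₀, map_sum, map_natCast] at hφ
  have h2 : ∀ i, ‖φ ⟨z i, hmem i⟩‖ = 1 := by
    intro i
    apply Complex.norm_eq_one_of_pow_eq_one _ hk.ne'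
    rw [← map_pow]
    have : (⟨z i, hmem i⟩ : adjoin ℚ S) ^ k = 1 := by
      apply Subtype.ext
      push_cast
      exact hz i
    rw [this, map_one]
  rw [← hφ, norm_div]
  have hcard : (0 : ℝ) < (Fintype.card ι : ℝ) := by exact_mod_cast hn
  rw [Complex.norm_natCast, div_le_one hcard]
  calc ‖∑ i, φ ⟨z i, hmem i⟩‖ ≤ ∑ i, ‖φ ⟨z i, hmem i⟩‖ := norm_sum_le _ _
    _ = Fintype.card ι := by simp [h2]


theorem multiset_norm_prod_le_one (t : Multiset ℂ) (h : ∀ β ∈ t, ‖β‖ ≤ 1) : ‖t.prod‖ ≤ 1 := by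
  induction t using Multiset.induction_on with
  | empty => simp
  | cons a t ih =>
    rw [Multiset.prod_cons, norm_mul]
    have h1 : ‖a‖ ≤ 1 := h a (Multiset.mem_cons_self a t)
    have h2 : ‖t.prod‖ ≤ 1 := ih fun β hβ => h β (Multiset.mem_cons_of_mem hβ)
    calc ‖a‖ * ‖t.prod‖ ≤ 1 * 1 := mul_le_mul h1 h2 (norm_nonneg _) zero_le_one
      _ = 1 := one_mul 1

theorem avg_roots_of_unity_integral {ι : Type*} [Fintype ι] (z : ι → ℂ) (k : ℕ) (hk : 0 < k)
    (hz : ∀ i, z i ^ k = 1) (hn : 0 < Fintype.card ι)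
    (hint : IsIntegral ℤ ((∑ i, z i) / (Fintype.card ι : ℂ))) :
    (∑ i, z i) / (Fintype.card ι : ℂ) = 0 ∨ ‖(∑ i, z i) / (Fintype.card ι : ℂ)‖ = 1 := by
  classical
  set α : ℂ := (∑ i, z i) / (Fintype.card ι : ℂ) with hα
  have hle : ‖α‖ ≤ 1 := by
    apply conj_norm_le z k hk hz hn
    exact minpoly.aeval ℚ α
  by_cases hlt : ‖α‖ < 1
  swap
  · right
    exact le_antisymm hle (not_lt.mp hlt)
  left
  have hQ : minpoly ℚ α = (minpoly ℤ α).map (algebraMap ℤ ℚ) :=
    minpoly.isIntegrallyClosed_eq_field_fractions' ℚ hint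
  set P : Polynomial ℂ := (minpoly ℤ α).map (algebraMap ℤ ℂ) with hP
  have hP' : P = (minpoly ℚ α).map (algebraMap ℚ ℂ) := by
    rw [hQ, Polynomial.map_map]
    congr 1
  have hmonic : P.Monic := (minpoly.monic hint).map _
  have hsplit : P.Splits := IsAlgClosed.splits _
  have hroots : ∀ β ∈ P.roots, ‖β‖ ≤ 1 := by
    intro β hβ
    apply conj_norm_le z k hk hz hn
    have := (Polynomial.mem_roots'.mp hβ).2
    rw [hP', Polynomial.IsRoot.def, Polynomial.eval_map_algebraMap] at this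
    exact this
  have hαroot : α ∈ P.roots := by
    rw [Polynomial.mem_roots hmonic.ne_zero, hP, Polynomial.IsRoot.def, Polynomial.eval_map_algebraMap]
    exact minpoly.aeval ℤ α
  obtain ⟨t, ht⟩ := Multiset.exists_cons_of_mem hαroot
  have hprod : ‖P.roots.prod‖ < 1 := by
    rw [ht, Multiset.prod_cons, norm_mul]
    have h2 : ‖t.prod‖ ≤ 1 := multiset_norm_prod_le_one t fun β hβ =>
      hroots β (by rw [ht]; exact Multiset.mem_cons_of_mem hβ)
    calc ‖α‖ * ‖t.prod‖ ≤ ‖α‖ * 1 := mul_le_mul_of_nonneg_left h2 (norm_nonneg _)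
      _ < 1 := by rw [mul_one]; exact hlt
  have hc0 : P.coeff 0 = (-1) ^ P.natDegree * P.roots.prod :=
    hsplit.coeff_zero_eq_prod_roots_of_monic hmonic
  have hc0' : P.coeff 0 = (((minpoly ℤ α).coeff 0 : ℤ) : ℂ) := by
    rw [hP, Polynomial.coeff_map]
    rfl
  have hnorm : ‖(((minpoly ℤ α).coeff 0 : ℤ) : ℂ)‖ < 1 := by
    rw [← hc0', hc0, norm_mul, norm_pow, norm_neg, norm_one, one_pow, one_mul]
    exact hprod
  have hzero : (minpoly ℤ α).coeff 0 = 0 := by
    rw [Complex.norm_intCast] at hnorm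
    have : |((minpoly ℤ α).coeff 0)| < 1 := by exact_mod_cast hnorm
    exact Int.abs_lt_one_iff.mp this
  have hintQ : IsIntegral ℚ α := hint.tower_top
  have hzeroQ : (minpoly ℚ α).coeff 0 = 0 := by
    rw [hQ, Polynomial.coeff_map, hzero, map_zero]
  exact (minpoly.coeff_zero_eq_zero hintQ).mp hzeroQ


theorem char_eq_sum_fin {G : Type*} [Group G] [Finite G] {V : Type*} [AddCommGroup V] [Module ℂ V]
    [FiniteDimensional ℂ V] (ρ : Representation ℂ G V) (g : G) :
    ∃ z : Fin (Module.finrank ℂ V) → ℂ, (∀ i, z i ^ orderOf g = 1) ∧ ρ.character g = ∑ i, z i := by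
  have hcard : Multiset.card (ρ g).charpoly.roots = Module.finrank ℂ V := by
    rw [IsAlgClosed.card_roots_eq_natDegree, LinearMap.charpoly_natDegree]
  set l := (ρ g).charpoly.roots.toList with hl
  have hlen : l.length = Module.finrank ℂ V := by
    rw [hl, Multiset.length_toList, hcard]
  refine ⟨fun i => l.get (Fin.cast hlen.symm i), ?_, ?_⟩
  · intro i
    apply roots_pow_eq_one ρ g
    rw [← Multiset.mem_toList]
    exact List.get_mem _ _
  · rw [char_eq_sum_roots, ← Multiset.sum_toList, ← hl]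
    conv_lhs => rw [← List.ofFn_get l]
    rw [List.sum_ofFn]
    exact ((Fin.castOrderIso hlen.symm).toEquiv.sum_comp (fun i => l.get i)).symm

theorem burnside_coprime {G : Type*} [Group G] [Finite G] {V : Type*} [AddCommGroup V] [Module ℂ V] [FiniteDimensional ℂ V] (ρ : Representation ℂ G V) [ρ.IsIrreducible] (g : G) (hcop : Nat.Coprime (Module.finrank ℂ V) (Subgroup.centralizer ({g} : Set G)).index) : ρ.character g = 0 ∨ ‖ρ.character g‖ = (Module.finrank ℂ V : ℝ) := by
  have hn : Module.finrank ℂ V ≠ 0 := finrank_ne_zero_of_irr ρ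
  have hnC : (Module.finrank ℂ V : ℂ) ≠ 0 := by exact_mod_cast hn
  obtain ⟨z, hz, hsum⟩ := char_eq_sum_fin ρ g
  obtain ⟨u, v, huv⟩ := Nat.isCoprime_iff_coprime.mpr hcop
  have hint : IsIntegral ℤ (ρ.character g / (Module.finrank ℂ V : ℂ)) := by
    have h1 : ρ.character g / (Module.finrank ℂ V : ℂ) =
        (u : ℂ) * ρ.character g + (v : ℂ) *
          (((Subgroup.centralizer ({g} : Set G)).index : ℂ) * ρ.character g /
            (Module.finrank ℂ V : ℂ)) := by
      have h2 : ((u * (Module.finrank ℂ V : ℤ) + v * ((Subgroup.centralizer ({g} : Set G)).index : ℤ) : ℤ) : ℂ) = 1 := by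
        rw [huv]; simp
      push_cast at h2
      field_simp
      linear_combination (-(ρ.character g)) * h2
    rw [h1]
    exact ((isIntegral_algebraMap (R := ℤ) (x := u)).mul (char_integral ρ g)).add
      ((isIntegral_algebraMap (R := ℤ) (x := v)).mul (central_char_integral ρ g))
  have hcard : Fintype.card (Fin (Module.finrank ℂ V)) = Module.finrank ℂ V := Fintype.card_fin _
  have h3 := avg_roots_of_unity_integral z (orderOf g) (orderOf_pos g) hz
    (by rw [hcard]; exact Nat.pos_of_ne_zero hn) (by rw [hcard, ← hsum]; exact hint)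
  rw [hcard, ← hsum] at h3
  rcases h3 with h | h
  · left
    rw [div_eq_zero_iff] at h
    exact h.resolve_right hnC
  · right
    rw [norm_div, Complex.norm_natCast, div_eq_one_iff_eq] at h
    · exact h
    · exact_mod_cast hn


end Cfsg.Agent.Lib.helper2
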