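import Mathlib
import Cfsg.Prelude.Def_Characters
import Cfsg.Agent.Lib.helper2.Burnside
import Cfsg.Agent.Lib.Helper25.CharLinear
import Cfsg.Agent.S0138

set_option autoImplicit false
set_option linter.style.haveILetI false
set_option linter.unusedSimpArgs false
set_option linter.deprecated false

namespace Cfsg.Agent.Lib.helper2

open scoped ComplexConjugate
open Cfsg.Agent.Lib.Helper25


/-- The elements acting by operators commuting with everything in the image form a normal subgroup. -/
def repCenter {G : Type*} [Group G] {V : Type*} [AddCommGroup V] [Module ℂ V]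
    (ρ : Representation ℂ G V) : Subgroup G where
  carrier := {x | ∀ y, ρ x * ρ y = ρ y * ρ x}
  one_mem' := by intro y; simp
  mul_mem' := by
    intro a b ha hb y
    rw [map_mul, mul_assoc, hb y, ← mul_assoc, ha y, mul_assoc]
  inv_mem' := by
    intro a ha y
    have h1 : ρ a⁻¹ * ρ a = 1 := by rw [← map_mul, inv_mul_cancel, map_one]
    have h2 : ρ a * ρ a⁻¹ = 1 := by rw [← map_mul, mul_inv_cancel, map_one]
    calc ρ a⁻¹ * ρ y = ρ a⁻¹ * ρ y * (ρ a * ρ a⁻¹) := by rw [h2, mul_one]
      _ = ρ a⁻¹ * (ρ y * ρ a) * ρ a⁻¹ := by simp only [mul_assoc]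
      _ = ρ a⁻¹ * (ρ a * ρ y) * ρ a⁻¹ := by rw [ha y]
      _ = (ρ a⁻¹ * ρ a) * ρ y * ρ a⁻¹ := by simp only [mul_assoc]
      _ = ρ y * ρ a⁻¹ := by rw [h1, one_mul]

theorem repCenter_normal {G : Type*} [Group G] {V : Type*} [AddCommGroup V] [Module ℂ V]
    (ρ : Representation ℂ G V) : (repCenter ρ).Normal := by
  constructor
  intro a ha b y
  have hay : ∀ y, ρ a * ρ y = ρ y * ρ a := ha
  have h1 : ρ b⁻¹ * ρ b = 1 := by rw [← map_mul, inv_mul_cancel, map_one]
  have h2 : ρ b * ρ b⁻¹ = 1 := by rw [← map_mul, mul_inv_cancel, map_one]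
  have h3 : ρ (b * a * b⁻¹) = ρ a := by
    rw [map_mul, map_mul, ← hay b, mul_assoc, h2, mul_one]
  rw [h3]
  exact hay y

theorem simple_noncomm_not_scalar {G : Type*} [Group G] [Finite G] [IsSimpleGroup G]
    (hnc : ¬ ∀ a b : G, a * b = b * a) {V : Type*} [AddCommGroup V] [Module ℂ V]
    [FiniteDimensional ℂ V] (ρ : Representation ℂ G V) [ρ.IsIrreducible]
    (htriv : ρ.character ≠ fun _ => 1) (g : G) (hg : g ≠ 1) :
    ¬ ∃ ω : ℂ, ρ g = ω • (LinearMap.id : V →ₗ[ℂ] V) := by
  rintro ⟨ω, hω⟩
  have hN := repCenter_normal ρ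
  have hgN : g ∈ repCenter ρ := by
    intro y
    rw [hω]
    ext v
    simp
  have htop : repCenter ρ = ⊤ := by
    rcases hN.eq_bot_or_eq_top with h | h
    · rw [h, Subgroup.mem_bot] at hgN
      exact absurd hgN hg
    · exact h
  have hcomm : ∀ a b : G, ρ (a * b) = ρ (b * a) := by
    intro a b
    have : a ∈ repCenter ρ := by rw [htop]; trivial
    rw [map_mul, map_mul]
    exact this b
  have hK : (MonoidHom.ker ρ).Normal := inferInstance
  rcases hK.eq_bot_or_eq_top with h | h
  · apply hnc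
    intro a b
    have h1 : (a * b) * (b * a)⁻¹ ∈ MonoidHom.ker ρ := by
      rw [MonoidHom.mem_ker, map_mul, hcomm a b, ← map_mul, mul_inv_cancel, map_one]
    rw [h, Subgroup.mem_bot, mul_inv_eq_one] at h1
    exact h1
  · have h1 : ∀ x : G, ρ x = 1 := by
      intro x
      have : x ∈ MonoidHom.ker ρ := by rw [h]; trivial
      exact this
    have h2 : ∀ x : G, ρ.character x = (Module.finrank ℂ V : ℂ) := by
      intro x
      unfold Representation.character
      rw [h1 x]
      exact LinearMap.trace_one ℂ V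
    have : Fintype G := Fintype.ofFinite G
    have h3 : Cfsg.classInner ρ.character ρ.character = 1 :=
      (classInner_rep ρ ρ).1 ⟨Representation.Equiv.refl ρ⟩
    unfold Cfsg.classInner at h3
    simp only [h2, Complex.conj_natCast, Finset.sum_const, Finset.card_univ, nsmul_eq_mul] at h3
    have hne : (Nat.card G : ℂ) ≠ 0 := by exact_mod_cast Nat.card_pos.ne'
    rw [← Nat.card_eq_fintype_card, ← mul_assoc, inv_mul_cancel₀ hne, one_mul] at h3
    have h4 : Module.finrank ℂ V * Module.finrank ℂ V = 1 := by exact_mod_cast h3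
    have h5 : Module.finrank ℂ V = 1 := by
      rcases Nat.eq_one_of_mul_eq_one_right h4 with h
      exact h
    apply htriv
    funext x
    rw [h2 x, h5]
    simp


theorem prime_card_of_simple_of_prime_power_class {G : Type*} [Group G] [Finite G] [IsSimpleGroup G] (p k : ℕ) (hp : p.Prime) (g : G) (hg : g ≠ 1) (hclass : (Subgroup.centralizer ({g} : Set G)).index = p ^ k) : (Nat.card G).Prime := by
  classical
  by_cases hc : ∀ a b : G, a * b = b * a
  · letI : CommGroup G := { ‹Group G› with mul_comm := hc }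
    exact IsSimpleGroup.prime_card
  exfalso
  have : Fintype G := Fintype.ofFinite G
  have : Fintype (Cfsg.IrrCharacter G) := Fintype.ofFinite _
  have key : ∀ χ : Cfsg.IrrCharacter G, χ ≠ trivIrr G → ∃ β : ℂ, IsIntegral ℤ β ∧
      (χ : G → ℂ) g * conj ((χ : G → ℂ) 1) = (p : ℂ) * β := by
    intro χ hχ
    obtain ⟨n, ρ, hρ, hχρ⟩ := χ.2
    haveI := hρ
    have h1 : (χ : G → ℂ) 1 = (Module.finrank ℂ (Fin n → ℂ) : ℂ) := by
      rw [← hχρ, Representation.char_one]
    by_cases hpd : p ∣ Module.finrank ℂ (Fin n → ℂ)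
    · obtain ⟨e, he⟩ := hpd
      refine ⟨(e : ℂ) * (χ : G → ℂ) g, ?_, ?_⟩
      · exact (isIntegral_algebraMap (R := ℤ) (x := (e : ℤ))).mul (irr_integral χ g) |>
          fun h => by simpa using h
      · rw [h1, he, Complex.conj_natCast]
        push_cast
        ring
    · have hcop : Nat.Coprime (Module.finrank ℂ (Fin n → ℂ))
          (Subgroup.centralizer ({g} : Set G)).index := by
        rw [hclass]
        exact ((Nat.Prime.coprime_iff_not_dvd hp).mpr hpd).symm.pow_right k
      rcases burnside_coprime ρ g hcop with h | h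
      · refine ⟨0, isIntegral_zero, ?_⟩
        rw [← hχρ, h]; simp
      · exfalso
        have h2 := (Cfsg.Agent.S0138.result ρ g).mp h
        refine simple_noncomm_not_scalar hc ρ ?_ g hg h2
        intro h3
        apply hχ
        apply Subtype.ext
        rw [← hχρ, h3]
        rfl
  choose! β hβint hβ using key
  have hcol := irr_column_orthogonality g (1 : G)
  rw [if_neg (by rw [isConj_one_right]; exact hg)] at hcol
  rw [← Finset.add_sum_erase Finset.univ _ (Finset.mem_univ (trivIrr G))] at hcol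
  have h1 : ∑ χ ∈ Finset.univ.erase (trivIrr G), (χ : G → ℂ) g * conj ((χ : G → ℂ) 1) =
      (p : ℂ) * ∑ χ ∈ Finset.univ.erase (trivIrr G), β χ := by
    rw [Finset.mul_sum]
    refine Finset.sum_congr rfl fun χ hχ => ?_
    exact hβ χ (Finset.ne_of_mem_erase hχ)
  rw [h1] at hcol
  simp only [trivIrr_apply, map_one, mul_one] at hcol
  have hB : IsIntegral ℤ (∑ χ ∈ Finset.univ.erase (trivIrr G), β χ) :=
    IsIntegral.sum _ fun χ hχ => hβint χ (Finset.ne_of_mem_erase hχ)
  have hpC : (p : ℂ) ≠ 0 := by exact_mod_cast hp.ne_zero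
  have h2 : ((1 : ℕ) : ℂ) / (p : ℂ) = -(∑ χ ∈ Finset.univ.erase (trivIrr G), β χ) := by
    rw [div_eq_iff hpC]
    push_cast
    linear_combination hcol
  have h3 : IsIntegral ℤ (((1 : ℕ) : ℂ) / (p : ℂ)) := by
    rw [h2]; exact hB.neg
  have h4 := nat_dvd_of_isIntegral_div 1 p hp.ne_zero h3
  exact hp.one_lt.ne' (Nat.dvd_one.mp h4)


theorem dvd_prime_pow_mul_prime_pow {p q a b d : ℕ} (hp : p.Prime) (hq : q.Prime)
    (h : d ∣ p ^ a * q ^ b) : ∃ a' b', d = p ^ a' * q ^ b' := by
  obtain ⟨d1, d2, h1, h2, rfl⟩ := (Nat.dvd_mul).mp h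
  obtain ⟨a', _, rfl⟩ := (Nat.dvd_prime_pow hp).mp h1
  obtain ⟨b', _, rfl⟩ := (Nat.dvd_prime_pow hq).mp h2
  exact ⟨a', b', rfl⟩

theorem isSolvable_of_simple_pq {G : Type*} [Group G] [Finite G] [IsSimpleGroup G] (p q a b : ℕ)
    (hp : p.Prime) (hq : q.Prime) (hcard : Nat.card G = p ^ a * q ^ b) : Group.IsSolvable G := by
  haveI : Fact p.Prime := ⟨hp⟩
  haveI : Fact q.Prime := ⟨hq⟩
  have hpgroup : ∀ (r : ℕ) [Fact r.Prime] (n : ℕ), Nat.card G = r ^ n → Group.IsSolvable G := by
    intro r _ n hn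
    have h1 : IsPGroup r G := IsPGroup.of_card hn
    have h2 : Group.IsNilpotent G := h1.isNilpotent
    infer_instance
  by_cases hpq : p = q
  · subst hpq
    exact hpgroup p (a + b) (by rw [hcard, pow_add])
  by_cases hb : b = 0
  · subst hb
    exact hpgroup p a (by rw [hcard]; simp)
  have hqdvd : q ∣ Nat.card G := by
    rw [hcard]
    exact Dvd.dvd.mul_left (dvd_pow_self q hb) _
  let Q : Sylow q G := default
  have hQne : (Q : Subgroup G) ≠ ⊥ := Sylow.ne_bot_of_dvd_card Q hqdvd
  have hQnt : Nontrivial (Q : Subgroup G) := (Subgroup.nontrivial_iff_ne_bot _).mpr hQne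
  have hcen : Nontrivial (Subgroup.center (Q : Subgroup G)) := Q.2.center_nontrivial
  obtain ⟨z, hz⟩ := exists_ne (1 : Subgroup.center (Q : Subgroup G))
  have hzG : ((z : (Q : Subgroup G)) : G) ≠ 1 := by
    intro h
    apply hz
    apply Subtype.ext
    apply Subtype.ext
    exact h
  have hle : (Q : Subgroup G) ≤ Subgroup.centralizer ({((z : (Q : Subgroup G)) : G)} : Set G) := by
    intro x hx
    rw [Subgroup.mem_centralizer_singleton_iff]
    have := Subgroup.mem_center_iff.mp z.2 ⟨x, hx⟩
    exact congrArg Subtype.val this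
  have hdvd1 : (Subgroup.centralizer ({((z : (Q : Subgroup G)) : G)} : Set G)).index ∣ (Q : Subgroup G).index :=
    Subgroup.index_dvd_of_le hle
  have hQidx : (Q : Subgroup G).index ∣ p ^ a := by
    have h1 : (Q : Subgroup G).index ∣ p ^ a * q ^ b := by
      rw [← hcard]; exact Subgroup.index_dvd_card _
    have h2 : Nat.Coprime (Q : Subgroup G).index (q ^ b) :=
      (Nat.Coprime.pow_left b ((Nat.Prime.coprime_iff_not_dvd hq).mpr Q.not_dvd_index)).symm
    exact h2.dvd_of_dvd_mul_right h1
  obtain ⟨k, _, hk⟩ := (Nat.dvd_prime_pow hp).mp (hdvd1.trans hQidx)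
  have hprime := prime_card_of_simple_of_prime_power_class p k hp _ hzG hk
  haveI : Fact (Nat.card G).Prime := ⟨hprime⟩
  have hcyc : IsCyclic G := isCyclic_of_prime_card rfl
  have hmc : IsMulCommutative G := IsCyclic.isMulCommutative
  exact Group.isSolvable_of_comm (fun a b => hmc.is_comm.comm a b)

theorem burnside_pq_aux (p q : ℕ) (hp : p.Prime) (hq : q.Prime) :
    ∀ (n : ℕ) (G : Type*) [Group G] [Finite G], Nat.card G = n → (∃ a b, n = p ^ a * q ^ b) →
      Group.IsSolvable G := by
  intro n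
  induction n using Nat.strong_induction_on with
  | _ n ih =>
    intro G _ _ hn hab
    by_cases hnorm : ∃ N : Subgroup G, N.Normal ∧ N ≠ ⊥ ∧ N ≠ ⊤
    · obtain ⟨N, hN, hbot, htop⟩ := hnorm
      have hmul : Nat.card N * N.index = n := by rw [← hn]; exact N.card_mul_index
      have hNpos : 1 < Nat.card N := (Subgroup.one_lt_card_iff_ne_bot N).mpr hbot
      have hidx1 : 1 < N.index := by
        have : N.index ≠ 1 := fun h => htop (Subgroup.index_eq_one.mp h)
        have : N.index ≠ 0 := Subgroup.index_ne_zero_of_finite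
        omega
      have hnpos : 0 < n := by rw [← hn]; exact Nat.card_pos
      have hlt1 : Nat.card N < n := by
        rw [← hmul]; exact lt_mul_of_one_lt_right (by omega) hidx1
      have hlt2 : N.index < n := by
        rw [← hmul]; exact lt_mul_of_one_lt_left (by omega) hNpos
      obtain ⟨a, b, rfl⟩ := hab
      haveI hs1 : Group.IsSolvable N := ih _ hlt1 N rfl
        (dvd_prime_pow_mul_prime_pow hp hq (Dvd.intro _ hmul))
      haveI hs2 : Group.IsSolvable (G ⧸ N) := ih _ hlt2 (G ⧸ N) rfl
        (dvd_prime_pow_mul_prime_pow hp hq (Dvd.intro_left _ hmul))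
      exact Group.isSolvable_of_ker_le_range N.subtype (QuotientGroup.mk' N)
        (by rw [QuotientGroup.ker_mk', Subgroup.range_subtype])
    · by_cases hnt : Nontrivial G
      · have hsimple : IsSimpleGroup G := by
          refine ⟨fun N hN => ?_⟩
          by_contra hcon
          apply hnorm
          refine ⟨N, hN, ?_, ?_⟩
          · intro h; exact hcon (Or.inl h)
          · intro h; exact hcon (Or.inr h)
        obtain ⟨a, b, rfl⟩ := hab
        exact isSolvable_of_simple_pq p q a b hp hq hn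
      · rw [not_nontrivial_iff_subsingleton] at hnt
        infer_instance


theorem burnside_pq {G : Type*} [Group G] [Finite G] (p q a b : ℕ) (hp : p.Prime) (hq : q.Prime)
    (hcard : Nat.card G = p ^ a * q ^ b) : Group.IsSolvable G :=
  burnside_pq_aux p q hp hq _ G hcard ⟨a, b, rfl⟩

end Cfsg.Agent.Lib.helper2
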