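import Mathlib
import Cfsg.Prelude.Def_Characters
import Cfsg.Agent.Lib.Helper25.CharOrth

set_option autoImplicit false
set_option linter.style.haveILetI false
set_option linter.unusedSimpArgs false
set_option linter.deprecated false

namespace Cfsg.Agent.Lib.helper2

open scoped ComplexConjugate
open Cfsg.Agent.Lib.Helper25

theorem isCharacter_of_rep {G : Type*} [Group G] {V : Type*} [AddCommGroup V]
    [Module ℂ V] [FiniteDimensional ℂ V] (ρ : Representation ℂ G V) :
    Cfsg.IsCharacter G ρ.character := by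
  let e : V ≃ₗ[ℂ] (Fin (Module.finrank ℂ V) → ℂ) := (Module.finBasis ℂ V).equivFun
  let σ : Representation ℂ G (Fin (Module.finrank ℂ V) → ℂ) :=
    ((e.conjAlgEquiv ℂ : Module.End ℂ V ≃ₐ[ℂ] _) : Module.End ℂ V →* _).comp ρ
  refine ⟨Module.finrank ℂ V, σ, ?_⟩
  funext g
  simp only [Representation.character]
  have : σ g = e.conj (ρ g) := rfl
  rw [this, LinearMap.trace_conj']

theorem isCharacter_zero (G : Type*) [Group G] : Cfsg.IsCharacter G (0 : G → ℂ) := by
  refine ⟨0, Representation.trivial ℂ G (Fin 0 → ℂ), ?_⟩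
  funext g
  simp only [Representation.character, Pi.zero_apply]
  have h : (Representation.trivial ℂ G (Fin 0 → ℂ)) g = 0 := by
    apply LinearMap.ext
    intro v
    exact Subsingleton.elim _ _
  rw [h, map_zero]

theorem isCharacter_add {G : Type*} [Group G] {φ ψ : G → ℂ} (hφ : Cfsg.IsCharacter G φ)
    (hψ : Cfsg.IsCharacter G ψ) : Cfsg.IsCharacter G (φ + ψ) := by
  obtain ⟨n, ρ, rfl⟩ := hφ
  obtain ⟨m, σ, rfl⟩ := hψ
  have h := isCharacter_of_rep (Representation.prod ρ σ)
  have h2 : (Representation.prod ρ σ).character = ρ.character + σ.character := by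
    funext g
    simp only [Representation.character, Pi.add_apply]
    exact LinearMap.trace_prodMap' (ρ g) (σ g)
  rwa [h2] at h

theorem isCharacter_nsmul {G : Type*} [Group G] {φ : G → ℂ} (hφ : Cfsg.IsCharacter G φ) (n : ℕ) :
    Cfsg.IsCharacter G (n • φ) := by
  induction n with
  | zero => rw [zero_smul]; exact isCharacter_zero G
  | succ k ih => rw [succ_nsmul]; exact isCharacter_add ih hφ

theorem isCharacter_natCast_smul {G : Type*} [Group G] {φ : G → ℂ} (hφ : Cfsg.IsCharacter G φ)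
    (n : ℕ) : Cfsg.IsCharacter G ((n : ℂ) • φ) := by
  have := isCharacter_nsmul hφ n
  rwa [← Nat.cast_smul_eq_nsmul ℂ] at this

theorem isCharacter_sum {G : Type*} [Group G] {ι : Type*} (s : Finset ι) (f : ι → G → ℂ)
    (h : ∀ i ∈ s, Cfsg.IsCharacter G (f i)) : Cfsg.IsCharacter G (∑ i ∈ s, f i) := by
  classical
  induction s using Finset.induction_on with
  | empty => rw [Finset.sum_empty]; exact isCharacter_zero G
  | insert a s ha ih =>
    rw [Finset.sum_insert ha]
    exact isCharacter_add (h a (Finset.mem_insert_self a s))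
      (ih fun i hi => h i (Finset.mem_insert_of_mem hi))

theorem isCharacter_of_irr {G : Type*} [Group G] (χ : Cfsg.IrrCharacter G) :
    Cfsg.IsCharacter G (χ : G → ℂ) := by
  obtain ⟨n, ρ, _, h⟩ := χ.2
  exact ⟨n, ρ, h⟩

theorem isCharacter_isClassFunction {G : Type*} [Group G] {ψ : G → ℂ} (hψ : Cfsg.IsCharacter G ψ) :
    Cfsg.IsClassFunction G ψ := by
  obtain ⟨n, ρ, rfl⟩ := hψ
  intro g h
  exact Representation.char_conj ρ g h

theorem classInner_rep_eq_finrank {G : Type*} [Group G] [Fintype G] {V W : Type*} [AddCommGroup V]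
    [Module ℂ V] [FiniteDimensional ℂ V] [AddCommGroup W] [Module ℂ W] [FiniteDimensional ℂ W]
    (ρ : Representation ℂ G V) (σ : Representation ℂ G W) :
    Cfsg.classInner σ.character ρ.character =
      (Module.finrank ℂ (Representation.IntertwiningMap ρ σ) : ℂ) := by
  have hne : (Nat.card G : ℂ) ≠ 0 := by exact_mod_cast Nat.card_pos.ne'
  haveI : Invertible (Nat.card G : ℂ) := invertibleOfNonzero hne
  rw [← Representation.card_inv_mul_sum_char_mul_char_eq_finrank ρ σ]
  unfold Cfsg.classInner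
  congr 1
  refine Finset.sum_congr rfl fun g _ => ?_
  rw [char_inv]

theorem classInner_character_nat {G : Type*} [Group G] [Fintype G] {φ ψ : G → ℂ}
    (hφ : Cfsg.IsCharacter G φ) (hψ : Cfsg.IsCharacter G ψ) :
    ∃ m : ℕ, Cfsg.classInner φ ψ = (m : ℂ) := by
  obtain ⟨n, ρ, rfl⟩ := hφ
  obtain ⟨m, σ, rfl⟩ := hψ
  exact ⟨_, classInner_rep_eq_finrank σ ρ⟩

theorem isCharacter_expansion {G : Type*} [Group G] [Fintype G] [Fintype (Cfsg.IrrCharacter G)]
    {ψ : G → ℂ} (hψ : Cfsg.IsCharacter G ψ) :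
    ∃ m : Cfsg.IrrCharacter G → ℕ, (∀ χ : Cfsg.IrrCharacter G, Cfsg.classInner ψ (χ : G → ℂ) = (m χ : ℂ)) ∧
      ψ = ∑ χ : Cfsg.IrrCharacter G, (m χ : ℂ) • (χ : G → ℂ) := by
  classical
  have h : ∀ χ : Cfsg.IrrCharacter G, ∃ m : ℕ, Cfsg.classInner ψ (χ : G → ℂ) = (m : ℂ) :=
    fun χ => classInner_character_nat hψ (isCharacter_of_irr χ)
  choose m hm using h
  refine ⟨m, hm, ?_⟩
  have := classFunction_expansion ψ (isCharacter_isClassFunction hψ)
  simp only [hm] at this
  exact this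

theorem isCharacter_of_classInner_nat {G : Type*} [Group G] [Fintype G] {ψ : G → ℂ}
    (hcl : Cfsg.IsClassFunction G ψ)
    (h : ∀ χ : Cfsg.IrrCharacter G, ∃ m : ℕ, Cfsg.classInner ψ (χ : G → ℂ) = (m : ℂ)) :
    Cfsg.IsCharacter G ψ := by
  classical
  haveI : Fintype (Cfsg.IrrCharacter G) := Fintype.ofFinite _
  choose m hm using h
  have := classFunction_expansion ψ hcl
  simp only [hm] at this
  rw [this]
  apply isCharacter_sum
  intro χ _
  exact isCharacter_natCast_smul (isCharacter_of_irr χ) (m χ)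

theorem isCharacter_restrict {G : Type*} [Group G] {ψ : G → ℂ} (hψ : Cfsg.IsCharacter G ψ)
    (H : Subgroup G) : Cfsg.IsCharacter H (fun h : H => ψ h) := by
  obtain ⟨n, ρ, rfl⟩ := hψ
  exact ⟨n, ρ.comp H.subtype, rfl⟩

theorem isCharacter_comp_hom {G K : Type*} [Group G] [Group K] {ψ : G → ℂ}
    (hψ : Cfsg.IsCharacter G ψ) (f : K →* G) : Cfsg.IsCharacter K (fun k : K => ψ (f k)) := by
  obtain ⟨n, ρ, rfl⟩ := hψ
  exact ⟨n, ρ.comp f, rfl⟩

theorem isCharacter_one_eq_nat {G : Type*} [Group G] {ψ : G → ℂ} (hψ : Cfsg.IsCharacter G ψ) :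
    ∃ n : ℕ, ψ 1 = (n : ℂ) := by
  obtain ⟨n, ρ, rfl⟩ := hψ
  exact ⟨_, Representation.char_one ρ⟩

end Cfsg.Agent.Lib.helper2
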