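import Mathlib
import Cfsg.Prelude.Def_Characters
import Cfsg.Agent.Lib.Helper25.CharLinear
import Cfsg.Agent.Lib.helper7.Induction
import Cfsg.Agent.Lib.helper2.CharNat

set_option autoImplicit false
set_option linter.style.haveILetI false
set_option linter.unusedSimpArgs false
set_option linter.deprecated false

namespace Cfsg.Agent.Lib.helper2

open scoped ComplexConjugate
open Cfsg.Agent.Lib.Helper25 Cfsg.Agent.Lib.helper7

theorem classInner_conj_symm {G : Type*} [Group G] [Fintype G] (φ ψ : G → ℂ) :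
    Cfsg.classInner φ ψ = conj (Cfsg.classInner ψ φ) := by
  unfold Cfsg.classInner
  rw [map_mul, map_inv₀, Complex.conj_natCast, map_sum]
  congr 1
  refine Finset.sum_congr rfl fun g _ => ?_
  rw [map_mul, Complex.conj_conj, mul_comm]

theorem classInner_symm_of_nat {G : Type*} [Group G] [Fintype G] (φ ψ : G → ℂ) (m : ℕ)
    (h : Cfsg.classInner φ ψ = (m : ℂ)) : Cfsg.classInner ψ φ = (m : ℂ) := by
  rw [classInner_conj_symm, h, Complex.conj_natCast]

theorem isCharacter_indFun {G : Type*} [Group G] [Fintype G] (H : Subgroup G) (θ : H → ℂ)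
    (hθ : Cfsg.IsCharacter H θ) : Cfsg.IsCharacter G (Cfsg.indFun H θ) := by
  classical
  have : Fintype H := Fintype.ofFinite H
  apply isCharacter_of_classInner_nat (h7_indFun_isClassFunction H θ)
  intro χ
  rw [h7_frobenius_reciprocity H θ (χ : G → ℂ) (isCharacter_isClassFunction (isCharacter_of_irr χ))]
  exact classInner_character_nat hθ (isCharacter_restrict (isCharacter_of_irr χ) H)

/-- If the irreducible character `χ` occurs `m` times in the character `ψ`, then
`m * χ 1 ≤ ψ 1` (as natural numbers). -/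
theorem isCharacter_degree_ge {G : Type*} [Group G] [Fintype G] {ψ : G → ℂ}
    (hψ : Cfsg.IsCharacter G ψ) (χ : Cfsg.IrrCharacter G) (m dψ dχ : ℕ)
    (hm : Cfsg.classInner ψ (χ : G → ℂ) = (m : ℂ)) (h1 : ψ 1 = (dψ : ℂ))
    (h2 : (χ : G → ℂ) 1 = (dχ : ℂ)) : m * dχ ≤ dψ := by
  classical
  haveI : Fintype (Cfsg.IrrCharacter G) := Fintype.ofFinite _
  obtain ⟨mm, hmm, hexp⟩ := isCharacter_expansion hψ
  have hd : ∀ χ' : Cfsg.IrrCharacter G, ∃ d : ℕ, (χ' : G → ℂ) 1 = (d : ℂ) := by
    intro χ'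
    obtain ⟨n, _, h⟩ := irr_one_eq_finrank χ'
    exact ⟨n, h⟩
  choose d hd using hd
  have h3 : (dψ : ℂ) = ((∑ χ' : Cfsg.IrrCharacter G, mm χ' * d χ' : ℕ) : ℂ) := by
    rw [← h1, hexp]
    simp only [Finset.sum_apply, Pi.smul_apply, smul_eq_mul, hd]
    push_cast
    rfl
  have h4 : dψ = ∑ χ' : Cfsg.IrrCharacter G, mm χ' * d χ' := by exact_mod_cast h3
  have h5 : mm χ = m := by
    have := hmm χ
    rw [hm] at this
    exact_mod_cast this.symm
  have h6 : d χ = dχ := by
    have := hd χ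
    rw [h2] at this
    exact_mod_cast this.symm
  rw [h4, ← h5, ← h6]
  exact Finset.single_le_sum (f := fun χ' => mm χ' * d χ') (fun _ _ => Nat.zero_le _)
    (Finset.mem_univ χ)

/-- A nonzero character has an irreducible constituent. -/
theorem isCharacter_exists_constituent {G : Type*} [Group G] [Fintype G] {ψ : G → ℂ}
    (hψ : Cfsg.IsCharacter G ψ) (h1 : ψ 1 ≠ 0) :
    ∃ (χ : Cfsg.IrrCharacter G) (m : ℕ), 0 < m ∧ Cfsg.classInner ψ (χ : G → ℂ) = (m : ℂ) := by
  classical
  haveI : Fintype (Cfsg.IrrCharacter G) := Fintype.ofFinite _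
  obtain ⟨mm, hmm, hexp⟩ := isCharacter_expansion hψ
  by_contra hcon
  apply h1
  rw [hexp]
  simp only [Finset.sum_apply, Pi.smul_apply, smul_eq_mul]
  apply Finset.sum_eq_zero
  intro χ _
  have : mm χ = 0 := by
    by_contra h0
    exact hcon ⟨χ, mm χ, Nat.pos_of_ne_zero h0, hmm χ⟩
  rw [this]
  simp

end Cfsg.Agent.Lib.helper2
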