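import Mathlib
import Cfsg.Prelude.Def_Characters
import Cfsg.Agent.Lib.helper2.CharInt
import Cfsg.Agent.Lib.Helper25.CharQuot

set_option autoImplicit false
set_option linter.unusedVariables false

namespace Cfsg.Agent.Lib.helper2

open scoped ComplexConjugate
open Cfsg.Agent.Lib.Helper25 Cfsg.Agent.Lib.helper7

/-- A central element acts by a scalar of norm one in an irreducible representation. -/
theorem center_scalar {G : Type*} [Group G] [Finite G] {V : Type*} [AddCommGroup V] [Module ℂ V]
    [FiniteDimensional ℂ V] (ρ : Representation ℂ G V) [ρ.IsIrreducible] (z : G)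
    (hz : z ∈ Subgroup.center G) : ∃ c : ℂ, ‖c‖ = 1 ∧ ρ z = c • LinearMap.id := by
  have hcomm : ∀ g : G, ρ z ∘ₗ ρ g = ρ g ∘ₗ ρ z := by
    intro g
    rw [← Module.End.mul_eq_comp, ← Module.End.mul_eq_comp, ← map_mul, ← map_mul,
      (Subgroup.mem_center_iff.mp hz g)]
  obtain ⟨c, hc⟩ := commuting_end_scalar ρ (ρ z) hcomm
  refine ⟨c, ?_, hc⟩
  have : Nontrivial V := Module.nontrivial_of_finrank_pos (R := ℂ)
    (Nat.pos_of_ne_zero (finrank_ne_zero_of_irr ρ))
  obtain ⟨v, hv⟩ := exists_ne (0 : V)
  have hpow : ∀ k : ℕ, (ρ z) ^ k = (c ^ k) • (LinearMap.id : V →ₗ[ℂ] V) := by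
    intro k
    induction k with
    | zero => simp; rfl
    | succ k ih =>
      rw [pow_succ, ih, hc]
      ext w
      simp [pow_succ, mul_smul, smul_comm c (c ^ k) w]
  have h1 : (ρ z) ^ orderOf z = 1 := by
    rw [← map_pow, pow_orderOf_eq_one, map_one]
  rw [hpow] at h1
  have h2 : c ^ orderOf z = 1 := by
    have := congrArg (fun f : V →ₗ[ℂ] V => f v) h1
    simp only [LinearMap.smul_apply, LinearMap.id_coe, id_eq, Module.End.one_apply] at this
    have h3 : (c ^ orderOf z - 1) • v = 0 := by rw [sub_smul, one_smul, this, sub_self]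
    rcases smul_eq_zero.mp h3 with h | h
    · exact sub_eq_zero.mp h
    · exact absurd h hv
  exact Complex.norm_eq_one_of_pow_eq_one h2 (orderOf_pos z).ne'

theorem char_mul_scalar {G : Type*} [Group G] {V : Type*} [AddCommGroup V] [Module ℂ V]
    (ρ : Representation ℂ G V) (g z : G) (c : ℂ) (hc : ρ z = c • LinearMap.id) :
    ρ.character (g * z) = c * ρ.character g := by
  unfold Representation.character
  rw [map_mul, hc]
  have : ρ g * (c • (LinearMap.id : V →ₗ[ℂ] V)) = c • ρ g := by
    ext w
    simp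
  rw [this, map_smul, smul_eq_mul]

/-- The relation `g' ∼ g z` for central `z`. -/
def zRel (G : Type*) [Group G] : Setoid G where
  r g g' := ∃ z ∈ Subgroup.center G, IsConj (g * z) g'
  iseqv := by
    refine ⟨fun g => ⟨1, Subgroup.one_mem _, by rw [mul_one]⟩, ?_, ?_⟩
    · rintro g g' ⟨z, hz, hconj⟩
      refine ⟨z⁻¹, Subgroup.inv_mem _ hz, ?_⟩
      obtain ⟨h, hh⟩ := isConj_iff.mp hconj
      rw [isConj_iff]
      refine ⟨h⁻¹, ?_⟩
      have hzc := Subgroup.mem_center_iff.mp (Subgroup.inv_mem _ hz)
      rw [← hh]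
      calc h⁻¹ * (h * (g * z) * h⁻¹ * z⁻¹) * h⁻¹⁻¹ = g * z * (h⁻¹ * z⁻¹) * h := by group
        _ = g * z * (z⁻¹ * h⁻¹) * h := by rw [hzc h⁻¹]
        _ = g := by group
    · rintro g g' g'' ⟨z, hz, hconj⟩ ⟨z', hz', hconj'⟩
      refine ⟨z * z', Subgroup.mul_mem _ hz hz', ?_⟩
      obtain ⟨h, hh⟩ := isConj_iff.mp hconj
      refine IsConj.trans ?_ hconj'
      rw [isConj_iff]
      refine ⟨h, ?_⟩
      have hzc := Subgroup.mem_center_iff.mp hz'
      rw [← hh]
      calc h * (g * (z * z')) * h⁻¹ = h * (g * z) * (z' * h⁻¹) := by group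
        _ = h * (g * z) * (h⁻¹ * z') := by rw [hzc h⁻¹]
        _ = h * (g * z) * h⁻¹ * z' := by group

theorem zRel_iff {G : Type*} [Group G] (g g' : G) :
    (zRel G).r g g' ↔ ∃ z ∈ Subgroup.center G, IsConj (g * z) g' := Iff.rfl

/-- Faithful case: the degree divides the index of the center. -/
theorem faithful_degree_dvd_index_center {G : Type*} [Group G] [Finite G] {V : Type*}
    [AddCommGroup V] [Module ℂ V] [FiniteDimensional ℂ V] (ρ : Representation ℂ G V)
    [ρ.IsIrreducible] (hf : Function.Injective ρ) :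
    Module.finrank ℂ V ∣ (Subgroup.center G).index := by
  classical
  have : Fintype G := Fintype.ofFinite G
  set n := Module.finrank ℂ V with hn
  have hn0 : n ≠ 0 := finrank_ne_zero_of_irr ρ
  set Z := Subgroup.center G with hZ
  have hZpos : 0 < Nat.card Z := Nat.card_pos
  suffices hdvd : n * Nat.card Z ∣ Nat.card G by
    rw [← Subgroup.index_mul_card Z, mul_comm n, mul_comm Z.index] at hdvd
    exact Nat.dvd_of_mul_dvd_mul_left hZpos hdvd
  apply nat_dvd_of_isIntegral_div _ _ (Nat.mul_ne_zero hn0 hZpos.ne')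
  set χ := ρ.character with hχ
  set F : G → ℂ := fun g => χ g * conj (χ g) with hF
  -- F is constant on zRel-classes
  have hFconst : ∀ g g' : G, (zRel G).r g g' → F g' = F g := by
    rintro g g' ⟨z, hz, hconj⟩
    obtain ⟨h, hh⟩ := isConj_iff.mp hconj
    obtain ⟨c, hc1, hc⟩ := center_scalar ρ z hz
    have h1 : χ g' = c * χ g := by
      rw [← hh, hχ, Representation.char_conj, char_mul_scalar ρ g z c hc]
    simp only [hF]
    rw [h1, map_mul]
    have h2 : c * conj c = 1 := by
      rw [Complex.mul_conj, Complex.normSq_eq_norm_sq, hc1]; simp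
    calc c * χ g * (conj c * conj (χ g)) = (c * conj c) * (χ g * conj (χ g)) := by ring
      _ = χ g * conj (χ g) := by rw [h2, one_mul]
  -- |G| = Σ F
  have h1 : Cfsg.classInner χ χ = 1 :=
    (classInner_rep ρ ρ).1 ⟨Representation.Equiv.refl ρ⟩
  have hne : (Nat.card G : ℂ) ≠ 0 := by exact_mod_cast Nat.card_pos.ne'
  have h2 : (Nat.card G : ℂ) = ∑ g : G, F g := by
    unfold Cfsg.classInner at h1
    field_simp at h1
    exact h1.symm
  rw [h2, Finset.sum_partition (zRel G), Finset.sum_div]
  apply IsIntegral.sum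
  intro q _
  obtain ⟨g₀, rfl⟩ := Quotient.exists_rep q
  -- the class of g₀
  have hclass : ∀ y : G, (Quotient.mk (zRel G) y = Quotient.mk (zRel G) g₀) ↔ (zRel G).r g₀ y := by
    intro y
    rw [Quotient.eq]
    exact ⟨fun h => (zRel G).symm h, fun h => (zRel G).symm h⟩
  have hsum : ∑ y ∈ Finset.univ.filter (fun y => Quotient.mk (zRel G) y = Quotient.mk (zRel G) g₀), F y =
      ((Finset.univ.filter (fun y => Quotient.mk (zRel G) y = Quotient.mk (zRel G) g₀)).card : ℂ) * F g₀ := by
    rw [Finset.sum_congr rfl (fun y hy => hFconst g₀ y ((hclass y).mp (Finset.mem_filter.mp hy).2)),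
      Finset.sum_const, nsmul_eq_mul]
  rw [hsum]
  by_cases hχ0 : χ g₀ = 0
  · have : F g₀ = 0 := by simp only [hF]; rw [hχ0, zero_mul]
    rw [this, mul_zero, zero_div]
    exact isIntegral_zero
  · -- the class has |Cl(g₀)| * |Z| elements
    have hcard : (Finset.univ.filter (fun y => Quotient.mk (zRel G) y = Quotient.mk (zRel G) g₀)).card =
        (Subgroup.centralizer ({g₀} : Set G)).index * Nat.card Z := by
      have : Fintype Z := Fintype.ofFinite Z
      have himg : Finset.univ.filter (fun y => Quotient.mk (zRel G) y = Quotient.mk (zRel G) g₀) =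
          ((Finset.univ.filter (fun x : G => IsConj g₀ x)) ×ˢ (Finset.univ : Finset Z)).image
            (fun p => p.1 * (p.2 : G)) := by
        ext y
        simp only [Finset.mem_filter, Finset.mem_univ, true_and, Finset.mem_image, Finset.mem_product,
          and_true]
        rw [hclass y]
        constructor
        · rintro ⟨z, hz, hconj⟩
          obtain ⟨h, hh⟩ := isConj_iff.mp hconj
          refine ⟨(h * g₀ * h⁻¹, ⟨z, hz⟩), isConj_iff.mpr ⟨h, rfl⟩, ?_⟩
          have hzc := Subgroup.mem_center_iff.mp hz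
          rw [← hh]
          calc h * g₀ * h⁻¹ * z = h * g₀ * (h⁻¹ * z) := by group
            _ = h * g₀ * (z * h⁻¹) := by rw [hzc h⁻¹]
            _ = h * (g₀ * z) * h⁻¹ := by group
        · rintro ⟨⟨x, z⟩, hx, rfl⟩
          obtain ⟨h, hh⟩ := isConj_iff.mp hx
          refine ⟨z, z.2, isConj_iff.mpr ⟨h, ?_⟩⟩
          have hzc := Subgroup.mem_center_iff.mp z.2
          have hh' : h * g₀ * h⁻¹ = x := hh
          show h * (g₀ * (z : G)) * h⁻¹ = x * (z : G)
          rw [← hh']
          calc h * (g₀ * (z : G)) * h⁻¹ = h * g₀ * ((z : G) * h⁻¹) := by group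
            _ = h * g₀ * (h⁻¹ * (z : G)) := by rw [hzc h⁻¹]
            _ = h * g₀ * h⁻¹ * (z : G) := by group
      have hidx : (Subgroup.centralizer ({g₀} : Set G)).index =
          (Finset.univ.filter (fun x : G => IsConj g₀ x)).card := by
        rw [h7_index_centralizer_eq_card_class, Nat.card_eq_fintype_card, Fintype.card_subtype]
      have hZc : Nat.card Z = (Finset.univ : Finset Z).card := by
        rw [Nat.card_eq_fintype_card, Finset.card_univ]
      rw [himg, hidx, hZc, ← Finset.card_product]
      apply Finset.card_image_of_injOn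
      intro p hp p' hp' heq
      obtain ⟨x, z⟩ := p
      obtain ⟨x', z'⟩ := p'
      have hxz : IsConj g₀ x := by
        have := (Finset.mem_product.mp hp).1
        simpa using this
      have hxz' : IsConj g₀ x' := by
        have := (Finset.mem_product.mp hp').1
        simpa using this
      have heq' : x * (z : G) = x' * (z' : G) := heq
      -- x * z = x' * z' so x' = x * (z * z'⁻¹)
      set w : G := (z : G) * (z' : G)⁻¹ with hw
      have hwZ : w ∈ Z := Subgroup.mul_mem _ z.2 (Subgroup.inv_mem _ z'.2)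
      have hx' : x' = x * w := by
        rw [hw, ← mul_assoc, heq', mul_inv_cancel_right]
      obtain ⟨c, hc1, hc⟩ := center_scalar ρ w hwZ
      have e1 : χ x = χ g₀ := by
        obtain ⟨h, hh⟩ := isConj_iff.mp hxz
        rw [← hh, hχ, Representation.char_conj]
      have e2 : χ x' = χ g₀ := by
        obtain ⟨h, hh⟩ := isConj_iff.mp hxz'
        rw [← hh, hχ, Representation.char_conj]
      have e3 : χ x' = c * χ x := by
        rw [hx', hχ, char_mul_scalar ρ x w c hc]
      rw [e2, e1] at e3
      have hc_one : c = 1 := by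
        have : (c - 1) * χ g₀ = 0 := by rw [sub_mul, one_mul, ← e3, sub_self]
        rcases mul_eq_zero.mp this with h | h
        · exact sub_eq_zero.mp h
        · exact absurd h hχ0
      rw [hc_one, one_smul] at hc
      have hw1 : w = 1 := by
        apply hf
        rw [hc, map_one]
        rfl
      have hzz : (z : G) = (z' : G) := by
        rw [hw, mul_inv_eq_one] at hw1
        exact hw1
      have hxx : x = x' := by rw [hx', hw1, mul_one]
      exact Prod.ext hxx (Subtype.ext hzz)
    rw [hcard]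
    have hZne : (Nat.card Z : ℂ) ≠ 0 := by exact_mod_cast hZpos.ne'
    have hnne : (n : ℂ) ≠ 0 := by exact_mod_cast hn0
    have hrew : ((((Subgroup.centralizer ({g₀} : Set G)).index * Nat.card Z : ℕ) : ℂ) * F g₀) /
        ((n * Nat.card Z : ℕ) : ℂ) =
        (((Subgroup.centralizer ({g₀} : Set G)).index : ℂ) * χ g₀ / (n : ℂ)) * conj (χ g₀) := by
      simp only [hF]
      push_cast
      field_simp
    rw [hrew]
    exact (central_char_integral ρ g₀).mul (map_isIntegral_int (starRingEnd ℂ) (char_integral ρ g₀))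

/-- General case: the degree of an irreducible representation divides the index of any subgroup
all of whose elements act by scalars (in particular of `Z(χ)` and of the center). -/
theorem degree_dvd_index_of_scalar {G : Type*} [Group G] [Finite G] {V : Type*}
    [AddCommGroup V] [Module ℂ V] [FiniteDimensional ℂ V] (ρ : Representation ℂ G V)
    [ρ.IsIrreducible] (A : Subgroup G)
    (hA : ∀ a ∈ A, ∃ c : ℂ, ρ a = c • (LinearMap.id : V →ₗ[ℂ] V)) :
    Module.finrank ℂ V ∣ A.index := by
  have hKn : (ρ.ker).Normal := MonoidHom.normal_ker ρ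
  set σ : Representation ℂ (G ⧸ ρ.ker) V := QuotientGroup.lift ρ.ker ρ le_rfl with hσ
  have hσmk : ∀ g : G, σ (g : G ⧸ ρ.ker) = ρ g := fun g => rfl
  have hσirr : σ.IsIrreducible := quotient_irreducible ρ ρ.ker le_rfl
  have hσinj : Function.Injective σ := by
    rw [injective_iff_map_eq_one]
    intro x hx
    obtain ⟨g, rfl⟩ := QuotientGroup.mk_surjective x
    rw [hσmk] at hx
    exact (QuotientGroup.eq_one_iff g).mpr (MonoidHom.mem_ker.mpr hx)
  have h1 := faithful_degree_dvd_index_center σ hσinj
  have hle : A.map (QuotientGroup.mk' ρ.ker) ≤ Subgroup.center (G ⧸ ρ.ker) := by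
    rintro _ ⟨a, ha, rfl⟩
    rw [Subgroup.mem_center_iff]
    intro x
    obtain ⟨g, rfl⟩ := QuotientGroup.mk_surjective x
    apply hσinj
    obtain ⟨c, hc⟩ := hA a ha
    rw [map_mul, map_mul, QuotientGroup.mk'_apply, hσmk, hσmk, hc]
    ext w
    simp
  have h2 := Subgroup.index_dvd_of_le hle
  have h3 := Subgroup.index_map_dvd A (QuotientGroup.mk'_surjective ρ.ker)
  exact h1.trans (h2.trans h3)

/-- The degree of an irreducible representation divides the index of the center. -/
theorem degree_dvd_index_center {G : Type*} [Group G] [Finite G] {V : Type*}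
    [AddCommGroup V] [Module ℂ V] [FiniteDimensional ℂ V] (ρ : Representation ℂ G V)
    [ρ.IsIrreducible] : Module.finrank ℂ V ∣ (Subgroup.center G).index := by
  apply degree_dvd_index_of_scalar ρ
  intro a ha
  obtain ⟨c, _, hc⟩ := center_scalar ρ a ha
  exact ⟨c, hc⟩

end Cfsg.Agent.Lib.helper2
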