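import Mathlib
import Cfsg.Prelude.Def_Characters
import Cfsg.Agent.Lib.helper2.CenterIndex
import Cfsg.Agent.Lib.helper2.CharInd
import Cfsg.Agent.Lib.helper7.Clifford
import Cfsg.Agent.Lib.Helper25.CharAbelian
import Cfsg.Agent.S0138
import Cfsg.Agent.S0854

set_option autoImplicit false
set_option linter.unusedVariables false

namespace Cfsg.Agent.Lib.helper2

open scoped ComplexConjugate
open Cfsg.Agent.Lib.Helper25 Cfsg.Agent.Lib.helper7 Cfsg.Agent.Lib.Helper11

/-- The inertia subgroup of a function on a normal subgroup. -/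
def inertia {G : Type*} [Group G] (H : Subgroup G) [hN : H.Normal] (ϑ : H → ℂ) : Subgroup G where
  carrier := {g | cj H ϑ g = ϑ}
  one_mem' := cj_one H ϑ
  mul_mem' := by
    intro a b ha hb
    change cj H ϑ a = ϑ at ha
    change cj H ϑ b = ϑ at hb
    change cj H ϑ (a * b) = ϑ
    rw [← cj_mul, ha, hb]
  inv_mem' := by
    intro a ha
    change cj H ϑ a = ϑ at ha
    change cj H ϑ a⁻¹ = ϑ
    have h1 : cj H (cj H ϑ a) a⁻¹ = ϑ := by rw [cj_mul, mul_inv_cancel, cj_one]
    rw [ha] at h1
    exact h1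

theorem mem_inertia {G : Type*} [Group G] (H : Subgroup G) [hN : H.Normal] (ϑ : H → ℂ) (g : G) :
    g ∈ inertia H ϑ ↔ ∀ n : H, ϑ ⟨g * n * g⁻¹, hN.conj_mem (n : G) n.2 g⟩ = ϑ n := by
  change cj H ϑ g = ϑ ↔ _
  constructor
  · intro h n
    exact congrFun h n
  · intro h
    funext n
    exact h n

theorem le_inertia {G : Type*} [Group G] (H : Subgroup G) [hN : H.Normal] (ϑ : H → ℂ)
    (hϑ : Cfsg.IsClassFunction H ϑ) : H ≤ inertia H ϑ := by
  intro h hh
  rw [mem_inertia]
  intro n
  have := hϑ n ⟨h, hh⟩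
  rw [← this]
  congr 1

/-- Itô's theorem in character form, by induction on the group order. -/
theorem ito_aux (N : ℕ) : ∀ {G : Type*} [Group G] [Fintype G], Fintype.card G ≤ N →
    ∀ (χ : G → ℂ), Cfsg.IsIrrCharacter G χ → ∀ (H : Subgroup G) [H.Normal],
    (∀ a ∈ H, ∀ b ∈ H, a * b = b * a) → ∃ d : ℕ, χ 1 = (d : ℂ) ∧ d ∣ H.index := by
  induction N with
  | zero =>
    intro G _ _ hcard
    exact absurd hcard (by have := Fintype.card_pos (α := G); omega)
  | succ N ih =>
    intro G _ _ hcard χ hχ H hHn hH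
    classical
    have : Fintype H := Fintype.ofFinite H
    -- a linear constituent of the restriction
    have hχc : Cfsg.IsCharacter G χ := isCharacter_of_irr ⟨χ, hχ⟩
    have hres : Cfsg.IsCharacter H (fun n : H => χ n) := isCharacter_restrict hχc H
    have hχ1 : χ 1 ≠ 0 := irr_one_ne_zero ⟨χ, hχ⟩
    obtain ⟨ϑ, m, hm, hϑm⟩ := isCharacter_exists_constituent hres (by simpa using hχ1)
    have hcon : Cfsg.classInner (fun n : H => χ n) (ϑ : H → ℂ) ≠ 0 := by
      rw [hϑm]; exact_mod_cast hm.ne'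
    have hϑ1 : (ϑ : H → ℂ) 1 = 1 := by
      letI : CommGroup H := { (inferInstance : Group H) with
        mul_comm := fun a b => Subtype.ext (hH a a.2 b b.2) }
      exact irr_one_of_comm (G := H) ϑ
    set T := inertia H (ϑ : H → ℂ) with hT
    have hHT : H ≤ T := le_inertia H _ (isCharacter_isClassFunction (isCharacter_of_irr ϑ))
    have : Fintype T := Fintype.ofFinite T
    by_cases hTtop : T = ⊤
    · -- ϑ is invariant: H acts by scalars
      have hinv : ∀ g : G, cj H (ϑ : H → ℂ) g = ϑ := by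
        intro g
        have : g ∈ T := hTtop ▸ Subgroup.mem_top g
        exact this
      obtain ⟨e, he, _, hres2⟩ := h7_clifford_invariant H χ hχ ϑ ϑ.2 hcon hinv
      obtain ⟨n, ρ, hρ, hρχ⟩ := hχ
      haveI := hρ
      have hdeg : χ 1 = (Module.finrank ℂ (Fin n → ℂ) : ℂ) := by
        rw [← hρχ, Representation.char_one]
      have he1 : χ 1 = (e : ℂ) := by
        have := congrFun hres2 1
        simp only [Pi.smul_apply, smul_eq_mul, hϑ1, mul_one] at this
        exact this
      refine ⟨Module.finrank ℂ (Fin n → ℂ), hdeg, ?_⟩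
      apply degree_dvd_index_of_scalar ρ H
      intro a ha
      rw [← Cfsg.Agent.S0138.result ρ a]
      have h1 : ρ.character a = (e : ℂ) * (ϑ : H → ℂ) ⟨a, ha⟩ := by
        rw [hρχ]
        have := congrFun hres2 ⟨a, ha⟩
        simpa using this
      have h2 : ‖(ϑ : H → ℂ) ⟨a, ha⟩‖ = 1 := by
        obtain ⟨k, σ, hσ, hσϑ⟩ := ϑ.2
        have hk : Module.finrank ℂ (Fin k → ℂ) = 1 := by
          have : (ϑ : H → ℂ) 1 = (Module.finrank ℂ (Fin k → ℂ) : ℂ) := by
            rw [← hσϑ, Representation.char_one]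
          rw [hϑ1] at this
          exact_mod_cast this.symm
        have hu : (irrLinearHom ϑ hϑ1 ⟨a, ha⟩) ^ orderOf (⟨a, ha⟩ : H) = 1 := by
          rw [← map_pow, pow_orderOf_eq_one, map_one]
        have hu' : ((ϑ : H → ℂ) ⟨a, ha⟩) ^ orderOf (⟨a, ha⟩ : H) = 1 := by
          rw [← irrLinearHom_apply ϑ hϑ1, ← Units.val_pow_eq_pow_val, hu, Units.val_one]
        exact Complex.norm_eq_one_of_pow_eq_one hu' (orderOf_pos _).ne'
      rw [h1, norm_mul, h2, mul_one, Complex.norm_natCast]
      have : (e : ℂ) = (Module.finrank ℂ (Fin n → ℂ) : ℂ) := by rw [← he1, hdeg]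
      exact_mod_cast this
    · -- Clifford correspondence
      have hTmem : ∀ g : G, g ∈ T ↔ ∀ n : H, (ϑ : H → ℂ) ⟨g * n * g⁻¹, hHn.conj_mem (n : G) n.2 g⟩ = (ϑ : H → ℂ) n :=
        fun g => mem_inertia H _ g
      obtain ⟨ψ, hψ, hψind, _⟩ := Cfsg.Agent.S0854.result H (ϑ : H → ℂ) ϑ.2 T hTmem hHT χ hχ hcon
      have hcardT : Fintype.card T ≤ N := by
        have hlt : Fintype.card T < Fintype.card G := by
          rw [← Nat.card_eq_fintype_card, ← Nat.card_eq_fintype_card]
          have hidx : T.index ≠ 1 := fun h => hTtop (Subgroup.index_eq_one.mp h)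
          have hmul := Subgroup.card_mul_index T
          have hpos : 0 < T.index := Nat.pos_of_ne_zero Subgroup.index_ne_zero_of_finite
          have hTpos : 0 < Nat.card T := Nat.card_pos
          have h2 : 2 ≤ T.index := by omega
          calc Nat.card T < Nat.card T * 2 := by omega
            _ ≤ Nat.card T * T.index := Nat.mul_le_mul_left _ h2
            _ = Nat.card G := hmul
        omega
      haveI : (H.subgroupOf T).Normal := Subgroup.normal_subgroupOf
      have hab : ∀ a ∈ H.subgroupOf T, ∀ b ∈ H.subgroupOf T, a * b = b * a := by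
        intro a ha b hb
        apply Subtype.ext
        exact hH a ha b hb
      obtain ⟨d', hd', hdvd'⟩ := ih hcardT ψ hψ (H.subgroupOf T) hab
      have h1 : χ 1 = ((T.index * d' : ℕ) : ℂ) := by
        rw [← hψind, h7_indFun_one, hd']
        push_cast; ring
      refine ⟨T.index * d', h1, ?_⟩
      have h2 : (H.subgroupOf T).index * T.index = H.index := Subgroup.relIndex_mul_index hHT
      rw [← h2, mul_comm]
      exact Nat.mul_dvd_mul_right hdvd' _

end Cfsg.Agent.Lib.helper2
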