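import Mathlib

set_option autoImplicit false

namespace Cfsg.Agent.Lib.helper2

/-- Existence of the decomposition of an element into commuting `p'`- and `p`-parts, both powers
of the element. -/
theorem pp_exists {G : Type*} [Group G] [Finite G] (p : ℕ) (hp : p.Prime) (s : G) :
    ∃ r u : G, r * u = s ∧ Commute r u ∧ ¬ p ∣ orderOf r ∧ (∃ k : ℕ, orderOf u = p ^ k) ∧
      r ∈ Subgroup.zpowers s ∧ u ∈ Subgroup.zpowers s := by
  set n := orderOf s with hn
  have hnpos : 0 < n := orderOf_pos s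
  have hn0 : n ≠ 0 := hnpos.ne'
  set P := ordProj[p] n with hP
  set m := ordCompl[p] n with hm
  have hPm : P * m = n := Nat.ordProj_mul_ordCompl_eq_self n p
  have hcop : Nat.Coprime P m := by
    rw [hP]
    exact Nat.Coprime.pow_left _ (Nat.coprime_ordCompl hp hn0)
  have hbez : ∃ a b : ℤ, a * (P : ℤ) + b * (m : ℤ) = 1 := by
    have h := Nat.isCoprime_iff_coprime.mpr hcop
    obtain ⟨a, b, hab⟩ := h
    exact ⟨a, b, hab⟩
  obtain ⟨a, b, hab⟩ := hbez
  refine ⟨s ^ (a * (P : ℤ)), s ^ (b * (m : ℤ)), ?_, ?_, ?_, ?_, ?_, ?_⟩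
  · rw [← zpow_add, hab, zpow_one]
  · exact (Commute.refl s).zpow_zpow _ _
  · have h1 : (s ^ (a * (P : ℤ))) ^ m = 1 := by
      rw [← zpow_natCast, ← zpow_mul]
      have : a * (P : ℤ) * (m : ℤ) = (n : ℤ) * a := by
        rw [← hPm]; push_cast; ring
      rw [this, zpow_mul, zpow_natCast, pow_orderOf_eq_one, one_zpow]
    have h2 : orderOf (s ^ (a * (P : ℤ))) ∣ m := orderOf_dvd_of_pow_eq_one h1
    intro hdvd
    exact Nat.not_dvd_ordCompl hp hn0 (hdvd.trans h2)
  · have h1 : (s ^ (b * (m : ℤ))) ^ P = 1 := by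
      rw [← zpow_natCast, ← zpow_mul]
      have : b * (m : ℤ) * (P : ℤ) = (n : ℤ) * b := by
        rw [← hPm]; push_cast; ring
      rw [this, zpow_mul, zpow_natCast, pow_orderOf_eq_one, one_zpow]
    have h2 : orderOf (s ^ (b * (m : ℤ))) ∣ p ^ (n.factorization p) := orderOf_dvd_of_pow_eq_one h1
    obtain ⟨k, -, hk⟩ := (Nat.dvd_prime_pow hp).mp h2
    exact ⟨k, hk⟩
  · exact Subgroup.zpow_mem_zpowers s _
  · exact Subgroup.zpow_mem_zpowers s _

/-- Uniqueness of the decomposition. -/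
theorem pp_unique {G : Type*} [Group G] [Finite G] (p : ℕ) (hp : p.Prime) (s r u x z : G)
    (hru : r * u = s) (hr : r ∈ Subgroup.zpowers s) (hu : u ∈ Subgroup.zpowers s)
    (hrp : ¬ p ∣ orderOf r) (hup : ∃ k : ℕ, orderOf u = p ^ k)
    (hxz : x * z = s) (hc : Commute x z) (hxp : ¬ p ∣ orderOf x)
    (hzp : ∃ k : ℕ, orderOf z = p ^ k) : x = r ∧ z = u := by
  have hxs : Commute x s := by
    rw [← hxz]
    exact (Commute.refl x).mul_right hc
  have hzs : Commute z s := by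
    rw [← hxz]
    exact hc.symm.mul_right (Commute.refl z)
  have hxr : Commute x r := by
    obtain ⟨i, rfl⟩ := Subgroup.mem_zpowers_iff.mp hr
    exact hxs.zpow_right i
  have hzu : Commute z u := by
    obtain ⟨i, rfl⟩ := Subgroup.mem_zpowers_iff.mp hu
    exact hzs.zpow_right i
  have hw : x⁻¹ * r = z * u⁻¹ := by
    have h1 : x⁻¹ * (r * u) = z := by rw [hru, ← hxz, inv_mul_cancel_left]
    rw [← h1]
    group
  have hd1 : orderOf (x⁻¹ * r) ∣ Nat.lcm (orderOf x⁻¹) (orderOf r) :=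
    (hxr.inv_left).orderOf_mul_dvd_lcm
  have hd2 : orderOf (z * u⁻¹) ∣ Nat.lcm (orderOf z) (orderOf u⁻¹) :=
    (hzu.inv_right).orderOf_mul_dvd_lcm
  rw [orderOf_inv] at hd1 hd2
  obtain ⟨k1, hk1⟩ := hzp
  obtain ⟨k2, hk2⟩ := hup
  have hd3 : orderOf (z * u⁻¹) ∣ p ^ (max k1 k2) := by
    apply hd2.trans
    apply Nat.lcm_dvd
    · rw [hk1]; exact pow_dvd_pow p (le_max_left _ _)
    · rw [hk2]; exact pow_dvd_pow p (le_max_right _ _)
  obtain ⟨j, -, hj⟩ := (Nat.dvd_prime_pow hp).mp hd3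
  have hnp : ¬ p ∣ orderOf (x⁻¹ * r) := by
    intro h
    have h2 := h.trans hd1
    have h3 : p ∣ orderOf x * orderOf r := h2.trans (Nat.lcm_dvd_mul _ _)
    rcases (Nat.Prime.dvd_mul hp).mp h3 with h4 | h4
    · exact hxp h4
    · exact hrp h4
  rw [hw, hj] at hnp
  have hj0 : j = 0 := by
    by_contra hne
    exact hnp (dvd_pow_self p hne)
  rw [hj0, pow_zero, orderOf_eq_one_iff] at hj
  constructor
  · have : x⁻¹ * r = 1 := by rw [hw, hj]
    exact (inv_mul_eq_one.mp this)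
  · exact mul_inv_eq_one.mp hj

end Cfsg.Agent.Lib.helper2
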