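import Mathlib
import Cfsg.Prelude.Def_Characters
import Cfsg.Agent.Lib.helper2.CharNat
import Cfsg.Agent.Lib.helper2.CharInd
import Cfsg.Agent.Lib.Helper11.IndTrans
import Cfsg.Agent.Lib.helper7.CharMul
import Cfsg.Agent.Lib.Helper25.CharOrth
import Cfsg.Agent.Lib.Helper25.CharLinear
import Cfsg.Agent.Lib.Helper24.GaloisNorm

set_option autoImplicit false
open scoped ComplexConjugate

namespace Cfsg.Agent.Lib.helper2

open Cfsg.Agent.Lib.helper7 Cfsg.Agent.Lib.Helper11 Cfsg.Agent.Lib.Helper25 Cfsg.Agent.Lib.Helper24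

/-- The characters of `G` induced from characters of `p`-elementary subgroups. -/
def bgens (p : ℕ) (G : Type*) [Group G] [Fintype G] : Set (G → ℂ) :=
  {f | ∃ (E : Subgroup G) (φ : E → ℂ), Cfsg.IsElementary p E ∧ Cfsg.IsCharacter E φ ∧
    f = Cfsg.indFun E φ}

/-- The `A`-span of the characters induced from `p`-elementary subgroups. -/
def bV (A : Subalgebra ℤ ℂ) (p : ℕ) (G : Type*) [Group G] [Fintype G] : Submodule A (G → ℂ) :=
  Submodule.span A (bgens p G)

/-- The `A`-span of the characters of `G`. -/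
def bR (A : Subalgebra ℤ ℂ) (G : Type*) [Group G] : Submodule A (G → ℂ) :=
  Submodule.span A {f | Cfsg.IsCharacter G f}

theorem bgens_isCharacter {p : ℕ} {G : Type*} [Group G] [Fintype G] {f : G → ℂ}
    (hf : f ∈ bgens p G) : Cfsg.IsCharacter G f := by
  obtain ⟨E, φ, -, hφ, rfl⟩ := hf
  exact isCharacter_indFun E φ hφ

theorem bV_le_bR (A : Subalgebra ℤ ℂ) (p : ℕ) (G : Type*) [Group G] [Fintype G] :
    bV A p G ≤ bR A G :=
  Submodule.span_mono (fun _ hf => bgens_isCharacter hf)

theorem bR_mul_char (A : Subalgebra ℤ ℂ) {G : Type*} [Group G] {f χ : G → ℂ}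
    (hf : f ∈ bR A G) (hχ : Cfsg.IsCharacter G χ) : f * χ ∈ bR A G := by
  unfold bR at hf ⊢
  induction hf using Submodule.span_induction with
  | mem f hf => exact Submodule.subset_span (h7_isCharacter_mul hf hχ)
  | zero => rw [zero_mul]; exact Submodule.zero_mem _
  | add f g _ _ ihf ihg => rw [add_mul]; exact Submodule.add_mem _ ihf ihg
  | smul a f _ ih => rw [smul_mul_assoc]; exact Submodule.smul_mem _ a ih

theorem bR_mul (A : Subalgebra ℤ ℂ) {G : Type*} [Group G] {f g : G → ℂ}
    (hf : f ∈ bR A G) (hg : g ∈ bR A G) : f * g ∈ bR A G := by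
  have hg' := hg
  unfold bR at hg
  induction hg using Submodule.span_induction with
  | mem g hg => exact bR_mul_char A hf hg
  | zero => rw [mul_zero]; exact Submodule.zero_mem _
  | add g₁ g₂ h₁ h₂ ih₁ ih₂ =>
    rw [mul_add]
    exact Submodule.add_mem _ (ih₁ (Submodule.span_le.mpr (fun _ h => Submodule.subset_span h) h₁))
      (ih₂ (Submodule.span_le.mpr (fun _ h => Submodule.subset_span h) h₂))
  | smul a g h ih =>
    rw [mul_smul_comm]
    exact Submodule.smul_mem _ a (ih (Submodule.span_le.mpr (fun _ h => Submodule.subset_span h) h))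

theorem bV_mul_char (A : Subalgebra ℤ ℂ) (p : ℕ) {G : Type*} [Group G] [Fintype G] {f χ : G → ℂ}
    (hf : f ∈ bV A p G) (hχ : Cfsg.IsCharacter G χ) : f * χ ∈ bV A p G := by
  unfold bV at hf ⊢
  induction hf using Submodule.span_induction with
  | mem f hf =>
    obtain ⟨E, φ, hE, hφ, rfl⟩ := hf
    apply Submodule.subset_span
    refine ⟨E, φ * fun e : E => χ e, hE, h7_isCharacter_mul hφ (isCharacter_restrict hχ E), ?_⟩
    exact (h7_indFun_mul_restrict E φ χ (isCharacter_isClassFunction hχ)).symm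
  | zero => rw [zero_mul]; exact Submodule.zero_mem _
  | add f g _ _ ihf ihg => rw [add_mul]; exact Submodule.add_mem _ ihf ihg
  | smul a f _ ih => rw [smul_mul_assoc]; exact Submodule.smul_mem _ a ih

theorem bV_mul_bR (A : Subalgebra ℤ ℂ) (p : ℕ) {G : Type*} [Group G] [Fintype G] {f g : G → ℂ}
    (hf : f ∈ bV A p G) (hg : g ∈ bR A G) : f * g ∈ bV A p G := by
  unfold bR at hg
  induction hg using Submodule.span_induction with
  | mem g hg => exact bV_mul_char A p hf hg
  | zero => rw [mul_zero]; exact Submodule.zero_mem _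
  | add g₁ g₂ _ _ ih₁ ih₂ => rw [mul_add]; exact Submodule.add_mem _ ih₁ ih₂
  | smul a g _ ih => rw [mul_smul_comm]; exact Submodule.smul_mem _ a ih

theorem bV_pow (A : Subalgebra ℤ ℂ) (p : ℕ) {G : Type*} [Group G] [Fintype G] {f : G → ℂ}
    (hf : f ∈ bV A p G) (N : ℕ) : f ^ (N + 1) ∈ bV A p G := by
  induction N with
  | zero => rw [zero_add, pow_one]; exact hf
  | succ N ih =>
    rw [pow_succ]
    exact bV_mul_bR A p ih (bV_le_bR A p G hf)

theorem bR_classFunction (A : Subalgebra ℤ ℂ) {G : Type*} [Group G] {f : G → ℂ}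
    (hf : f ∈ bR A G) : Cfsg.IsClassFunction G f := by
  unfold bR at hf
  induction hf using Submodule.span_induction with
  | mem f hf => exact isCharacter_isClassFunction hf
  | zero => intro g h; rfl
  | add f g _ _ ihf ihg =>
    intro x y
    simp only [Pi.add_apply]
    rw [ihf x y, ihg x y]
  | smul a f _ ih =>
    intro x y
    show (a : ℂ) * f _ = (a : ℂ) * f _
    rw [ih x y]

theorem isElementary_zpowers {G : Type*} [Group G] [Finite G] (p : ℕ) (hp : p.Prime) (g : G) :
    Cfsg.IsElementary p (Subgroup.zpowers g) := by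
  set n := orderOf g with hn
  have hnpos : 0 < n := orderOf_pos g
  have hn0 : n ≠ 0 := hnpos.ne'
  set P := ordProj[p] n with hP
  set m := ordCompl[p] n with hm
  have hPm : P * m = n := Nat.ordProj_mul_ordCompl_eq_self n p
  set g₀ : Subgroup.zpowers g := ⟨g, Subgroup.mem_zpowers g⟩ with hg₀
  have hog₀ : orderOf g₀ = n := by
    rw [hg₀, hn]
    exact Subgroup.orderOf_mk g (Subgroup.mem_zpowers g)
  have h1 : orderOf (g₀ ^ P) = m := by
    rw [orderOf_pow, hog₀]
    have : Nat.gcd n P = P := Nat.gcd_eq_right (Nat.ordProj_dvd n p)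
    rw [this]
  refine ⟨g₀ ^ P, ?_, ?_, ?_⟩
  · rw [Subgroup.mem_center_iff]
    intro h
    exact IsMulCommutative.is_comm.comm h _
  · rw [h1]
    exact (Nat.coprime_ordCompl hp hn0).symm
  · have h2 := Subgroup.index_mul_card (Subgroup.zpowers (g₀ ^ P))
    rw [Nat.card_zpowers, h1, Nat.card_zpowers, ← hn, ← hPm] at h2
    have hmpos : 0 < m := Nat.ordCompl_pos p hn0
    refine ⟨n.factorization p, ?_⟩
    exact Nat.eq_of_mul_eq_mul_right hmpos h2

open Classical in
/-- The Artin weight function of a subgroup: `|A|` on the generators of `A`, zero elsewhere. -/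
noncomputable def thetaGen {G : Type*} [Group G] (A : Subgroup G) : A → ℂ :=
  fun a => if Subgroup.zpowers (a : G) = A then (Nat.card A : ℂ) else 0

open Classical in
theorem artin_sum {G : Type*} [Group G] [Fintype G] (f : G → ℂ) (hcl : Cfsg.IsClassFunction G f) :
    (Nat.card G : ℂ) • f = ∑ A ∈ Finset.univ.image (fun g : G => Subgroup.zpowers g),
      Cfsg.indFun A (thetaGen A * fun a : A => f a) := by
  set S : Finset (Subgroup G) := Finset.univ.image (fun g : G => Subgroup.zpowers g) with hS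
  have hext : ∀ (A : Subgroup G) (z : G), Cfsg.extendByZero A (thetaGen A) z =
      if Subgroup.zpowers z = A then (Nat.card A : ℂ) else 0 := by
    intro A z
    by_cases hz : z ∈ A
    · rw [h7_extendByZero_mem A _ z hz]
      rfl
    · rw [h7_extendByZero_not_mem A _ z hz, if_neg]
      intro h
      apply hz
      rw [← h]
      exact Subgroup.mem_zpowers z
  have hind : ∀ (A : Subgroup G) (y : G), Cfsg.indFun A (thetaGen A) y =
      ∑ x : G, if Subgroup.zpowers (x⁻¹ * y * x) = A then (1 : ℂ) else 0 := by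
    intro A y
    unfold Cfsg.indFun
    rw [Finset.mul_sum]
    apply Finset.sum_congr rfl
    intro x _
    rw [hext]
    have hne : (Nat.card A : ℂ) ≠ 0 := by exact_mod_cast Nat.card_pos.ne'
    split_ifs
    · exact inv_mul_cancel₀ hne
    · exact mul_zero _
  have h1 : ∀ y : G, ∑ A ∈ S, Cfsg.indFun A (thetaGen A) y = (Nat.card G : ℂ) := by
    intro y
    simp only [hind]
    rw [Finset.sum_comm]
    have : ∀ x : G, (∑ A ∈ S, if Subgroup.zpowers (x⁻¹ * y * x) = A then (1 : ℂ) else 0) = 1 := by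
      intro x
      rw [Finset.sum_ite_eq]
      rw [if_pos]
      exact Finset.mem_image.mpr ⟨_, Finset.mem_univ _, rfl⟩
    simp only [this]
    simp [Nat.card_eq_fintype_card]
  funext y
  rw [Finset.sum_apply]
  simp only [h7_indFun_mul_restrict _ _ _ hcl, Pi.mul_apply, Pi.smul_apply, smul_eq_mul]
  rw [← Finset.sum_mul, h1]

open Classical in
theorem bV_cyclic (A : Subalgebra ℤ ℂ) (p : ℕ) (hp : p.Prime) {G : Type*} [Group G] [Fintype G]
    (hA : ∀ z : ℂ, z ^ Nat.card G = 1 → z ∈ A) (f : G → ℂ) (hcl : Cfsg.IsClassFunction G f)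
    (hval : ∀ g, f g ∈ A) : (Nat.card G : ℂ) • f ∈ bV A p G := by
  rw [artin_sum f hcl]
  apply Submodule.sum_mem
  intro C hC
  obtain ⟨g, -, rfl⟩ := Finset.mem_image.mp hC
  haveI := Fintype.ofFinite (Cfsg.IrrCharacter (Subgroup.zpowers g))
  set φ : Subgroup.zpowers g → ℂ :=
    thetaGen (Subgroup.zpowers g) * fun a : Subgroup.zpowers g => f a with hφ
  have hφcl : ∀ a b : Subgroup.zpowers g, φ (b * a * b⁻¹) = φ a := by
    intro a b
    have : b * a * b⁻¹ = a := by
      have hc : b * a = a * b := IsMulCommutative.is_comm.comm b a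
      rw [hc, mul_assoc, mul_inv_cancel, mul_one]
    rw [this]
  have hexp := classFunction_expansion φ hφcl
  rw [hexp, indFun_sum]
  apply Submodule.sum_mem
  intro μ _
  rw [indFun_smul]
  have hμ1 : (μ : Subgroup.zpowers g → ℂ) 1 = 1 := gn_irr_one_of_isMulCommutative μ
  have hcoef : Cfsg.classInner φ (μ : Subgroup.zpowers g → ℂ) ∈ A := by
    have h1 : Cfsg.classInner φ (μ : Subgroup.zpowers g → ℂ) =
        ∑ a : Subgroup.zpowers g, if Subgroup.zpowers (a : G) = Subgroup.zpowers g then
          f a * conj ((μ : Subgroup.zpowers g → ℂ) a) else 0 := by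
      unfold Cfsg.classInner
      rw [Finset.mul_sum]
      apply Finset.sum_congr rfl
      intro a _
      have hne : (Nat.card (Subgroup.zpowers g) : ℂ) ≠ 0 := by exact_mod_cast Nat.card_pos.ne'
      simp only [hφ, thetaGen, Pi.mul_apply]
      split_ifs
      · field_simp
      · simp
    rw [h1]
    apply Subalgebra.sum_mem
    intro a _
    split_ifs
    · apply A.mul_mem (hval a)
      apply hA
      rw [← map_pow, ← gn_irr_linear_pow μ hμ1]
      have : a ^ Nat.card G = 1 := by
        apply Subtype.ext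
        rw [Subgroup.coe_pow, Subgroup.coe_one]
        exact pow_card_eq_one'
      rw [this, hμ1, map_one]
    · exact A.zero_mem
  have hmem : Cfsg.indFun (Subgroup.zpowers g) (μ : Subgroup.zpowers g → ℂ) ∈ bV A p G := by
    apply Submodule.subset_span
    exact ⟨Subgroup.zpowers g, _, isElementary_zpowers p hp g, isCharacter_of_irr μ, rfl⟩
  exact Submodule.smul_mem _ (⟨_, hcoef⟩ : A) hmem

end Cfsg.Agent.Lib.helper2
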