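import Mathlib
import Cfsg.Prelude.Def_Characters
import Cfsg.Agent.Lib.helper2.BrauerSpan
import Cfsg.Agent.Lib.helper2.PParts
import Cfsg.Agent.Lib.helper2.CenterIndex

set_option autoImplicit false
open scoped ComplexConjugate

namespace Cfsg.Agent.Lib.helper2

open Cfsg.Agent.Lib.helper7 Cfsg.Agent.Lib.Helper11 Cfsg.Agent.Lib.Helper25 Cfsg.Agent.Lib.Helper24

theorem irr_central_translate {K : Type*} [Group K] [Finite K] (χ : Cfsg.IrrCharacter K) (z : K)
    (hz : z ∈ Subgroup.center K) :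
    ∃ c : ℂ, c ^ Nat.card K = 1 ∧ ∀ h : K, (χ : K → ℂ) (h * z) = c * (χ : K → ℂ) h := by
  obtain ⟨n, ρ, hρ, hχ⟩ := χ.2
  haveI := hρ
  obtain ⟨c, -, hc⟩ := center_scalar ρ z hz
  refine ⟨c, ?_, ?_⟩
  · have hn : Module.finrank ℂ (Fin n → ℂ) ≠ 0 := finrank_ne_zero_of_irr ρ
    have : Nontrivial (Fin n → ℂ) := Module.nontrivial_of_finrank_pos (R := ℂ)
      (Nat.pos_of_ne_zero hn)
    obtain ⟨v, hv⟩ := exists_ne (0 : Fin n → ℂ)
    have hpow : ∀ k : ℕ, ρ (z ^ k) = (c ^ k) • (LinearMap.id : (Fin n → ℂ) →ₗ[ℂ] (Fin n → ℂ)) := by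
      intro k
      induction k with
      | zero => simp; rfl
      | succ k ih =>
        rw [pow_succ, map_mul, ih, hc]
        ext w
        simp [pow_succ, mul_comm]
        ring
    have h1 := hpow (Nat.card K)
    rw [pow_card_eq_one', map_one] at h1
    have h2 := LinearMap.congr_fun h1 v
    simp only [Module.End.one_apply, LinearMap.smul_apply, LinearMap.id_coe, id_eq] at h2
    have h3 : (c ^ Nat.card K - 1) • v = 0 := by
      rw [sub_smul, one_smul, ← h2, sub_self]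
    rcases smul_eq_zero.mp h3 with h4 | h4
    · exact sub_eq_zero.mp h4
    · exact absurd h4 hv
  · intro h
    rw [← hχ]
    exact char_mul_scalar ρ h z c hc

theorem translate_mem_bR (A : Subalgebra ℤ ℂ) {K : Type*} [Group K] [Fintype K]
    (hA : ∀ w : ℂ, w ^ Nat.card K = 1 → w ∈ A) (f : K → ℂ) (hf : Cfsg.IsCharacter K f) (z : K)
    (hz : z ∈ Subgroup.center K) : (fun h => f (h * z)) ∈ bR A K := by
  classical
  haveI : Fintype (Cfsg.IrrCharacter K) := Fintype.ofFinite _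
  obtain ⟨m, -, hexp⟩ := isCharacter_expansion hf
  have hc : ∀ χ : Cfsg.IrrCharacter K, ∃ c : ℂ, c ^ Nat.card K = 1 ∧
      ∀ h : K, (χ : K → ℂ) (h * z) = c * (χ : K → ℂ) h := fun χ => irr_central_translate χ z hz
  choose c hc1 hc2 using hc
  have : (fun h => f (h * z)) = ∑ χ : Cfsg.IrrCharacter K, ((m χ : ℂ) * c χ) • (χ : K → ℂ) := by
    funext h
    rw [hexp]
    simp only [Finset.sum_apply, Pi.smul_apply, smul_eq_mul, hc2]
    apply Finset.sum_congr rfl
    intro χ _
    ring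
  rw [this]
  apply Submodule.sum_mem
  intro χ _
  have hmem : (m χ : ℂ) * c χ ∈ A := A.mul_mem (natCast_mem A (m χ)) (hA _ (hc1 χ))
  exact Submodule.smul_mem _ (⟨_, hmem⟩ : A) (Submodule.subset_span (isCharacter_of_irr χ))

theorem indFun_mem_bV (A : Subalgebra ℤ ℂ) (p : ℕ) {G : Type*} [Group G] [Fintype G]
    (H : Subgroup G) (hH : Cfsg.IsElementary p H) (ψ : H → ℂ) (hψ : ψ ∈ bR A H) :
    Cfsg.indFun H ψ ∈ bV A p G := by
  unfold bR at hψ
  induction hψ using Submodule.span_induction with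
  | mem f hf => exact Submodule.subset_span ⟨H, f, hH, hf, rfl⟩
  | zero => rw [indFun_zero']; exact Submodule.zero_mem _
  | add f g _ _ ihf ihg => rw [indFun_add]; exact Submodule.add_mem _ ihf ihg
  | smul a f _ ih =>
    have : Cfsg.indFun H (a • f) = a • Cfsg.indFun H f := indFun_smul H (a : ℂ) f
    rw [this]
    exact Submodule.smul_mem _ a ih

open Classical in
theorem indFun_one_normal {K : Type*} [Group K] [Fintype K] (N : Subgroup K) [hN : N.Normal]
    (u : K) : Cfsg.indFun N (fun _ : N => (1 : ℂ)) u = if u ∈ N then (N.index : ℂ) else 0 := by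
  by_cases hu : u ∈ N
  · rw [if_pos hu]
    have := h7_indFun_restrict_invariant N (fun _ : N => (1 : ℂ)) (fun g => rfl) ⟨u, hu⟩
    rw [this, mul_one]
  · rw [if_neg hu]
    unfold Cfsg.indFun
    rw [Finset.sum_eq_zero, mul_zero]
    intro y _
    apply h7_extendByZero_not_mem
    intro h
    apply hu
    have := hN.conj_mem _ h y
    simpa [mul_assoc] using this

open Classical in
/-- The counting function: the number of `y` with `y⁻¹ s y ∈ x Q`. -/
noncomputable def bcnt {G : Type*} [Group G] [Fintype G] (x : G) (Q : Subgroup G) (s : G) : ℕ :=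
  (Finset.univ.filter (fun y : G => x⁻¹ * (y⁻¹ * s * y) ∈ Q)).card

theorem HQ_decomp {G : Type*} [Group G] (x : G) (Q : Subgroup G)
    (hQZ : Q ≤ Subgroup.centralizer {x}) (h : G) (hh : h ∈ Subgroup.zpowers x ⊔ Q) :
    ∃ c ∈ Subgroup.zpowers x, ∃ q ∈ Q, c * q = h := by
  have hle : Subgroup.zpowers x ≤ Subgroup.normalizer (Q : Set G) := by
    rw [Subgroup.zpowers_le, Subgroup.mem_normalizer_iff]
    intro q
    constructor
    · intro hq
      have hc := Subgroup.mem_centralizer_singleton_iff.mp (hQZ hq)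
      have : x * q * x⁻¹ = q := by rw [← hc, mul_inv_cancel_right]
      rw [this]
      exact hq
    · intro hq
      have hc := Subgroup.mem_centralizer_singleton_iff.mp (hQZ hq)
      have h2 : x * q * x⁻¹ * x = x * (x * q * x⁻¹) := hc
      have : x * q * x⁻¹ = q := by
        have h3 : x * q = x * (x * q * x⁻¹) := by rw [← h2]; group
        exact (mul_left_cancel h3).symm
      rw [← this]
      exact hq
  have hset := Subgroup.coe_mul_of_left_le_normalizer_right (Subgroup.zpowers x) Q hle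
  have hh' : h ∈ ((Subgroup.zpowers x ⊔ Q : Subgroup G) : Set G) := hh
  rw [hset] at hh'
  obtain ⟨c, hc, q, hq, hcq⟩ := Set.mem_mul.mp hh'
  exact ⟨c, hc, q, hq, hcq⟩

theorem HQ_le_centralizer {G : Type*} [Group G] (x : G) (Q : Subgroup G)
    (hQZ : Q ≤ Subgroup.centralizer {x}) : Subgroup.zpowers x ⊔ Q ≤ Subgroup.centralizer {x} := by
  apply sup_le _ hQZ
  rw [Subgroup.zpowers_le, Subgroup.mem_centralizer_singleton_iff]

theorem HQ_elementary {G : Type*} [Group G] [Finite G] (p : ℕ) (hp : p.Prime) (x : G)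
    (hx : ¬ p ∣ orderOf x) (Q : Subgroup G) (hQZ : Q ≤ Subgroup.centralizer {x})
    (hQp : IsPGroup p Q) : Cfsg.IsElementary p ↥(Subgroup.zpowers x ⊔ Q) := by
  set H := Subgroup.zpowers x ⊔ Q with hH
  have hxH : x ∈ H := (le_sup_left : Subgroup.zpowers x ≤ H) (Subgroup.mem_zpowers x)
  set x' : H := ⟨x, hxH⟩ with hx'
  have hcent : x' ∈ Subgroup.center H := by
    rw [Subgroup.mem_center_iff]
    intro h
    apply Subtype.ext
    have := Subgroup.mem_centralizer_singleton_iff.mp (HQ_le_centralizer x Q hQZ h.2)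
    exact this
  refine ⟨x', hcent, ?_, ?_⟩
  · rw [hx', Subgroup.orderOf_mk]
    exact ((Nat.Prime.coprime_iff_not_dvd hp).mpr hx).symm
  · haveI hnorm : (Subgroup.zpowers x').Normal := by
      constructor
      intro n hn g
      have hnc : n ∈ Subgroup.center H := by
        obtain ⟨i, rfl⟩ := Subgroup.mem_zpowers_iff.mp hn
        exact Subgroup.zpow_mem _ hcent i
      have : g * n * g⁻¹ = n := by
        rw [Subgroup.mem_center_iff.mp hnc g, mul_inv_cancel_right]
      rw [this]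
      exact hn
    have hpq : IsPGroup p (H ⧸ Subgroup.zpowers x') := by
      intro g
      induction g using QuotientGroup.induction_on with
      | H h =>
        obtain ⟨c, hc, q, hq, hcq⟩ := HQ_decomp x Q hQZ h h.2
        obtain ⟨k, hk⟩ := hQp ⟨q, hq⟩
        refine ⟨k, ?_⟩
        rw [← QuotientGroup.mk_pow, QuotientGroup.eq_one_iff]
        have hcomm : Commute c q := by
          obtain ⟨i, rfl⟩ := Subgroup.mem_zpowers_iff.mp hc
          have := Subgroup.mem_centralizer_singleton_iff.mp (hQZ hq)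
          exact (Commute.zpow_left (show Commute x q from this.symm) i)
        have hq1 : q ^ p ^ k = 1 := by
          have := congrArg Subtype.val hk
          simpa using this
        have h1 : (h : G) ^ p ^ k = c ^ p ^ k := by
          rw [← hcq, hcomm.mul_pow, hq1, mul_one]
        obtain ⟨i, hi⟩ := Subgroup.mem_zpowers_iff.mp hc
        rw [Subgroup.mem_zpowers_iff]
        refine ⟨i * (p ^ k : ℕ), ?_⟩
        apply Subtype.ext
        rw [Subgroup.coe_zpow, Subgroup.coe_pow, h1, ← hi, zpow_mul, zpow_natCast]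
    haveI : Fact p.Prime := ⟨hp⟩
    obtain ⟨n, hn⟩ := IsPGroup.iff_card.mp hpq
    exact ⟨n, by rw [Subgroup.index_eq_card]; exact hn⟩

theorem zpowers_le_normalizer_of_centralizer {G : Type*} [Group G] (x : G) (Q : Subgroup G)
    (hQZ : Q ≤ Subgroup.centralizer {x}) :
    Subgroup.zpowers x ⊔ Q ≤ Subgroup.normalizer (Q : Set G) := by
  apply sup_le _ Subgroup.le_normalizer
  rw [Subgroup.zpowers_le, Subgroup.mem_normalizer_iff]
  intro q
  constructor
  · intro hq
    have hc := Subgroup.mem_centralizer_singleton_iff.mp (hQZ hq)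
    have : x * q * x⁻¹ = q := by rw [← hc, mul_inv_cancel_right]
    rw [this]
    exact hq
  · intro hq
    have hc := Subgroup.mem_centralizer_singleton_iff.mp (hQZ hq)
    have h2 : x * q * x⁻¹ * x = x * (x * q * x⁻¹) := hc
    have : x * q * x⁻¹ = q := by
      have h3 : x * q = x * (x * q * x⁻¹) := by rw [← h2]; group
      exact (mul_left_cancel h3).symm
    rw [← this]
    exact hq

open Classical in
theorem psi_exists (A : Subalgebra ℤ ℂ) (p : ℕ) (hp : p.Prime) {G : Type*} [Group G] [Fintype G]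
    (hA : ∀ z : ℂ, z ^ Nat.card G = 1 → z ∈ A) (x : G) (hx : ¬ p ∣ orderOf x) (Q : Subgroup G)
    (hQZ : Q ≤ Subgroup.centralizer {x}) (hQp : IsPGroup p Q) :
    ∃ ψ : G → ℂ, ψ ∈ bV A p G ∧ ∀ s, ψ s * (Nat.card Q : ℂ) = (bcnt x Q s : ℂ) := by
  set H := Subgroup.zpowers x ⊔ Q with hH
  have hxH : x ∈ H := (le_sup_left : Subgroup.zpowers x ≤ H) (Subgroup.mem_zpowers x)
  have hQH : Q ≤ H := le_sup_right
  have hHZ : H ≤ Subgroup.centralizer {x} := HQ_le_centralizer x Q hQZ
  set x' : H := ⟨x, hxH⟩ with hx'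
  have hcent : x' ∈ Subgroup.center H := by
    rw [Subgroup.mem_center_iff]
    intro h
    apply Subtype.ext
    exact Subgroup.mem_centralizer_singleton_iff.mp (hHZ h.2)
  have hcent' : x'⁻¹ ∈ Subgroup.center H := Subgroup.inv_mem _ hcent
  haveI hnorm : (Q.subgroupOf H).Normal := by
    constructor
    intro n hn g
    rw [Subgroup.mem_subgroupOf] at hn ⊢
    have hg := zpowers_le_normalizer_of_centralizer x Q hQZ g.2
    exact (Subgroup.mem_normalizer_iff.mp hg _).mp hn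
  have hA_H : ∀ w : ℂ, w ^ Nat.card H = 1 → w ∈ A := by
    intro w hw
    apply hA
    obtain ⟨k, hk⟩ := Subgroup.card_subgroup_dvd_card H
    rw [hk, pow_mul, hw, one_pow]
  set f₀ : H → ℂ := Cfsg.indFun (Q.subgroupOf H) (fun _ => (1 : ℂ)) with hf₀
  have hf₀char : Cfsg.IsCharacter H f₀ := by
    apply isCharacter_indFun
    exact isCharacter_of_irr (trivIrr (Q.subgroupOf H))
  set ψ₀ : H → ℂ := fun h => f₀ (h * x'⁻¹) with hψ₀
  have hψ₀mem : ψ₀ ∈ bR A H := translate_mem_bR A hA_H f₀ hf₀char x'⁻¹ hcent'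
  refine ⟨Cfsg.indFun H ψ₀, indFun_mem_bV A p H (HQ_elementary p hp x hx Q hQZ hQp) ψ₀ hψ₀mem, ?_⟩
  intro s
  have hext : ∀ t : G, Cfsg.extendByZero H ψ₀ t =
      if x⁻¹ * t ∈ Q then ((Q.subgroupOf H).index : ℂ) else 0 := by
    intro t
    by_cases ht : t ∈ H
    · rw [h7_extendByZero_mem H _ t ht]
      simp only [hψ₀, hf₀]
      rw [indFun_one_normal]
      have hcomm : t * x⁻¹ = x⁻¹ * t := by
        have := Subgroup.mem_centralizer_singleton_iff.mp (hHZ ht)
        calc t * x⁻¹ = x⁻¹ * (x * t) * x⁻¹ := by group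
          _ = x⁻¹ * (t * x) * x⁻¹ := by rw [this]
          _ = x⁻¹ * t := by group
      have hiff : ((⟨t, ht⟩ : H) * x'⁻¹ ∈ Q.subgroupOf H) ↔ x⁻¹ * t ∈ Q := by
        rw [Subgroup.mem_subgroupOf, ← hcomm]
        rfl
      by_cases hm : x⁻¹ * t ∈ Q
      · rw [if_pos hm, if_pos (hiff.mpr hm)]
      · rw [if_neg hm, if_neg (fun h => hm (hiff.mp h))]
    · rw [h7_extendByZero_not_mem H _ t ht, if_neg]
      intro hm
      apply ht
      have : t = x * (x⁻¹ * t) := by group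
      rw [this]
      exact H.mul_mem hxH (hQH hm)
  unfold Cfsg.indFun
  simp only [hext]
  rw [Finset.sum_ite, Finset.sum_const_zero, add_zero, Finset.sum_const, nsmul_eq_mul]
  have hidx : (Q.subgroupOf H).index * Nat.card Q = Nat.card H := by
    have h1 := Subgroup.index_mul_card (Q.subgroupOf H)
    have h2 : Nat.card (Q.subgroupOf H) = Nat.card Q :=
      Nat.card_congr (Subgroup.subgroupOfEquivOfLe hQH).toEquiv
    rw [h2] at h1
    exact h1
  have hHne : (Nat.card H : ℂ) ≠ 0 := by exact_mod_cast Nat.card_pos.ne'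
  have hidx' : ((Q.subgroupOf H).index : ℂ) * (Nat.card Q : ℂ) = (Nat.card H : ℂ) := by
    exact_mod_cast hidx
  unfold bcnt
  calc (Nat.card H : ℂ)⁻¹ * (((Finset.univ.filter (fun y : G => x⁻¹ * (y⁻¹ * s * y) ∈ Q)).card : ℂ) *
        ((Q.subgroupOf H).index : ℂ)) * (Nat.card Q : ℂ)
      = (Nat.card H : ℂ)⁻¹ * ((Finset.univ.filter (fun y : G => x⁻¹ * (y⁻¹ * s * y) ∈ Q)).card : ℂ) *
        (((Q.subgroupOf H).index : ℂ) * (Nat.card Q : ℂ)) := by ring
    _ = ((Finset.univ.filter (fun y : G => x⁻¹ * (y⁻¹ * s * y) ∈ Q)).card : ℂ) := by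
      rw [hidx']
      field_simp

theorem fixed_count {Z : Type*} [Group Z] [Finite Z] (p : ℕ) [Fact p.Prime] (Q : Subgroup Z)
    (u : Z) (k : ℕ) (hu : orderOf u = p ^ k) :
    ∃ F : ℕ, Nat.card {w : Z // w⁻¹ * u * w ∈ Q} = Nat.card Q * F ∧ F ≡ Q.index [MOD p] := by
  have hU : IsPGroup p (Subgroup.zpowers u) := by
    apply IsPGroup.of_card (n := k)
    rw [Nat.card_zpowers, hu]
  refine ⟨Nat.card (MulAction.fixedPoints (Subgroup.zpowers u) (Z ⧸ Q)), ?_, ?_⟩
  · have hset : {w : Z | w⁻¹ * u * w ∈ Q} =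
        QuotientGroup.mk ⁻¹' (MulAction.fixedPoints (Subgroup.zpowers u) (Z ⧸ Q)) := by
      ext w
      simp only [Set.mem_ofPred_eq, Set.mem_preimage, MulAction.mem_fixedPoints]
      constructor
      · intro hw g
        have hst : u ∈ MulAction.stabilizer Z ((w : Z) : Z ⧸ Q) := by
          rw [MulAction.mem_stabilizer_iff, MulAction.Quotient.smul_mk, QuotientGroup.eq, smul_eq_mul]
          have : (u * w)⁻¹ * w = (w⁻¹ * u * w)⁻¹ := by group
          rw [this]
          exact Q.inv_mem hw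
        have hle : Subgroup.zpowers u ≤ MulAction.stabilizer Z ((w : Z) : Z ⧸ Q) :=
          Subgroup.zpowers_le.mpr hst
        exact MulAction.mem_stabilizer_iff.mp (hle g.2)
      · intro h
        have h1 := h ⟨u, Subgroup.mem_zpowers u⟩
        have h2 : u • ((w : Z) : Z ⧸ Q) = (w : Z ⧸ Q) := h1
        rw [MulAction.Quotient.smul_mk, QuotientGroup.eq, smul_eq_mul] at h2
        have : w⁻¹ * u * w = ((u * w)⁻¹ * w)⁻¹ := by group
        rw [this]
        exact Q.inv_mem h2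
    have h1 : Nat.card {w : Z // w⁻¹ * u * w ∈ Q} =
        Nat.card (QuotientGroup.mk ⁻¹' (MulAction.fixedPoints (Subgroup.zpowers u) (Z ⧸ Q)) : Set Z) := by
      rw [← hset]
      rfl
    rw [h1, Nat.card_congr (QuotientGroup.preimageMkEquivSubgroupProdSet Q _), Nat.card_prod]
  · have := hU.card_modEq_card_fixedPoints (Z ⧸ Q)
    rw [Subgroup.index_eq_card]
    exact this.symm

theorem orderOf_conj_eq {G : Type*} [Group G] (y r : G) : orderOf (y⁻¹ * r * y) = orderOf r := by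
  have e1 : y⁻¹ * r * y = (MulAut.conj y⁻¹).toMonoidHom r := by simp
  rw [e1]
  exact orderOf_injective _ (MulAut.conj y⁻¹).injective r

theorem bcnt_criterion {G : Type*} [Group G] [Finite G] (p : ℕ) (hp : p.Prime) (x : G)
    (hx : ¬ p ∣ orderOf x) (Q : Subgroup G) (hQZ : Q ≤ Subgroup.centralizer {x})
    (hQp : IsPGroup p Q) (s r u : G) (hru : r * u = s) (hr : r ∈ Subgroup.zpowers s)
    (hu : u ∈ Subgroup.zpowers s) (hrp : ¬ p ∣ orderOf r) (hup : ∃ k : ℕ, orderOf u = p ^ k)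
    (y : G) :
    x⁻¹ * (y⁻¹ * s * y) ∈ Q ↔ (y⁻¹ * r * y = x ∧ y⁻¹ * u * y ∈ Q) := by
  constructor
  · intro hz
    set t := y⁻¹ * s * y with ht
    set z := x⁻¹ * t with hzdef
    have hru' : (y⁻¹ * r * y) * (y⁻¹ * u * y) = t := by
      rw [ht, ← hru]; group
    have hr' : y⁻¹ * r * y ∈ Subgroup.zpowers t := by
      obtain ⟨i, rfl⟩ := Subgroup.mem_zpowers_iff.mp hr
      rw [Subgroup.mem_zpowers_iff]
      refine ⟨i, ?_⟩
      rw [ht]
      have := @conj_zpow G _ i y⁻¹ s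
      rw [inv_inv] at this
      exact this
    have hu' : y⁻¹ * u * y ∈ Subgroup.zpowers t := by
      obtain ⟨i, rfl⟩ := Subgroup.mem_zpowers_iff.mp hu
      rw [Subgroup.mem_zpowers_iff]
      refine ⟨i, ?_⟩
      rw [ht]
      have := @conj_zpow G _ i y⁻¹ s
      rw [inv_inv] at this
      exact this
    have hrp' : ¬ p ∣ orderOf (y⁻¹ * r * y) := by rw [orderOf_conj_eq]; exact hrp
    have hup' : ∃ k : ℕ, orderOf (y⁻¹ * u * y) = p ^ k := by rw [orderOf_conj_eq]; exact hup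
    have hxz : x * z = t := by rw [hzdef]; group
    have hc : Commute x z := by
      have := Subgroup.mem_centralizer_singleton_iff.mp (hQZ hz)
      exact this.symm
    have hzp : ∃ k : ℕ, orderOf z = p ^ k := by
      obtain ⟨k, hk⟩ := hQp ⟨z, hz⟩
      have hk' : z ^ p ^ k = 1 := by
        have := congrArg Subtype.val hk
        simpa using this
      obtain ⟨j, -, hj⟩ := (Nat.dvd_prime_pow hp).mp (orderOf_dvd_of_pow_eq_one hk')
      exact ⟨j, hj⟩
    obtain ⟨h1, h2⟩ := pp_unique p hp t _ _ x z hru' hr' hu' hrp' hup' hxz hc hx hzp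
    refine ⟨h1.symm, ?_⟩
    rw [← h2]
    exact hz
  · rintro ⟨h1, h2⟩
    have : x⁻¹ * (y⁻¹ * s * y) = y⁻¹ * u * y := by
      rw [← hru, ← h1]; group
    rw [this]
    exact h2

open Classical in
theorem bcnt_zero {G : Type*} [Group G] [Fintype G] (p : ℕ) (hp : p.Prime) (x : G)
    (hx : ¬ p ∣ orderOf x) (Q : Subgroup G) (hQZ : Q ≤ Subgroup.centralizer {x})
    (hQp : IsPGroup p Q) (s r u : G) (hru : r * u = s) (hr : r ∈ Subgroup.zpowers s)
    (hu : u ∈ Subgroup.zpowers s) (hrp : ¬ p ∣ orderOf r) (hup : ∃ k : ℕ, orderOf u = p ^ k)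
    (hnc : ∀ y : G, y⁻¹ * r * y ≠ x) : bcnt x Q s = 0 := by
  unfold bcnt
  rw [Finset.card_eq_zero, Finset.filter_eq_empty_iff]
  intro y _ hy
  exact hnc y ((bcnt_criterion p hp x hx Q hQZ hQp s r u hru hr hu hrp hup y).mp hy).1

open Classical in
theorem bcnt_conj {G : Type*} [Group G] [Fintype G] (p : ℕ) [hpf : Fact p.Prime] (x : G)
    (hx : ¬ p ∣ orderOf x) (Q : Subgroup G) (hQZ : Q ≤ Subgroup.centralizer {x})
    (hQp : IsPGroup p Q) (s r u : G) (hru : r * u = s) (hcomm : Commute r u)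
    (hr : r ∈ Subgroup.zpowers s)
    (hu : u ∈ Subgroup.zpowers s) (hrp : ¬ p ∣ orderOf r) (hup : ∃ k : ℕ, orderOf u = p ^ k)
    (g : G) (hg : g⁻¹ * r * g = x) :
    ∃ F : ℕ, bcnt x Q s = Nat.card Q * F ∧
      F ≡ (Q.subgroupOf (Subgroup.centralizer {x})).index [MOD p] := by
  have hp : p.Prime := hpf.out
  set Z := Subgroup.centralizer ({x} : Set G) with hZ
  set u₁ := g⁻¹ * u * g with hu₁
  have hu₁Z : u₁ ∈ Z := by
    rw [hZ, Subgroup.mem_centralizer_singleton_iff, ← hg, hu₁]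
    have := hcomm.eq
    calc g⁻¹ * u * g * (g⁻¹ * r * g) = g⁻¹ * (u * r) * g := by group
      _ = g⁻¹ * (r * u) * g := by rw [this]
      _ = g⁻¹ * r * g * (g⁻¹ * u * g) := by group
  obtain ⟨k, hk⟩ := hup
  have hord : orderOf (⟨u₁, hu₁Z⟩ : Z) = p ^ k := by
    rw [Subgroup.orderOf_mk, hu₁, orderOf_conj_eq, hk]
  obtain ⟨F, hF1, hF2⟩ := fixed_count p (Q.subgroupOf Z) (⟨u₁, hu₁Z⟩ : Z) k hord
  refine ⟨F, ?_, hF2⟩
  have hcardQ : Nat.card (Q.subgroupOf Z) = Nat.card Q :=
    Nat.card_congr (Subgroup.subgroupOfEquivOfLe hQZ).toEquiv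
  rw [hcardQ] at hF1
  rw [← hF1]
  unfold bcnt
  have h1 : (Finset.univ.filter (fun y : G => x⁻¹ * (y⁻¹ * s * y) ∈ Q)) =
      (Finset.univ.filter (fun y : G => y⁻¹ * r * y = x ∧ y⁻¹ * u * y ∈ Q)) := by
    apply Finset.filter_congr
    intro y _
    exact bcnt_criterion p hp x hx Q hQZ hQp s r u hru hr hu hrp ⟨k, hk⟩ y
  rw [h1]
  have h2 : (Finset.univ.filter (fun y : G => y⁻¹ * r * y = x ∧ y⁻¹ * u * y ∈ Q)).card =
      (Finset.univ.filter (fun w : G => w ∈ Z ∧ w⁻¹ * u₁ * w ∈ Q)).card := by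
    apply Finset.card_equiv (Equiv.mulLeft g⁻¹)
    intro y
    simp only [Finset.mem_filter, Finset.mem_univ, true_and, Equiv.coe_mulLeft]
    have e1 : (g⁻¹ * y)⁻¹ * u₁ * (g⁻¹ * y) = y⁻¹ * u * y := by rw [hu₁]; group
    rw [e1]
    have e2 : g⁻¹ * y ∈ Z ↔ y⁻¹ * r * y = x := by
      rw [hZ, Subgroup.mem_centralizer_singleton_iff]
      have hr' : r = g * x * g⁻¹ := by rw [← hg]; group
      constructor
      · intro h
        rw [hr']
        calc y⁻¹ * (g * x * g⁻¹) * y = (g⁻¹ * y)⁻¹ * (x * (g⁻¹ * y)) := by group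
          _ = (g⁻¹ * y)⁻¹ * (g⁻¹ * y * x) := by rw [h]
          _ = x := by group
      · intro h
        have h' : y⁻¹ * (g * x * g⁻¹) * y = x := by rw [← hr']; exact h
        calc g⁻¹ * y * x = g⁻¹ * y * (y⁻¹ * (g * x * g⁻¹) * y) := by rw [h']
          _ = x * (g⁻¹ * y) := by group
    rw [e2]
  rw [h2]
  have h3 : (Finset.univ.filter (fun w : G => w ∈ Z ∧ w⁻¹ * u₁ * w ∈ Q)).card =
      Nat.card {w : G // w ∈ Z ∧ w⁻¹ * u₁ * w ∈ Q} := by
    rw [Nat.card_eq_fintype_card, Fintype.card_subtype]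
  rw [h3]
  apply Nat.card_congr
  exact (Equiv.subtypeSubtypeEquivSubtypeInter (fun w : G => w ∈ Z)
    (fun w : G => w⁻¹ * u₁ * w ∈ Q)).symm

end Cfsg.Agent.Lib.helper2
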