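import Mathlib
import Cfsg.Prelude.Def_Characters
import Cfsg.Agent.Lib.helper2.BrauerLocal

set_option autoImplicit false
open scoped ComplexConjugate

namespace Cfsg.Agent.Lib.helper2

open Cfsg.Agent.Lib.helper7 Cfsg.Agent.Lib.Helper11 Cfsg.Agent.Lib.Helper25 Cfsg.Agent.Lib.Helper24

theorem exists_sylow_centralizer {G : Type*} [Group G] [Finite G] (p : ℕ) [Fact p.Prime] (x : G) :
    ∃ Q : Subgroup G, Q ≤ Subgroup.centralizer {x} ∧ IsPGroup p Q ∧
      ¬ p ∣ (Q.subgroupOf (Subgroup.centralizer {x})).index := by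
  set Z := Subgroup.centralizer ({x} : Set G) with hZ
  obtain ⟨P⟩ : Nonempty (Sylow p Z) := inferInstance
  refine ⟨(P : Subgroup Z).map Z.subtype, Subgroup.map_subtype_le _, P.isPGroup'.map Z.subtype, ?_⟩
  have : ((P : Subgroup Z).map Z.subtype).subgroupOf Z = (P : Subgroup Z) :=
    Subgroup.comap_map_eq_self_of_injective (Subgroup.subtype_injective Z) _
  rw [this]
  exact P.not_dvd_index

theorem psi_x_exists (A : Subalgebra ℤ ℂ) (p : ℕ) [hpf : Fact p.Prime] {G : Type*} [Group G]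
    [Fintype G] (hA : ∀ z : ℂ, z ^ Nat.card G = 1 → z ∈ A) (x : G) (hx : ¬ p ∣ orderOf x) :
    ∃ ψ : G → ℂ, ψ ∈ bV A p G ∧ ∀ s r u : G, r * u = s → Commute r u →
      r ∈ Subgroup.zpowers s → u ∈ Subgroup.zpowers s → ¬ p ∣ orderOf r →
      (∃ k : ℕ, orderOf u = p ^ k) →
      ((∀ y : G, y⁻¹ * r * y ≠ x) → ψ s = 0) ∧
      (∀ g : G, g⁻¹ * r * g = x → ∃ F : ℕ, ψ s = (F : ℂ) ∧ ¬ p ∣ F) := by
  have hp : p.Prime := hpf.out
  obtain ⟨Q, hQZ, hQp, hQi⟩ := exists_sylow_centralizer p x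
  obtain ⟨ψ, hψ, hval⟩ := psi_exists A p hp hA x hx Q hQZ hQp
  refine ⟨ψ, hψ, ?_⟩
  intro s r u hru hcomm hr hu hrp hup
  have hQne : (Nat.card Q : ℂ) ≠ 0 := by exact_mod_cast Nat.card_pos.ne'
  constructor
  · intro hnc
    have h0 := bcnt_zero p hp x hx Q hQZ hQp s r u hru hr hu hrp hup hnc
    have h1 := hval s
    rw [h0, Nat.cast_zero] at h1
    rcases mul_eq_zero.mp h1 with h2 | h2
    · exact h2
    · exact absurd h2 hQne
  · intro g hg
    obtain ⟨F, hF1, hF2⟩ := bcnt_conj p x hx Q hQZ hQp s r u hru hcomm hr hu hrp hup g hg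
    refine ⟨F, ?_, ?_⟩
    · have h1 := hval s
      rw [hF1] at h1
      push_cast at h1
      have h2 : ψ s * (Nat.card Q : ℂ) = (F : ℂ) * (Nat.card Q : ℂ) := by rw [h1]; ring
      exact mul_right_cancel₀ hQne h2
    · intro hdvd
      exact hQi ((Nat.ModEq.dvd_iff hF2 (dvd_refl p)).mp hdvd)

open Classical in
theorem exists_psi_nonvanishing (A : Subalgebra ℤ ℂ) (p : ℕ) [hpf : Fact p.Prime] {G : Type*}
    [Group G] [Fintype G] (hA : ∀ z : ℂ, z ^ Nat.card G = 1 → z ∈ A) :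
    ∃ ψ : G → ℂ, ψ ∈ bV A p G ∧ ∀ s : G, ∃ F : ℕ, ψ s = (F : ℂ) ∧ ¬ p ∣ F := by
  have hp : p.Prime := hpf.out
  have hdata : ∀ x : G, ∃ ψ : G → ℂ, ¬ p ∣ orderOf x → (ψ ∈ bV A p G ∧ ∀ s r u : G, r * u = s →
      Commute r u → r ∈ Subgroup.zpowers s → u ∈ Subgroup.zpowers s → ¬ p ∣ orderOf r →
      (∃ k : ℕ, orderOf u = p ^ k) →
      ((∀ y : G, y⁻¹ * r * y ≠ x) → ψ s = 0) ∧
      (∀ g : G, g⁻¹ * r * g = x → ∃ F : ℕ, ψ s = (F : ℂ) ∧ ¬ p ∣ F)) := by
    intro x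
    by_cases hx : ¬ p ∣ orderOf x
    · obtain ⟨ψ, h1, h2⟩ := psi_x_exists A p hA x hx
      exact ⟨ψ, fun _ => ⟨h1, h2⟩⟩
    · exact ⟨0, fun h => absurd h hx⟩
  choose Ψ hΨ using hdata
  obtain ⟨R, hR⟩ : ∃ R : Finset G, R = ((Finset.univ : Finset G).image
      (fun g => (ConjClasses.mk g).out)).filter (fun x => ¬ p ∣ orderOf x) := ⟨_, rfl⟩
  refine ⟨∑ x ∈ R, Ψ x, ?_, ?_⟩
  · apply Submodule.sum_mem
    intro x hx
    rw [hR] at hx
    exact (hΨ x (Finset.mem_filter.mp hx).2).1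
  · intro s
    obtain ⟨r, u, hru, hcomm, hrp, hup, hr, hu⟩ := pp_exists p hp s
    obtain ⟨x₀, hx₀⟩ : ∃ x₀ : G, x₀ = (ConjClasses.mk r).out := ⟨_, rfl⟩
    have hx₀mk : ConjClasses.mk x₀ = ConjClasses.mk r := by rw [hx₀]; exact Quotient.out_eq _
    have hconj : IsConj r x₀ := (ConjClasses.mk_eq_mk_iff_isConj.mp hx₀mk).symm
    obtain ⟨c, hc⟩ := isConj_iff.mp hconj
    have hg : (c⁻¹)⁻¹ * r * c⁻¹ = x₀ := by rw [inv_inv]; exact hc
    have hx₀reg : ¬ p ∣ orderOf x₀ := by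
      rw [← hg, orderOf_conj_eq]
      exact hrp
    have hx₀R : x₀ ∈ R := by
      rw [hR, Finset.mem_filter]
      exact ⟨Finset.mem_image.mpr ⟨r, Finset.mem_univ _, hx₀.symm⟩, hx₀reg⟩
    have hsum : (∑ x ∈ R, Ψ x) s = Ψ x₀ s := by
      rw [Finset.sum_apply]
      apply Finset.sum_eq_single x₀
      · intro x hxR hne
        rw [hR] at hxR
        have hxreg := (Finset.mem_filter.mp hxR).2
        obtain ⟨g', -, hcl⟩ := Finset.mem_image.mp (Finset.mem_filter.mp hxR).1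
        apply ((hΨ x hxreg).2 s r u hru hcomm hr hu hrp hup).1
        intro y hy
        apply hne
        have h1 : ConjClasses.mk x = ConjClasses.mk r := by
          rw [ConjClasses.mk_eq_mk_iff_isConj, isConj_iff]
          refine ⟨y, ?_⟩
          rw [← hy]
          group
        have h2 : ConjClasses.mk x = ConjClasses.mk g' := by rw [← hcl]; exact Quotient.out_eq _
        rw [← hcl, ← h2, h1, hx₀]
      · intro h
        exact absurd hx₀R h
    rw [hsum]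
    exact ((hΨ x₀ hx₀reg).2 s r u hru hcomm hr hu hrp hup).2 c⁻¹ hg

theorem local_one_mem (A : Subalgebra ℤ ℂ) (p : ℕ) [hpf : Fact p.Prime] {G : Type*}
    [Group G] [Fintype G] (hA : ∀ z : ℂ, z ^ Nat.card G = 1 → z ∈ A) :
    ∃ l : ℕ, ¬ p ∣ l ∧ (l : ℂ) • (1 : G → ℂ) ∈ bV A p G := by
  have hp : p.Prime := hpf.out
  obtain ⟨ψ, hψ, hF⟩ := exists_psi_nonvanishing A p hA
  choose F hF1 hF2 using hF
  set n := Nat.card G with hn
  have hn0 : n ≠ 0 := Nat.card_pos.ne'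
  set P := ordProj[p] n with hP
  set l := ordCompl[p] n with hl
  have hPl : P * l = n := Nat.ordProj_mul_ordCompl_eq_self n p
  have hPpos : 0 < P := Nat.ordProj_pos n p
  have hlp : ¬ p ∣ l := Nat.not_dvd_ordCompl hp hn0
  obtain ⟨N', hN'⟩ : ∃ N' : ℕ, Nat.totient P = N' + 1 :=
    Nat.exists_eq_succ_of_ne_zero (Nat.totient_pos.mpr hPpos).ne'
  have hk : ∀ s : G, ∃ k : ℕ, F s ^ (N' + 1) = 1 + P * k := by
    intro s
    have hcop : Nat.Coprime (F s) P := by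
      rw [hP]
      apply Nat.Coprime.pow_right
      exact ((Nat.Prime.coprime_iff_not_dvd hp).mpr (hF2 s)).symm
    have h1 := Nat.ModEq.pow_totient hcop
    rw [hN'] at h1
    have hpos : 1 ≤ F s ^ (N' + 1) := by
      apply Nat.one_le_pow
      rcases Nat.eq_zero_or_pos (F s) with h0 | h0
      · exfalso
        apply hF2 s
        rw [h0]
        exact dvd_zero p
      · exact h0
    have h2 : P ∣ F s ^ (N' + 1) - 1 := (Nat.modEq_iff_dvd' hpos).mp h1.symm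
    obtain ⟨k, hk⟩ := h2
    exact ⟨k, by omega⟩
  choose k hk using hk
  set f' : G → ℂ := fun s => (ψ s ^ (N' + 1) - 1) / (P : ℂ) with hf'
  have hPne : (P : ℂ) ≠ 0 := by exact_mod_cast hPpos.ne'
  have hf'val : ∀ s, f' s = (k s : ℂ) := by
    intro s
    simp only [hf']
    rw [hF1 s]
    have : ((F s : ℂ)) ^ (N' + 1) = 1 + (P : ℂ) * (k s : ℂ) := by exact_mod_cast hk s
    rw [this]
    field_simp
    ring
  have hψcl : Cfsg.IsClassFunction G ψ := bR_classFunction A (bV_le_bR A p G hψ)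
  have hcl : Cfsg.IsClassFunction G f' := by
    intro g h
    simp only [hf']
    rw [hψcl g h]
  have hval : ∀ g, f' g ∈ A := by
    intro g
    rw [hf'val]
    exact natCast_mem A (k g)
  have h1 := bV_cyclic A p hp hA f' hcl hval
  have h2 : ψ ^ (N' + 1) ∈ bV A p G := bV_pow A p hψ N'
  have h3 : (l : ℂ) • ψ ^ (N' + 1) ∈ bV A p G :=
    Submodule.smul_mem _ (⟨(l : ℂ), natCast_mem A l⟩ : A) h2
  refine ⟨l, hlp, ?_⟩
  have : (l : ℂ) • (1 : G → ℂ) = (l : ℂ) • ψ ^ (N' + 1) - (Nat.card G : ℂ) • f' := by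
    funext s
    simp only [Pi.smul_apply, Pi.one_apply, Pi.sub_apply, Pi.pow_apply, smul_eq_mul, hf']
    have hnc : (Nat.card G : ℂ) = (P : ℂ) * (l : ℂ) := by
      rw [← hn, ← hPl]
      push_cast
      ring
    rw [hnc]
    field_simp
    ring
  rw [this]
  exact Submodule.sub_mem _ h3 h1

end Cfsg.Agent.Lib.helper2
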