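import Mathlib
import Cfsg.Prelude.Def_Characters
import Cfsg.Agent.Lib.helper2.BrauerLocal2

set_option autoImplicit false
open scoped ComplexConjugate

namespace Cfsg.Agent.Lib.helper2

open Cfsg.Agent.Lib.helper7 Cfsg.Agent.Lib.Helper11 Cfsg.Agent.Lib.Helper25 Cfsg.Agent.Lib.Helper24

theorem classInner_zero_left {G : Type*} [Group G] [Fintype G] (h : G → ℂ) :
    Cfsg.classInner (0 : G → ℂ) h = 0 := by
  simp [Cfsg.classInner]

theorem descent (A : Subalgebra ℤ ℂ) (t : A →ₗ[ℤ] ℤ) (p : ℕ) {G : Type*}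
    [Group G] [Fintype G] [Fintype (Cfsg.IrrCharacter G)] (f : G → ℂ) (hf : f ∈ bV A p G) :
    ∃ a : Cfsg.IrrCharacter G → A, (∀ χ : Cfsg.IrrCharacter G, Cfsg.classInner f (χ : G → ℂ) = (a χ : ℂ)) ∧
      ∑ χ : Cfsg.IrrCharacter G, ((t (a χ) : ℤ) : ℂ) • (χ : G → ℂ) ∈
        Submodule.span ℤ (bgens p G) := by
  unfold bV at hf
  induction hf using Submodule.closure_induction with
  | zero =>
    refine ⟨fun _ => 0, fun χ => ?_, ?_⟩
    · rw [classInner_zero_left]; rfl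
    · simp
  | add x y _ _ ihx ihy =>
    obtain ⟨ax, hax1, hax2⟩ := ihx
    obtain ⟨ay, hay1, hay2⟩ := ihy
    refine ⟨fun χ => ax χ + ay χ, fun χ => ?_, ?_⟩
    · rw [classInner_add_left, hax1, hay1]
      rfl
    · have : ∑ χ : Cfsg.IrrCharacter G, ((t (ax χ + ay χ) : ℤ) : ℂ) • (χ : G → ℂ) =
          ∑ χ : Cfsg.IrrCharacter G, ((t (ax χ) : ℤ) : ℂ) • (χ : G → ℂ) +
          ∑ χ : Cfsg.IrrCharacter G, ((t (ay χ) : ℤ) : ℂ) • (χ : G → ℂ) := by
        rw [← Finset.sum_add_distrib]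
        apply Finset.sum_congr rfl
        intro χ _
        rw [map_add]
        push_cast
        rw [add_smul]
      rw [this]
      exact Submodule.add_mem _ hax2 hay2
  | smul_mem b g hg =>
    have hgchar := bgens_isCharacter hg
    obtain ⟨m, hm1, hm2⟩ := isCharacter_expansion hgchar
    refine ⟨fun χ => b * ((m χ : ℤ) : A), fun χ => ?_, ?_⟩
    · have : Cfsg.classInner (b • g) (χ : G → ℂ) = (b : ℂ) * Cfsg.classInner g (χ : G → ℂ) :=
        classInner_smul_left (b : ℂ) g _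
      rw [this, hm1]
      push_cast
      rfl
    · have h1 : ∀ χ : Cfsg.IrrCharacter G, t (b * ((m χ : ℤ) : A)) = (m χ : ℤ) * t b := by
        intro χ
        have : b * ((m χ : ℤ) : A) = (m χ : ℤ) • b := by
          rw [zsmul_eq_mul, mul_comm]
        rw [this, map_zsmul, smul_eq_mul]
      have h2 : ∑ χ : Cfsg.IrrCharacter G, ((t (b * ((m χ : ℤ) : A)) : ℤ) : ℂ) • (χ : G → ℂ) =
          ((t b : ℤ) : ℂ) • g := by
        conv_rhs => rw [hm2]
        rw [Finset.smul_sum]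
        apply Finset.sum_congr rfl
        intro χ _
        rw [h1, smul_smul]
        push_cast
        rw [mul_comm]
      rw [h2, Int.cast_smul_eq_zsmul]
      exact Submodule.smul_mem _ _ (Submodule.subset_span hg)

/-- A `ℤ`-linear retraction of the cyclotomic integers onto `ℤ`. -/
theorem exists_retraction (n : ℕ) (hn : 0 < n) :
    ∃ (A : Subalgebra ℤ ℂ) (t : A →ₗ[ℤ] ℤ), t 1 = 1 ∧ ∀ z : ℂ, z ^ n = 1 → z ∈ A := by
  set ω : ℂ := Complex.exp (2 * Real.pi * Complex.I / n) with hω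
  have hprim : IsPrimitiveRoot ω n := Complex.isPrimitiveRoot_exp n hn.ne'
  have hint : IsIntegral ℤ ω := hprim.isIntegral hn
  set pb := Algebra.adjoin.powerBasis' hint with hpb
  have hdim : 0 < pb.dim := by
    rw [hpb, Algebra.adjoin.powerBasis'_dim]
    exact minpoly.natDegree_pos hint
  refine ⟨Algebra.adjoin ℤ {ω}, pb.basis.coord ⟨0, hdim⟩, ?_, ?_⟩
  · have h1 : (1 : Algebra.adjoin ℤ ({ω} : Set ℂ)) = pb.basis ⟨0, hdim⟩ := by
      rw [PowerBasis.coe_basis]
      simp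
    rw [h1, Module.Basis.coord_apply, Module.Basis.repr_self, Finsupp.single_eq_same]
  · intro z hz
    haveI : NeZero n := ⟨hn.ne'⟩
    obtain ⟨k, -, rfl⟩ := hprim.eq_pow_of_pow_eq_one hz
    exact Subalgebra.pow_mem _ (Algebra.subset_adjoin (Set.mem_singleton ω)) k

theorem local_one_int (p : ℕ) [hpf : Fact p.Prime] {G : Type*} [Group G] [Fintype G] :
    ∃ l : ℕ, ¬ p ∣ l ∧ (l : ℂ) • (1 : G → ℂ) ∈ Submodule.span ℤ (bgens p G) := by
  classical
  haveI : Fintype (Cfsg.IrrCharacter G) := Fintype.ofFinite _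
  obtain ⟨A, t, ht, hA⟩ := exists_retraction (Nat.card G) Nat.card_pos
  obtain ⟨l, hl, hmem⟩ := local_one_mem A p hA
  refine ⟨l, hl, ?_⟩
  obtain ⟨a, ha1, ha2⟩ := descent A t p _ hmem
  have hone : (1 : G → ℂ) = (trivIrr G : G → ℂ) := by
    funext g
    rfl
  have hval : ∀ χ : Cfsg.IrrCharacter G, a χ = ((if trivIrr G = χ then l else 0 : ℕ) : A) := by
    intro χ
    apply Subtype.ext
    rw [← ha1 χ, classInner_smul_left, hone, irr_classInner]
    split_ifs <;> simp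
  have htn : ∀ k : ℕ, t ((k : ℕ) : A) = (k : ℤ) := by
    intro k
    have : ((k : ℕ) : A) = (k : ℤ) • (1 : A) := by simp
    rw [this, map_zsmul, ht, smul_eq_mul, mul_one]
  have hsum : ∑ χ : Cfsg.IrrCharacter G, ((t (a χ) : ℤ) : ℂ) • (χ : G → ℂ) =
      (l : ℂ) • (1 : G → ℂ) := by
    rw [hone]
    have : ∀ χ : Cfsg.IrrCharacter G, ((t (a χ) : ℤ) : ℂ) • (χ : G → ℂ) =
        if trivIrr G = χ then (l : ℂ) • (χ : G → ℂ) else 0 := by
      intro χ
      rw [hval χ, htn]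
      split_ifs <;> simp
    simp only [this]
    rw [Finset.sum_ite_eq]
    simp
  rw [← hsum]
  exact ha2

end Cfsg.Agent.Lib.helper2
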