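import Mathlib
import Cfsg.Prelude.Def_Characters

set_option autoImplicit false

namespace Cfsg.Agent.Lib.helper2

theorem zpowers_normal_of_center {E : Type*} [Group E] (x : E) (hx : x ∈ Subgroup.center E) :
    (Subgroup.zpowers x).Normal := by
  constructor
  intro n hn g
  have hnc : n ∈ Subgroup.center E := by
    obtain ⟨i, rfl⟩ := Subgroup.mem_zpowers_iff.mp hn
    exact Subgroup.zpow_mem _ hx i
  have : g * n * g⁻¹ = n := by
    rw [Subgroup.mem_center_iff.mp hnc g, mul_inv_cancel_right]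
  rw [this]
  exact hn

theorem isNilpotent_of_isElementary {E : Type*} [Group E] [Finite E] (p : ℕ) (hp : p.Prime)
    (h : Cfsg.IsElementary p E) : Group.IsNilpotent E := by
  obtain ⟨x, hxc, -, k, hk⟩ := h
  haveI : Fact p.Prime := ⟨hp⟩
  haveI hnorm := zpowers_normal_of_center x hxc
  have hpq : IsPGroup p (E ⧸ Subgroup.zpowers x) := by
    apply IsPGroup.of_card (n := k)
    rw [← Subgroup.index_eq_card, hk]
  haveI : Group.IsNilpotent (E ⧸ Subgroup.zpowers x) := hpq.isNilpotent
  apply Subgroup.isNilpotent_of_ker_le_center (QuotientGroup.mk' (Subgroup.zpowers x))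
  rw [QuotientGroup.ker_mk']
  exact Subgroup.zpowers_le.mpr hxc

theorem isElementary_subgroup {E : Type*} [Group E] [Finite E] (p : ℕ) (hp : p.Prime)
    (h : Cfsg.IsElementary p E) (E' : Subgroup E) : Cfsg.IsElementary p E' := by
  obtain ⟨x, hxc, hxo, k, hk⟩ := h
  haveI hnorm := zpowers_normal_of_center x hxc
  have hle : Subgroup.zpowers x ⊓ E' ≤ Subgroup.zpowers x := inf_le_left
  obtain ⟨n, hn⟩ := (Subgroup.le_zpowers_iff x _).mp hle
  have hxn : x ^ n ∈ E' := by
    have : x ^ n ∈ Subgroup.zpowers x ⊓ E' := by rw [hn]; exact Subgroup.mem_zpowers _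
    exact this.2
  refine ⟨⟨x ^ n, hxn⟩, ?_, ?_, ?_⟩
  · rw [Subgroup.mem_center_iff]
    intro w
    apply Subtype.ext
    have := Subgroup.mem_center_iff.mp (Subgroup.pow_mem _ hxc n) (w : E)
    exact this
  · rw [Subgroup.orderOf_mk]
    exact Nat.Coprime.coprime_dvd_left (orderOf_pow_dvd n) hxo
  · have heq : Subgroup.zpowers (⟨x ^ n, hxn⟩ : E') = (Subgroup.zpowers x).subgroupOf E' := by
      ext w
      rw [Subgroup.mem_subgroupOf]
      constructor
      · intro hw
        obtain ⟨i, rfl⟩ := Subgroup.mem_zpowers_iff.mp hw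
        rw [Subgroup.coe_zpow]
        exact Subgroup.zpow_mem _ (Subgroup.pow_mem _ (Subgroup.mem_zpowers x) n) i
      · intro hw
        have : (w : E) ∈ Subgroup.zpowers x ⊓ E' := ⟨hw, w.2⟩
        rw [hn] at this
        obtain ⟨i, hi⟩ := Subgroup.mem_zpowers_iff.mp this
        rw [Subgroup.mem_zpowers_iff]
        refine ⟨i, ?_⟩
        apply Subtype.ext
        rw [Subgroup.coe_zpow]
        exact hi
    rw [heq]
    have hdvd : (Subgroup.zpowers x).relIndex E' ∣ (Subgroup.zpowers x).index :=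
      Subgroup.relIndex_dvd_index_of_normal _ _
    rw [hk] at hdvd
    obtain ⟨j, -, hj⟩ := (Nat.dvd_prime_pow hp).mp hdvd
    exact ⟨j, hj⟩

theorem isElementary_of_mulEquiv {E E' : Type*} [Group E] [Group E'] (p : ℕ) (e : E ≃* E')
    (h : Cfsg.IsElementary p E) : Cfsg.IsElementary p E' := by
  obtain ⟨x, hxc, hxo, k, hk⟩ := h
  refine ⟨e x, ?_, ?_, k, ?_⟩
  · rw [Subgroup.mem_center_iff]
    intro w
    obtain ⟨w', rfl⟩ := e.surjective w
    rw [← map_mul, ← map_mul, Subgroup.mem_center_iff.mp hxc w']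
  · rw [MulEquiv.orderOf_eq]
    exact hxo
  · have : Subgroup.zpowers (e x) = (Subgroup.zpowers x).map (e : E →* E') := by
      rw [MonoidHom.map_zpowers]
      rfl
    rw [this, Subgroup.index_map_equiv, hk]

end Cfsg.Agent.Lib.helper2
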