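import Mathlib
import Cfsg.Prelude.Def_Characters
import Cfsg.Agent.Lib.helper7.Induction
import Cfsg.Agent.S0147

set_option autoImplicit false
set_option linter.unusedVariables false

namespace Cfsg.Agent.Lib.helper2

open Cfsg.Agent.Lib.helper7

/-- Induction from the whole group does nothing to a class function. -/
theorem indFun_top {G : Type*} [Group G] [Fintype G] (θ : G → ℂ) (hθ : Cfsg.IsClassFunction G θ) :
    Cfsg.indFun (⊤ : Subgroup G) (fun h => θ (h : G)) = θ := by
  funext g
  unfold Cfsg.indFun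
  have h1 : ∀ x : G, Cfsg.extendByZero (⊤ : Subgroup G) (fun h => θ (h : G)) (x⁻¹ * g * x) = θ g := by
    intro x
    rw [h7_extendByZero_mem _ _ _ (Subgroup.mem_top _)]
    have := hθ g x⁻¹
    simpa using this
  simp_rw [h1]
  rw [Finset.sum_const, Finset.card_univ, nsmul_eq_mul, ← mul_assoc, Nat.card_congr Subgroup.topEquiv.toEquiv,
    Nat.card_eq_fintype_card, inv_mul_cancel₀, one_mul]
  exact_mod_cast Fintype.card_ne_zero

/-- `indFun` only depends on the subgroup and the function up to the obvious identification. -/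
theorem indFun_congr {G : Type*} [Group G] [Fintype G] (S S' : Subgroup G) (h : S = S') (f : S → ℂ)
    (f' : S' → ℂ) (hf : ∀ (x : G) (hx : x ∈ S) (hx' : x ∈ S'), f ⟨x, hx⟩ = f' ⟨x, hx'⟩) :
    Cfsg.indFun S f = Cfsg.indFun S' f' := by
  subst h
  congr 1
  funext ⟨x, hx⟩
  exact hf x hx hx

/-- Transitivity of induction, for a subgroup of a subgroup. -/
theorem indFun_trans {G : Type*} [Group G] [Fintype G] (K : Subgroup G) [Fintype K] (S : Subgroup K)
    (μ : S → ℂ) :
    Cfsg.indFun K (Cfsg.indFun S μ) =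
      Cfsg.indFun (S.map K.subtype) (fun h => μ ((S.equivMapOfInjective K.subtype K.subtype_injective).symm h)) := by
  set H := S.map K.subtype with hH
  have hHK : H ≤ K := Subgroup.map_subtype_le S
  set θ : H → ℂ := fun h => μ ((S.equivMapOfInjective K.subtype K.subtype_injective).symm h) with hθ
  rw [← Cfsg.Agent.S0147.result H K hHK θ]
  congr 1
  have hS : S = H.subgroupOf K := by
    rw [hH]
    ext x
    rw [Subgroup.mem_subgroupOf, Subgroup.mem_map]
    constructor
    · intro hx
      exact ⟨x, hx, rfl⟩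
    · rintro ⟨y, hy, hyx⟩
      have : y = x := Subtype.ext hyx
      rw [← this]; exact hy
  apply indFun_congr S (H.subgroupOf K) hS
  intro x hx hx'
  simp only [hθ]
  congr 1
  apply (S.equivMapOfInjective K.subtype K.subtype_injective).injective
  rw [MulEquiv.apply_symm_apply]
  apply Subtype.ext
  rfl

/-- Induction commutes with inflation along a quotient map. -/
theorem indFun_inflation {G : Type*} [Group G] [Fintype G] (K : Subgroup G) [K.Normal]
    [Fintype (G ⧸ K)] (Hbar : Subgroup (G ⧸ K)) (f : Hbar → ℂ) (g : G) :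
    Cfsg.indFun (Hbar.comap (QuotientGroup.mk' K))
        (fun h => f ⟨QuotientGroup.mk' K (h : G), h.2⟩) g =
      Cfsg.indFun Hbar f (QuotientGroup.mk' K g) := by
  classical
  unfold Cfsg.indFun
  have hext : ∀ y : G, Cfsg.extendByZero (Hbar.comap (QuotientGroup.mk' K))
        (fun h => f ⟨QuotientGroup.mk' K (h : G), h.2⟩) y =
      Cfsg.extendByZero Hbar f (QuotientGroup.mk' K y) := by
    intro y
    by_cases hy : QuotientGroup.mk' K y ∈ Hbar
    · rw [h7_extendByZero_mem Hbar f _ hy, h7_extendByZero_mem _ _ y (Subgroup.mem_comap.mpr hy)]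
    · rw [h7_extendByZero_not_mem Hbar f _ hy, h7_extendByZero_not_mem _ _ y (fun h => hy (Subgroup.mem_comap.mp h))]
  simp_rw [hext]
  -- fiber sums
  have hfib : ∀ q : G ⧸ K, (Finset.univ.filter (fun x : G => QuotientGroup.mk' K x = q)).card = Nat.card K := by
    intro q
    have e := QuotientGroup.preimageMkEquivSubgroupProdSet K ({q} : Set (G ⧸ K))
    have h1 : Nat.card (QuotientGroup.mk ⁻¹' ({q} : Set (G ⧸ K))) = Nat.card K := by
      rw [Nat.card_congr e, Nat.card_prod]
      simp
    rw [← h1, Nat.card_eq_fintype_card, ← Fintype.card_subtype]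
    apply Fintype.card_congr
    exact Equiv.subtypeEquivRight (fun x => by simp)
  have hcardH : Nat.card (Hbar.comap (QuotientGroup.mk' K)) = Nat.card K * Nat.card Hbar := by
    have e := QuotientGroup.preimageMkEquivSubgroupProdSet K (Hbar : Set (G ⧸ K))
    have h1 : Nat.card (QuotientGroup.mk ⁻¹' (Hbar : Set (G ⧸ K))) = Nat.card K * Nat.card Hbar := by
      rw [Nat.card_congr e, Nat.card_prod]
      rfl
    rw [← h1]
    rfl
  have hsum : ∑ x : G, Cfsg.extendByZero Hbar f (QuotientGroup.mk' K (x⁻¹ * g * x)) =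
      (Nat.card K : ℂ) * ∑ q : G ⧸ K, Cfsg.extendByZero Hbar f (q⁻¹ * QuotientGroup.mk' K g * q) := by
    rw [← Finset.sum_fiberwise (s := Finset.univ) (g := fun x : G => QuotientGroup.mk' K x), Finset.mul_sum]
    refine Finset.sum_congr rfl fun q _ => ?_
    have : ∀ x ∈ Finset.univ.filter (fun x : G => QuotientGroup.mk' K x = q),
        Cfsg.extendByZero Hbar f (QuotientGroup.mk' K (x⁻¹ * g * x)) =
          Cfsg.extendByZero Hbar f (q⁻¹ * QuotientGroup.mk' K g * q) := by
      intro x hx
      have hxq : QuotientGroup.mk' K x = q := (Finset.mem_filter.mp hx).2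
      rw [map_mul, map_mul, map_inv, hxq]
    rw [Finset.sum_congr rfl this, Finset.sum_const, hfib, nsmul_eq_mul]
  rw [hsum, hcardH]
  have hKne : (Nat.card K : ℂ) ≠ 0 := by exact_mod_cast (Nat.card_pos (α := K)).ne'
  push_cast
  field_simp

end Cfsg.Agent.Lib.helper2
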