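import Mathlib
import Cfsg.Prelude.Def_Characters
import Cfsg.Agent.Lib.helper2.IndTools
import Cfsg.Agent.Lib.helper2.Ito
import Cfsg.Agent.Lib.Helper1.Nilp
import Cfsg.Agent.Lib.Helper25.CharQuot

set_option autoImplicit false
set_option linter.unusedVariables false

namespace Cfsg.Agent.Lib.helper2

open scoped ComplexConjugate
open Cfsg.Agent.Lib.Helper25 Cfsg.Agent.Lib.helper7 Cfsg.Agent.Lib.Helper11

/-- A nilpotent non-abelian group has a normal abelian subgroup not contained in the center. -/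
theorem exists_normal_abelian_noncentral {G : Type*} [Group G] [Group.IsNilpotent G]
    (hnc : ¬ ∀ a b : G, a * b = b * a) :
    ∃ A : Subgroup G, A.Normal ∧ (∀ a ∈ A, ∀ b ∈ A, a * b = b * a) ∧ ¬ A ≤ Subgroup.center G := by
  set Z := Subgroup.center G with hZ
  -- the quotient is nontrivial
  have hne : (⊤ : Subgroup (G ⧸ Z)) ≠ ⊥ := by
    intro h
    apply hnc
    intro a b
    have ha : (a : G ⧸ Z) ∈ (⊤ : Subgroup (G ⧸ Z)) := Subgroup.mem_top _
    rw [h, Subgroup.mem_bot, QuotientGroup.eq_one_iff] at ha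
    exact (Subgroup.mem_center_iff.mp ha b).symm
  have hmeet := Cfsg.Agent.Lib.Helper1.normal_inf_center_ne_bot (⊤ : Subgroup (G ⧸ Z)) hne
  rw [top_inf_eq] at hmeet
  obtain ⟨xbar, hxbar1⟩ := (Subgroup.ne_bot_iff_exists_ne_one).mp hmeet
  have hxc : (xbar : G ⧸ Z) ∈ Subgroup.center (G ⧸ Z) := xbar.2
  have hx1 : (xbar : G ⧸ Z) ≠ 1 := fun h => hxbar1 (Subtype.ext h)
  obtain ⟨x, hx⟩ := QuotientGroup.mk_surjective (xbar : G ⧸ Z)
  have hNz : (Subgroup.zpowers (xbar : G ⧸ Z)).Normal := by
    constructor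
    rintro _ ⟨k, rfl⟩ g
    have hc : ((xbar : G ⧸ Z) ^ k) ∈ Subgroup.center (G ⧸ Z) := Subgroup.zpow_mem _ hxc k
    have := Subgroup.mem_center_iff.mp hc g
    rw [this, mul_inv_cancel_right]
    exact ⟨k, rfl⟩
  refine ⟨(Subgroup.zpowers (xbar : G ⧸ Z)).comap (QuotientGroup.mk' Z), ?_, ?_, ?_⟩
  · exact Subgroup.Normal.comap hNz _
  · intro a ha b hb
    rw [Subgroup.mem_comap] at ha hb
    obtain ⟨i, hi⟩ := ha
    obtain ⟨j, hj⟩ := hb
    have ha' : x ^ (-i) * a ∈ Z := by
      rw [← QuotientGroup.eq_one_iff, QuotientGroup.mk_mul, QuotientGroup.mk_zpow, hx]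
      have : (QuotientGroup.mk' Z) a = (a : G ⧸ Z) := rfl
      rw [← this, ← hi]
      simp only
      rw [← zpow_add]; simp
    have hb' : x ^ (-j) * b ∈ Z := by
      rw [← QuotientGroup.eq_one_iff, QuotientGroup.mk_mul, QuotientGroup.mk_zpow, hx]
      have : (QuotientGroup.mk' Z) b = (b : G ⧸ Z) := rfl
      rw [← this, ← hj]
      simp only
      rw [← zpow_add]; simp
    set z₁ := x ^ (-i) * a with hz₁
    set z₂ := x ^ (-j) * b with hz₂
    have ea : a = x ^ i * z₁ := by rw [hz₁, ← mul_assoc, ← zpow_add]; simp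
    have eb : b = x ^ j * z₂ := by rw [hz₂, ← mul_assoc, ← zpow_add]; simp
    have c1 := Subgroup.mem_center_iff.mp ha'
    have c2 := Subgroup.mem_center_iff.mp hb'
    rw [ea, eb]
    calc x ^ i * z₁ * (x ^ j * z₂) = x ^ i * (z₁ * x ^ j) * z₂ := by group
      _ = x ^ i * (x ^ j * z₁) * z₂ := by rw [c1 (x ^ j)]
      _ = x ^ (i + j) * (z₁ * z₂) := by rw [zpow_add]; group
      _ = x ^ (j + i) * (z₂ * z₁) := by rw [add_comm, c1 z₂]
      _ = x ^ j * (x ^ i * z₂) * z₁ := by rw [zpow_add]; group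
      _ = x ^ j * (z₂ * x ^ i) * z₁ := by rw [c2 (x ^ i)]
      _ = x ^ j * z₂ * (x ^ i * z₁) := by group
  · intro hle
    have hxA : x ∈ (Subgroup.zpowers (xbar : G ⧸ Z)).comap (QuotientGroup.mk' Z) := by
      rw [Subgroup.mem_comap]
      exact ⟨1, by simp [hx]⟩
    have := hle hxA
    apply hx1
    rw [← hx]
    exact (QuotientGroup.eq_one_iff x).mpr this

/-- If a linear constituent `ϑ` of `χ_A` (`A` normal) is `G`-invariant, `A` acts by scalars. -/
theorem scalar_of_invariant_linear {G : Type*} [Group G] [Fintype G] {n : ℕ}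
    (ρ : Representation ℂ G (Fin n → ℂ)) [ρ.IsIrreducible] (A : Subgroup G) [hAn : A.Normal]
    [Fintype A] (ϑ : Cfsg.IrrCharacter A) (hϑ1 : (ϑ : A → ℂ) 1 = 1)
    (hcon : Cfsg.classInner (fun a : A => ρ.character a) (ϑ : A → ℂ) ≠ 0)
    (hinv : ∀ g : G, cj A (ϑ : A → ℂ) g = ϑ) (a : G) (ha : a ∈ A) :
    ∃ c : ℂ, ρ a = c • (LinearMap.id : (Fin n → ℂ) →ₗ[ℂ] (Fin n → ℂ)) := by
  have hχ : Cfsg.IsIrrCharacter G ρ.character := isIrrCharacter_of_irreducible ρ
  obtain ⟨e, he, _, hres2⟩ := h7_clifford_invariant A ρ.character hχ ϑ ϑ.2 hcon hinv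
  have he1 : ρ.character 1 = (e : ℂ) := by
    have := congrFun hres2 1
    simp only [Pi.smul_apply, smul_eq_mul, hϑ1, mul_one] at this
    exact this
  rw [← Cfsg.Agent.S0138.result ρ a]
  have h1 : ρ.character a = (e : ℂ) * (ϑ : A → ℂ) ⟨a, ha⟩ := by
    have := congrFun hres2 ⟨a, ha⟩
    simpa using this
  have h2 : ‖(ϑ : A → ℂ) ⟨a, ha⟩‖ = 1 := by
    have hu : (irrLinearHom ϑ hϑ1 ⟨a, ha⟩) ^ orderOf (⟨a, ha⟩ : A) = 1 := by
      rw [← map_pow, pow_orderOf_eq_one, map_one]
    have hu' : ((ϑ : A → ℂ) ⟨a, ha⟩) ^ orderOf (⟨a, ha⟩ : A) = 1 := by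
      rw [← irrLinearHom_apply ϑ hϑ1, ← Units.val_pow_eq_pow_val, hu, Units.val_one]
    exact Complex.norm_eq_one_of_pow_eq_one hu' (orderOf_pos _).ne'
  rw [h1, norm_mul, h2, mul_one, Complex.norm_natCast]
  have : (e : ℂ) = (Module.finrank ℂ (Fin n → ℂ) : ℂ) := by
    rw [← he1, Representation.char_one]
  exact_mod_cast this

/-- Every irreducible character of a finite nilpotent group is monomial. -/
theorem nilp_monomial_aux (N : ℕ) : ∀ {G : Type*} [Group G] [Fintype G] [Group.IsNilpotent G],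
    Fintype.card G ≤ N → ∀ (χ : G → ℂ), Cfsg.IsIrrCharacter G χ →
    ∃ (H : Subgroup G) (lam : H →* ℂˣ), χ = Cfsg.indFun H (fun h => (lam h : ℂ)) := by
  induction N with
  | zero =>
    intro G _ _ _ hcard
    exact absurd hcard (by have := Fintype.card_pos (α := G); omega)
  | succ N ih =>
    intro G _ _ _ hcard χ hχ
    classical
    by_cases hlin : χ 1 = 1
    · -- linear character
      refine ⟨⊤, (irrLinearHom ⟨χ, hχ⟩ hlin).comp (⊤ : Subgroup G).subtype, ?_⟩
      have hcl := isCharacter_isClassFunction (isCharacter_of_irr ⟨χ, hχ⟩)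
      exact (indFun_top χ hcl).symm
    obtain ⟨n, ρ, hρ, hρχ⟩ := hχ
    haveI := hρ
    by_cases hker : ρ.ker = ⊥
    · -- faithful case
      have hinj : Function.Injective ρ := (MonoidHom.ker_eq_bot_iff ρ).mp hker
      have hχ' : Cfsg.IsIrrCharacter G χ := ⟨n, ρ, hρ, hρχ⟩
      have hnc : ¬ ∀ a b : G, a * b = b * a := by
        intro hab
        apply hlin
        letI : CommGroup G := { (inferInstance : Group G) with mul_comm := hab }
        exact irr_one_of_comm (G := G) ⟨χ, hχ'⟩
      obtain ⟨A, hAn, hAab, hAnc⟩ := exists_normal_abelian_noncentral hnc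
      haveI := hAn
      have : Fintype A := Fintype.ofFinite A
      have hχc : Cfsg.IsCharacter G χ := isCharacter_of_irr ⟨χ, hχ'⟩
      have hres : Cfsg.IsCharacter A (fun a : A => χ a) := isCharacter_restrict hχc A
      have hχ1 : χ 1 ≠ 0 := irr_one_ne_zero ⟨χ, hχ'⟩
      obtain ⟨ϑ, m, hm, hϑm⟩ := isCharacter_exists_constituent hres (by simpa using hχ1)
      have hcon : Cfsg.classInner (fun a : A => χ a) (ϑ : A → ℂ) ≠ 0 := by
        rw [hϑm]; exact_mod_cast hm.ne'
      have hϑ1 : (ϑ : A → ℂ) 1 = 1 := by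
        letI : CommGroup A := { (inferInstance : Group A) with
          mul_comm := fun a b => Subtype.ext (hAab a a.2 b b.2) }
        exact irr_one_of_comm (G := A) ϑ
      set T := inertia A (ϑ : A → ℂ) with hT
      have hAT : A ≤ T := le_inertia A _ (isCharacter_isClassFunction (isCharacter_of_irr ϑ))
      have : Fintype T := Fintype.ofFinite T
      have hTtop : T ≠ ⊤ := by
        intro htop
        apply hAnc
        intro a ha
        have hinv : ∀ g : G, cj A (ϑ : A → ℂ) g = ϑ := by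
          intro g
          have : g ∈ T := htop ▸ Subgroup.mem_top g
          exact this
        have hcon' : Cfsg.classInner (fun a : A => ρ.character a) (ϑ : A → ℂ) ≠ 0 := by
          rw [hρχ]; exact hcon
        obtain ⟨c, hc⟩ := scalar_of_invariant_linear ρ A ϑ hϑ1 hcon' hinv a ha
        rw [Subgroup.mem_center_iff]
        intro g
        apply hinj
        rw [map_mul, map_mul, hc]
        ext w
        simp
      have hTmem : ∀ g : G, g ∈ T ↔ ∀ a : A, (ϑ : A → ℂ) ⟨g * a * g⁻¹, hAn.conj_mem (a : G) a.2 g⟩ = (ϑ : A → ℂ) a :=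
        fun g => mem_inertia A _ g
      obtain ⟨ψ, hψ, hψind, _⟩ := Cfsg.Agent.S0854.result A (ϑ : A → ℂ) ϑ.2 T hTmem hAT χ hχ' hcon
      have hcardT : Fintype.card T ≤ N := by
        have hlt : Fintype.card T < Fintype.card G := by
          rw [← Nat.card_eq_fintype_card, ← Nat.card_eq_fintype_card]
          have hidx : T.index ≠ 1 := fun h => hTtop (Subgroup.index_eq_one.mp h)
          have hmul := Subgroup.card_mul_index T
          have hpos : 0 < T.index := Nat.pos_of_ne_zero Subgroup.index_ne_zero_of_finite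
          have hTpos : 0 < Nat.card T := Nat.card_pos
          have h2 : 2 ≤ T.index := by omega
          calc Nat.card T < Nat.card T * 2 := by omega
            _ ≤ Nat.card T * T.index := Nat.mul_le_mul_left _ h2
            _ = Nat.card G := hmul
        omega
      obtain ⟨S, μ, hμ⟩ := ih hcardT ψ hψ
      refine ⟨S.map T.subtype,
        μ.comp (S.equivMapOfInjective T.subtype T.subtype_injective).symm.toMonoidHom, ?_⟩
      rw [← hψind, hμ, indFun_trans T S (fun s => (μ s : ℂ))]
      rfl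
    · -- non-faithful: pass to the quotient
      set K := ρ.ker with hK
      haveI hKn : K.Normal := MonoidHom.normal_ker ρ
      have : Fintype (G ⧸ K) := Fintype.ofFinite _
      set σ : Representation ℂ (G ⧸ K) (Fin n → ℂ) := QuotientGroup.lift K ρ le_rfl with hσ
      have hσirr : σ.IsIrreducible := quotient_irreducible ρ K le_rfl
      have hσχ : ∀ g : G, σ.character (QuotientGroup.mk' K g) = χ g := by
        intro g
        rw [← hρχ]
        rfl
      have hcardQ : Fintype.card (G ⧸ K) ≤ N := by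
        have hlt : Fintype.card (G ⧸ K) < Fintype.card G := by
          rw [← Nat.card_eq_fintype_card, ← Nat.card_eq_fintype_card]
          have hmul := Subgroup.card_mul_index K
          have hK2 : 2 ≤ Nat.card K := by
            have hnt : Nontrivial K := (Subgroup.nontrivial_iff_ne_bot K).mpr hker
            exact Finite.one_lt_card
          have hidx : K.index = Nat.card (G ⧸ K) := rfl
          have hpos : 0 < K.index := Nat.pos_of_ne_zero Subgroup.index_ne_zero_of_finite
          rw [← hidx]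
          calc K.index < 2 * K.index := by omega
            _ ≤ Nat.card K * K.index := Nat.mul_le_mul_right _ hK2
            _ = Nat.card G := hmul
        omega
      obtain ⟨Hbar, lbar, hbar⟩ := ih hcardQ σ.character ⟨n, σ, hσirr, rfl⟩
      refine ⟨Hbar.comap (QuotientGroup.mk' K), lbar.comp ((QuotientGroup.mk' K).subgroupComap Hbar), ?_⟩
      funext g
      rw [← hσχ g, hbar, ← indFun_inflation K Hbar (fun h => (lbar h : ℂ)) g]
      rfl

end Cfsg.Agent.Lib.helper2
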