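import Mathlib
import Cfsg.Prelude.Def_Characters
import Cfsg.Agent.Lib.helper2.BrauerDescent
import Cfsg.Agent.Lib.helper2.Elementary
import Cfsg.Agent.Lib.helper2.NilpMonomial

set_option autoImplicit false
open scoped ComplexConjugate

namespace Cfsg.Agent.Lib.helper2

open Cfsg.Agent.Lib.helper7 Cfsg.Agent.Lib.Helper11 Cfsg.Agent.Lib.Helper25 Cfsg.Agent.Lib.Helper24

/-- Characters induced from linear characters of elementary subgroups. -/
def gens2 (G : Type*) [Group G] [Fintype G] : Set (G → ℂ) :=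
  {f | ∃ (E : Subgroup G) (lam : E →* ℂˣ) (p : ℕ), p.Prime ∧ Cfsg.IsElementary p E ∧
    f = Cfsg.indFun E (fun e => (lam e : ℂ))}

/-- Characters induced from characters of elementary subgroups, for all primes. -/
def gensAll (G : Type*) [Group G] [Fintype G] : Set (G → ℂ) :=
  {f | ∃ p : ℕ, p.Prime ∧ f ∈ bgens p G}

theorem bgens_le_span_gens2 (p : ℕ) (hp : p.Prime) {G : Type*} [Group G] [Fintype G] :
    bgens p G ⊆ Submodule.span ℤ (gens2 G) := by
  classical
  rintro f ⟨E, φ, hE, hφ, rfl⟩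
  haveI : Fintype E := Fintype.ofFinite E
  haveI : Fintype (Cfsg.IrrCharacter E) := Fintype.ofFinite _
  haveI : Group.IsNilpotent E := isNilpotent_of_isElementary p hp hE
  obtain ⟨m, -, hexp⟩ := isCharacter_expansion hφ
  rw [hexp, indFun_sum]
  apply Submodule.sum_mem
  intro ψ _
  rw [indFun_smul, Nat.cast_smul_eq_nsmul]
  apply Submodule.smul_of_tower_mem
  apply Submodule.subset_span
  obtain ⟨S, lam, hψ⟩ := nilp_monomial_aux (Fintype.card E) le_rfl (ψ : E → ℂ) ψ.2
  rw [hψ, indFun_trans]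
  refine ⟨S.map E.subtype,
    lam.comp (S.equivMapOfInjective E.subtype E.subtype_injective).symm.toMonoidHom, p, hp, ?_, rfl⟩
  exact isElementary_of_mulEquiv p (S.equivMapOfInjective E.subtype E.subtype_injective)
    (isElementary_subgroup p hp hE S)

theorem span_gensAll_mul_char {G : Type*} [Group G] [Fintype G] {f χ : G → ℂ}
    (hf : f ∈ Submodule.span ℤ (gensAll G)) (hχ : Cfsg.IsCharacter G χ) :
    f * χ ∈ Submodule.span ℤ (gensAll G) := by
  induction hf using Submodule.span_induction with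
  | mem f hf =>
    obtain ⟨p, hp, E, φ, hE, hφ, rfl⟩ := hf
    apply Submodule.subset_span
    refine ⟨p, hp, E, φ * fun e : E => χ e, hE, h7_isCharacter_mul hφ (isCharacter_restrict hχ E), ?_⟩
    exact (h7_indFun_mul_restrict E φ χ (isCharacter_isClassFunction hχ)).symm
  | zero => rw [zero_mul]; exact Submodule.zero_mem _
  | add f g _ _ ihf ihg => rw [add_mul]; exact Submodule.add_mem _ ihf ihg
  | smul a f _ ih => rw [smul_mul_assoc]; exact Submodule.smul_mem _ a ih

theorem one_mem_span_gensAll {G : Type*} [Group G] [Fintype G] :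
    (1 : G → ℂ) ∈ Submodule.span ℤ (gensAll G) := by
  set V := Submodule.span ℤ (gensAll G) with hV
  let I : Ideal ℤ :=
    { carrier := {m : ℤ | (m : ℂ) • (1 : G → ℂ) ∈ V}
      add_mem' := by
        intro a b ha hb
        simp only [Set.mem_ofPred_eq] at ha hb ⊢
        have : ((a + b : ℤ) : ℂ) • (1 : G → ℂ) = (a : ℂ) • (1 : G → ℂ) + (b : ℂ) • (1 : G → ℂ) := by
          push_cast
          rw [add_smul]
        rw [this]
        exact Submodule.add_mem _ ha hb
      zero_mem' := by
        simp only [Set.mem_ofPred_eq, Int.cast_zero, zero_smul]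
        exact Submodule.zero_mem _
      smul_mem' := by
        intro c m hm
        simp only [Set.mem_ofPred_eq] at hm ⊢
        have : ((c • m : ℤ) : ℂ) • (1 : G → ℂ) = c • ((m : ℂ) • (1 : G → ℂ)) := by
          rw [smul_eq_mul, ← Int.cast_smul_eq_zsmul ℂ c, smul_smul]
          push_cast
          rfl
        rw [this]
        exact Submodule.smul_mem _ c hm }
  have hI : ∀ m : ℤ, m ∈ I ↔ (m : ℂ) • (1 : G → ℂ) ∈ V := fun m => Iff.rfl
  have hl : ∀ p : ℕ, p.Prime → ∃ l : ℕ, ¬ p ∣ l ∧ (l : ℤ) ∈ I := by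
    intro p hp
    haveI : Fact p.Prime := ⟨hp⟩
    obtain ⟨l, hl1, hl2⟩ := local_one_int (G := G) p
    refine ⟨l, hl1, ?_⟩
    rw [hI]
    have hle : Submodule.span ℤ (bgens p G) ≤ V :=
      Submodule.span_mono (fun f hf => ⟨p, hp, hf⟩)
    have := hle hl2
    simpa using this
  obtain ⟨d, hd⟩ := (IsPrincipalIdealRing.principal I).principal
  have hdvd : ∀ m : ℤ, m ∈ I → d ∣ m := by
    intro m hm
    rw [hd] at hm
    exact Ideal.mem_span_singleton.mp hm
  have hd1 : d.natAbs = 1 := by
    by_contra hne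
    obtain ⟨q, hq, hqd⟩ := Nat.exists_prime_and_dvd hne
    obtain ⟨l, hl1, hl2⟩ := hl q hq
    apply hl1
    have h1 : d ∣ (l : ℤ) := hdvd _ hl2
    have h2 : (q : ℤ) ∣ d := Int.natCast_dvd.mpr hqd
    exact Int.natCast_dvd_natCast.mp (h2.trans h1)
  have h1I : (1 : ℤ) ∈ I := by
    rw [hd, Ideal.mem_span_singleton]
    exact Int.natAbs_dvd_natAbs.mp (by rw [hd1]; exact one_dvd _)
  have := (hI 1).mp h1I
  simpa using this

theorem char_mem_span_gens2 {G : Type*} [Group G] [Fintype G] (χ : G → ℂ)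
    (hχ : Cfsg.IsCharacter G χ) : χ ∈ Submodule.span ℤ (gens2 G) := by
  have h1 := span_gensAll_mul_char (one_mem_span_gensAll (G := G)) hχ
  rw [one_mul] at h1
  have hle : Submodule.span ℤ (gensAll G) ≤ Submodule.span ℤ (gens2 G) := by
    apply Submodule.span_le.mpr
    rintro f ⟨p, hp, hf⟩
    exact bgens_le_span_gens2 p hp hf
  exact hle h1

end Cfsg.Agent.Lib.helper2
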