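import Mathlib
import Cfsg.Prelude.Def_Characters
import Cfsg.Agent.Lib.helper2.BrauerInd

set_option autoImplicit false
open scoped ComplexConjugate

namespace Cfsg.Agent.Lib.helper2

open Cfsg.Agent.Lib.helper7 Cfsg.Agent.Lib.Helper11 Cfsg.Agent.Lib.Helper25 Cfsg.Agent.Lib.Helper24

theorem indFun_mem_bR (A : Subalgebra ℤ ℂ) {G : Type*} [Group G] [Fintype G] (E : Subgroup G)
    {f : E → ℂ} (hf : f ∈ bR A E) : Cfsg.indFun E f ∈ bR A G := by
  unfold bR at hf
  induction hf using Submodule.span_induction with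
  | mem f hf => exact Submodule.subset_span (isCharacter_indFun E f hf)
  | zero => rw [indFun_zero']; exact Submodule.zero_mem _
  | add f g _ _ ihf ihg => rw [indFun_add]; exact Submodule.add_mem _ ihf ihg
  | smul a f _ ih =>
    have h1 : a • f = (a : ℂ) • f := rfl
    rw [h1, indFun_smul]
    exact Submodule.smul_mem _ a ih

/-- Brauer's characterisation of characters with coefficients in a subring `A` of `ℂ`. -/
theorem brauer_char_coeff (A : Subalgebra ℤ ℂ) {G : Type*} [Group G] [Finite G] (θ : G → ℂ)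
    (hθ : Cfsg.IsClassFunction G θ)
    (hE : ∀ (E : Subgroup G) (p : ℕ), p.Prime → Cfsg.IsElementary p E →
      (fun e : E => θ e) ∈ bR A E) : θ ∈ bR A G := by
  haveI := Fintype.ofFinite G
  have key : ∀ f ∈ Submodule.span ℤ (gensAll G), f * θ ∈ bR A G := by
    intro f hf
    induction hf using Submodule.span_induction with
    | mem f hf =>
      obtain ⟨p, hp, E, φ, hEl, hφ, rfl⟩ := hf
      rw [← h7_indFun_mul_restrict E φ θ hθ]
      apply indFun_mem_bR
      rw [mul_comm]
      exact bR_mul_char A (hE E p hp hEl) hφ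
    | zero => rw [zero_mul]; exact Submodule.zero_mem _
    | add f g _ _ ihf ihg => rw [add_mul]; exact Submodule.add_mem _ ihf ihg
    | smul z f _ ih => rw [smul_mul_assoc]; exact Submodule.smul_of_tower_mem _ z ih
  have := key 1 one_mem_span_gensAll
  rw [one_mul] at this
  exact this

theorem bR_classInner_mem (A : Subalgebra ℤ ℂ) {G : Type*} [Group G] [Fintype G] {f : G → ℂ}
    (hf : f ∈ bR A G) (χ : Cfsg.IrrCharacter G) : Cfsg.classInner f (χ : G → ℂ) ∈ A := by
  unfold bR at hf
  induction hf using Submodule.span_induction with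
  | mem f hf =>
    obtain ⟨m, hm⟩ := classInner_character_nat hf (isCharacter_of_irr χ)
    rw [hm]
    exact natCast_mem A m
  | zero => rw [Cfsg.Agent.Lib.Helper25.classInner_zero_left]; exact zero_mem A
  | add f g _ _ ihf ihg => rw [classInner_add_left]; exact add_mem ihf ihg
  | smul a f _ ih =>
    have h1 : a • f = (a : ℂ) • f := rfl
    rw [h1, classInner_smul_left]
    exact mul_mem a.2 ih

theorem bR_expansion (A : Subalgebra ℤ ℂ) {G : Type*} [Group G] [Fintype G] {f : G → ℂ}
    (hf : f ∈ bR A G) :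
    ∃ c : Cfsg.IrrCharacter G → ℂ, (∀ χ, c χ ∈ A) ∧
      f = ∑ᶠ χ : Cfsg.IrrCharacter G, c χ • (χ : G → ℂ) := by
  classical
  haveI : Fintype (Cfsg.IrrCharacter G) := Fintype.ofFinite _
  refine ⟨fun χ => Cfsg.classInner f (χ : G → ℂ), fun χ => bR_classInner_mem A hf χ, ?_⟩
  rw [finsum_eq_sum_of_fintype]
  exact classFunction_expansion f (bR_classFunction A hf)

theorem smul_char_mem_bR (A : Subalgebra ℤ ℂ) {G : Type*} [Group G] {f : G → ℂ}
    (hf : Cfsg.IsCharacter G f) {c : ℂ} (hc : c ∈ A) : c • f ∈ bR A G := by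
  have h1 : c • f = (⟨c, hc⟩ : A) • f := rfl
  rw [h1]
  exact Submodule.smul_mem _ _ (Submodule.subset_span hf)

end Cfsg.Agent.Lib.helper2
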