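import Mathlib
import Cfsg.Prelude.Def_Characters
import Cfsg.Agent.Lib.helper2.BrauerInd
import Cfsg.Agent.Lib.helper2.CharInt
import Cfsg.Agent.Lib.Helper11.NilpCoprime
import Cfsg.Agent.Lib.Helper11.VirtChar

set_option autoImplicit false
open scoped ComplexConjugate

namespace Cfsg.Agent.Lib.helper2

open Cfsg.Agent.Lib.helper7 Cfsg.Agent.Lib.Helper11 Cfsg.Agent.Lib.Helper25 Cfsg.Agent.Lib.Helper24

theorem exists_p_complement {E : Type*} [Group E] [Finite E] [Group.IsNilpotent E] (p : ℕ)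
    [hpf : Fact p.Prime] :
    ∃ (P Q : Subgroup E), IsPGroup p P ∧ (∀ y : E, y ∈ Q ↔ ¬ p ∣ orderOf y) ∧
      Nat.card P * Nat.card Q = Nat.card E ∧ (Nat.card Q).Coprime p ∧
      ∀ z ∈ P, ∀ y ∈ Q, Commute z y := by
  have hp : p.Prime := hpf.out
  obtain ⟨P⟩ : Nonempty (Sylow p E) := inferInstance
  haveI : (P : Subgroup E).Normal := inferInstance
  have hcop : Nat.Coprime (Nat.card (P : Subgroup E)) (P : Subgroup E).index := P.card_coprime_index
  obtain ⟨Q, hQ⟩ := Subgroup.exists_right_complement'_of_coprime hcop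
  have hcard : Nat.card (P : Subgroup E) * Nat.card Q = Nat.card E := hQ.card_mul_card
  have hQidx : Nat.card Q = (P : Subgroup E).index := by
    have h1 := Subgroup.card_mul_index (P : Subgroup E)
    have hpos : 0 < Nat.card (P : Subgroup E) := Nat.card_pos
    exact Nat.eq_of_mul_eq_mul_left hpos (hcard.trans h1.symm)
  have hQp : (Nat.card Q).Coprime p := by
    rw [hQidx]
    exact ((Nat.Prime.coprime_iff_not_dvd hp).mpr P.not_dvd_index).symm
  have hPel : ∀ z ∈ (P : Subgroup E), ∃ k : ℕ, orderOf z = p ^ k := by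
    intro z hz
    obtain ⟨k, hk⟩ := P.isPGroup' ⟨z, hz⟩
    have hk' : z ^ p ^ k = 1 := by
      have := congrArg Subtype.val hk
      simpa using this
    obtain ⟨j, -, hj⟩ := (Nat.dvd_prime_pow hp).mp (orderOf_dvd_of_pow_eq_one hk')
    exact ⟨j, hj⟩
  have hQel : ∀ y ∈ Q, ¬ p ∣ orderOf y := by
    intro y hy hdvd
    have h1 : orderOf y ∣ Nat.card Q := by
      have := orderOf_dvd_natCard (⟨y, hy⟩ : Q)
      rwa [Subgroup.orderOf_mk] at this
    have h2 : p ∣ Nat.card Q := hdvd.trans h1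
    have := Nat.Coprime.eq_one_of_dvd hQp.symm h2
    exact hp.one_lt.ne' this
  have hcomm : ∀ z ∈ (P : Subgroup E), ∀ y ∈ Q, Commute z y := by
    intro z hz y hy
    apply commute_of_coprime_orderOf
    obtain ⟨k, hk⟩ := hPel z hz
    rw [hk]
    apply Nat.Coprime.pow_left
    exact (Nat.Prime.coprime_iff_not_dvd hp).mpr (hQel y hy)
  refine ⟨P, Q, P.isPGroup', ?_, hcard, hQp, hcomm⟩
  intro y
  constructor
  · exact hQel y
  · intro hy
    obtain ⟨⟨⟨z, hz⟩, ⟨q, hq⟩⟩, hzq⟩ := hQ.2 y
    have hzq' : z * q = y := hzq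
    obtain ⟨k, hk⟩ := hPel z hz
    have hc := hcomm z hz q hq
    have hcop2 : Nat.Coprime (orderOf z) (orderOf q) := by
      rw [hk]
      apply Nat.Coprime.pow_left
      exact (Nat.Prime.coprime_iff_not_dvd hp).mpr (hQel q hq)
    have hord := hc.orderOf_mul_eq_mul_orderOf_of_coprime hcop2
    rw [hzq'] at hord
    have hz1 : orderOf z = 1 := by
      rcases Nat.eq_zero_or_pos k with h0 | h0
      · rw [hk, h0, pow_zero]
      · exfalso
        apply hy
        rw [hord, hk]
        exact Dvd.dvd.mul_right (dvd_pow_self p h0.ne') _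
    rw [orderOf_eq_one_iff] at hz1
    rw [← hzq', hz1, one_mul]
    exact hq

theorem defect_zero_div {G : Type*} [Group G] [Finite G] {V : Type*} [AddCommGroup V] [Module ℂ V]
    [FiniteDimensional ℂ V] (ρ : Representation ℂ G V) [ρ.IsIrreducible] (p n : ℕ) (hp : p.Prime)
    (hn' : ¬ p ^ (n + 1) ∣ Nat.card G) (hdeg : p ^ n ∣ Module.finrank ℂ V) (y : G) (b : ℕ)
    (hb : p ^ b ∣ Nat.card (Subgroup.centralizer ({y} : Set G))) :
    IsIntegral ℤ (ρ.character y / ((p : ℂ) ^ b)) := by
  obtain ⟨k, hk⟩ := degree_dvd_card ρ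
  obtain ⟨u, hu⟩ := hdeg
  obtain ⟨c, hc⟩ := hb
  have hpk : ¬ p ∣ k := by
    rintro ⟨k', rfl⟩
    apply hn'
    rw [hk, hu]
    exact ⟨u * k', by ring⟩
  have hcop : Nat.Coprime k (p ^ b) :=
    Nat.Coprime.pow_right _ ((Nat.Prime.coprime_iff_not_dvd hp).mpr hpk).symm
  have hω := central_char_integral ρ y
  have hidx : (Subgroup.centralizer ({y} : Set G)).index *
      Nat.card (Subgroup.centralizer ({y} : Set G)) = Nat.card G := Subgroup.index_mul_card _
  have hfr : (Module.finrank ℂ V : ℂ) ≠ 0 := by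
    exact_mod_cast finrank_ne_zero_of_irr ρ
  have hpb : ((p : ℂ) ^ b) ≠ 0 := by
    apply pow_ne_zero
    exact_mod_cast hp.ne_zero
  have hrel : ((Subgroup.centralizer ({y} : Set G)).index : ℂ) * ((p : ℂ) ^ b * (c : ℂ)) =
      (Module.finrank ℂ V : ℂ) * (k : ℂ) := by
    rw [hc, hk] at hidx
    exact_mod_cast hidx
  have h1 : (k : ℂ) * ρ.character y / (p : ℂ) ^ b =
      (((Subgroup.centralizer ({y} : Set G)).index : ℂ) * ρ.character y /
        (Module.finrank ℂ V : ℂ)) * (c : ℂ) := by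
    rw [div_eq_iff hpb]
    have : ((Subgroup.centralizer ({y} : Set G)).index : ℂ) * ρ.character y /
        (Module.finrank ℂ V : ℂ) * (c : ℂ) * (p : ℂ) ^ b =
        (((Subgroup.centralizer ({y} : Set G)).index : ℂ) * ((p : ℂ) ^ b * (c : ℂ))) *
          ρ.character y / (Module.finrank ℂ V : ℂ) := by ring
    rw [this, hrel]
    field_simp
  have h2 : IsIntegral ℤ ((k : ℂ) * ρ.character y / (p : ℂ) ^ b) := by
    rw [h1]
    exact hω.mul (isIntegral_natCast c)
  have hco : IsCoprime (k : ℤ) ((p ^ b : ℕ) : ℤ) := Nat.isCoprime_iff_coprime.mpr hcop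
  obtain ⟨a, a', haa⟩ := hco
  have haa' : (a : ℂ) * (k : ℂ) + (a' : ℂ) * (p : ℂ) ^ b = 1 := by
    have := congrArg (fun z : ℤ => (z : ℂ)) haa
    simpa using this
  have h3 : ρ.character y / (p : ℂ) ^ b =
      (a : ℂ) * ((k : ℂ) * ρ.character y / (p : ℂ) ^ b) + (a' : ℂ) * ρ.character y := by
    rw [div_eq_iff hpb]
    have : ((a : ℂ) * ((k : ℂ) * ρ.character y / (p : ℂ) ^ b) + (a' : ℂ) * ρ.character y) *
        (p : ℂ) ^ b = ((a : ℂ) * (k : ℂ) + (a' : ℂ) * (p : ℂ) ^ b) * ρ.character y := by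
      field_simp
    rw [this, haa', one_mul]
  rw [h3]
  exact ((isIntegral_intCast a).mul h2).add ((isIntegral_intCast a').mul (char_integral ρ y))

theorem defect_zero_restrict {G : Type*} [Group G] [Finite G] {V : Type*} [AddCommGroup V]
    [Module ℂ V] [FiniteDimensional ℂ V] (ρ : Representation ℂ G V) [ρ.IsIrreducible] (p n : ℕ)
    (hp : p.Prime) (hn' : ¬ p ^ (n + 1) ∣ Nat.card G) (hdeg : p ^ n ∣ Module.finrank ℂ V)
    (E : Subgroup G) [Group.IsNilpotent E] :
    Cfsg.IsCharacter E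
      (fun e : E => if p ∣ orderOf (e : G) then 0 else ρ.character (e : G)) := by
  classical
  haveI : Fact p.Prime := ⟨hp⟩
  haveI : Fintype E := Fintype.ofFinite E
  obtain ⟨P, Q, hP, hQ, hcard, hcop, hcomm⟩ := exists_p_complement (E := E) p
  obtain ⟨b, hb⟩ := hP.exists_card_eq
  have hχ : Cfsg.IsCharacter G ρ.character := isCharacter_of_rep ρ
  have hχcl := isCharacter_isClassFunction hχ
  apply isCharacter_of_classInner_nat
  · intro e h
    have h1 : ((h * e * h⁻¹ : E) : G) = (h : G) * (e : G) * (h : G)⁻¹ := by simp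
    have h2 : orderOf ((h : G) * (e : G) * (h : G)⁻¹) = orderOf (e : G) := by
      have := orderOf_injective (MulAut.conj (h : G)).toMonoidHom (MulAut.conj (h : G)).injective (e : G)
      simpa using this
    simp only [h1, h2, hχcl (e : G) (h : G)]
  · intro ψ
    haveI : Fintype Q := Fintype.ofFinite Q
    -- the sum over Q
    have hsum : ∑ e : E, (if p ∣ orderOf (e : G) then 0 else ρ.character (e : G)) * conj ((ψ : E → ℂ) e) =
        ∑ y : Q, ρ.character ((y : E) : G) * conj ((ψ : E → ℂ) (y : E)) := by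
      rw [← Finset.sum_subtype (Finset.univ.filter (fun e : E => e ∈ Q)) (by simp)
        (fun e : E => ρ.character (e : G) * conj ((ψ : E → ℂ) e))]
      rw [Finset.sum_filter]
      refine Finset.sum_congr rfl fun e _ => ?_
      rw [hQ e, Subgroup.orderOf_coe]
      by_cases h : p ∣ orderOf e
      · simp [h]
      · simp [h]
    -- (a)
    have hχQ : Cfsg.IsCharacter Q (fun y : Q => ρ.character ((y : E) : G)) :=
      isCharacter_comp_hom hχ (E.subtype.comp Q.subtype)
    have hψQ : Cfsg.IsCharacter Q (fun y : Q => (ψ : E → ℂ) (y : E)) :=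
      isCharacter_restrict (isCharacter_of_irr ψ) Q
    obtain ⟨m, hm⟩ := classInner_character_nat hχQ hψQ
    unfold Cfsg.classInner at hm
    have hQne : (Nat.card Q : ℂ) ≠ 0 := by exact_mod_cast Nat.card_pos.ne'
    have hS : ∑ y : Q, ρ.character ((y : E) : G) * conj ((ψ : E → ℂ) (y : E)) =
        (Nat.card Q : ℂ) * (m : ℂ) := by
      rw [← hm, ← mul_assoc, mul_inv_cancel₀ hQne, one_mul]
    -- (b)
    have hpb : ((p : ℂ) ^ b) ≠ 0 := by
      apply pow_ne_zero
      exact_mod_cast hp.ne_zero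
    have hint : IsIntegral ℤ ((∑ y : Q, ρ.character ((y : E) : G) * conj ((ψ : E → ℂ) (y : E))) /
        (p : ℂ) ^ b) := by
      rw [Finset.sum_div]
      apply IsIntegral.sum
      intro y _
      have hdvd : p ^ b ∣ Nat.card (Subgroup.centralizer ({((y : E) : G)} : Set G)) := by
        have hle : P.map E.subtype ≤ Subgroup.centralizer ({((y : E) : G)} : Set G) := by
          rintro _ ⟨z, hz, rfl⟩
          rw [Subgroup.mem_centralizer_singleton_iff]
          have := (hcomm z hz (y : E) y.2).eq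
          have h2 := congrArg (fun e : E => (e : G)) this
          simp only [Subgroup.coe_mul] at h2
          exact h2
        have h1 := Subgroup.card_dvd_of_le hle
        rwa [Subgroup.card_map_of_injective E.subtype_injective, hb] at h1
      have h1 := defect_zero_div ρ p n hp hn' hdeg ((y : E) : G) b hdvd
      have h2 : IsIntegral ℤ (conj ((ψ : E → ℂ) (y : E))) :=
        map_isIntegral_int (starRingEnd ℂ) (irr_integral ψ (y : E))
      have : ρ.character ((y : E) : G) * conj ((ψ : E → ℂ) (y : E)) / (p : ℂ) ^ b =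
          (ρ.character ((y : E) : G) / (p : ℂ) ^ b) * conj ((ψ : E → ℂ) (y : E)) := by ring
      rw [this]
      exact h1.mul h2
    rw [hS] at hint
    have hdvd : p ^ b ∣ Nat.card Q * m := by
      apply nat_dvd_of_isIntegral_div _ _ (pow_ne_zero _ hp.ne_zero)
      push_cast
      exact hint
    have hdvd' : p ^ b ∣ m :=
      (Nat.Coprime.pow_left b hcop.symm).dvd_of_dvd_mul_left hdvd
    obtain ⟨m', rfl⟩ := hdvd'
    refine ⟨m', ?_⟩
    unfold Cfsg.classInner
    rw [hsum, hS, ← hcard, hb]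
    push_cast
    field_simp

end Cfsg.Agent.Lib.helper2
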