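import Mathlib
import Cfsg.Prelude.Def_Characters
import Cfsg.Agent.Lib.helper2.DefectZero
import Cfsg.Agent.Lib.helper2.BrauerCharA

set_option autoImplicit false
open scoped ComplexConjugate

namespace Cfsg.Agent.Lib.helper2

open Cfsg.Agent.Lib.helper7 Cfsg.Agent.Lib.Helper11 Cfsg.Agent.Lib.Helper25 Cfsg.Agent.Lib.Helper24

theorem exists_crt_exponent (m n : ℕ) (hcop : Nat.Coprime m n) :
    ∃ e e' : ℕ, m ∣ e ∧ e ≡ 1 [MOD n] ∧ n ∣ e' ∧ e' ≡ 1 [MOD m] ∧ e + e' ≡ 1 [MOD m * n] := by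
  obtain ⟨e, he1, he2⟩ := Nat.chineseRemainder hcop 0 1
  obtain ⟨e', he1', he2'⟩ := Nat.chineseRemainder hcop 1 0
  refine ⟨e, e', (Nat.modEq_zero_iff_dvd).mp he1, he2, (Nat.modEq_zero_iff_dvd).mp he2', he1', ?_⟩
  rw [← Nat.modEq_and_modEq_iff_modEq_mul hcop]
  exact ⟨by simpa using he1.add he1', by simpa using he2.add he2'⟩

section
variable {G : Type*} [Group G] {m n e e' : ℕ}

theorem orderOf_dvd_of_coprime_left (hmn : Nat.card G = m * n) {y : G}
    (hy : Nat.Coprime (orderOf y) m) : orderOf y ∣ n := by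
  have h1 : orderOf y ∣ m * n := hmn ▸ orderOf_dvd_natCard y
  exact hy.dvd_of_dvd_mul_left h1

theorem orderOf_dvd_of_coprime_right (hmn : Nat.card G = m * n) {y : G}
    (hy : Nat.Coprime (orderOf y) n) : orderOf y ∣ m := by
  have h1 : orderOf y ∣ m * n := hmn ▸ orderOf_dvd_natCard y
  exact hy.dvd_of_dvd_mul_right h1

theorem pow_crt_of_coprime_left (hmn : Nat.card G = m * n) (hen : e ≡ 1 [MOD n]) {y : G}
    (hy : Nat.Coprime (orderOf y) m) : y ^ e = y := by
  have h1 := orderOf_dvd_of_coprime_left hmn hy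
  have h2 : e ≡ 1 [MOD orderOf y] := hen.of_dvd h1
  have := pow_eq_pow_iff_modEq.mpr h2
  rwa [pow_one] at this

theorem pow_crt_of_coprime_right (hmn : Nat.card G = m * n) (hme : m ∣ e) {y : G}
    (hy : Nat.Coprime (orderOf y) n) : y ^ e = 1 := by
  have h1 := orderOf_dvd_of_coprime_right hmn hy
  exact orderOf_dvd_iff_pow_eq_one.mp (h1.trans hme)

theorem orderOf_pow_crt_dvd (hmn : Nat.card G = m * n) (hme : m ∣ e) (x : G) :
    orderOf (x ^ e) ∣ n := by
  apply orderOf_dvd_of_pow_eq_one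
  rw [← pow_mul]
  apply orderOf_dvd_iff_pow_eq_one.mp
  have h1 : orderOf x ∣ m * n := hmn ▸ orderOf_dvd_natCard x
  exact h1.trans (Nat.mul_dvd_mul_right hme n)

theorem pow_crt_add (hmn : Nat.card G = m * n) (hee : e + e' ≡ 1 [MOD m * n]) (x : G) :
    x ^ e' * x ^ e = x := by
  have h1 : orderOf x ∣ m * n := hmn ▸ orderOf_dvd_natCard x
  have h2 : e' + e ≡ 1 [MOD orderOf x] := by
    rw [add_comm]
    exact hee.of_dvd h1
  have := pow_eq_pow_iff_modEq.mpr h2
  rwa [pow_one, pow_add] at this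

theorem pi_part_iff (hmn : Nat.card G = m * n) (hcop : Nat.Coprime m n)
    (hme : m ∣ e) (hen : e ≡ 1 [MOD n])
    (hne' : n ∣ e') (hee : e + e' ≡ 1 [MOD m * n]) (g x : G) :
    (∃ v : G, IsConj v g ∧ (∃ u : G, x = u * v ∧ Commute u v ∧ Nat.Coprime (orderOf u) n ∧
      Nat.Coprime (orderOf v) m)) ↔ IsConj (x ^ e) g := by
  constructor
  · rintro ⟨v, hvg, u, rfl, huv, hu, hv⟩
    rw [huv.mul_pow, pow_crt_of_coprime_right hmn hme hu, pow_crt_of_coprime_left hmn hen hv,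
      one_mul]
    exact hvg
  · intro h
    refine ⟨x ^ e, h, x ^ e', (pow_crt_add hmn hee x).symm, (Commute.refl x).pow_pow _ _, ?_, ?_⟩
    · have h1 : orderOf (x ^ e') ∣ m := by
        have hmn' : Nat.card G = n * m := by rw [hmn, mul_comm]
        exact orderOf_pow_crt_dvd hmn' hne' x
      exact Nat.Coprime.coprime_dvd_left h1 hcop
    · exact Nat.Coprime.coprime_dvd_left (orderOf_pow_crt_dvd hmn hme x) hcop.symm

end

theorem nilp_coprime_subgroup {E : Type*} [Group E] [Finite E] [Group.IsNilpotent E] (k : ℕ)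
    (hk : k ≠ 0) : ∃ A : Subgroup E, ∀ x : E, x ∈ A ↔ Nat.Coprime (orderOf x) k := by
  classical
  have h : ∀ p : ℕ, p.Prime → ∃ Q : Subgroup E, ∀ y : E, y ∈ Q ↔ ¬ p ∣ orderOf y := by
    intro p hp
    haveI : Fact p.Prime := ⟨hp⟩
    obtain ⟨P, Q, -, hQ, -⟩ := exists_p_complement (E := E) p
    exact ⟨Q, hQ⟩
  have h' : ∀ p : ℕ, ∃ Q : Subgroup E, p.Prime → ∀ y : E, y ∈ Q ↔ ¬ p ∣ orderOf y := by
    intro p
    by_cases hp : p.Prime
    · obtain ⟨Q, hQ⟩ := h p hp
      exact ⟨Q, fun _ => hQ⟩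
    · exact ⟨⊥, fun hp' => absurd hp' hp⟩
  choose Q hQ using h'
  refine ⟨⨅ p ∈ k.primeFactors, Q p, fun x => ?_⟩
  simp only [Subgroup.mem_iInf]
  constructor
  · intro hx
    apply Nat.coprime_of_dvd
    intro p hp hpo hpk
    have := hx p (Nat.mem_primeFactors.mpr ⟨hp, hpk, hk⟩)
    exact (hQ p hp x).mp this hpo
  · intro hx p hp
    have hp' := Nat.prime_of_mem_primeFactors hp
    rw [hQ p hp']
    intro hpo
    have := Nat.Coprime.eq_one_of_dvd (hx.coprime_dvd_left hpo) (Nat.dvd_of_mem_primeFactors hp)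
    exact hp'.one_lt.ne' this

theorem nilp_pow_crt_mul {G : Type*} [Group G] [Finite G] {m n e e' : ℕ}
    (hmn : Nat.card G = m * n) (hcop : Nat.Coprime m n)
    (hme : m ∣ e) (hen : e ≡ 1 [MOD n])
    (hne' : n ∣ e') (hem' : e' ≡ 1 [MOD m]) (hee : e + e' ≡ 1 [MOD m * n])
    (E : Subgroup G) [Group.IsNilpotent E] (x y : E) : (x * y) ^ e = x ^ e * y ^ e := by
  have hm0 : m ≠ 0 := by
    rintro rfl
    rw [zero_mul] at hmn
    exact Nat.card_pos.ne' hmn
  have hn0 : n ≠ 0 := by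
    rintro rfl
    rw [mul_zero] at hmn
    exact Nat.card_pos.ne' hmn
  obtain ⟨A, hA⟩ := nilp_coprime_subgroup (E := E) m hm0
  obtain ⟨B, hB⟩ := nilp_coprime_subgroup (E := E) n hn0
  have hmn' : Nat.card G = n * m := by rw [hmn, mul_comm]
  -- orders in E equal orders in G
  have hAe : ∀ a ∈ A, a ^ e = a := by
    intro a ha
    have h1 : Nat.Coprime (orderOf (a : G)) m := by
      rw [Subgroup.orderOf_coe]; exact (hA a).mp ha
    have := pow_crt_of_coprime_left hmn hen h1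
    exact Subtype.ext (by simpa using this)
  have hBe : ∀ b ∈ B, b ^ e = 1 := by
    intro b hb
    have h1 : Nat.Coprime (orderOf (b : G)) n := by
      rw [Subgroup.orderOf_coe]; exact (hB b).mp hb
    have := pow_crt_of_coprime_right hmn hme h1
    exact Subtype.ext (by simpa using this)
  have hcomm : ∀ a ∈ A, ∀ b ∈ B, Commute b a := by
    intro a ha b hb
    apply commute_of_coprime_orderOf
    have h1 : orderOf (a : G) ∣ n := orderOf_dvd_of_coprime_left hmn
      (by rw [Subgroup.orderOf_coe]; exact (hA a).mp ha)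
    have h2 : orderOf (b : G) ∣ m := orderOf_dvd_of_coprime_right hmn
      (by rw [Subgroup.orderOf_coe]; exact (hB b).mp hb)
    rw [Subgroup.orderOf_coe] at h1 h2
    exact Nat.Coprime.coprime_dvd_left h2 (Nat.Coprime.coprime_dvd_right h1 hcop)
  have hdec : ∀ z : E, z ^ e ∈ A ∧ z ^ e' ∈ B ∧ z ^ e' * z ^ e = z := by
    intro z
    refine ⟨?_, ?_, ?_⟩
    · rw [hA, ← Subgroup.orderOf_coe]
      have := orderOf_pow_crt_dvd hmn hme (z : G)
      simp only [Subgroup.coe_pow]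
      exact Nat.Coprime.coprime_dvd_left this hcop.symm
    · rw [hB, ← Subgroup.orderOf_coe]
      have := orderOf_pow_crt_dvd hmn' hne' (z : G)
      simp only [Subgroup.coe_pow]
      exact Nat.Coprime.coprime_dvd_left this hcop
    · have := pow_crt_add hmn hee (z : G)
      exact Subtype.ext (by simpa using this)
  obtain ⟨hxa, hxb, hx⟩ := hdec x
  obtain ⟨hya, hyb, hy⟩ := hdec y
  have h1 : x * y = (x ^ e' * y ^ e') * (x ^ e * y ^ e) := by
    have hc := (hcomm (x ^ e) hxa (y ^ e') hyb).eq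
    calc x * y = (x ^ e' * x ^ e) * (y ^ e' * y ^ e) := by rw [hx, hy]
      _ = x ^ e' * (x ^ e * y ^ e') * y ^ e := by group
      _ = x ^ e' * (y ^ e' * x ^ e) * y ^ e := by rw [hc]
      _ = (x ^ e' * y ^ e') * (x ^ e * y ^ e) := by group
  have h2 : Commute (x ^ e' * y ^ e') (x ^ e * y ^ e) :=
    hcomm _ (A.mul_mem hxa hya) _ (B.mul_mem hxb hyb)
  conv_lhs => rw [h1]
  rw [h2.mul_pow, hBe _ (B.mul_mem hxb hyb), hAe _ (A.mul_mem hxa hya), one_mul]

end Cfsg.Agent.Lib.helper2
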