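import Mathlib
import Cfsg.Prelude.Def_Characters
import Cfsg.Prelude.Def_Blocks
import Cfsg.Agent.Lib.helper2.PiPart
import Cfsg.Agent.Lib.helper7.LocalIdeal

set_option autoImplicit false
open scoped ComplexConjugate

namespace Cfsg.Agent.Lib.helper2

open Cfsg.Agent.Lib.helper7 Cfsg.Agent.Lib.Helper11 Cfsg.Agent.Lib.Helper25 Cfsg.Agent.Lib.Helper24

/-- A `p`-power root of unity is congruent to `1` modulo a prime ideal containing `p`. -/
theorem ppow_root_sub_one_mem {p : ℕ} {M : Ideal Cfsg.AlgInt} (hM : Cfsg.IsPModular p M)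
    (z : Cfsg.AlgInt) (r : ℕ) (hz : z ^ p ^ r = 1) : z - 1 ∈ M := by
  have hprime : M.IsPrime := hM.2.1.isPrime
  apply hprime.mem_of_pow_mem (p ^ r)
  obtain ⟨t, ht⟩ := exists_add_pow_prime_pow_eq hM.1 (z - 1) 1 r
  rw [sub_add_cancel, hz, one_pow] at ht
  have h1 : (z - 1) ^ p ^ r = -((p : Cfsg.AlgInt) * ((z - 1) * 1 * t)) := by
    linear_combination -ht
  rw [h1]
  exact M.neg_mem (M.mul_mem_right _ hM.2.2)

theorem char_sub_pow_crt_memLocalIdeal {G : Type*} [Group G] [Finite G] {p : ℕ}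
    {M : Ideal Cfsg.AlgInt} (hM : Cfsg.IsPModular p M) {m n e e' r : ℕ}
    (hmn : Nat.card G = m * n) (hm : m = p ^ r)
    (hne' : n ∣ e') (hee : e + e' ≡ 1 [MOD m * n])
    {χ : G → ℂ} (hχ : Cfsg.IsCharacter G χ) (x : G) :
    Cfsg.MemLocalIdeal M (χ x - χ (x ^ e)) := by
  classical
  have hprime : M.IsPrime := hM.2.1.isPrime
  haveI : Fintype (Subgroup.zpowers x) := Fintype.ofFinite _
  haveI : Fintype (Cfsg.IrrCharacter (Subgroup.zpowers x)) := Fintype.ofFinite _
  obtain ⟨c, -, hexp⟩ := isCharacter_expansion (isCharacter_restrict hχ (Subgroup.zpowers x))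
  obtain ⟨xC, hxC⟩ : ∃ xC : Subgroup.zpowers x, (xC : G) = x :=
    ⟨⟨x, Subgroup.mem_zpowers x⟩, rfl⟩
  have h1 := congrFun hexp xC
  have h2 := congrFun hexp (xC ^ e)
  simp only [Finset.sum_apply, Pi.smul_apply, smul_eq_mul, Subgroup.coe_pow, hxC] at h1 h2
  rw [h1, h2, ← Finset.sum_sub_distrib]
  apply h7_memLocalIdeal_sum hprime
  intro lam _
  have hl1 : (lam : Subgroup.zpowers x → ℂ) 1 = 1 := gn_irr_one_of_isMulCommutative lam
  rw [← mul_sub]
  apply h7_memLocalIdeal_mul_left hprime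
  · have := h7_memLocalRing_of_algInt hprime (M := M) ((c lam : ℕ) : Cfsg.AlgInt)
    simpa using this
  · -- lam xC - lam (xC^e) = (ζ - 1) * lam(xC)^e
    have hdec : xC ^ e' * xC ^ e = xC := by
      apply Subtype.ext
      simp only [Subgroup.coe_mul, Subgroup.coe_pow, hxC]
      exact pow_crt_add hmn hee x
    have hz1 : (lam : Subgroup.zpowers x → ℂ) xC =
        (lam : Subgroup.zpowers x → ℂ) (xC ^ e') * (lam : Subgroup.zpowers x → ℂ) (xC ^ e) := by
      conv_lhs => rw [← hdec]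
      exact irr_linear_mul lam hl1 _ _
    have hzint : (lam : Subgroup.zpowers x → ℂ) (xC ^ e') ∈ Cfsg.AlgInt :=
      irr_integral lam _
    have hzpow : (⟨_, hzint⟩ : Cfsg.AlgInt) ^ p ^ r = 1 := by
      apply Subtype.ext
      simp only [SubmonoidClass.coe_pow, OneMemClass.coe_one]
      rw [← gn_irr_linear_pow lam hl1, ← pow_mul]
      have h3 : xC ^ (e' * p ^ r) = 1 := by
        apply Subtype.ext
        simp only [Subgroup.coe_pow, hxC, Subgroup.coe_one]
        have hmn' : Nat.card G = n * m := by rw [hmn, mul_comm]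
        have h4 := orderOf_pow_crt_dvd hmn' hne' x
        rw [pow_mul, ← hm]
        exact orderOf_dvd_iff_pow_eq_one.mp h4
      rw [h3, hl1]
    have hmem := ppow_root_sub_one_mem hM _ r hzpow
    have h5 := h7_memLocalIdeal_of_mem hprime hmem
    have h6 : Cfsg.MemLocalRing M ((lam : Subgroup.zpowers x → ℂ) (xC ^ e)) := by
      have := h7_memLocalRing_of_algInt hprime (M := M)
        (⟨_, irr_integral lam (xC ^ e)⟩ : Cfsg.AlgInt)
      exact this
    have h7 := h7_memLocalIdeal_mul_right hprime h5 h6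
    convert h7 using 1
    rw [hz1]
    push_cast
    ring

end Cfsg.Agent.Lib.helper2
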