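import Mathlib

set_option autoImplicit false
set_option linter.unusedVariables false

namespace Cfsg.Agent.Lib.helper2.Dih

variable {G : Type*} [Group G]

theorem mul_self_of_orderOf {x : G} (hx : orderOf x = 2) : x * x = 1 := by
  rw [← sq, ← hx, pow_orderOf_eq_one]

theorem ne_one_of_orderOf {x : G} (hx : orderOf x = 2) : x ≠ 1 := by
  rintro rfl
  rw [orderOf_one] at hx
  omega

theorem inv_eq_self {x : G} (hx : x * x = 1) : x⁻¹ = x :=
  inv_eq_of_mul_eq_one_left hx

theorem conj_rot {x y : G} (hx : x * x = 1) (hy : y * y = 1) :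
    x * (x * y) * x⁻¹ = (x * y)⁻¹ := by
  rw [inv_eq_self hx, mul_inv_rev, inv_eq_self hx, inv_eq_self hy, ← mul_assoc, hx, one_mul]

theorem x_mul_zpow {x y : G} (hx : x * x = 1) (hy : y * y = 1) (k : ℤ) :
    x * (x * y) ^ k = (x * y) ^ (-k) * x := by
  have h : x * (x * y) ^ k * x⁻¹ = (x * y) ^ (-k) := by
    rw [← conj_zpow, conj_rot hx hy, inv_zpow, zpow_neg]
  rw [← h, inv_mul_cancel_right]

theorem zpow_mul_x {x y : G} (hx : x * x = 1) (hy : y * y = 1) (k : ℤ) :
    (x * y) ^ k * x = x * (x * y) ^ (-k) := by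
  rw [x_mul_zpow hx hy, neg_neg]

theorem y_eq {x y : G} (hx : x * x = 1) : y = x * (x * y) := by
  rw [← mul_assoc, hx, one_mul]

theorem y_eq' {x y : G} (hx : x * x = 1) (hy : y * y = 1) : y = (x * y) ^ (-1 : ℤ) * x := by
  rw [← x_mul_zpow hx hy, zpow_one]
  exact y_eq hx

/-- Every element of `⟨x, y⟩` is `r^k` or `r^k x` with `r = x y`. -/
theorem mem_closure_form {x y : G} (hx : x * x = 1) (hy : y * y = 1) (d : G)
    (hd : d ∈ Subgroup.closure ({x, y} : Set G)) :
    ∃ k : ℤ, d = (x * y) ^ k ∨ d = (x * y) ^ k * x := by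
  induction hd using Subgroup.closure_induction with
  | mem z hz =>
    rcases hz with rfl | hz
    · exact ⟨0, Or.inr (by simp)⟩
    · rw [Set.mem_singleton_iff] at hz
      subst hz
      exact ⟨-1, Or.inr (y_eq' hx hy)⟩
  | one => exact ⟨0, Or.inl (by simp)⟩
  | mul a b _ _ ha hb =>
    obtain ⟨k, hk | hk⟩ := ha <;> obtain ⟨j, hj | hj⟩ := hb
    · exact ⟨k + j, Or.inl (by rw [hk, hj, zpow_add])⟩
    · exact ⟨k + j, Or.inr (by rw [hk, hj, zpow_add, mul_assoc])⟩
    · refine ⟨k - j, Or.inr ?_⟩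
      rw [hk, hj, mul_assoc, x_mul_zpow hx hy, ← mul_assoc, ← zpow_add, sub_eq_add_neg]
    · refine ⟨k - j, Or.inl ?_⟩
      rw [hk, hj, mul_assoc, ← mul_assoc x, x_mul_zpow hx hy, mul_assoc, hx, mul_one, ← zpow_add,
        sub_eq_add_neg]
  | inv a _ ha =>
    obtain ⟨k, hk | hk⟩ := ha
    · exact ⟨-k, Or.inl (by rw [hk, zpow_neg])⟩
    · refine ⟨k, Or.inr ?_⟩
      rw [hk, mul_inv_rev, inv_eq_self hx, ← zpow_neg, x_mul_zpow hx hy, neg_neg]

theorem rot_mem_closure (x y : G) : x * y ∈ Subgroup.closure ({x, y} : Set G) :=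
  Subgroup.mul_mem _ (Subgroup.subset_closure (by simp)) (Subgroup.subset_closure (by simp))

theorem x_mem_closure (x y : G) : x ∈ Subgroup.closure ({x, y} : Set G) :=
  Subgroup.subset_closure (by simp)

theorem y_mem_closure (x y : G) : y ∈ Subgroup.closure ({x, y} : Set G) :=
  Subgroup.subset_closure (by simp)

/-- Reflections square to one. -/
theorem refl_mul_self {x y : G} (hx : x * x = 1) (hy : y * y = 1) (k : ℤ) :
    ((x * y) ^ k * x) * ((x * y) ^ k * x) = 1 := by
  rw [mul_assoc, ← mul_assoc x, x_mul_zpow hx hy, mul_assoc, hx, mul_one, ← zpow_add]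
  simp

/-- Conjugates of `x` inside `⟨x, y⟩` are `r^(2k) x`. -/
theorem conj_x_form {x y : G} (hx : x * x = 1) (hy : y * y = 1) (d : G)
    (hd : d ∈ Subgroup.closure ({x, y} : Set G)) :
    ∃ k : ℤ, d * x * d⁻¹ = (x * y) ^ (2 * k) * x := by
  obtain ⟨k, hk | hk⟩ := mem_closure_form hx hy d hd
  · refine ⟨k, ?_⟩
    rw [hk, ← zpow_neg, mul_assoc, x_mul_zpow hx hy, neg_neg, ← mul_assoc, ← zpow_add, two_mul]
  · refine ⟨k, ?_⟩
    rw [hk, mul_inv_rev, inv_eq_self hx, ← zpow_neg, mul_assoc ((x * y) ^ k), hx, mul_one,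
      x_mul_zpow hx hy, neg_neg, ← mul_assoc, ← zpow_add, two_mul]

theorem conj_zpow_x {x y : G} (hx : x * x = 1) (hy : y * y = 1) (k : ℤ) :
    (x * y) ^ k * x * ((x * y) ^ k)⁻¹ = (x * y) ^ (2 * k) * x := by
  rw [← zpow_neg, mul_assoc, x_mul_zpow hx hy, neg_neg, ← mul_assoc, ← zpow_add, two_mul]

/-- `x` is not a rotation unless the rotation subgroup has order at most two. -/
theorem x_not_mem_zpowers {x y : G} (hx : orderOf x = 2) (hy : orderOf y = 2) (hxy : x ≠ y) :
    x ∉ Subgroup.zpowers (x * y) := by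
  have hx' := mul_self_of_orderOf hx
  have hy' := mul_self_of_orderOf hy
  rintro ⟨k, hk⟩
  have hk' : (x * y) ^ k = x := hk
  -- x commutes with r, so r = r⁻¹
  have hcomm : x * (x * y) * x⁻¹ = x * y := by
    have h1 : Commute x (x * y) := by
      have h0 : Commute ((x * y) ^ k) (x * y) := (Commute.refl (x * y)).zpow_left k
      rwa [hk'] at h0
    rw [h1.eq, mul_inv_cancel_right]
  rw [conj_rot hx' hy'] at hcomm
  -- (x y)⁻¹ = x y, i.e. y x = x y
  have h2 : (x * y) * (x * y) = 1 := by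
    nth_rewrite 1 [← hcomm]
    exact inv_mul_cancel _
  -- then r^k ∈ {1, r}
  have h3 : ∀ j : ℤ, (x * y) ^ j = 1 ∨ (x * y) ^ j = x * y := by
    intro j
    rcases Int.even_or_odd' j with ⟨c, rfl | rfl⟩
    · left
      rw [zpow_mul, zpow_two, h2, one_zpow]
    · right
      rw [zpow_add, zpow_mul, zpow_two, h2, one_zpow, one_mul, zpow_one]
  rcases h3 k with h | h
  · rw [h] at hk'
    exact ne_one_of_orderOf hx hk'.symm
  · rw [h] at hk'
    have : y = 1 := by
      have := congrArg (fun z => x⁻¹ * z) hk'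
      simpa using this
    exact ne_one_of_orderOf hy this

/-- The central involution `z = r^(n/2)` when `n = |r|` is even. -/
theorem central_invol {x y : G} (hx : x * x = 1) (hy : y * y = 1) (hpos : 0 < orderOf (x * y))
    (heven : Even (orderOf (x * y))) :
    orderOf ((x * y) ^ (orderOf (x * y) / 2)) = 2 ∧
      Commute ((x * y) ^ (orderOf (x * y) / 2)) x ∧
      Commute ((x * y) ^ (orderOf (x * y) / 2)) y := by
  obtain ⟨m, hm⟩ := heven
  have hm2 : orderOf (x * y) / 2 = m := by omega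
  rw [hm2]
  have hmpos : 0 < m := by omega
  have hzz : (x * y) ^ m * (x * y) ^ m = 1 := by
    rw [← pow_add, ← hm, pow_orderOf_eq_one]
  have hzne : (x * y) ^ m ≠ 1 := pow_ne_one_of_lt_orderOf hmpos.ne' (by omega)
  have hcx : Commute ((x * y) ^ m) x := by
    have h1 := x_mul_zpow hx hy (x := x) (y := y) (m : ℤ)
    rw [zpow_neg, zpow_natCast, inv_eq_self hzz] at h1
    exact h1.symm
  refine ⟨?_, hcx, ?_⟩
  · rw [orderOf_eq_prime_iff]
    exact ⟨by rw [sq, hzz], hzne⟩
  · have h2 : Commute ((x * y) ^ m) (x * y) := (Commute.refl (x * y)).pow_left m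
    have h3 : Commute ((x * y) ^ m) (x * (x * y)) := hcx.mul_right h2
    rwa [← y_eq hx] at h3

end Cfsg.Agent.Lib.helper2.Dih
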