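import Mathlib
import Cfsg.Prelude.Def_Characters
import Cfsg.Agent.Lib.Helper11.AbelianQuot
import Cfsg.Agent.Lib.Helper11.CyclicDual
import Cfsg.Agent.Lib.helper7.CliffordSub

set_option autoImplicit false
open scoped ComplexConjugate

namespace Cfsg.Agent.Lib.helper2

open Cfsg.Agent.Lib.helper7 Cfsg.Agent.Lib.Helper11 Cfsg.Agent.Lib.Helper25

/-- The number of linear characters trivial on a normal subgroup with abelian quotient. -/
theorem card_annih_normal {K : Type*} [Group K] [Finite K] (N : Subgroup K) [hN : N.Normal]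
    (hab : ∀ x y : K, x * y * x⁻¹ * y⁻¹ ∈ N) : Nat.card (annih N) = N.index := by
  have hcomm : ∀ a b : K ⧸ N, a * b = b * a := by
    intro a b
    induction a using QuotientGroup.induction_on with
    | H a =>
      induction b using QuotientGroup.induction_on with
      | H b =>
        rw [← QuotientGroup.mk_mul, ← QuotientGroup.mk_mul, QuotientGroup.eq]
        have := hab b⁻¹ a⁻¹
        simpa [mul_assoc] using this
  rw [Subgroup.index_eq_card, ← card_linChar hcomm]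
  apply Nat.card_congr
  have hker : ∀ φ : annih N, N ≤ (φ.1).ker := fun φ y hy => φ.2 y hy
  have hmem : ∀ ψ : K ⧸ N →* ℂˣ, ψ.comp (QuotientGroup.mk' N) ∈ annih N := by
    intro ψ y hy
    have h1 : (y : K ⧸ N) = 1 := (QuotientGroup.eq_one_iff y).mpr hy
    show ψ (y : K ⧸ N) = 1
    rw [h1, map_one]
  refine ⟨fun φ => QuotientGroup.lift N φ.1 (hker φ),
    fun ψ => ⟨ψ.comp (QuotientGroup.mk' N), hmem ψ⟩, ?_, ?_⟩
  · intro φ
    apply Subtype.ext
    apply MonoidHom.ext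
    intro x
    rfl
  · intro ψ
    apply MonoidHom.ext
    intro x
    induction x using QuotientGroup.induction_on with
    | H x => rfl

theorem gd_invariant {Γ : Type*} [Group Γ] [Fintype Γ] (N : Subgroup Γ) [hN : N.Normal]
    [Fintype N] (hab : ∀ x y : Γ, x * y * x⁻¹ * y⁻¹ ∈ N) (ϑ : Γ → ℂ)
    (hϑ : Cfsg.IsIrrCharacter Γ ϑ) (φ : N → ℂ) (hφ : Cfsg.IsIrrCharacter N φ)
    (hcon : Cfsg.classInner (fun n : N => ϑ n) φ ≠ 0) (hinv : ∀ g : Γ, cj N φ g = φ) :
    ∃ e : ℕ, 0 < e ∧ (fun n : N => ϑ n) = (e : ℂ) • φ ∧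
      e ^ 2 = Nat.card {lam : annih N // ∀ x : Γ, ((lam.1 x : ℂˣ) : ℂ) * ϑ x = ϑ x} := by
  classical
  haveI : Fintype ↥(annih N) := Fintype.ofFinite _
  obtain ⟨e, he, -, hres⟩ := h7_clifford_invariant N ϑ hϑ φ hφ hcon hinv
  refine ⟨e, he, hres, ?_⟩
  have hcl := h7_irr_isClassFunction hϑ
  -- (i)
  have h1 : Cfsg.classInner (Cfsg.indFun N (fun n : N => ϑ n)) ϑ = ((e ^ 2 : ℕ) : ℂ) := by
    rw [h7_frobenius_reciprocity N _ ϑ hcl, hres, classInner_smul_left]
    have h2 : Cfsg.classInner φ ((e : ℂ) • φ) = (e : ℂ) := by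
      have h3 := irr_classInner (⟨φ, hφ⟩ : Cfsg.IrrCharacter N) ⟨φ, hφ⟩
      rw [if_pos rfl] at h3
      simp only at h3
      unfold Cfsg.classInner at h3 ⊢
      simp only [Pi.smul_apply, smul_eq_mul, map_mul, map_natCast]
      have h4 : ∀ x : N, φ x * ((e : ℂ) * conj (φ x)) = (e : ℂ) * (φ x * conj (φ x)) := by
        intro x
        ring
      simp only [h4]
      rw [← Finset.mul_sum, mul_left_comm, h3, mul_one]
    rw [h2]
    push_cast
    ring
  -- (ii)
  have h2 : Cfsg.indFun N (fun n : N => ϑ n) =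
      ∑ lam : ↥(annih N), (fun u : Γ => (((lam : Γ →* ℂˣ) u : ℂˣ) : ℂ) * ϑ u) := by
    have h3 := h7_indFun_mul_restrict N (fun _ : N => (1 : ℂ)) ϑ hcl
    have h4 : ((fun _ : N => (1 : ℂ)) * fun n : N => ϑ n) = fun n : N => ϑ n := by
      funext n
      simp
    rw [h4] at h3
    rw [h3, indFun_one_eq_sum_annih N hab]
    have h5 : (N.index : ℂ) / (Fintype.card ↥(annih N) : ℂ) = 1 := by
      rw [← Nat.card_eq_fintype_card, card_annih_normal N hab]
      have : (N.index : ℂ) ≠ 0 := by exact_mod_cast Subgroup.index_ne_zero_of_finite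
      exact div_self this
    rw [h5, one_smul]
    funext u
    simp only [Pi.mul_apply, Finset.sum_apply, Finset.sum_mul]
  rw [h2, classInner_sum_left] at h1
  have h3 : ∀ lam : ↥(annih N),
      Cfsg.classInner (fun u : Γ => (((lam : Γ →* ℂˣ) u : ℂˣ) : ℂ) * ϑ u) ϑ =
        if (∀ x : Γ, ((lam.1 x : ℂˣ) : ℂ) * ϑ x = ϑ x) then 1 else 0 := by
    intro lam
    have h4 := irr_classInner (⟨_, isIrr_linChar_mul lam.1 ϑ hϑ⟩ : Cfsg.IrrCharacter Γ) ⟨ϑ, hϑ⟩
    simp only at h4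
    rw [h4]
    congr 1
    rw [Subtype.mk.injEq, funext_iff]
  simp only [h3] at h1
  rw [Finset.sum_boole] at h1
  have h4 : e ^ 2 = (Finset.univ.filter
      (fun lam : ↥(annih N) => ∀ x : Γ, ((lam.1 x : ℂˣ) : ℂ) * ϑ x = ϑ x)).card := by
    exact_mod_cast h1.symm
  rw [h4, Nat.card_eq_fintype_card, Fintype.card_subtype]

theorem cj_of_mem {Γ : Type*} [Group Γ] (N : Subgroup Γ) [hN : N.Normal] (φ : N → ℂ)
    (hφ : Cfsg.IsClassFunction N φ) (g : Γ) (hg : g ∈ N) : cj N φ g = φ := by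
  funext h
  rw [cj_apply]
  have := hφ h ⟨g, hg⟩
  rw [← this]
  congr 1

theorem gd_trivial_stab {Γ : Type*} [Group Γ] [Fintype Γ] (N : Subgroup Γ) [hN : N.Normal]
    [Fintype N] [DecidableEq (N → ℂ)] (ϑ : Γ → ℂ)
    (hϑ : Cfsg.IsIrrCharacter Γ ϑ) (φ : N → ℂ) (hφ : Cfsg.IsIrrCharacter N φ)
    (hcon : Cfsg.classInner (fun n : N => ϑ n) φ ≠ 0)
    (hstab : ∀ g : Γ, cj N φ g = φ → g ∈ N) :
    (fun n : N => ϑ n) = ∑ ψ ∈ Finset.univ.image (fun g : Γ => cj N φ g), ψ ∧
      (Finset.univ.image (fun g : Γ => cj N φ g)).card = N.index := by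
  classical
  obtain ⟨e, he, hinner, hres⟩ := h7_clifford N ϑ hϑ φ hφ hcon
  have hφcl := isCharacter_isClassFunction (h7_irr_isCharacter hφ)
  -- cardinality of the image
  have hstabcard : Nat.card {g : Γ // ∀ h : N, cj N φ g h = φ h} = Nat.card N := by
    apply Nat.card_congr
    refine ⟨fun g => ⟨g.1, hstab g.1 (funext g.2)⟩,
      fun n => ⟨n.1, fun h => congrFun (cj_of_mem N φ hφcl n.1 n.2) h⟩, fun g => rfl, fun n => rfl⟩
  have hfib : ∀ ψ ∈ Finset.univ.image (fun g : Γ => cj N φ g),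
      (Finset.univ.filter (fun g : Γ => cj N φ g = ψ)).card = Nat.card N := by
    intro ψ hψ
    obtain ⟨g₀, -, rfl⟩ := Finset.mem_image.mp hψ
    rw [card_fiber_cj N φ g₀, hstabcard]
  have hcard : (Finset.univ.image (fun g : Γ => cj N φ g)).card * Nat.card N = Nat.card Γ := by
    have h1 := Finset.card_eq_sum_card_fiberwise (f := fun g : Γ => cj N φ g)
      (s := Finset.univ) (t := Finset.univ.image (fun g : Γ => cj N φ g))
      (fun g _ => Finset.mem_image_of_mem _ (Finset.mem_univ g))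
    rw [Finset.sum_congr rfl hfib, Finset.sum_const, smul_eq_mul, Finset.card_univ,
      ← Nat.card_eq_fintype_card] at h1
    exact h1.symm
  have hidx : (Finset.univ.image (fun g : Γ => cj N φ g)).card = N.index := by
    have h2 := Subgroup.index_mul_card N
    have hpos : 0 < Nat.card N := Nat.card_pos
    exact Nat.eq_of_mul_eq_mul_right hpos (hcard.trans h2.symm)
  refine ⟨?_, hidx⟩
  -- e = 1
  obtain ⟨dφ, hdφ, hφ1⟩ := irr_one_eq_finrank (⟨φ, hφ⟩ : Cfsg.IrrCharacter N)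
  simp only at hφ1
  have hϑ1 : ϑ 1 = ((e * (N.index * dφ) : ℕ) : ℂ) := by
    have h1 := congrFun hres 1
    simp only [Pi.smul_apply, Finset.sum_apply, smul_eq_mul] at h1
    have h2 : ∀ ψ ∈ Finset.univ.image (fun g : Γ => cj N φ g), ψ 1 = (dφ : ℂ) := by
      intro ψ hψ
      obtain ⟨g, -, rfl⟩ := Finset.mem_image.mp hψ
      rw [cj_apply, ← hφ1]
      congr 1
      apply Subtype.ext
      simp
    rw [Finset.sum_congr rfl h2, Finset.sum_const, hidx] at h1
    have h3 : ϑ ((1 : N) : Γ) = ϑ 1 := rfl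
    rw [← h3, h1]
    push_cast
    ring
  have hInd : Cfsg.classInner (Cfsg.indFun N φ) ϑ = (e : ℂ) := by
    rw [h7_frobenius_irr N ϑ (h7_irr_isClassFunction hϑ) φ, hinner]
    simp
  have hInd1 : Cfsg.indFun N φ 1 = ((N.index * dφ : ℕ) : ℂ) := by
    rw [h7_indFun_one, hφ1]
    push_cast
    rfl
  have hle := isCharacter_degree_ge (isCharacter_indFun N φ (h7_irr_isCharacter hφ))
    (⟨ϑ, hϑ⟩ : Cfsg.IrrCharacter Γ) e (N.index * dφ) (e * (N.index * dφ)) hInd hInd1 hϑ1
  have hpos : 0 < N.index * dφ := Nat.mul_pos (Nat.pos_of_ne_zero Subgroup.index_ne_zero_of_finite) hdφ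
  have he1 : e = 1 := by
    have h1 : e * e * (N.index * dφ) ≤ 1 * (N.index * dφ) := by
      calc e * e * (N.index * dφ) = e * (e * (N.index * dφ)) := by ring
        _ ≤ N.index * dφ := hle
        _ = 1 * (N.index * dφ) := by ring
    have h2 : e * e ≤ 1 := Nat.le_of_mul_le_mul_right h1 hpos
    nlinarith
  rw [hres, he1]
  simp

end Cfsg.Agent.Lib.helper2
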