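import Mathlib
import Cfsg.Prelude.Def_Characters
import Cfsg.Agent.Lib.helper2.GoingDown

set_option autoImplicit false
open scoped ComplexConjugate

namespace Cfsg.Agent.Lib.helper2

open Cfsg.Agent.Lib.helper7 Cfsg.Agent.Lib.Helper11 Cfsg.Agent.Lib.Helper25

/-- The stabilizer of a function on a normal subgroup under conjugation. -/
def cjStab {G : Type*} [Group G] (L : Subgroup G) [hL : L.Normal] (φ : L → ℂ) : Subgroup G where
  carrier := {g | cj L φ g = φ}
  one_mem' := cj_one L φ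
  mul_mem' := by
    intro a b ha hb
    show cj L φ (a * b) = φ
    rw [← cj_mul, ha, hb]
  inv_mem' := by
    intro a ha
    show cj L φ a⁻¹ = φ
    have h1 := cj_mul L φ a a⁻¹
    rw [ha, mul_inv_cancel, cj_one] at h1
    exact h1

theorem mem_cjStab {G : Type*} [Group G] (L : Subgroup G) [hL : L.Normal] (φ : L → ℂ) (g : G) :
    g ∈ cjStab L φ ↔ cj L φ g = φ := Iff.rfl

theorem le_cjStab {G : Type*} [Group G] (L : Subgroup G) [hL : L.Normal] (φ : L → ℂ)
    (hφ : Cfsg.IsClassFunction L φ) : L ≤ cjStab L φ :=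
  fun x hx => cj_of_mem L φ hφ x hx

/-- A character having an irreducible constituent of the same degree is that constituent. -/
theorem isCharacter_eq_of_degree {G : Type*} [Group G] [Fintype G] {Ψ : G → ℂ}
    (hΨ : Cfsg.IsCharacter G Ψ) (χ : Cfsg.IrrCharacter G)
    (hcon : Cfsg.classInner Ψ (χ : G → ℂ) ≠ 0) (hdeg : Ψ 1 = (χ : G → ℂ) 1) :
    Ψ = (χ : G → ℂ) := by
  classical
  haveI : Fintype (Cfsg.IrrCharacter G) := Fintype.ofFinite _
  obtain ⟨m, hm, hexp⟩ := isCharacter_expansion hΨ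
  have hmχ : 0 < m χ := by
    rcases Nat.eq_zero_or_pos (m χ) with h | h
    · exfalso
      apply hcon
      rw [hm χ, h]
      simp
    · exact h
  -- the remainder
  obtain ⟨R, hR⟩ : ∃ R : G → ℂ, R = ∑ ξ : Cfsg.IrrCharacter G,
      ((if ξ = χ then m ξ - 1 else m ξ : ℕ) : ℂ) • (ξ : G → ℂ) := ⟨_, rfl⟩
  have hRchar : Cfsg.IsCharacter G R := by
    rw [hR]
    apply isCharacter_sum
    intro ξ _
    exact isCharacter_natCast_smul (isCharacter_of_irr ξ) _
  have hsplit : Ψ = (χ : G → ℂ) + R := by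
    rw [hexp, hR]
    have h1 : (χ : G → ℂ) = ∑ ξ : Cfsg.IrrCharacter G,
        ((if ξ = χ then 1 else 0 : ℕ) : ℂ) • (ξ : G → ℂ) := by
      rw [Finset.sum_eq_single χ]
      · simp
      · intro ξ _ hξ
        simp [hξ]
      · intro h
        exact absurd (Finset.mem_univ _) h
    conv_rhs => rw [h1]
    rw [← Finset.sum_add_distrib]
    refine Finset.sum_congr rfl fun ξ _ => ?_
    rw [← add_smul]
    congr 1
    by_cases hξ : ξ = χ
    · subst hξ
      simp only [if_true]
      have : 1 + (m ξ - 1) = m ξ := by omega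
      exact_mod_cast this.symm
    · simp [hξ]
  have hR1 : R 1 = 0 := by
    have := congrFun hsplit 1
    rw [Pi.add_apply, hdeg] at this
    have h2 : (χ : G → ℂ) 1 + R 1 = (χ : G → ℂ) 1 + 0 := by rw [← this, add_zero]
    exact add_left_cancel h2
  have hR0 := h7_isCharacter_eq_zero hRchar hR1
  rw [hsplit, hR0, add_zero]

theorem card_image_cj {G : Type*} [Group G] [Fintype G] (L : Subgroup G) [hL : L.Normal]
    [DecidableEq (L → ℂ)] (φ : L → ℂ) :
    (Finset.univ.image (fun g : G => cj L φ g)).card = (cjStab L φ).index := by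
  classical
  have hstabcard : Nat.card {g : G // ∀ h : L, cj L φ g h = φ h} = Nat.card (cjStab L φ) := by
    apply Nat.card_congr
    exact ⟨fun g => ⟨g.1, funext g.2⟩, fun t => ⟨t.1, fun h => congrFun t.2 h⟩, fun g => rfl,
      fun t => rfl⟩
  have hfib : ∀ ψ ∈ Finset.univ.image (fun g : G => cj L φ g),
      (Finset.univ.filter (fun g : G => cj L φ g = ψ)).card = Nat.card (cjStab L φ) := by
    intro ψ hψ
    obtain ⟨g₀, -, rfl⟩ := Finset.mem_image.mp hψ
    rw [card_fiber_cj L φ g₀, hstabcard]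
  have hcard : (Finset.univ.image (fun g : G => cj L φ g)).card * Nat.card (cjStab L φ) =
      Nat.card G := by
    have h1 := Finset.card_eq_sum_card_fiberwise (f := fun g : G => cj L φ g)
      (s := Finset.univ) (t := Finset.univ.image (fun g : G => cj L φ g))
      (fun g _ => Finset.mem_image_of_mem _ (Finset.mem_univ g))
    rw [Finset.sum_congr rfl hfib, Finset.sum_const, smul_eq_mul, Finset.card_univ,
      ← Nat.card_eq_fintype_card] at h1
    exact h1.symm
  have h2 := Subgroup.index_mul_card (cjStab L φ)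
  have hpos : 0 < Nat.card (cjStab L φ) := Nat.card_pos
  exact Nat.eq_of_mul_eq_mul_right hpos (hcard.trans h2.symm)

theorem clifford_correspondence {G : Type*} [Group G] [Fintype G] (L : Subgroup G)
    [hL : L.Normal] [Fintype L] (χ : G → ℂ) (hχ : Cfsg.IsIrrCharacter G χ) (φ : L → ℂ)
    (hφ : Cfsg.IsIrrCharacter L φ) (hcon : Cfsg.classInner (fun n : L => χ n) φ ≠ 0) :
    ∃ η : cjStab L φ → ℂ, Cfsg.IsIrrCharacter (cjStab L φ) η ∧
      Cfsg.indFun (cjStab L φ) η = χ := by
  classical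
  haveI : Fintype (cjStab L φ) := Fintype.ofFinite _
  haveI : Fintype (Cfsg.IrrCharacter (cjStab L φ)) := Fintype.ofFinite _
  have hφchar := h7_irr_isCharacter hφ
  have hφcl := isCharacter_isClassFunction hφchar
  have hLT : L ≤ cjStab L φ := le_cjStab L φ hφcl
  have hχchar := h7_irr_isCharacter hχ
  have hχcl := h7_irr_isClassFunction hχ
  obtain ⟨m, hm, hexp⟩ := isCharacter_expansion (isCharacter_restrict hχchar (cjStab L φ))
  obtain ⟨e, he, hinner, hres⟩ := h7_clifford L χ hχ φ hφ hcon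
  -- inner products of restrictions of irreducibles of T with φ
  have hc : ∀ η : Cfsg.IrrCharacter (cjStab L φ), ∃ c : ℕ,
      Cfsg.classInner (fun n : L => (η : cjStab L φ → ℂ) ⟨(n : G), hLT n.2⟩) φ = (c : ℂ) := by
    intro η
    exact classInner_character_nat
      (isCharacter_comp_hom (isCharacter_of_irr η) (Subgroup.inclusion hLT)) hφchar
  choose c hc using hc
  have hsum : e = ∑ η : Cfsg.IrrCharacter (cjStab L φ), m η * c η := by
    have h1 : (fun n : L => χ n) = ∑ η : Cfsg.IrrCharacter (cjStab L φ),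
        (m η : ℂ) • (fun n : L => (η : cjStab L φ → ℂ) ⟨(n : G), hLT n.2⟩) := by
      funext n
      have h2 := congrFun hexp ⟨(n : G), hLT n.2⟩
      simp only [Finset.sum_apply, Pi.smul_apply] at h2 ⊢
      exact h2
    have h3 : ((e : ℕ) : ℂ) = ((∑ η : Cfsg.IrrCharacter (cjStab L φ), m η * c η : ℕ) : ℂ) := by
      rw [← hinner, h1, classInner_sum_left]
      push_cast
      refine Finset.sum_congr rfl fun η _ => ?_
      rw [classInner_smul_left, hc]
    exact_mod_cast h3
  -- pick η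
  obtain ⟨η, hη⟩ : ∃ η : Cfsg.IrrCharacter (cjStab L φ), m η * c η ≠ 0 := by
    by_contra hne
    push Not at hne
    rw [Finset.sum_eq_zero (fun η _ => hne η)] at hsum
    omega
  have hmη : 0 < m η := Nat.pos_of_ne_zero (fun h => hη (by rw [h, zero_mul]))
  have hcη : 0 < c η := Nat.pos_of_ne_zero (fun h => hη (by rw [h, mul_zero]))
  have hconη : Cfsg.classInner (fun n : L => (η : cjStab L φ → ℂ) ⟨(n : G), hLT n.2⟩) φ ≠ 0 := by
    rw [hc]
    exact_mod_cast hcη.ne'
  have hinvT : ∀ t ∈ cjStab L φ, ∀ n : L,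
      φ ⟨t * n * t⁻¹, hL.conj_mem (n : G) n.2 t⟩ = φ n := by
    intro t ht n
    have := congrFun ((mem_cjStab L φ t).mp ht) n
    rwa [cj_apply] at this
  obtain ⟨f, hf, hfinner, hfres⟩ := h7_clifford_invariant_le L (cjStab L φ) hLT
    (η : cjStab L φ → ℂ) η.2 φ hφ hconη hinvT
  have hfc : f = c η := by
    have : (f : ℂ) = (c η : ℂ) := by rw [← hfinner, hc]
    exact_mod_cast this
  have hfe : f ≤ e := by
    rw [hsum, hfc]
    calc c η ≤ m η * c η := Nat.le_mul_of_pos_left _ hmη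
      _ ≤ ∑ η : Cfsg.IrrCharacter (cjStab L φ), m η * c η :=
        Finset.single_le_sum (f := fun η => m η * c η) (fun _ _ => Nat.zero_le _)
          (Finset.mem_univ η)
  -- degrees
  obtain ⟨dφ, hdφ, hφ1⟩ := irr_one_eq_finrank (⟨φ, hφ⟩ : Cfsg.IrrCharacter L)
  simp only at hφ1
  have hidx := card_image_cj L φ
  have hχ1 : χ 1 = ((e * ((cjStab L φ).index * dφ) : ℕ) : ℂ) := by
    have h1 := congrFun hres 1
    simp only [Pi.smul_apply, Finset.sum_apply, smul_eq_mul] at h1
    have h2 : ∀ ψ ∈ Finset.univ.image (fun g : G => cj L φ g), ψ 1 = (dφ : ℂ) := by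
      intro ψ hψ
      obtain ⟨g, -, rfl⟩ := Finset.mem_image.mp hψ
      rw [cj_apply, ← hφ1]
      congr 1
      apply Subtype.ext
      simp
    rw [Finset.sum_congr rfl h2, Finset.sum_const, hidx] at h1
    have h3 : χ ((1 : L) : G) = χ 1 := rfl
    rw [← h3, h1]
    push_cast
    ring
  have hη1 : (η : cjStab L φ → ℂ) 1 = ((f * dφ : ℕ) : ℂ) := by
    have h1 := congrFun hfres 1
    simp only [Pi.smul_apply, smul_eq_mul, hφ1] at h1
    have h2 : (η : cjStab L φ → ℂ) ⟨((1 : L) : G), hLT (1 : L).2⟩ = (η : cjStab L φ → ℂ) 1 := rfl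
    rw [← h2, h1]
    push_cast
    rfl
  have hΨ : Cfsg.IsCharacter G (Cfsg.indFun (cjStab L φ) (η : cjStab L φ → ℂ)) :=
    isCharacter_indFun _ _ (isCharacter_of_irr η)
  have hΨχ : Cfsg.classInner (Cfsg.indFun (cjStab L φ) (η : cjStab L φ → ℂ)) χ = (m η : ℂ) := by
    rw [h7_frobenius_irr (cjStab L φ) χ hχcl, hm η]
    simp
  have hΨ1 : Cfsg.indFun (cjStab L φ) (η : cjStab L φ → ℂ) 1 =
      (((cjStab L φ).index * (f * dφ) : ℕ) : ℂ) := by
    rw [h7_indFun_one, hη1]
    push_cast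
    rfl
  have hle := isCharacter_degree_ge hΨ (⟨χ, hχ⟩ : Cfsg.IrrCharacter G) (m η)
    ((cjStab L φ).index * (f * dφ)) (e * ((cjStab L φ).index * dφ)) hΨχ hΨ1 hχ1
  have hipos : 0 < (cjStab L φ).index := Nat.pos_of_ne_zero Subgroup.index_ne_zero_of_finite
  have hef : e = f := by
    have h1 : e * ((cjStab L φ).index * dφ) ≤ f * ((cjStab L φ).index * dφ) := by
      calc e * ((cjStab L φ).index * dφ) ≤ m η * (e * ((cjStab L φ).index * dφ)) :=
            Nat.le_mul_of_pos_left _ hmη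
        _ ≤ (cjStab L φ).index * (f * dφ) := hle
        _ = f * ((cjStab L φ).index * dφ) := by ring
    have h2 : e ≤ f := Nat.le_of_mul_le_mul_right h1 (Nat.mul_pos hipos hdφ)
    omega
  refine ⟨(η : cjStab L φ → ℂ), η.2, ?_⟩
  apply isCharacter_eq_of_degree hΨ (⟨χ, hχ⟩ : Cfsg.IrrCharacter G)
  · rw [hΨχ]
    exact_mod_cast hmη.ne'
  · rw [hΨ1]
    show _ = χ 1
    rw [hχ1, hef]
    push_cast
    ring

end Cfsg.Agent.Lib.helper2
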