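import Mathlib
import Cfsg.Prelude.Def_Characters
import Cfsg.Agent.Lib.helper2.CliffordCorr
import Cfsg.Agent.Lib.helper2.IndTools
import Cfsg.Agent.S0857

set_option autoImplicit false
open scoped ComplexConjugate

namespace Cfsg.Agent.Lib.helper2

open Cfsg.Agent.Lib.helper7 Cfsg.Agent.Lib.Helper11 Cfsg.Agent.Lib.Helper25

/-- Every chief factor of every subgroup above `N` has non-square order. -/
def NonsquareChief {G : Type*} [Group G] (N : Subgroup G) : Prop :=
  ∀ (H K L : Subgroup G), N ≤ L → L < K → K ≤ H → (∀ h ∈ H, ∀ k ∈ K, h * k * h⁻¹ ∈ K) →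
    (∀ h ∈ H, ∀ l ∈ L, h * l * h⁻¹ ∈ L) →
    (∀ M : Subgroup G, L ≤ M → M ≤ K → (∀ h ∈ H, ∀ m ∈ M, h * m * h⁻¹ ∈ M) → M = L ∨ M = K) →
    ¬ IsSquare (L.relIndex K)

theorem nonsquareChief_subgroup {G : Type*} [Group G] (N : Subgroup G) (hNS : NonsquareChief N)
    (T : Subgroup G) (hNT : N ≤ T) : NonsquareChief (N.subgroupOf T) := by
  intro H' K' L' hNL hLK hKH hKinv hLinv hchief
  have hinj := T.subtype_injective
  rw [← Subgroup.relIndex_map_map_of_injective L' K' hinj]
  apply hNS (H'.map T.subtype) (K'.map T.subtype) (L'.map T.subtype)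
  · intro n hn
    exact ⟨⟨n, hNT hn⟩, hNL (Subgroup.mem_subgroupOf.mpr hn), rfl⟩
  · exact (Subgroup.map_lt_map_iff_of_injective hinj).mpr hLK
  · exact Subgroup.map_mono hKH
  · rintro _ ⟨h, hh, rfl⟩ _ ⟨k, hk, rfl⟩
    exact ⟨h * k * h⁻¹, hKinv h hh k hk, by simp⟩
  · rintro _ ⟨h, hh, rfl⟩ _ ⟨l, hl, rfl⟩
    exact ⟨h * l * h⁻¹, hLinv h hh l hl, by simp⟩
  · intro M hLM hMK hMinv
    have hMT : M ≤ T := hMK.trans (Subgroup.map_subtype_le K')
    have h1 : L' ≤ M.subgroupOf T := by
      intro x hx
      exact Subgroup.mem_subgroupOf.mpr (hLM ⟨x, hx, rfl⟩)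
    have h2 : M.subgroupOf T ≤ K' := by
      intro x hx
      obtain ⟨k, hk, hkx⟩ := hMK (Subgroup.mem_subgroupOf.mp hx)
      have : k = x := hinj hkx
      rwa [← this]
    have h3 : ∀ h ∈ H', ∀ m ∈ M.subgroupOf T, h * m * h⁻¹ ∈ M.subgroupOf T := by
      intro h hh m hm
      rw [Subgroup.mem_subgroupOf] at hm ⊢
      have := hMinv (h : G) ⟨h, hh, rfl⟩ (m : G) hm
      simpa using this
    rcases hchief _ h1 h2 h3 with h4 | h4
    · left
      rw [← h4, Subgroup.map_subgroupOf_eq_of_le hMT]
    · right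
      rw [← h4, Subgroup.map_subgroupOf_eq_of_le hMT]

theorem solvable_quot_subgroupOf {G : Type*} [Group G] (N : Subgroup G) [N.Normal]
    (hsolv : Group.IsSolvable (G ⧸ N)) (T : Subgroup G) :
    Group.IsSolvable (↥T ⧸ N.subgroupOf T) := by
  have hle : N.subgroupOf T ≤ N.comap T.subtype := le_refl _
  apply Group.isSolvable_of_isSolvable_injective
    (f := QuotientGroup.map (N.subgroupOf T) N T.subtype hle)
  rw [injective_iff_map_eq_one]
  intro q hq
  induction q using QuotientGroup.induction_on with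
  | H x =>
    rw [QuotientGroup.map_mk, QuotientGroup.eq_one_iff] at hq
    rw [QuotientGroup.eq_one_iff]
    exact Subgroup.mem_subgroupOf.mpr hq

/-- For `N < K` normal with solvable quotient `G ⧸ N`, the subgroup `⁅K, K⁆ ⊔ N` is proper in `K`. -/
theorem commutator_sup_ne {G : Type*} [Group G] (N : Subgroup G) [N.Normal]
    (hsolv : Group.IsSolvable (G ⧸ N)) (K : Subgroup G) (hNK : N < K) :
    ⁅K, K⁆ ⊔ N ≠ K := by
  intro h
  have hKbar : K.map (QuotientGroup.mk' N) ≠ ⊥ := by
    intro hbot
    rw [Subgroup.map_eq_bot_iff, QuotientGroup.ker_mk'] at hbot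
    exact absurd hbot (not_le_of_gt hNK)
  have h1 := Group.IsSolvable.commutator_lt_of_ne_bot hKbar
  have h2 : K.map (QuotientGroup.mk' N) = ⁅K.map (QuotientGroup.mk' N), K.map (QuotientGroup.mk' N)⁆ := by
    conv_lhs => rw [← h]
    rw [Subgroup.map_sup, Subgroup.map_commutator, QuotientGroup.map_mk'_self, sup_bot_eq]
  rw [← h2] at h1
  exact lt_irrefl _ h1

universe u

theorem relM_aux (n : ℕ) : ∀ (G : Type u) [Group G] [Fintype G], Nat.card G ≤ n →
    ∀ (N : Subgroup G) [N.Normal], Group.IsSolvable (G ⧸ N) → NonsquareChief N →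
    ∀ χ : G → ℂ, Cfsg.IsIrrCharacter G χ →
    ∃ (H : Subgroup G) (hNH : N ≤ H) (ψ : H → ℂ), Cfsg.IsIrrCharacter H ψ ∧
      Cfsg.indFun H ψ = χ ∧ Cfsg.IsIrrCharacter N (fun n : N => ψ ⟨(n : G), hNH n.2⟩) := by
  induction n with
  | zero =>
    intro G _ _ hcard
    exact absurd hcard (by have := Nat.card_pos (α := G); omega)
  | succ n ih =>
    intro G _ _ hcard N _ hsolv hNS χ hχ
    classical
    have hχcl := h7_irr_isClassFunction hχ
    have hχchar := h7_irr_isCharacter hχ
    by_cases hirrN : Cfsg.IsIrrCharacter N (fun n : N => χ n)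
    · refine ⟨⊤, le_top, fun h => χ h, ?_, indFun_top χ hχcl, hirrN⟩
      exact h7_isIrr_comp_equiv (Subgroup.topEquiv : (⊤ : Subgroup G) ≃* G) χ hχ
    · -- minimal K
      have hfin : {K : Subgroup G | K.Normal ∧ N ≤ K ∧
          Cfsg.IsIrrCharacter K (fun k : K => χ k)}.Finite := Set.toFinite _
      have hne : {K : Subgroup G | K.Normal ∧ N ≤ K ∧
          Cfsg.IsIrrCharacter K (fun k : K => χ k)}.Nonempty :=
        ⟨⊤, inferInstance, le_top,
          h7_isIrr_comp_equiv (Subgroup.topEquiv : (⊤ : Subgroup G) ≃* G) χ hχ⟩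
      obtain ⟨K, hKmin⟩ := hfin.exists_minimal hne
      obtain ⟨hKn, hNK, hKirr⟩ := hKmin.prop
      haveI := hKn
      have hNK' : N < K := by
        refine lt_of_le_of_ne hNK ?_
        intro h
        subst h
        exact hirrN hKirr
      -- maximal L
      have hfinL : {L : Subgroup G | L.Normal ∧ ⁅K, K⁆ ⊔ N ≤ L ∧ L < K}.Finite := Set.toFinite _
      have hcomK : ⁅K, K⁆ ≤ K := Subgroup.commutator_le_right K K
      have hneL : {L : Subgroup G | L.Normal ∧ ⁅K, K⁆ ⊔ N ≤ L ∧ L < K}.Nonempty :=
        ⟨⁅K, K⁆ ⊔ N, Subgroup.sup_normal _ _, le_refl _,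
          lt_of_le_of_ne (sup_le hcomK hNK) (commutator_sup_ne N hsolv K hNK')⟩
      obtain ⟨L, hLmax⟩ := hfinL.exists_maximal hneL
      obtain ⟨hLn, hcomL, hLK⟩ := hLmax.prop
      haveI := hLn
      have hNL : N ≤ L := le_sup_right.trans hcomL
      have hab : ⁅K, K⁆ ≤ L := le_sup_left.trans hcomL
      have hchief : ∀ M : Subgroup G, M.Normal → L ≤ M → M ≤ K → M = L ∨ M = K := by
        intro M hMn hLM hMK
        by_cases hMK' : M = K
        · right; exact hMK'
        · left
          have hM : M ∈ {L : Subgroup G | L.Normal ∧ ⁅K, K⁆ ⊔ N ≤ L ∧ L < K} :=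
            ⟨hMn, hcomL.trans hLM, lt_of_le_of_ne hMK hMK'⟩
          exact le_antisymm (hLmax.le_of_ge hM hLM) hLM
      have hinv : ∀ (g : G) (k : K),
          (fun k : K => χ k) ⟨g * k * g⁻¹, hKn.conj_mem (k : G) k.2 g⟩ = (fun k : K => χ k) k := by
        intro g k
        exact hχcl k g
      have hgd := Cfsg.Agent.S0857.result K L hLK hchief hab (fun k : K => χ k) hKirr hinv
      rcases hgd with ha | ⟨φ, e, -, -, he⟩ | ⟨F, hFirr, hFcard, hFsum⟩
      · -- (a) contradicts minimality
        exfalso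
        have hL𝒦 : L ∈ {K : Subgroup G | K.Normal ∧ N ≤ K ∧
            Cfsg.IsIrrCharacter K (fun k : K => χ k)} := ⟨hLn, hNL, ha⟩
        exact absurd (hKmin.le_of_le hL𝒦 hLK.le) (not_le_of_gt hLK)
      · -- (b) contradicts nonsquare
        exfalso
        apply hNS ⊤ K L hNL hLK le_top (fun h _ k hk => hKn.conj_mem k hk h)
          (fun h _ l hl => hLn.conj_mem l hl h)
        · intro M hLM hMK hMinv
          exact hchief M ⟨fun m hm g => hMinv g (Subgroup.mem_top g) m hm⟩ hLM hMK
        · exact ⟨e, by rw [← he, sq]⟩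
      · -- (c)
        haveI : Fintype L := Fintype.ofFinite L
        have hidx2 : 2 ≤ L.relIndex K := by
          have h0 : L.relIndex K ≠ 0 := by
            show (L.subgroupOf K).index ≠ 0
            exact Subgroup.index_ne_zero_of_finite
          have h1 : L.relIndex K ≠ 1 := by
            intro h
            rw [Subgroup.relIndex_eq_one] at h
            exact absurd h (not_le_of_gt hLK)
          omega
        have hχL : (fun x : L => χ x) = ∑ φ ∈ F, φ := hFsum
        obtain ⟨φ, hφF⟩ : F.Nonempty := by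
          rw [← Finset.card_pos]
          omega
        have hφ := hFirr φ hφF
        have horth : ∀ φ₁ ∈ F, Cfsg.classInner (fun x : L => χ x) φ₁ = 1 := by
          intro φ₁ hφ₁
          rw [hχL, classInner_sum_left, Finset.sum_eq_single φ₁]
          · have := irr_classInner (⟨φ₁, hFirr φ₁ hφ₁⟩ : Cfsg.IrrCharacter L) ⟨φ₁, hFirr φ₁ hφ₁⟩
            simpa using this
          · intro φ₂ hφ₂ hne
            have := irr_classInner (⟨φ₂, hFirr φ₂ hφ₂⟩ : Cfsg.IrrCharacter L) ⟨φ₁, hFirr φ₁ hφ₁⟩
            rw [if_neg (fun h => hne (congrArg Subtype.val h))] at this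
            exact this
          · intro h
            exact absurd hφ₁ h
        have hcon : Cfsg.classInner (fun x : L => χ x) φ ≠ 0 := by
          rw [horth φ hφF]
          exact one_ne_zero
        obtain ⟨η, hη, hηind⟩ := clifford_correspondence L χ hχ φ hφ hcon
        have hφcl := isCharacter_isClassFunction (h7_irr_isCharacter hφ)
        have hLT : L ≤ cjStab L φ := le_cjStab L φ hφcl
        have hNT : N ≤ cjStab L φ := hNL.trans hLT
        have hTne : cjStab L φ ≠ ⊤ := by
          intro htop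
          have hinvφ : ∀ g : G, cj L φ g = φ := by
            intro g
            have : g ∈ cjStab L φ := by rw [htop]; exact Subgroup.mem_top g
            exact this
          obtain ⟨e, -, -, hres⟩ := h7_clifford_invariant L χ hχ φ hφ hcon hinvφ
          obtain ⟨φ₂, hφ₂F, hφ₂ne⟩ : ∃ φ₂ ∈ F, φ₂ ≠ φ := by
            by_contra hcon2
            push Not at hcon2
            have : F ⊆ {φ} := fun x hx => Finset.mem_singleton.mpr (hcon2 x hx)
            have := Finset.card_le_card this
            rw [Finset.card_singleton] at this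
            omega
          have h1 := horth φ₂ hφ₂F
          rw [hres, classInner_smul_left] at h1
          have h2 := irr_classInner (⟨φ, hφ⟩ : Cfsg.IrrCharacter L) ⟨φ₂, hFirr φ₂ hφ₂F⟩
          rw [if_neg (fun h => hφ₂ne (congrArg Subtype.val h).symm)] at h2
          simp only at h2
          rw [h2, mul_zero] at h1
          exact zero_ne_one h1
        haveI : Fintype (cjStab L φ) := Fintype.ofFinite _
        have hTcard : Nat.card (cjStab L φ) ≤ n := by
          have h1 : Nat.card (cjStab L φ) < Nat.card G := by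
            have h2 := Subgroup.card_mul_index (cjStab L φ)
            have h3 : (cjStab L φ).index ≠ 1 := fun h => hTne (Subgroup.index_eq_one.mp h)
            have h4 : (cjStab L φ).index ≠ 0 := Subgroup.index_ne_zero_of_finite
            have h5 : 0 < Nat.card (cjStab L φ) := Nat.card_pos
            have h6 : 2 ≤ (cjStab L φ).index := by omega
            calc Nat.card (cjStab L φ) < Nat.card (cjStab L φ) * 2 := by omega
              _ ≤ Nat.card (cjStab L φ) * (cjStab L φ).index := Nat.mul_le_mul_left _ h6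
              _ = Nat.card G := h2
          omega
        obtain ⟨H', hN'H', ψ', hψ', hψ'ind, hψ'N⟩ := ih (cjStab L φ) hTcard
          (N.subgroupOf (cjStab L φ)) (solvable_quot_subgroupOf N hsolv _)
          (nonsquareChief_subgroup N hNS _ hNT) η hη
        have hNH : N ≤ H'.map (cjStab L φ).subtype := by
          intro x hx
          exact ⟨⟨x, hNT hx⟩, hN'H' (Subgroup.mem_subgroupOf.mpr hx), rfl⟩
        refine ⟨H'.map (cjStab L φ).subtype, hNH,
          fun h => ψ' ((H'.equivMapOfInjective (cjStab L φ).subtype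
            (cjStab L φ).subtype_injective).symm h), ?_, ?_, ?_⟩
        · exact h7_isIrr_comp_equiv _ ψ' hψ'
        · rw [← indFun_trans (cjStab L φ) H' ψ', hψ'ind, hηind]
        · let iso : N ≃* N.subgroupOf (cjStab L φ) :=
            { toFun := fun x => ⟨⟨(x : G), hNT x.2⟩, x.2⟩
              invFun := fun y => ⟨((y : cjStab L φ) : G), y.2⟩
              left_inv := fun x => rfl
              right_inv := fun y => rfl
              map_mul' := fun a b => rfl }
          have := h7_isIrr_comp_equiv iso _ hψ'N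
          convert this using 2
          rename_i x
          show ψ' _ = ψ' _
          congr 1
          rw [MulEquiv.symm_apply_eq]
          apply Subtype.ext
          rfl

end Cfsg.Agent.Lib.helper2
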