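import Mathlib
import Cfsg.Prelude.Def_Characters
import Cfsg.Agent.Lib.helper2.RelMGroup

set_option autoImplicit false
open scoped ComplexConjugate

namespace Cfsg.Agent.Lib.helper2

open Cfsg.Agent.Lib.helper7 Cfsg.Agent.Lib.Helper11 Cfsg.Agent.Lib.Helper25

theorem ind_restrict_sum {G : Type*} [Group G] [Fintype G] (N : Subgroup G) [hN : N.Normal]
    [Fintype N] (E : Subgroup G) [Fintype (N.subgroupOf E)] (ψ : E → ℂ) (F : N → ℂ)
    (hFinv : ∀ (x : G) (n : N), F ⟨x * n * x⁻¹, hN.conj_mem n n.2 x⟩ = F n) :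
    (Nat.card N : ℂ)⁻¹ * ∑ n : N, Cfsg.indFun E ψ (n : G) * F n =
      ((E ⊔ N).index : ℂ) * ((Nat.card (N.subgroupOf E) : ℂ)⁻¹ *
        ∑ k : N.subgroupOf E, ψ (k : E) * F ⟨((k : E) : G), k.2⟩) := by
  classical
  have h1 : ∑ n : N, (∑ x : G, Cfsg.extendByZero E ψ (x⁻¹ * (n : G) * x)) * F n =
      (Nat.card G : ℂ) * ∑ n : N, Cfsg.extendByZero E ψ (n : G) * F n := by
    simp only [Finset.sum_mul]
    rw [Finset.sum_comm]
    have h2 : ∀ x : G, ∑ n : N, Cfsg.extendByZero E ψ (x⁻¹ * (n : G) * x) * F n =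
        ∑ n : N, Cfsg.extendByZero E ψ (n : G) * F n := by
      intro x
      rw [← Equiv.sum_comp (MulAut.conjNormal x : N ≃* N).toEquiv
        (fun n : N => Cfsg.extendByZero E ψ (x⁻¹ * (n : G) * x) * F n)]
      refine Finset.sum_congr rfl fun n _ => ?_
      have h3 : (((MulAut.conjNormal x : N ≃* N).toEquiv n : N) : G) = x * n * x⁻¹ := rfl
      have h4 : ((MulAut.conjNormal x : N ≃* N).toEquiv n : N) =
          ⟨x * n * x⁻¹, hN.conj_mem n n.2 x⟩ := Subtype.ext h3
      rw [h3, h4, hFinv]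
      congr 2
      group
    simp only [h2]
    rw [Finset.sum_const, Finset.card_univ, nsmul_eq_mul, Nat.card_eq_fintype_card]
  have h2 : ∑ n : N, Cfsg.extendByZero E ψ (n : G) * F n =
      ∑ k : N.subgroupOf E, ψ (k : E) * F ⟨((k : E) : G), k.2⟩ := by
    symm
    apply Finset.sum_of_injOn (fun k : N.subgroupOf E => (⟨((k : E) : G), k.2⟩ : N))
    · intro k₁ _ k₂ _ h
      apply Subtype.ext
      apply Subtype.ext
      exact congrArg (fun n : N => (n : G)) h
    · intro k _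
      exact Finset.mem_coe.mpr (Finset.mem_univ _)
    · intro n _ hn
      have hnE : (n : G) ∉ E := by
        intro hmem
        apply hn
        refine ⟨⟨⟨(n : G), hmem⟩, n.2⟩, Finset.mem_coe.mpr (Finset.mem_univ _), ?_⟩
        rfl
      rw [h7_extendByZero_not_mem E ψ _ hnE, zero_mul]
    · intro k _
      rw [h7_extendByZero_mem E ψ _ (k : E).2]
  have hcards : Nat.card G * Nat.card (N.subgroupOf E) =
      (E ⊔ N).index * (Nat.card N * Nat.card E) := by
    have e1 : N.relIndex (E ⊔ N) * (E ⊔ N).index = N.index :=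
      Subgroup.relIndex_mul_index le_sup_right
    have e2 : N.relIndex (E ⊔ N) = (N.subgroupOf E).index := by
      rw [Subgroup.relIndex_sup_right]
      rfl
    have e3 := Subgroup.card_mul_index N
    have e4 := Subgroup.card_mul_index (N.subgroupOf E)
    rw [← e3, ← e1, e2, ← e4]
    ring
  have hGne : (Nat.card G : ℂ) ≠ 0 := by exact_mod_cast Nat.card_pos.ne'
  have hNne : (Nat.card N : ℂ) ≠ 0 := by exact_mod_cast Nat.card_pos.ne'
  have hEne : (Nat.card E : ℂ) ≠ 0 := by exact_mod_cast Nat.card_pos.ne'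
  have hKne : (Nat.card (N.subgroupOf E) : ℂ) ≠ 0 := by exact_mod_cast Nat.card_pos.ne'
  have hcards' : (Nat.card G : ℂ) * (Nat.card (N.subgroupOf E) : ℂ) =
      ((E ⊔ N).index : ℂ) * ((Nat.card N : ℂ) * (Nat.card E : ℂ)) := by exact_mod_cast hcards
  have h3 : ∀ n : N, Cfsg.indFun E ψ (n : G) * F n =
      (Nat.card E : ℂ)⁻¹ * ((∑ x : G, Cfsg.extendByZero E ψ (x⁻¹ * (n : G) * x)) * F n) := by
    intro n
    unfold Cfsg.indFun
    ring
  simp only [h3]
  rw [← Finset.mul_sum, h1, h2]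
  field_simp
  linear_combination (∑ k : N.subgroupOf E, ψ (k : E) * F ⟨((k : E) : G), k.2⟩) * hcards'

/-- Split off an irreducible constituent of a character. -/
theorem isCharacter_split {G : Type*} [Group G] [Fintype G] {Ψ : G → ℂ}
    (hΨ : Cfsg.IsCharacter G Ψ) (χ : Cfsg.IrrCharacter G)
    (hcon : Cfsg.classInner Ψ (χ : G → ℂ) ≠ 0) :
    ∃ R : G → ℂ, Cfsg.IsCharacter G R ∧ Ψ = (χ : G → ℂ) + R := by
  classical
  haveI : Fintype (Cfsg.IrrCharacter G) := Fintype.ofFinite _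
  obtain ⟨m, hm, hexp⟩ := isCharacter_expansion hΨ
  have hmχ : 0 < m χ := by
    rcases Nat.eq_zero_or_pos (m χ) with h | h
    · exfalso
      apply hcon
      rw [hm χ, h]
      simp
    · exact h
  refine ⟨∑ ξ : Cfsg.IrrCharacter G,
      ((if ξ = χ then m ξ - 1 else m ξ : ℕ) : ℂ) • (ξ : G → ℂ), ?_, ?_⟩
  · apply isCharacter_sum
    intro ξ _
    exact isCharacter_natCast_smul (isCharacter_of_irr ξ) _
  · rw [hexp]
    have h1 : (χ : G → ℂ) = ∑ ξ : Cfsg.IrrCharacter G,
        ((if ξ = χ then 1 else 0 : ℕ) : ℂ) • (ξ : G → ℂ) := by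
      rw [Finset.sum_eq_single χ]
      · simp
      · intro ξ _ hξ
        simp [hξ]
      · intro h
        exact absurd (Finset.mem_univ _) h
    conv_rhs => rw [h1]
    rw [← Finset.sum_add_distrib]
    refine Finset.sum_congr rfl fun ξ _ => ?_
    rw [← add_smul]
    congr 1
    by_cases hξ : ξ = χ
    · subst hξ
      simp only [if_true]
      have : 1 + (m ξ - 1) = m ξ := by omega
      exact_mod_cast this.symm
    · simp [hξ]

theorem classInner_self_pos {G : Type*} [Group G] [Fintype G] {α : G → ℂ}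
    (hα : Cfsg.IsCharacter G α) (h1 : α 1 ≠ 0) :
    ∃ a : ℕ, 0 < a ∧ Cfsg.classInner α α = (a : ℂ) := by
  obtain ⟨χ, m, hm, hχm⟩ := isCharacter_exists_constituent hα h1
  have hcon : Cfsg.classInner α (χ : G → ℂ) ≠ 0 := by
    rw [hχm]
    exact_mod_cast hm.ne'
  obtain ⟨R, hR, hsplit⟩ := isCharacter_split hα χ hcon
  obtain ⟨b, hb⟩ := classInner_character_nat hα hR
  refine ⟨m + b, by omega, ?_⟩
  have h2 : Cfsg.classInner α α = Cfsg.classInner α ((χ : G → ℂ) + R) := by
    rw [← hsplit]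
  have h3 : Cfsg.classInner α ((χ : G → ℂ) + R) =
      Cfsg.classInner α (χ : G → ℂ) + Cfsg.classInner α R := by
    simp only [Cfsg.classInner, Pi.add_apply, map_add, mul_add, Finset.sum_add_distrib]
  rw [h2, h3, hχm, hb]
  push_cast
  rfl

theorem restrict_irr_of_induced {H : Type*} [Group H] [Fintype H] (N : Subgroup H)
    [hN : N.Normal] (T : Subgroup H) (ξ : T → ℂ)
    (hξ : Cfsg.IsIrrCharacter T ξ) (hind : Cfsg.IsIrrCharacter H (Cfsg.indFun T ξ))
    (hres : Cfsg.IsIrrCharacter N (fun n : N => Cfsg.indFun T ξ (n : H))) :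
    Cfsg.IsIrrCharacter (N.subgroupOf T) (fun k : N.subgroupOf T => ξ (k : T)) := by
  classical
  haveI : Fintype N := Fintype.ofFinite N
  haveI : Fintype T := Fintype.ofFinite T
  haveI : Fintype (N.subgroupOf T) := Fintype.ofFinite _
  obtain ⟨ψ, hψdef⟩ : ∃ ψ : H → ℂ, ψ = Cfsg.indFun T ξ := ⟨_, rfl⟩
  rw [← hψdef] at hind hres
  have hψcl := h7_irr_isClassFunction hind
  have hψchar := h7_irr_isCharacter hind
  have hξchar := h7_irr_isCharacter hξ
  -- Mackey-type sum
  have hFinv : ∀ (x : H) (n : N), (fun n : N => conj (ψ n)) ⟨x * n * x⁻¹, hN.conj_mem n n.2 x⟩ =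
      (fun n : N => conj (ψ n)) n := by
    intro x n
    show conj (ψ (x * n * x⁻¹)) = conj (ψ n)
    rw [hψcl]
  have hmac := ind_restrict_sum N T ξ (fun n : N => conj (ψ n)) hFinv
  rw [← hψdef] at hmac
  have h1 : (Nat.card N : ℂ)⁻¹ * ∑ n : N, ψ (n : H) * (fun n : N => conj (ψ n)) n = 1 := by
    have := irr_classInner (⟨_, hres⟩ : Cfsg.IrrCharacter N) ⟨_, hres⟩
    rw [if_pos rfl] at this
    exact this
  rw [h1] at hmac
  -- the characters on K
  have hξK : Cfsg.IsCharacter (N.subgroupOf T) (fun k : N.subgroupOf T => ξ (k : T)) :=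
    isCharacter_restrict hξchar _
  have hψK : Cfsg.IsCharacter (N.subgroupOf T) (fun k : N.subgroupOf T => ψ ((k : T) : H)) :=
    isCharacter_comp_hom hψchar (T.subtype.comp (N.subgroupOf T).subtype)
  obtain ⟨c, hc⟩ := classInner_character_nat hξK hψK
  have hc' : (Nat.card (N.subgroupOf T) : ℂ)⁻¹ *
      ∑ k : N.subgroupOf T, ξ (k : T) * (fun n : N => conj (ψ n)) ⟨((k : T) : H), k.2⟩ = (c : ℂ) := hc
  rw [hc'] at hmac
  have hc1 : c = 1 := by
    have : ((T ⊔ N).index * c : ℕ) = 1 := by exact_mod_cast hmac.symm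
    exact Nat.eq_one_of_mul_eq_one_left this
  -- split ψ_T = ξ + Δ
  have hψT : Cfsg.IsCharacter T (fun t : T => ψ t) := isCharacter_restrict hψchar T
  have hconT : Cfsg.classInner (fun t : T => ψ t) ξ ≠ 0 := by
    have h2 := h7_frobenius_irr T ψ hψcl ξ
    rw [← hψdef] at h2
    have h3 := irr_classInner (⟨ψ, hind⟩ : Cfsg.IrrCharacter H) ⟨ψ, hind⟩
    rw [if_pos rfl] at h3
    simp only at h3
    rw [h3] at h2
    intro h0
    rw [h0] at h2
    simp at h2
  obtain ⟨Δ, hΔ, hsplit⟩ := isCharacter_split hψT (⟨ξ, hξ⟩ : Cfsg.IrrCharacter T) hconT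
  have hΔK : Cfsg.IsCharacter (N.subgroupOf T) (fun k : N.subgroupOf T => Δ (k : T)) :=
    isCharacter_restrict hΔ _
  have hψKsplit : (fun k : N.subgroupOf T => ψ ((k : T) : H)) =
      (fun k : N.subgroupOf T => ξ (k : T)) + (fun k : N.subgroupOf T => Δ (k : T)) := by
    funext k
    have := congrFun hsplit (k : T)
    simpa using this
  have hξ1 : (fun k : N.subgroupOf T => ξ (k : T)) 1 ≠ 0 := by
    show ξ ((1 : N.subgroupOf T) : T) ≠ 0
    exact irr_one_ne_zero ⟨ξ, hξ⟩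
  obtain ⟨a, ha, haeq⟩ := classInner_self_pos hξK hξ1
  obtain ⟨b, hb⟩ := classInner_character_nat hξK hΔK
  have hsum : c = a + b := by
    have h3 : Cfsg.classInner (fun k : N.subgroupOf T => ξ (k : T))
        ((fun k : N.subgroupOf T => ξ (k : T)) + (fun k : N.subgroupOf T => Δ (k : T))) =
        Cfsg.classInner (fun k : N.subgroupOf T => ξ (k : T)) (fun k : N.subgroupOf T => ξ (k : T)) +
        Cfsg.classInner (fun k : N.subgroupOf T => ξ (k : T)) (fun k : N.subgroupOf T => Δ (k : T)) := by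
      simp only [Cfsg.classInner, Pi.add_apply, map_add, mul_add, Finset.sum_add_distrib]
    rw [hψKsplit, h3, haeq, hb] at hc
    exact_mod_cast hc.symm
  have ha1 : a = 1 := by omega
  apply h7_irr_of_norm_one hξK
  rw [haeq, ha1]
  simp

end Cfsg.Agent.Lib.helper2
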