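import Mathlib
import Cfsg.Agent.Lib.Helper1.MinNormal
import Cfsg.Agent.Lib.Helper1.Nilp

set_option autoImplicit false
open scoped commutatorElement

namespace Cfsg.Agent.Lib.helper2

open Cfsg.Agent.Lib.Helper1

theorem normal_of_conj_mem_of_sup_eq_top {Q : Type*} [Group Q] (Kb Hb D : Subgroup Q) [Kb.Normal]
    (hsup : Kb ⊔ Hb = ⊤) (hK : ∀ k ∈ Kb, ∀ y ∈ D, k * y * k⁻¹ ∈ D)
    (hH : ∀ h ∈ Hb, ∀ y ∈ D, h * y * h⁻¹ ∈ D) : D.Normal := by
  constructor
  intro y hy g
  have hg : g ∈ ((Kb ⊔ Hb : Subgroup Q) : Set Q) := by rw [hsup]; exact Subgroup.mem_top g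
  rw [Subgroup.normal_mul] at hg
  obtain ⟨k, hk, h, hh, rfl⟩ := Set.mem_mul.mp hg
  have e : k * h * y * (k * h)⁻¹ = k * (h * y * h⁻¹) * k⁻¹ := by group
  rw [e]
  exact hK k hk _ (hH h hh y hy)

theorem relIndex_ker_comap {Q Q' : Type*} [Group Q] [Group Q'] (f : Q →* Q')
    (hf : Function.Surjective f) (R : Subgroup Q') : f.ker.relIndex (R.comap f) = Nat.card R := by
  have h1 : f.ker = (⊥ : Subgroup Q').comap f := rfl
  rw [h1, Subgroup.relIndex_comap, Subgroup.map_comap_eq_self_of_surjective hf,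
    Subgroup.relIndex_bot_left]

theorem conj_eq_of_comm {Q : Type*} [Group Q] {k y : Q} (h : y * k = k * y) : k * y * k⁻¹ = y := by
  calc k * y * k⁻¹ = (y * k) * k⁻¹ := by rw [h]
    _ = y := by group

/-- Structure of a solvable group with a core-free maximal subgroup. -/
theorem primitive_solvable {Q : Type*} [Group Q] [Finite Q] [Group.IsSolvable Q]
    (Hb : Subgroup Q) (hmax : IsCoatom Hb)
    (hcore : ∀ N : Subgroup Q, N.Normal → N ≤ Hb → N = ⊥) :
    ∃ Kb : Subgroup Q, Kb.Normal ∧ Kb ⊓ Hb = ⊥ ∧ Kb ⊔ Hb = ⊤ ∧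
      (Kb = ⊤ ∨ ∃ Mb : Subgroup Q, Mb.Normal ∧ Kb < Mb ∧
        (∀ x ∈ Mb, ∀ y ∈ Mb, x * y * x⁻¹ * y⁻¹ ∈ Kb) ∧
        Nat.Coprime (Nat.card Kb) (Kb.relIndex Mb)) := by
  classical
  haveI : Nontrivial Q := by
    by_contra h
    rw [not_nontrivial_iff_subsingleton] at h
    exact hmax.1 (Subsingleton.elim _ _)
  obtain ⟨Kb, hKn, hKne, hKmin⟩ := exists_minimal_normal (G := Q)
  haveI := hKn
  obtain ⟨hKcomm, p, hp, hKexp⟩ := minimal_normal_of_solvable Kb hKne hKmin
  haveI : Fact p.Prime := ⟨hp⟩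
  have hKcomm' := (isMulCommutative_subgroup_iff Kb).mp hKcomm
  -- K ≰ H
  have hKH : ¬ Kb ≤ Hb := fun h => hKne (hcore Kb hKn h)
  have hsup : Kb ⊔ Hb = ⊤ := by
    apply hmax.2
    rw [lt_iff_le_and_ne]
    refine ⟨le_sup_right, ?_⟩
    intro h
    apply hKH
    rw [h]
    exact le_sup_left
  -- K ⊓ H normal
  have hinf : Kb ⊓ Hb = ⊥ := by
    apply hcore _ ?_ inf_le_right
    apply normal_of_conj_mem_of_sup_eq_top Kb Hb _ hsup
    · intro k hk y hy
      rw [conj_eq_of_comm (hKcomm' y hy.1 k hk)]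
      exact hy
    · intro h hh y hy
      exact ⟨hKn.conj_mem _ hy.1 h, Hb.mul_mem (Hb.mul_mem hh hy.2) (Hb.inv_mem hh)⟩
  refine ⟨Kb, hKn, hinf, hsup, ?_⟩
  by_cases hKtop : Kb = ⊤
  · exact Or.inl hKtop
  right
  -- self-centralizing
  have hcent : ∀ x : Q, (∀ k ∈ Kb, x * k = k * x) → x ∈ Kb := by
    intro x hx
    have hxtop : x ∈ ((Kb ⊔ Hb : Subgroup Q) : Set Q) := by rw [hsup]; exact Subgroup.mem_top x
    rw [Subgroup.normal_mul] at hxtop
    obtain ⟨k₀, hk₀, h₀, hh₀, rfl⟩ := Set.mem_mul.mp hxtop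
    -- h₀ centralizes Kb
    have hh₀c : ∀ k ∈ Kb, h₀ * k = k * h₀ := by
      intro k hk
      have h1 := hx k hk
      have h2 := hKcomm' k₀ hk₀ k hk
      have : k₀ * (h₀ * k) = k₀ * (k * h₀) := by
        calc k₀ * (h₀ * k) = k₀ * h₀ * k := by group
          _ = k * (k₀ * h₀) := h1
          _ = (k * k₀) * h₀ := by group
          _ = (k₀ * k) * h₀ := by rw [h2]
          _ = k₀ * (k * h₀) := by group
      exact mul_left_cancel this
    -- D = C_Hb(Kb) is normal
    let D : Subgroup Q :=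
      { carrier := {h | h ∈ Hb ∧ ∀ k ∈ Kb, h * k = k * h}
        one_mem' := ⟨Hb.one_mem, fun k _ => by simp⟩
        mul_mem' := by
          rintro a b ⟨ha, ha'⟩ ⟨hb, hb'⟩
          refine ⟨Hb.mul_mem ha hb, fun k hk => ?_⟩
          rw [mul_assoc, hb' k hk, ← mul_assoc, ha' k hk, mul_assoc]
        inv_mem' := by
          rintro a ⟨ha, ha'⟩
          refine ⟨Hb.inv_mem ha, fun k hk => ?_⟩
          have := ha' k hk
          calc a⁻¹ * k = a⁻¹ * (k * a) * a⁻¹ := by group
            _ = a⁻¹ * (a * k) * a⁻¹ := by rw [this]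
            _ = k * a⁻¹ := by group }
    have hDn : D.Normal := by
      apply normal_of_conj_mem_of_sup_eq_top Kb Hb _ hsup
      · intro k hk y hy
        rw [conj_eq_of_comm (hy.2 k hk)]
        exact hy
      · intro g hg y hy
        refine ⟨Hb.mul_mem (Hb.mul_mem hg hy.1) (Hb.inv_mem hg), fun k hk => ?_⟩
        have hk' : g⁻¹ * k * g ∈ Kb := by
          have := hKn.conj_mem k hk g⁻¹
          simpa using this
        have := hy.2 _ hk'
        calc g * y * g⁻¹ * k = g * (y * (g⁻¹ * k * g)) * g⁻¹ := by group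
          _ = g * ((g⁻¹ * k * g) * y) * g⁻¹ := by rw [this]
          _ = k * (g * y * g⁻¹) := by group
    have hD : D = ⊥ := hcore D hDn (fun x hx => hx.1)
    have hh₀D : h₀ ∈ D := ⟨hh₀, hh₀c⟩
    rw [hD, Subgroup.mem_bot] at hh₀D
    rw [hh₀D, mul_one]
    exact hk₀
  -- a p-subgroup normal containing Kb equals Kb
  have hpnorm : ∀ Mb : Subgroup Q, Mb.Normal → Kb ≤ Mb → IsPGroup p Mb → Mb ≤ Kb := by
    intro Mb hMn hKM hMp
    haveI : Group.IsNilpotent Mb := hMp.isNilpotent
    haveI : (Kb.subgroupOf Mb).Normal := inferInstance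
    have hne : Kb.subgroupOf Mb ≠ ⊥ := by
      intro h
      apply hKne
      rw [Subgroup.subgroupOf_eq_bot] at h
      rw [eq_bot_iff]
      intro x hx
      have : x ∈ Kb ⊓ Mb := ⟨hx, hKM hx⟩
      rw [h.eq_bot] at this
      exact this
    have hz := normal_inf_center_ne_bot (Kb.subgroupOf Mb) hne
    -- Z = Kb ⊓ centralizer Mb
    let Z : Subgroup Q := Kb ⊓ Subgroup.centralizer (Mb : Set Q)
    have hZn : Z.Normal := by
      constructor
      intro x hx g
      obtain ⟨hx1, hx2⟩ := Subgroup.mem_inf.mp hx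
      refine Subgroup.mem_inf.mpr ⟨hKn.conj_mem x hx1 g, ?_⟩
      rw [Subgroup.mem_centralizer_iff]
      intro y hy
      have hy' : g⁻¹ * y * g ∈ Mb := by
        have := hMn.conj_mem y hy g⁻¹
        simpa using this
      have := (Subgroup.mem_centralizer_iff.mp hx2) _ hy'
      calc y * (g * x * g⁻¹) = g * ((g⁻¹ * y * g) * x) * g⁻¹ := by group
        _ = g * (x * (g⁻¹ * y * g)) * g⁻¹ := by rw [this]
        _ = g * x * g⁻¹ * y := by group
    have hZne : Z ≠ ⊥ := by
      intro hZ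
      apply hz
      rw [eq_bot_iff]
      intro w hw
      rw [Subgroup.mem_bot]
      apply Subtype.ext
      have hwZ : (w : Q) ∈ Z := by
        refine Subgroup.mem_inf.mpr ⟨Subgroup.mem_subgroupOf.mp hw.1, ?_⟩
        rw [Subgroup.mem_centralizer_iff]
        intro y hy
        have := Subgroup.mem_center_iff.mp hw.2 ⟨y, hy⟩
        exact congrArg Subtype.val this
      rw [hZ, Subgroup.mem_bot] at hwZ
      exact hwZ
    rcases hKmin Z hZn inf_le_left with h | h
    · exact absurd h hZne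
    · intro x hx
      apply hcent
      intro k hk
      have hkZ : k ∈ Z := by rw [h]; exact hk
      exact (Subgroup.mem_centralizer_iff.mp (Subgroup.mem_inf.mp hkZ).2 x hx)
  -- the next chief factor
  have hKcard : ∃ a : ℕ, Nat.card Kb = p ^ a := by
    have hKp : IsPGroup p Kb := by
      intro x
      refine ⟨1, ?_⟩
      apply Subtype.ext
      rw [pow_one]
      exact hKexp x x.2
    exact IsPGroup.iff_card.mp hKp
  haveI : Nontrivial (Q ⧸ Kb) := by
    rw [← Finite.one_lt_card_iff_nontrivial, ← Subgroup.index_eq_card]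
    have h1 : Kb.index ≠ 1 := fun h => hKtop (Subgroup.index_eq_one.mp h)
    have h0 : Kb.index ≠ 0 := Subgroup.index_ne_zero_of_finite
    omega
  obtain ⟨Rb, hRn, hRne, hRmin⟩ := exists_minimal_normal (G := Q ⧸ Kb)
  haveI := hRn
  obtain ⟨hRcomm, q, hq, hRexp⟩ := minimal_normal_of_solvable Rb hRne hRmin
  haveI : Fact q.Prime := ⟨hq⟩
  have hRcomm' := (isMulCommutative_subgroup_iff Rb).mp hRcomm
  have hsurj : Function.Surjective (QuotientGroup.mk' Kb) := QuotientGroup.mk'_surjective Kb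
  have hmap : (Rb.comap (QuotientGroup.mk' Kb)).map (QuotientGroup.mk' Kb) = Rb :=
    Subgroup.map_comap_eq_self_of_surjective hsurj Rb
  have hKle : Kb ≤ Rb.comap (QuotientGroup.mk' Kb) := by
    intro x hx
    rw [Subgroup.mem_comap]
    have : (QuotientGroup.mk' Kb) x = 1 := (QuotientGroup.eq_one_iff x).mpr hx
    rw [this]
    exact Rb.one_mem
  have hKlt : Kb < Rb.comap (QuotientGroup.mk' Kb) := by
    refine lt_of_le_of_ne hKle ?_
    intro h
    apply hRne
    rw [← hmap, ← h, QuotientGroup.map_mk'_self]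
  refine ⟨Rb.comap (QuotientGroup.mk' Kb), inferInstance, hKlt, ?_, ?_⟩
  · intro x hx y hy
    rw [← QuotientGroup.eq_one_iff]
    have h1 := hRcomm' _ (Subgroup.mem_comap.mp hx) _ (Subgroup.mem_comap.mp hy)
    show (QuotientGroup.mk' Kb) (x * y * x⁻¹ * y⁻¹) = 1
    rw [map_mul, map_mul, map_mul, map_inv, map_inv, h1]
    group
  · have hrel : Kb.relIndex (Rb.comap (QuotientGroup.mk' Kb)) = Nat.card Rb := by
      have h1 := relIndex_ker_comap (QuotientGroup.mk' Kb) hsurj Rb
      rw [QuotientGroup.ker_mk'] at h1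
      exact h1
    rw [hrel]
    have hRcard : ∃ b : ℕ, Nat.card Rb = q ^ b := by
      have hRp : IsPGroup q Rb := by
        intro x
        refine ⟨1, ?_⟩
        apply Subtype.ext
        rw [pow_one]
        exact hRexp x x.2
      exact IsPGroup.iff_card.mp hRp
    obtain ⟨a, ha⟩ := hKcard
    obtain ⟨b, hb⟩ := hRcard
    rw [ha, hb]
    by_cases hpq : p = q
    · exfalso
      subst hpq
      have hMp : IsPGroup p (Rb.comap (QuotientGroup.mk' Kb)) := by
        intro x
        refine ⟨2, ?_⟩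
        apply Subtype.ext
        have h1 : ((QuotientGroup.mk' Kb) (x : Q)) ^ p = 1 := hRexp _ (Subgroup.mem_comap.mp x.2)
        have h2 : (x : Q) ^ p ∈ Kb := by
          rw [← QuotientGroup.eq_one_iff]
          show (QuotientGroup.mk' Kb) ((x : Q) ^ p) = 1
          rw [map_pow, h1]
        have h3 := hKexp _ h2
        show ((x ^ p ^ 2 : Rb.comap (QuotientGroup.mk' Kb)) : Q) = 1
        rw [Subgroup.coe_pow, pow_two, pow_mul, h3]
      exact absurd (hpnorm _ inferInstance hKle hMp) (not_le_of_gt hKlt)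
    · exact Nat.Coprime.pow a b ((Nat.coprime_primes hp hq).mpr hpq)

theorem primitive_solvable_pullback {G : Type*} [Group G] [Finite G] (L H : Subgroup G)
    [L.Normal] (hLH : L ≤ H) (hmax : IsCoatom H) (hsolv : Group.IsSolvable (G ⧸ L))
    (hcore : ∀ N : Subgroup G, N.Normal → N ≤ H → N ≤ L) :
    ∃ K : Subgroup G, K.Normal ∧ L ≤ K ∧ K ⊓ H = L ∧ K ⊔ H = ⊤ ∧
      (K = ⊤ ∨ ∃ M : Subgroup G, M.Normal ∧ K < M ∧
        (∀ x ∈ M, ∀ y ∈ M, x * y * x⁻¹ * y⁻¹ ∈ K) ∧
        Nat.Coprime (L.relIndex K) (K.relIndex M)) := by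
  classical
  have hsurj : Function.Surjective (QuotientGroup.mk' L) := QuotientGroup.mk'_surjective L
  have hker : (QuotientGroup.mk' L).ker = L := QuotientGroup.ker_mk' L
  have hkerle : (QuotientGroup.mk' L).ker ≤ H := by rw [hker]; exact hLH
  have hHcm : (H.map (QuotientGroup.mk' L)).comap (QuotientGroup.mk' L) = H :=
    Subgroup.comap_map_eq_self hkerle
  have hmaxb : IsCoatom (H.map (QuotientGroup.mk' L)) := isCoatom_map_of_ker_le hsurj hmax hkerle
  have hcoreb : ∀ N : Subgroup (G ⧸ L), N.Normal → N ≤ H.map (QuotientGroup.mk' L) → N = ⊥ := by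
    intro N hN hNH
    haveI := hN
    have h1 : N.comap (QuotientGroup.mk' L) ≤ H := by
      rw [← hHcm]
      exact Subgroup.comap_mono hNH
    have h2 := hcore _ inferInstance h1
    rw [← Subgroup.map_comap_eq_self_of_surjective hsurj N, eq_bot_iff]
    calc (N.comap (QuotientGroup.mk' L)).map (QuotientGroup.mk' L)
        ≤ L.map (QuotientGroup.mk' L) := Subgroup.map_mono h2
      _ = ⊥ := QuotientGroup.map_mk'_self L
  obtain ⟨Kb, hKn, hinf, hsup, hrest⟩ := primitive_solvable _ hmaxb hcoreb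
  haveI := hKn
  have hLK : L ≤ Kb.comap (QuotientGroup.mk' L) := by
    intro x hx
    rw [Subgroup.mem_comap]
    have : (QuotientGroup.mk' L) x = 1 := (QuotientGroup.eq_one_iff x).mpr hx
    rw [this]
    exact Kb.one_mem
  refine ⟨Kb.comap (QuotientGroup.mk' L), inferInstance, hLK, ?_, ?_, ?_⟩
  · conv_lhs => rw [← hHcm]
    rw [← Subgroup.comap_inf, hinf]
    exact hker
  · conv_lhs => rw [← hHcm]
    rw [Subgroup.comap_sup_eq _ _ _ hsurj, hsup, Subgroup.comap_top]
  · rcases hrest with h | ⟨Mb, hMn, hKM, hcomm, hcop⟩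
    · left
      rw [h, Subgroup.comap_top]
    · right
      haveI := hMn
      refine ⟨Mb.comap (QuotientGroup.mk' L), inferInstance, ?_, ?_, ?_⟩
      · exact (Subgroup.comap_lt_comap_of_surjective hsurj).mpr hKM
      · intro x hx y hy
        rw [Subgroup.mem_comap]
        have := hcomm _ (Subgroup.mem_comap.mp hx) _ (Subgroup.mem_comap.mp hy)
        simpa using this
      · have h1 := relIndex_ker_comap (QuotientGroup.mk' L) hsurj Kb
        rw [hker] at h1
        rw [h1, Subgroup.relIndex_comap, Subgroup.map_comap_eq_self_of_surjective hsurj]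
        exact hcop

end Cfsg.Agent.Lib.helper2
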