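import Mathlib
import Cfsg.Prelude.Def_Characters
import Cfsg.Agent.Lib.helper2.MGroup
import Cfsg.Agent.Lib.helper2.PrimSolv

set_option autoImplicit false
open scoped ComplexConjugate

namespace Cfsg.Agent.Lib.helper2

open Cfsg.Agent.Lib.helper7 Cfsg.Agent.Lib.Helper11 Cfsg.Agent.Lib.Helper25

theorem classInner_add_add {G : Type*} [Group G] [Fintype G] (a b c d : G → ℂ) :
    Cfsg.classInner (a + b) (c + d) = Cfsg.classInner a c + Cfsg.classInner a d +
      Cfsg.classInner b c + Cfsg.classInner b d := by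
  simp only [Cfsg.classInner, Pi.add_apply, map_add, mul_add, add_mul, Finset.sum_add_distrib]
  ring

/-- A character whose restriction to a subgroup is irreducible is irreducible. -/
theorem irr_of_restrict_irr {C : Type*} [Group C] [Fintype C] (D : Subgroup C) (ζ : C → ℂ)
    (hζ : Cfsg.IsCharacter C ζ) (hres : Cfsg.IsIrrCharacter D (fun d : D => ζ d)) :
    Cfsg.IsIrrCharacter C ζ := by
  classical
  haveI : Fintype D := Fintype.ofFinite D
  have h1 : ζ 1 ≠ 0 := irr_one_ne_zero (⟨_, hres⟩ : Cfsg.IrrCharacter D)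
  obtain ⟨ξ, m, hm, hξm⟩ := isCharacter_exists_constituent hζ h1
  have hcon : Cfsg.classInner ζ (ξ : C → ℂ) ≠ 0 := by
    rw [hξm]
    exact_mod_cast hm.ne'
  obtain ⟨R, hR, hsplit⟩ := isCharacter_split hζ ξ hcon
  by_cases hR1 : R 1 = 0
  · have := h7_isCharacter_eq_zero hR hR1
    rw [this, add_zero] at hsplit
    rw [hsplit]
    exact ξ.2
  · exfalso
    have hξD : Cfsg.IsCharacter D (fun d : D => (ξ : C → ℂ) d) :=
      isCharacter_restrict (isCharacter_of_irr ξ) D
    have hRD : Cfsg.IsCharacter D (fun d : D => R d) := isCharacter_restrict hR D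
    have hξ1 : (fun d : D => (ξ : C → ℂ) d) 1 ≠ 0 := irr_one_ne_zero ξ
    obtain ⟨a, ha, haeq⟩ := classInner_self_pos hξD hξ1
    obtain ⟨b, hb, hbeq⟩ := classInner_self_pos hRD hR1
    obtain ⟨c, hc⟩ := classInner_character_nat hξD hRD
    have hc' := classInner_symm_of_nat _ _ c hc
    have hsum : (fun d : D => ζ d) = (fun d : D => (ξ : C → ℂ) d) + (fun d : D => R d) := by
      funext d
      have := congrFun hsplit (d : C)
      simpa using this
    have hnorm := irr_classInner (⟨_, hres⟩ : Cfsg.IrrCharacter D) ⟨_, hres⟩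
    rw [if_pos rfl] at hnorm
    simp only at hnorm
    rw [hsum, classInner_add_add, haeq, hbeq, hc, hc'] at hnorm
    have : (a + c + c + b : ℕ) = 1 := by exact_mod_cast hnorm
    omega

/-- Split off an irreducible constituent with its full multiplicity. -/
theorem isCharacter_split_mult {G : Type*} [Group G] [Fintype G] {Ψ : G → ℂ}
    (hΨ : Cfsg.IsCharacter G Ψ) (χ : Cfsg.IrrCharacter G) (m : ℕ)
    (hm : Cfsg.classInner Ψ (χ : G → ℂ) = (m : ℂ)) :
    ∃ R : G → ℂ, Cfsg.IsCharacter G R ∧ Ψ = (m : ℂ) • (χ : G → ℂ) + R := by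
  classical
  haveI : Fintype (Cfsg.IrrCharacter G) := Fintype.ofFinite _
  obtain ⟨mm, hmm, hexp⟩ := isCharacter_expansion hΨ
  have hmχ : mm χ = m := by
    have := hmm χ
    rw [hm] at this
    exact_mod_cast this.symm
  refine ⟨∑ ξ ∈ Finset.univ.erase χ, (mm ξ : ℂ) • (ξ : G → ℂ), ?_, ?_⟩
  · apply isCharacter_sum
    intro ξ _
    exact isCharacter_natCast_smul (isCharacter_of_irr ξ) _
  · conv_lhs => rw [hexp]
    rw [← Finset.add_sum_erase Finset.univ _ (Finset.mem_univ χ), hmχ]

/-- Order formula for a normal subgroup supplementing `E`. -/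
theorem card_mul_card_inf {G : Type*} [Group G] [Finite G] (N E : Subgroup G) [N.Normal]
    (hsup : E ⊔ N = ⊤) :
    Nat.card G * Nat.card (N.subgroupOf E) = Nat.card N * Nat.card E := by
  have e1 : N.relIndex (E ⊔ N) * (E ⊔ N).index = N.index :=
    Subgroup.relIndex_mul_index le_sup_right
  have e2 : N.relIndex (E ⊔ N) = (N.subgroupOf E).index := by
    rw [Subgroup.relIndex_sup_right]
    rfl
  have e3 := Subgroup.card_mul_index N
  have e4 := Subgroup.card_mul_index (N.subgroupOf E)
  have e5 : (E ⊔ N).index = 1 := by rw [hsup]; exact Subgroup.index_top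
  rw [e5, mul_one, e2] at e1
  rw [← e3, ← e1, ← e4]
  ring

/-- Mackey-type norm formula: for a normal subgroup `N` with `H N = G`, the norm of the restriction of
an induced class function to `N`. -/
theorem mackey_norm {G : Type*} [Group G] [Fintype G] (N : Subgroup G) [hN : N.Normal]
    [Fintype N] (H : Subgroup G) [Fintype (N.subgroupOf H)] (ϑ : H → ℂ) (hsup : H ⊔ N = ⊤) :
    Cfsg.classInner (fun n : N => Cfsg.indFun H ϑ n) (fun n : N => Cfsg.indFun H ϑ n) =
      (Nat.card (N.subgroupOf H) : ℂ)⁻¹ *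
        ∑ k : N.subgroupOf H, ϑ (k : H) * conj (Cfsg.indFun H ϑ ((k : H) : G)) := by
  have hcl := h7_indFun_isClassFunction H ϑ
  have hFinv : ∀ (x : G) (n : N),
      (fun n : N => conj (Cfsg.indFun H ϑ n)) ⟨x * n * x⁻¹, hN.conj_mem n n.2 x⟩ =
      (fun n : N => conj (Cfsg.indFun H ϑ n)) n := by
    intro x n
    show conj (Cfsg.indFun H ϑ (x * n * x⁻¹)) = conj (Cfsg.indFun H ϑ n)
    rw [hcl]
  have hmac := ind_restrict_sum N H ϑ (fun n : N => conj (Cfsg.indFun H ϑ n)) hFinv
  rw [hsup, Subgroup.index_top, Nat.cast_one, one_mul] at hmac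
  exact hmac

end Cfsg.Agent.Lib.helper2
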