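import Mathlib
import Cfsg.Prelude.Def_Characters
import Cfsg.Agent.Lib.helper2.BergerLib

set_option autoImplicit false
open scoped ComplexConjugate

namespace Cfsg.Agent.Lib.helper2

open Cfsg.Agent.Lib.helper7 Cfsg.Agent.Lib.Helper11 Cfsg.Agent.Lib.Helper25

theorem classInner_smul_smul {G : Type*} [Group G] [Fintype G] (a b : ℂ) (f h : G → ℂ) :
    Cfsg.classInner (a • f) (b • h) = a * conj b * Cfsg.classInner f h := by
  simp only [Cfsg.classInner, Pi.smul_apply, smul_eq_mul, Finset.mul_sum, map_mul]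
  refine Finset.sum_congr rfl fun x _ => ?_
  ring

/-- If the restriction of the induced irreducible character `ϑ^G` to the normal subgroup `L ≤ H`
is homogeneous and `ϑ_L` is irreducible, then `χ_L = |G:H| ϑ_L`. -/
theorem berger_f {G : Type*} [Group G] [Fintype G] (L H : Subgroup G) (hLH : L ≤ H)
    (ϑ : H → ℂ) (hϑ : Cfsg.IsIrrCharacter H ϑ)
    (hϑL : Cfsg.IsIrrCharacter L (fun x : L => ϑ ⟨(x : G), hLH x.2⟩))
    (hind : Cfsg.IsIrrCharacter G (Cfsg.indFun H ϑ))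
    (φ : L → ℂ) (e : ℕ) (hφ : Cfsg.IsIrrCharacter L φ)
    (hχL : (fun x : L => Cfsg.indFun H ϑ x) = (e : ℂ) • φ) :
    φ = (fun x : L => ϑ ⟨(x : G), hLH x.2⟩) ∧ e = H.index := by
  classical
  haveI : Fintype H := Fintype.ofFinite H
  haveI : Fintype L := Fintype.ofFinite L
  obtain ⟨χ, hχdef⟩ : ∃ χ : G → ℂ, χ = Cfsg.indFun H ϑ := ⟨_, rfl⟩
  rw [← hχdef] at hind hχL
  have hχcl := h7_irr_isClassFunction hind
  have hχchar := h7_irr_isCharacter hind
  -- ϑ is a constituent of χ_H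
  have h1 : Cfsg.classInner ϑ (fun h : H => χ h) = 1 := by
    rw [← h7_frobenius_reciprocity H ϑ χ hχcl, ← hχdef]
    have := irr_classInner (⟨χ, hind⟩ : Cfsg.IrrCharacter G) ⟨χ, hind⟩
    rw [if_pos rfl] at this
    exact this
  have h2 : Cfsg.classInner (fun h : H => χ h) ϑ = ((1 : ℕ) : ℂ) := by
    rw [classInner_conj_symm, h1]
    simp
  have hχH : Cfsg.IsCharacter H (fun h : H => χ h) := isCharacter_restrict hχchar H
  obtain ⟨Δ, hΔ, hsplit⟩ := isCharacter_split_mult hχH (⟨ϑ, hϑ⟩ : Cfsg.IrrCharacter H) 1 h2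
  -- restrict to L
  have hΔL : Cfsg.IsCharacter L (fun x : L => Δ ⟨(x : G), hLH x.2⟩) :=
    isCharacter_comp_hom hΔ (Subgroup.inclusion hLH)
  have hsplitL : (fun x : L => χ x) =
      (fun x : L => ϑ ⟨(x : G), hLH x.2⟩) + (fun x : L => Δ ⟨(x : G), hLH x.2⟩) := by
    funext x
    have := congrFun hsplit ⟨(x : G), hLH x.2⟩
    simpa using this
  obtain ⟨c, hc⟩ := classInner_character_nat hΔL (h7_irr_isCharacter hϑL)
  have hηη := irr_classInner (⟨_, hϑL⟩ : Cfsg.IrrCharacter L) ⟨_, hϑL⟩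
  rw [if_pos rfl] at hηη
  simp only at hηη
  have h3 : Cfsg.classInner (fun x : L => χ x) (fun x : L => ϑ ⟨(x : G), hLH x.2⟩) =
      ((1 + c : ℕ) : ℂ) := by
    rw [hsplitL]
    have := classInner_add_add (fun x : L => ϑ ⟨(x : G), hLH x.2⟩)
      (fun x : L => Δ ⟨(x : G), hLH x.2⟩) (fun x : L => ϑ ⟨(x : G), hLH x.2⟩) 0
    simp only [add_zero] at this
    rw [this, hηη, hc]
    have z1 : Cfsg.classInner (fun x : L => ϑ ⟨(x : G), hLH x.2⟩) (0 : L → ℂ) = 0 := by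
      simp [Cfsg.classInner]
    have z2 : Cfsg.classInner (fun x : L => Δ ⟨(x : G), hLH x.2⟩) (0 : L → ℂ) = 0 := by
      simp [Cfsg.classInner]
    rw [z1, z2]
    push_cast
    ring
  rw [hχL, classInner_smul_left] at h3
  have hφη : φ = (fun x : L => ϑ ⟨(x : G), hLH x.2⟩) := by
    by_contra hne
    have := irr_classInner (⟨φ, hφ⟩ : Cfsg.IrrCharacter L) ⟨_, hϑL⟩
    rw [if_neg (fun h => hne (congrArg Subtype.val h))] at this
    simp only at this
    rw [this, mul_zero] at h3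
    have : (1 + c : ℕ) = 0 := by exact_mod_cast h3.symm
    omega
  refine ⟨hφη, ?_⟩
  -- degrees
  have hdeg := h7_indFun_one H ϑ
  rw [← hχdef] at hdeg
  have h4 := congrFun hχL 1
  simp only [Pi.smul_apply, smul_eq_mul, Subgroup.coe_one] at h4
  rw [hdeg, hφη] at h4
  have hϑ1 : ϑ 1 ≠ 0 := irr_one_ne_zero (⟨ϑ, hϑ⟩ : Cfsg.IrrCharacter H)
  have h4' : (H.index : ℂ) * ϑ 1 = (e : ℂ) * ϑ 1 := h4
  have h6 : (H.index : ℂ) = (e : ℂ) := mul_right_cancel₀ hϑ1 h4'
  exact_mod_cast h6.symm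

end Cfsg.Agent.Lib.helper2
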