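import Mathlib
import Cfsg.Prelude.Def_Characters
import Cfsg.Agent.Lib.helper2.BergerLib2

set_option autoImplicit false
open scoped ComplexConjugate

namespace Cfsg.Agent.Lib.helper2

open Cfsg.Agent.Lib.helper7 Cfsg.Agent.Lib.Helper11 Cfsg.Agent.Lib.Helper25

/-- `K ∩ H ≅ L` when `K ⊓ H = L`. -/
def subgroupOfInfEquiv {G : Type*} [Group G] (K H L : Subgroup G) (h : K ⊓ H = L) :
    K.subgroupOf H ≃* L where
  toFun := fun k => ⟨((k : H) : G), by rw [← h]; exact ⟨k.2, (k : H).2⟩⟩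
  invFun := fun l => ⟨⟨(l : G), (h ▸ l.2 : (l : G) ∈ K ⊓ H).2⟩, (h ▸ l.2 : (l : G) ∈ K ⊓ H).1⟩
  left_inv := fun k => rfl
  right_inv := fun l => rfl
  map_mul' := fun a b => rfl

/-- Norm of the restriction of `ϑ^G` to a supplementing normal subgroup on which it is homogeneous. -/
theorem berger_norm {G : Type*} [Group G] [Fintype G] (N H : Subgroup G) [hN : N.Normal]
    (ϑ : H → ℂ) (hsup : H ⊔ N = ⊤) [Fintype (N.subgroupOf H)]
    (φ : N → ℂ) (e : ℕ) (hφ : Cfsg.IsIrrCharacter N φ)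
    (hχN : (fun x : N => Cfsg.indFun H ϑ x) = (e : ℂ) • φ) :
    ((e : ℂ)) ^ 2 = Cfsg.classInner (fun k : N.subgroupOf H => ϑ (k : H))
      (fun k : N.subgroupOf H => Cfsg.indFun H ϑ ((k : H) : G)) := by
  classical
  haveI : Fintype N := Fintype.ofFinite N
  have h1 := mackey_norm N H ϑ hsup
  rw [hχN, classInner_smul_smul] at h1
  have hφφ := irr_classInner (⟨φ, hφ⟩ : Cfsg.IrrCharacter N) ⟨φ, hφ⟩
  rw [if_pos rfl] at hφφ
  simp only at hφφ
  rw [hφφ, mul_one, Complex.conj_natCast] at h1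
  rw [sq, h1]
  rfl

theorem berger_K {G : Type*} [Group G] [Fintype G] (L H K : Subgroup G) [hK : K.Normal]
    (hLH : L ≤ H) (hinf : K ⊓ H = L) (hsup : H ⊔ K = ⊤)
    (ϑ : H → ℂ)
    (hϑL : Cfsg.IsIrrCharacter L (fun x : L => ϑ ⟨(x : G), hLH x.2⟩))
    (f : ℕ) (hχL : (fun x : L => Cfsg.indFun H ϑ x) = (f : ℂ) • (fun x : L => ϑ ⟨(x : G), hLH x.2⟩))
    (φ : K → ℂ) (e : ℕ) (hφ : Cfsg.IsIrrCharacter K φ)
    (hχK : (fun x : K => Cfsg.indFun H ϑ x) = (e : ℂ) • φ) :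
    e ^ 2 = f := by
  classical
  haveI : Fintype L := Fintype.ofFinite L
  haveI : Fintype (K.subgroupOf H) := Fintype.ofFinite _
  have h1 := berger_norm K H ϑ hsup φ e hφ hχK
  have h2 : Cfsg.classInner (fun k : K.subgroupOf H => ϑ (k : H))
      (fun k : K.subgroupOf H => Cfsg.indFun H ϑ ((k : H) : G)) =
      Cfsg.classInner (fun x : L => ϑ ⟨(x : G), hLH x.2⟩) (fun x : L => Cfsg.indFun H ϑ x) :=
    h7_classInner_comp_equiv (subgroupOfInfEquiv K H L hinf)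
      (fun x : L => ϑ ⟨(x : G), hLH x.2⟩) (fun x : L => Cfsg.indFun H ϑ x)
  rw [h2, hχL] at h1
  have h3 : Cfsg.classInner (fun x : L => ϑ ⟨(x : G), hLH x.2⟩)
      ((f : ℂ) • fun x : L => ϑ ⟨(x : G), hLH x.2⟩) = (f : ℂ) := by
    have := classInner_smul_smul (1 : ℂ) (f : ℂ) (fun x : L => ϑ ⟨(x : G), hLH x.2⟩)
      (fun x : L => ϑ ⟨(x : G), hLH x.2⟩)
    rw [one_smul] at this
    rw [this]
    have hηη := irr_classInner (⟨_, hϑL⟩ : Cfsg.IrrCharacter L) ⟨_, hϑL⟩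
    rw [if_pos rfl] at hηη
    simp only at hηη
    rw [hηη]
    simp
  rw [h3] at h1
  exact_mod_cast h1

end Cfsg.Agent.Lib.helper2
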