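import Mathlib
import Cfsg.Prelude.Def_Characters
import Cfsg.Agent.Lib.helper2.BergerLib3
import Cfsg.Agent.Lib.Helper11.AbelianQuot

set_option autoImplicit false
open scoped ComplexConjugate

namespace Cfsg.Agent.Lib.helper2

open Cfsg.Agent.Lib.helper7 Cfsg.Agent.Lib.Helper11 Cfsg.Agent.Lib.Helper25

theorem berger_ram {G : Type*} [Group G] [Fintype G] (K M : Subgroup G) [hK : K.Normal]
    (hKM : K ≤ M)
    (hab : ∀ x ∈ M, ∀ y ∈ M, x * y * x⁻¹ * y⁻¹ ∈ K) (χ : G → ℂ) (hχcl : Cfsg.IsClassFunction G χ)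
    (hχ1 : χ 1 ≠ 0)
    (φ : K → ℂ) (e : ℕ) (hφ : Cfsg.IsIrrCharacter K φ) (hχK : (fun x : K => χ x) = (e : ℂ) • φ)
    (μ : M → ℂ) (e' : ℕ) (hμ : Cfsg.IsIrrCharacter M μ) (hχM : (fun x : M => χ x) = (e' : ℂ) • μ) :
    ∃ e₀ : ℕ, e = e' * e₀ ∧ e₀ ∣ K.relIndex M := by
  classical
  haveI : Fintype M := Fintype.ofFinite M
  haveI : Fintype (K.subgroupOf M) := Fintype.ofFinite _
  haveI : Fintype (Cfsg.IrrCharacter M) := Fintype.ofFinite _
  have he : (e : ℂ) ≠ 0 := by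
    intro h
    have := congrFun hχK 1
    simp only [Pi.smul_apply, smul_eq_mul, h, zero_mul, Subgroup.coe_one] at this
    exact hχ1 this
  have he' : (e' : ℂ) ≠ 0 := by
    intro h
    have := congrFun hχM 1
    simp only [Pi.smul_apply, smul_eq_mul, h, zero_mul, Subgroup.coe_one] at this
    exact hχ1 this
  -- φ is G-invariant
  have hφinv : ∀ (x : G) (n : K), φ ⟨x * n * x⁻¹, hK.conj_mem n n.2 x⟩ = φ n := by
    intro x n
    have h1 := congrFun hχK ⟨x * n * x⁻¹, hK.conj_mem n n.2 x⟩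
    have h2 := congrFun hχK n
    simp only [Pi.smul_apply, smul_eq_mul] at h1 h2
    rw [hχcl] at h1
    rw [h2] at h1
    exact (mul_left_cancel₀ he h1).symm
  obtain ⟨θ, hθdef⟩ : ∃ θ : K.subgroupOf M → ℂ,
      θ = fun n : K.subgroupOf M => φ ⟨((n : M) : G), n.2⟩ := ⟨_, rfl⟩
  have hθ : Cfsg.IsIrrCharacter (K.subgroupOf M) θ := by
    rw [hθdef]
    exact h7_isIrr_comp_equiv (Subgroup.subgroupOfEquivOfLe hKM) φ hφ
  have hinv : ∀ k : M, cj (K.subgroupOf M) θ k = θ := by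
    intro k
    funext n
    rw [cj_apply, hθdef]
    exact hφinv (k : G) ⟨((n : M) : G), n.2⟩
  have hab' : ∀ x y : M, x * y * x⁻¹ * y⁻¹ ∈ K.subgroupOf M := by
    intro x y
    rw [Subgroup.mem_subgroupOf]
    exact hab x x.2 y y.2
  obtain ⟨e₀, Cset, he₀, hmem, hres, -, hcard⟩ :=
    ramification_abelian_quotient (K.subgroupOf M) θ hθ hinv hab'
  -- μ restricted
  have hμres : (e' : ℂ) • (fun n : K.subgroupOf M => μ (n : M)) = (e : ℂ) • θ := by
    funext n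
    have h1 := congrFun hχM (n : M)
    have h2 := congrFun hχK ⟨((n : M) : G), n.2⟩
    simp only [Pi.smul_apply, smul_eq_mul] at h1 h2 ⊢
    rw [← h1, hθdef, ← h2]
  have hθθ := irr_classInner (⟨θ, hθ⟩ : Cfsg.IrrCharacter (K.subgroupOf M)) ⟨θ, hθ⟩
  rw [if_pos rfl] at hθθ
  simp only at hθθ
  have hμmem : (⟨μ, hμ⟩ : Cfsg.IrrCharacter M) ∈ Cset := by
    rw [hmem]
    simp only
    rw [h7_frobenius_reciprocity (K.subgroupOf M) θ μ (h7_irr_isClassFunction hμ)]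
    intro h0
    have h1 := classInner_smul_smul (1 : ℂ) (e' : ℂ) θ (fun n : K.subgroupOf M => μ (n : M))
    rw [one_smul, hμres, h0, mul_zero] at h1
    have h2 := classInner_smul_smul (1 : ℂ) (e : ℂ) θ θ
    rw [one_smul, hθθ] at h2
    rw [h2] at h1
    simp only [one_mul, mul_one, Complex.conj_natCast] at h1
    exact he h1
  have hμe₀ := hres _ hμmem
  simp only at hμe₀
  rw [hμe₀, smul_smul] at hμres
  have hθ1 : θ 1 ≠ 0 := irr_one_ne_zero (⟨θ, hθ⟩ : Cfsg.IrrCharacter (K.subgroupOf M))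
  have h3 := congrFun hμres 1
  simp only [Pi.smul_apply, smul_eq_mul] at h3
  have h4 : (e' : ℂ) * (e₀ : ℂ) = (e : ℂ) := mul_right_cancel₀ hθ1 h3
  refine ⟨e₀, by exact_mod_cast h4.symm, ?_⟩
  have h5 := Subgroup.index_mul_card (K.subgroupOf M)
  have hpos : 0 < Nat.card (K.subgroupOf M) := Nat.card_pos
  have h6 : e₀ ^ 2 * Cset.card = K.relIndex M := by
    have : e₀ ^ 2 * Cset.card * Nat.card (K.subgroupOf M) =
        K.relIndex M * Nat.card (K.subgroupOf M) := by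
      rw [hcard]
      exact h5.symm
    exact Nat.eq_of_mul_eq_mul_right hpos this
  rw [← h6]
  exact Dvd.dvd.mul_right (dvd_pow_self e₀ two_ne_zero) _

end Cfsg.Agent.Lib.helper2
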