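import Mathlib
import Cfsg.Prelude.Def_Characters
import Cfsg.Agent.Lib.helper2.BergerLib4

set_option autoImplicit false
open scoped ComplexConjugate

namespace Cfsg.Agent.Lib.helper2

open Cfsg.Agent.Lib.helper7 Cfsg.Agent.Lib.Helper11 Cfsg.Agent.Lib.Helper25

/-- hom version of `irr_of_restrict_irr` -/
theorem irr_of_comp_hom_irr {C D : Type*} [Group C] [Fintype C] [Group D] [Fintype D]
    (j : D →* C) (ζ : C → ℂ)
    (hζ : Cfsg.IsCharacter C ζ) (hres : Cfsg.IsIrrCharacter D (fun d : D => ζ (j d))) :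
    Cfsg.IsIrrCharacter C ζ := by
  classical
  have h1 : ζ 1 ≠ 0 := by
    have := irr_one_ne_zero (⟨_, hres⟩ : Cfsg.IrrCharacter D)
    simpa using this
  obtain ⟨ξ, m, hm, hξm⟩ := isCharacter_exists_constituent hζ h1
  have hcon : Cfsg.classInner ζ (ξ : C → ℂ) ≠ 0 := by
    rw [hξm]
    exact_mod_cast hm.ne'
  obtain ⟨R, hR, hsplit⟩ := isCharacter_split hζ ξ hcon
  by_cases hR1 : R 1 = 0
  · have := h7_isCharacter_eq_zero hR hR1
    rw [this, add_zero] at hsplit
    rw [hsplit]
    exact ξ.2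
  · exfalso
    have hξD : Cfsg.IsCharacter D (fun d : D => (ξ : C → ℂ) (j d)) :=
      isCharacter_comp_hom (isCharacter_of_irr ξ) j
    have hRD : Cfsg.IsCharacter D (fun d : D => R (j d)) := isCharacter_comp_hom hR j
    have hξ1 : (fun d : D => (ξ : C → ℂ) (j d)) 1 ≠ 0 := by
      have := irr_one_ne_zero ξ
      simpa using this
    have hR1' : (fun d : D => R (j d)) 1 ≠ 0 := by simpa using hR1
    obtain ⟨a, ha, haeq⟩ := classInner_self_pos hξD hξ1
    obtain ⟨b, hb, hbeq⟩ := classInner_self_pos hRD hR1'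
    obtain ⟨c, hc⟩ := classInner_character_nat hξD hRD
    have hc' := classInner_symm_of_nat _ _ c hc
    have hsum : (fun d : D => ζ (j d)) = (fun d : D => (ξ : C → ℂ) (j d)) + (fun d : D => R (j d)) := by
      funext d
      have := congrFun hsplit (j d)
      simpa using this
    have hnorm := irr_classInner (⟨_, hres⟩ : Cfsg.IrrCharacter D) ⟨_, hres⟩
    rw [if_pos rfl] at hnorm
    simp only at hnorm
    rw [hsum, classInner_add_add, haeq, hbeq, hc, hc'] at hnorm
    have : (a + c + c + b : ℕ) = 1 := by exact_mod_cast hnorm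
    omega

/-- The squared-norm sum of a function over a subgroup. -/
noncomputable def sqSum {G : Type*} [Group G] [Fintype G] (χ : G → ℂ) (S : Subgroup G)
    [DecidablePred (· ∈ S)] : ℝ :=
  ∑ g ∈ Finset.univ.filter (· ∈ S), Complex.normSq (χ g)

theorem classInner_self_eq_sqSum {G : Type*} [Group G] [Fintype G] (χ : G → ℂ) (S : Subgroup G)
    [DecidablePred (· ∈ S)] [Fintype S] :
    Cfsg.classInner (fun x : S => χ x) (fun x : S => χ x) =
      (Nat.card S : ℂ)⁻¹ * ((sqSum χ S : ℝ) : ℂ) := by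
  unfold Cfsg.classInner sqSum
  congr 1
  rw [Finset.sum_subtype (Finset.univ.filter (· ∈ S)) (p := (· ∈ S)) (by simp)]
  push_cast
  refine Finset.sum_congr rfl fun x _ => ?_
  rw [Complex.mul_conj]

end Cfsg.Agent.Lib.helper2
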