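import Mathlib
import Cfsg.Prelude.Def_Characters
import Cfsg.Agent.Lib.helper2.BergerLib5

set_option autoImplicit false
open scoped ComplexConjugate

namespace Cfsg.Agent.Lib.helper2

open Cfsg.Agent.Lib.helper7 Cfsg.Agent.Lib.Helper11 Cfsg.Agent.Lib.Helper25

theorem berger_M_contra {G : Type*} [Group G] [Fintype G] (L H K M : Subgroup G)
    [hM : M.Normal] (hLH : L ≤ H) (hLK : L ≤ K) (hKM : K < M) (hsup : H ⊔ M = ⊤)
    (hcore : ∀ N : Subgroup G, N.Normal → N ≤ H → N ≤ L)
    (ϑ : H → ℂ) (hϑ : Cfsg.IsIrrCharacter H ϑ)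
    (hϑL : Cfsg.IsIrrCharacter L (fun x : L => ϑ ⟨(x : G), hLH x.2⟩))
    (hind : Cfsg.IsIrrCharacter G (Cfsg.indFun H ϑ))
    (f : ℕ) (hf : f = H.index)
    (hχL : (fun x : L => Cfsg.indFun H ϑ x) = (f : ℂ) • (fun x : L => ϑ ⟨(x : G), hLH x.2⟩))
    (μ : M → ℂ) (e' : ℕ) (hμ : Cfsg.IsIrrCharacter M μ)
    (hχM : (fun x : M => Cfsg.indFun H ϑ x) = (e' : ℂ) • μ) (he' : e' ^ 2 = f)
    (hKcard : Nat.card K = f * Nat.card L) : False := by
  classical
  haveI : Fintype H := Fintype.ofFinite H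
  haveI : Fintype L := Fintype.ofFinite L
  haveI : Fintype M := Fintype.ofFinite M
  haveI : Fintype (M.subgroupOf H) := Fintype.ofFinite _
  haveI : Fintype ↥(M ⊓ H) := Fintype.ofFinite _
  have hLM : L ≤ M := hLK.trans hKM.le
  obtain ⟨χ, hχdef⟩ : ∃ χ : G → ℂ, χ = Cfsg.indFun H ϑ := ⟨_, rfl⟩
  have hχcl : Cfsg.IsClassFunction G χ := by rw [hχdef]; exact h7_indFun_isClassFunction H ϑ
  have hχchar : Cfsg.IsCharacter G χ := by rw [hχdef]; exact h7_irr_isCharacter hind
  have hfpos : 0 < f := by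
    rw [hf]
    exact Nat.pos_of_ne_zero Subgroup.index_ne_zero_of_finite
  have hfC : (f : ℂ) ≠ 0 := by exact_mod_cast hfpos.ne'
  -- e'^2 = [ζ, χ_C]
  have h1 := berger_norm M H ϑ hsup μ e' hμ hχM
  rw [← hχdef] at h1 hχL hχM
  have he'C : ((e' : ℂ)) ^ 2 = (f : ℂ) := by exact_mod_cast he'
  rw [he'C] at h1
  -- ζ irreducible
  obtain ⟨ζ, hζdef⟩ : ∃ ζ : M.subgroupOf H → ℂ, ζ = fun k : M.subgroupOf H => ϑ (k : H) :=
    ⟨_, rfl⟩
  have hζchar : Cfsg.IsCharacter (M.subgroupOf H) ζ := by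
    rw [hζdef]
    exact isCharacter_restrict (h7_irr_isCharacter hϑ) _
  let j : L →* M.subgroupOf H :=
    { toFun := fun l => ⟨⟨(l : G), hLH l.2⟩, hLM l.2⟩
      map_one' := rfl
      map_mul' := fun a b => rfl }
  have hζirr : Cfsg.IsIrrCharacter (M.subgroupOf H) ζ := by
    apply irr_of_comp_hom_irr j ζ hζchar
    rw [hζdef]
    exact hϑL
  -- χ_C = f ζ
  have hχC : Cfsg.IsCharacter (M.subgroupOf H) (fun k : M.subgroupOf H => χ ((k : H) : G)) :=
    isCharacter_comp_hom hχchar (H.subtype.comp (M.subgroupOf H).subtype)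
  have h2 : Cfsg.classInner (fun k : M.subgroupOf H => χ ((k : H) : G)) ζ = (f : ℂ) := by
    rw [classInner_conj_symm, hζdef, ← h1]
    simp
  obtain ⟨R, hR, hsplit⟩ := isCharacter_split_mult hχC (⟨ζ, hζirr⟩ : Cfsg.IrrCharacter _) f h2
  have hχ1 : χ 1 = (f : ℂ) * ϑ 1 := by
    rw [hχdef, h7_indFun_one, hf]
  have hR1 : R 1 = 0 := by
    have := congrFun hsplit 1
    simp only [Pi.add_apply, Pi.smul_apply, smul_eq_mul, Subgroup.coe_one] at this
    rw [hχ1, hζdef] at this
    simp only [Subgroup.coe_one] at this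
    linear_combination -this
  have hR0 := h7_isCharacter_eq_zero hR hR1
  rw [hR0, add_zero] at hsplit
  -- norms
  have hζζ := irr_classInner (⟨ζ, hζirr⟩ : Cfsg.IrrCharacter (M.subgroupOf H)) ⟨ζ, hζirr⟩
  rw [if_pos rfl] at hζζ
  simp only at hζζ
  have hnC : Cfsg.classInner (fun k : M.subgroupOf H => χ ((k : H) : G))
      (fun k : M.subgroupOf H => χ ((k : H) : G)) = (f : ℂ) ^ 2 := by
    rw [hsplit, classInner_smul_smul, hζζ, Complex.conj_natCast]
    ring
  have hnMH : Cfsg.classInner (fun y : ↥(M ⊓ H) => χ y) (fun y : ↥(M ⊓ H) => χ y) = (f : ℂ) ^ 2 := by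
    rw [← h7_classInner_comp_equiv (subgroupOfInfEquiv M H (M ⊓ H) rfl)
      (fun y : ↥(M ⊓ H) => χ y) (fun y : ↥(M ⊓ H) => χ y)]
    exact hnC
  have hμμ := irr_classInner (⟨μ, hμ⟩ : Cfsg.IrrCharacter M) ⟨μ, hμ⟩
  rw [if_pos rfl] at hμμ
  simp only at hμμ
  have hnM : Cfsg.classInner (fun x : M => χ x) (fun x : M => χ x) = (f : ℂ) := by
    rw [hχM, classInner_smul_smul, hμμ, Complex.conj_natCast, mul_one, ← sq, he'C]
  have hηη := irr_classInner (⟨_, hϑL⟩ : Cfsg.IrrCharacter L) ⟨_, hϑL⟩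
  rw [if_pos rfl] at hηη
  simp only at hηη
  have hnL : Cfsg.classInner (fun x : L => χ x) (fun x : L => χ x) = (f : ℂ) ^ 2 := by
    rw [hχL, classInner_smul_smul, hηη, Complex.conj_natCast]
    ring
  rw [classInner_self_eq_sqSum] at hnMH hnM hnL
  -- cardinalities
  have hcardMH : Nat.card M = f * Nat.card ↥(M ⊓ H) := by
    have h3 := card_mul_card_inf M H hsup
    have h4 : Nat.card (M.subgroupOf H) = Nat.card ↥(M ⊓ H) :=
      Nat.card_congr (subgroupOfInfEquiv M H (M ⊓ H) rfl).toEquiv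
    have h5 := Subgroup.index_mul_card H
    rw [← hf] at h5
    rw [h4, ← h5] at h3
    have hHpos : 0 < Nat.card H := Nat.card_pos
    have : Nat.card H * (f * Nat.card ↥(M ⊓ H)) = Nat.card H * Nat.card M := by
      calc Nat.card H * (f * Nat.card ↥(M ⊓ H)) = f * Nat.card H * Nat.card ↥(M ⊓ H) := by ring
        _ = Nat.card M * Nat.card H := h3
        _ = Nat.card H * Nat.card M := by ring
    exact (Nat.eq_of_mul_eq_mul_left hHpos this).symm
  -- real versions
  have hMpos : (Nat.card M : ℂ) ≠ 0 := by exact_mod_cast Nat.card_pos.ne'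
  have hMHpos : (Nat.card ↥(M ⊓ H) : ℂ) ≠ 0 := by exact_mod_cast Nat.card_pos.ne'
  have hLpos : (Nat.card L : ℂ) ≠ 0 := by exact_mod_cast Nat.card_pos.ne'
  have eM : (sqSum χ M : ℝ) = (Nat.card M : ℝ) * f := by
    have : ((sqSum χ M : ℝ) : ℂ) = (Nat.card M : ℂ) * f := by
      field_simp at hnM
      linear_combination hnM
    exact_mod_cast this
  have eMH : (sqSum χ (M ⊓ H) : ℝ) = (Nat.card ↥(M ⊓ H) : ℝ) * f ^ 2 := by
    have : ((sqSum χ (M ⊓ H) : ℝ) : ℂ) = (Nat.card ↥(M ⊓ H) : ℂ) * f ^ 2 := by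
      field_simp at hnMH
      linear_combination hnMH
    exact_mod_cast this
  have eL : (sqSum χ L : ℝ) = (Nat.card L : ℝ) * f ^ 2 := by
    have : ((sqSum χ L : ℝ) : ℂ) = (Nat.card L : ℂ) * f ^ 2 := by
      field_simp at hnL
      linear_combination hnL
    exact_mod_cast this
  have eq1 : sqSum χ M = sqSum χ (M ⊓ H) := by
    rw [eM, eMH, hcardMH]
    push_cast
    ring
  -- vanishing off H
  have hvanH : ∀ g : G, g ∈ M → g ∉ H → χ g = 0 := by
    unfold sqSum at eq1
    have hsub : Finset.univ.filter (· ∈ M ⊓ H) ⊆ Finset.univ.filter (fun g : G => g ∈ M) := by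
      intro g hg
      simp only [Finset.mem_filter, Finset.mem_univ, true_and] at hg ⊢
      exact hg.1
    rw [← Finset.sum_sdiff hsub] at eq1
    have h0 : ∑ g ∈ Finset.univ.filter (fun g : G => g ∈ M) \ Finset.univ.filter (· ∈ M ⊓ H),
        Complex.normSq (χ g) = 0 := by linarith
    rw [Finset.sum_eq_zero_iff_of_nonneg (fun g _ => Complex.normSq_nonneg _)] at h0
    intro g hgM hgH
    have := h0 g (by
      simp only [Finset.mem_sdiff, Finset.mem_filter, Finset.mem_univ, true_and]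
      exact ⟨hgM, fun h => hgH h.2⟩)
    exact Complex.normSq_eq_zero.mp this
  -- vanishing off L
  have hvanL : ∀ g : G, g ∈ M → g ∉ L → χ g = 0 := by
    intro g hgM hgL
    by_contra hne
    apply hgL
    have hle : Subgroup.normalClosure ({g} : Set G) ≤ H := by
      unfold Subgroup.normalClosure
      rw [Subgroup.closure_le]
      intro y hy
      rw [Group.mem_conjugatesOfSet_iff] at hy
      obtain ⟨b, hb, hconj⟩ := hy
      rw [Set.mem_singleton_iff] at hb
      subst hb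
      obtain ⟨c, hc⟩ := isConj_iff.mp hconj
      by_contra hyH
      have hyM : y ∈ M := by rw [← hc]; exact hM.conj_mem _ hgM c
      have := hvanH y hyM hyH
      rw [← hc, hχcl] at this
      exact hne this
    have := hcore _ inferInstance hle
    exact this (Subgroup.subset_normalClosure (Set.mem_singleton g))
  have eq2 : sqSum χ M = sqSum χ L := by
    unfold sqSum
    symm
    apply Finset.sum_subset
    · intro g hg
      simp only [Finset.mem_filter, Finset.mem_univ, true_and] at hg ⊢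
      exact hLM hg
    · intro g hg hgL
      simp only [Finset.mem_filter, Finset.mem_univ, true_and] at hg hgL
      rw [hvanL g hg hgL]
      simp
  rw [eM, eL] at eq2
  have hfR : (f : ℝ) ≠ 0 := by exact_mod_cast hfpos.ne'
  have h6 : (Nat.card M : ℝ) = (Nat.card L : ℝ) * f := by
    have : (Nat.card M : ℝ) * f = ((Nat.card L : ℝ) * f) * f := by rw [eq2]; ring
    exact mul_right_cancel₀ hfR this
  have h7 : Nat.card M = Nat.card K := by
    have : (Nat.card M : ℝ) = (Nat.card K : ℝ) := by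
      rw [h6, hKcard]
      push_cast
      ring
    exact_mod_cast this
  have := Subgroup.eq_of_le_of_card_ge hKM.le (le_of_eq h7)
  exact hKM.ne this

end Cfsg.Agent.Lib.helper2
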