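import Mathlib
import Cfsg.Prelude.Def_Characters
import Cfsg.Agent.Lib.helper2.BergerLib6
import Cfsg.Agent.Lib.helper2.BergerLib4
import Cfsg.Agent.Lib.helper2.PrimSolv

set_option autoImplicit false
open scoped ComplexConjugate

namespace Cfsg.Agent.Lib.helper2

open Cfsg.Agent.Lib.helper7 Cfsg.Agent.Lib.Helper11 Cfsg.Agent.Lib.Helper25

theorem card_eq_index_mul_card_inf {G : Type*} [Group G] [Finite G] (M H L : Subgroup G)
    [M.Normal] (hsup : H ⊔ M = ⊤) (hinf : M ⊓ H = L) :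
    Nat.card M = H.index * Nat.card L := by
  have h3 := card_mul_card_inf M H hsup
  have h4 : Nat.card (M.subgroupOf H) = Nat.card L :=
    Nat.card_congr (subgroupOfInfEquiv M H L hinf).toEquiv
  have h5 := Subgroup.index_mul_card H
  rw [h4, ← h5] at h3
  have hHpos : 0 < Nat.card H := Nat.card_pos
  have : Nat.card H * (H.index * Nat.card L) = Nat.card H * Nat.card M := by
    calc Nat.card H * (H.index * Nat.card L) = H.index * Nat.card H * Nat.card L := by ring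
      _ = Nat.card M * Nat.card H := h3
      _ = Nat.card H * Nat.card M := by ring
  exact (Nat.eq_of_mul_eq_mul_left hHpos this).symm

theorem berger_main {G : Type*} [Group G] [Fintype G] (L H : Subgroup G) [L.Normal]
    (hLH : L ≤ H) (hmax : IsCoatom H) (hsolv : Group.IsSolvable (G ⧸ L))
    (hcore : ∀ N : Subgroup G, N.Normal → N ≤ H → N ≤ L)
    (ϑ : H → ℂ) (hϑ : Cfsg.IsIrrCharacter H ϑ)
    (hϑL : Cfsg.IsIrrCharacter L (fun x : L => ϑ ⟨(x : G), hLH x.2⟩))
    (hind : Cfsg.IsIrrCharacter G (Cfsg.indFun H ϑ))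
    (hhom : ∀ M : Subgroup G, M.Normal → L ≤ M → ∃ (φ : M → ℂ) (e : ℕ),
      Cfsg.IsIrrCharacter M φ ∧ (fun m : M => Cfsg.indFun H ϑ m) = (e : ℂ) • φ) : False := by
  classical
  obtain ⟨K, hKn, hLK, hinf, hsupK, hcase⟩ :=
    primitive_solvable_pullback L H hLH hmax hsolv hcore
  haveI := hKn
  -- L
  obtain ⟨φL, eL, hφL, hχL0⟩ := hhom L inferInstance le_rfl
  obtain ⟨hφLeq, heL⟩ := berger_f L H hLH ϑ hϑ hϑL hind φL eL hφL hχL0
  obtain ⟨f, hf⟩ : ∃ f : ℕ, f = H.index := ⟨_, rfl⟩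
  have hχL : (fun x : L => Cfsg.indFun H ϑ x) =
      (f : ℂ) • (fun x : L => ϑ ⟨(x : G), hLH x.2⟩) := by
    rw [hχL0, hφLeq, heL, hf]
  -- K
  obtain ⟨φ, e, hφ, hχK⟩ := hhom K hKn hLK
  have hsupK' : H ⊔ K = ⊤ := by rw [sup_comm]; exact hsupK
  have he2 : e ^ 2 = f := berger_K L H K hLH hinf hsupK' ϑ hϑL f hχL φ e hφ hχK
  have hKcard : Nat.card K = f * Nat.card L := by
    rw [hf]
    exact card_eq_index_mul_card_inf K H L hsupK' hinf
  have hχcl : Cfsg.IsClassFunction G (Cfsg.indFun H ϑ) := h7_indFun_isClassFunction H ϑ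
  rcases hcase with hKtop | ⟨M, hMn, hKM, hab, hcop⟩
  · -- K = ⊤
    haveI : Fintype K := Fintype.ofFinite K
    have h1 := irr_classInner (⟨_, hind⟩ : Cfsg.IrrCharacter G) ⟨_, hind⟩
    rw [if_pos rfl] at h1
    simp only at h1
    have h2 : Cfsg.classInner (fun x : K => Cfsg.indFun H ϑ x) (fun x : K => Cfsg.indFun H ϑ x)
        = 1 := by
      subst hKtop
      rw [← h1]
      exact h7_classInner_comp_equiv Subgroup.topEquiv (Cfsg.indFun H ϑ) (Cfsg.indFun H ϑ)
    have hφφ := irr_classInner (⟨φ, hφ⟩ : Cfsg.IrrCharacter K) ⟨φ, hφ⟩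
    rw [if_pos rfl] at hφφ
    simp only at hφφ
    rw [hχK, classInner_smul_smul, hφφ, Complex.conj_natCast, mul_one, ← sq] at h2
    have h3 : e ^ 2 = 1 := by exact_mod_cast h2
    rw [h3] at he2
    have : H.index = 1 := by rw [← hf, ← he2]
    exact hmax.1 (Subgroup.index_eq_one.mp this)
  · haveI := hMn
    obtain ⟨μ, e', hμ, hχM⟩ := hhom M hMn (hLK.trans hKM.le)
    have hχ1 : Cfsg.indFun H ϑ 1 ≠ 0 := irr_one_ne_zero (⟨_, hind⟩ : Cfsg.IrrCharacter G)
    obtain ⟨e₀, hee, he₀⟩ := berger_ram K M hKM.le hab (Cfsg.indFun H ϑ) hχcl hχ1 φ e hφ hχK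
      μ e' hμ hχM
    have hrel : L.relIndex K = f := by
      have h1 := Subgroup.relIndex_mul_relIndex (⊥ : Subgroup G) L K bot_le hLK
      rw [Subgroup.relIndex_bot_left, Subgroup.relIndex_bot_left, hKcard] at h1
      have hLpos : 0 < Nat.card L := Nat.card_pos
      exact Nat.eq_of_mul_eq_mul_left hLpos (by rw [h1]; ring)
    have he₀f : e₀ ∣ f := by
      rw [← he2]
      exact Dvd.dvd.trans ⟨e', by rw [hee]; ring⟩ (dvd_pow_self e two_ne_zero)
    have he₀1 : e₀ = 1 := by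
      rw [hrel] at hcop
      exact Nat.dvd_one.mp (hcop ▸ Nat.dvd_gcd he₀f he₀)
    rw [he₀1, mul_one] at hee
    rw [hee] at he2
    have hsupM : H ⊔ M = ⊤ := by
      apply top_le_iff.mp
      rw [← hsupK']
      exact sup_le_sup_left hKM.le H
    exact berger_M_contra L H K M hLH hLK hKM hsupM hcore ϑ hϑ hϑL hind f hf hχL μ e' hμ hχM he2
      hKcard

theorem berger_final {G : Type*} [Group G] [Fintype G] (L H : Subgroup G) [L.Normal]
    (hLH : L ≤ H) (hmax : IsCoatom H) (hsolv : Group.IsSolvable (G ⧸ L))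
    (ϑ : H → ℂ) (hϑ : Cfsg.IsIrrCharacter H ϑ)
    (hϑL : Cfsg.IsIrrCharacter L (fun x : L => ϑ ⟨(x : G), hLH x.2⟩))
    (hind : Cfsg.IsIrrCharacter G (Cfsg.indFun H ϑ)) :
    ∃ M : Subgroup G, M.Normal ∧ L ≤ M ∧ ¬ ∃ (φ : M → ℂ) (e : ℕ),
      Cfsg.IsIrrCharacter M φ ∧ (fun m : M => Cfsg.indFun H ϑ m) = (e : ℂ) • φ := by
  classical
  by_contra hcon
  push Not at hcon
  have hhom : ∀ M : Subgroup G, M.Normal → L ≤ M → ∃ (φ : M → ℂ) (e : ℕ),
      Cfsg.IsIrrCharacter M φ ∧ (fun m : M => Cfsg.indFun H ϑ m) = (e : ℂ) • φ :=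
    fun M hM hLM => hcon M hM hLM
  haveI : Fintype H := Fintype.ofFinite H
  haveI : Fintype L := Fintype.ofFinite L
  haveI : Fintype H.normalCore := Fintype.ofFinite _
  have hCH : H.normalCore ≤ H := Subgroup.normalCore_le H
  have hLC : L ≤ H.normalCore := (Subgroup.normal_le_normalCore).mpr hLH
  have hcore : ∀ N : Subgroup G, N.Normal → N ≤ H → N ≤ H.normalCore := by
    intro N hN hNH
    haveI := hN
    exact (Subgroup.normal_le_normalCore).mpr hNH
  have hsolvC : Group.IsSolvable (G ⧸ H.normalCore) := by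
    haveI := hsolv
    apply Group.isSolvable_of_surjective (f := QuotientGroup.map L H.normalCore (MonoidHom.id G) hLC)
    intro x
    obtain ⟨g, rfl⟩ := QuotientGroup.mk_surjective x
    exact ⟨(g : G ⧸ L), rfl⟩
  have hϑC : Cfsg.IsIrrCharacter H.normalCore
      (fun x : H.normalCore => ϑ ⟨(x : G), hCH x.2⟩) := by
    let j : L →* H.normalCore :=
      { toFun := fun l => ⟨(l : G), hLC l.2⟩
        map_one' := rfl
        map_mul' := fun a b => rfl }
    apply irr_of_comp_hom_irr j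
    · exact isCharacter_comp_hom (h7_irr_isCharacter hϑ) (Subgroup.inclusion hCH)
    · exact hϑL
  exact berger_main H.normalCore H hCH hmax hsolvC hcore ϑ hϑ hϑC hind
    (fun M hM hCM => hhom M hM (hLC.trans hCM))

end Cfsg.Agent.Lib.helper2
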