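import Mathlib

set_option autoImplicit false

open scoped Pointwise

namespace Cfsg.Agent.Lib.helper2

/-- Every `p`-subgroup (for every prime `p`) is abelian. -/
def AbSyl (X : Type*) [Group X] : Prop :=
  ∀ (p : ℕ) [Fact p.Prime] (Q : Subgroup X), IsPGroup p Q → ∀ a ∈ Q, ∀ b ∈ Q, a * b = b * a

theorem abSyl_of_sylow {X : Type*} [Group X]
    (h : ∀ (p : ℕ) [Fact p.Prime] (P : Sylow p X), ∀ a ∈ P, ∀ b ∈ P, a * b = b * a) : AbSyl X := by
  intro p _ Q hQ a ha b hb
  obtain ⟨P, hP⟩ := hQ.exists_le_sylow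
  exact h p P a (hP ha) b (hP hb)

theorem abSyl_of_injective {X Y : Type*} [Group X] [Group Y] (f : Y →* X)
    (hf : Function.Injective f) (h : AbSyl X) : AbSyl Y := by
  intro p _ Q hQ a ha b hb
  apply hf
  rw [map_mul, map_mul]
  exact h p (Q.map f) (hQ.map f) (f a) ⟨a, ha, rfl⟩ (f b) ⟨b, hb, rfl⟩

theorem abSyl_of_surjective {X Y : Type*} [Group X] [Finite X] [Group Y] (f : X →* Y)
    (hf : Function.Surjective f) (h : AbSyl X) : AbSyl Y := by
  intro p _ Q hQ a ha b hb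
  obtain ⟨P', hP'⟩ := hQ.exists_le_sylow
  obtain ⟨P⟩ : Nonempty (Sylow p X) := inferInstance
  haveI : Finite Y := Finite.of_surjective f hf
  obtain ⟨g, hg⟩ := MulAction.exists_smul_eq Y (P.mapSurjective hf) P'
  have hcoe : (P' : Subgroup Y) = MulAut.conj g • ((P.mapSurjective hf : Sylow p Y) : Subgroup Y) := by
    rw [← hg]
    exact Sylow.coe_subgroup_smul
  have ha' : a ∈ (P' : Subgroup Y) := hP' ha
  have hb' : b ∈ (P' : Subgroup Y) := hP' hb
  rw [hcoe, Subgroup.mem_pointwise_smul_iff_inv_smul_mem] at ha' hb'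
  obtain ⟨x, hx, hxa⟩ := ha'
  obtain ⟨y, hy, hyb⟩ := hb'
  have hxy := h p (P : Subgroup X) P.isPGroup' x hx y hy
  have h1 : (MulAut.conj g)⁻¹ • a * (MulAut.conj g)⁻¹ • b =
      (MulAut.conj g)⁻¹ • b * (MulAut.conj g)⁻¹ • a := by
    rw [← hxa, ← hyb]
    show f x * f y = f y * f x
    rw [← map_mul, ← map_mul, hxy]
  rw [← smul_mul', ← smul_mul'] at h1
  exact smul_left_cancel _ h1

theorem comm_of_nilpotent_abSyl {X : Type*} [Group X] [Finite X] [Group.IsNilpotent X]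
    (h : AbSyl X) (x y : X) : x * y = y * x := by
  have hn : ∀ {p : ℕ} [Fact p.Prime] (P : Sylow p X), (P : Subgroup X).Normal := fun P =>
    inferInstance
  let e := Sylow.directProductOfNormal (G := X) hn
  obtain ⟨a, rfl⟩ := e.surjective x
  obtain ⟨b, rfl⟩ := e.surjective y
  rw [← map_mul, ← map_mul]
  congr 1
  funext p P
  haveI : Fact (p : ℕ).Prime := ⟨Nat.prime_of_mem_primeFactors p.2⟩
  apply Subtype.ext
  show ((a p P : (P : Subgroup X)) : X) * (b p P : (P : Subgroup X)) = (b p P : (P : Subgroup X)) * (a p P : (P : Subgroup X))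
  exact h p (P : Subgroup X) P.isPGroup' _ (a p P).2 _ (b p P).2

end Cfsg.Agent.Lib.helper2
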