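import Mathlib
import Cfsg.Prelude.Def_Characters
import Cfsg.Agent.Lib.helper2.MGroup
import Cfsg.Agent.Lib.helper2.AbSyl
import Cfsg.Agent.Lib.helper2.IndTools
import Cfsg.Agent.Lib.helper2.CliffordCorr
import Cfsg.Agent.Lib.Helper25.CharQuot
import Cfsg.Agent.Lib.Helper24.GaloisNorm
import Cfsg.Agent.Lib.Helper1.CFitting
import Cfsg.Agent.Lib.Helper12.Local

set_option autoImplicit false
open scoped ComplexConjugate

namespace Cfsg.Agent.Lib.helper2

open Cfsg.Agent.Lib.helper7 Cfsg.Agent.Lib.Helper11 Cfsg.Agent.Lib.Helper25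

theorem sum_comp_surjective {X Y : Type*} [Group X] [Group Y] [Fintype X] [Fintype Y]
    (f : X →* Y) (hf : Function.Surjective f) (F : Y → ℂ) :
    (Nat.card X : ℂ)⁻¹ * ∑ x : X, F (f x) = (Nat.card Y : ℂ)⁻¹ * ∑ y : Y, F y := by
  classical
  have h1 : ∀ y : Y, (Finset.univ.filter (fun x => f x = y)).card =
      (Finset.univ.filter (fun x => f x = 1)).card := fun y =>
    MonoidHom.card_fiber_eq_of_mem_range f (hf y) (hf 1)
  have h2 : ∑ x : X, F (f x) =
      ∑ y : Y, ∑ x ∈ Finset.univ.filter (fun x => f x = y), F (f x) :=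
    (Finset.sum_fiberwise _ _ _).symm
  have h3 : ∀ y : Y, ∑ x ∈ Finset.univ.filter (fun x => f x = y), F (f x) =
      ((Finset.univ.filter (fun x => f x = 1)).card : ℂ) * F y := by
    intro y
    rw [← h1 y, ← nsmul_eq_mul, ← Finset.sum_const]
    refine Finset.sum_congr rfl fun x hx => ?_
    rw [(Finset.mem_filter.mp hx).2]
  have h4 : Nat.card X = (Finset.univ.filter (fun x => f x = 1)).card * Nat.card Y := by
    rw [Nat.card_eq_fintype_card, Nat.card_eq_fintype_card, ← Finset.card_univ (α := X),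
      Finset.card_eq_sum_card_fiberwise (f := f) (t := Finset.univ) (fun x _ => Finset.mem_univ _)]
    simp only [h1]
    rw [Finset.sum_const, Finset.card_univ, smul_eq_mul, mul_comm]
  have hYne : (Nat.card Y : ℂ) ≠ 0 := by exact_mod_cast Nat.card_pos.ne'
  have hXne : (Nat.card X : ℂ) ≠ 0 := by exact_mod_cast Nat.card_pos.ne'
  have hcne : ((Finset.univ.filter (fun x => f x = 1)).card : ℂ) ≠ 0 := by
    intro h0
    apply hXne
    rw [h4]
    push_cast
    rw [h0, zero_mul]
  rw [h2]
  simp only [h3]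
  rw [← Finset.mul_sum, h4]
  push_cast
  field_simp

theorem classInner_comp_surjective {X Y : Type*} [Group X] [Group Y] [Fintype X] [Fintype Y]
    (f : X →* Y) (hf : Function.Surjective f) (φ ψ : Y → ℂ) :
    Cfsg.classInner (fun x => φ (f x)) (fun x => ψ (f x)) = Cfsg.classInner φ ψ :=
  sum_comp_surjective f hf (fun y => φ y * conj (ψ y))

theorem mono_central {H : Type*} [Group H] [Fintype H] [Group.IsSolvable H] (N : Subgroup H)
    [N.Normal] (hab : AbSyl N) (ψ : H → ℂ) (hψ : Cfsg.IsIrrCharacter H ψ)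
    (hfaith : ∀ g : H, ψ g = ψ 1 → g = 1)
    (hres : Cfsg.IsIrrCharacter N (fun n : N => ψ n))
    (A : Subgroup H) [hA : A.Normal] [Fintype A] (hAdef : A = (Cfsg.fittingSubgroup N).map N.subtype)
    (μ : A → ℂ) (hμ : Cfsg.IsIrrCharacter A μ) (hcon : Cfsg.classInner (fun a : A => ψ a) μ ≠ 0)
    (hinv : ∀ g : H, cj A μ g = μ) : ψ 1 = 1 := by
  classical
  haveI hFnil : Group.IsNilpotent (Cfsg.fittingSubgroup N) :=
    Cfsg.Agent.Lib.Helper1.fittingSubgroup_nilpotent
  have hFab : AbSyl (Cfsg.fittingSubgroup N) :=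
    abSyl_of_injective (Cfsg.fittingSubgroup N).subtype Subtype.val_injective hab
  have hFcomm := comm_of_nilpotent_abSyl hFab
  have hAcomm : ∀ a b : A, a * b = b * a := by
    intro a b
    obtain ⟨x, hx, hxa⟩ : (a : H) ∈ (Cfsg.fittingSubgroup N).map N.subtype := hAdef ▸ a.2
    obtain ⟨y, hy, hyb⟩ : (b : H) ∈ (Cfsg.fittingSubgroup N).map N.subtype := hAdef ▸ b.2
    apply Subtype.ext
    show (a : H) * b = b * a
    rw [← hxa, ← hyb, ← map_mul, ← map_mul]
    have := hFcomm ⟨x, hx⟩ ⟨y, hy⟩
    exact congrArg (fun z : Cfsg.fittingSubgroup N => N.subtype (z : N)) this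
  haveI : IsMulCommutative A := ⟨⟨hAcomm⟩⟩
  have hμ1 : μ 1 = 1 := Cfsg.Agent.Lib.Helper24.gn_irr_one_of_isMulCommutative ⟨μ, hμ⟩
  have hμmul := irr_linear_mul (⟨μ, hμ⟩ : Cfsg.IrrCharacter A) hμ1
  obtain ⟨e, he, -, heq⟩ := h7_clifford_invariant A ψ hψ μ hμ hcon hinv
  have hψA : ∀ a : A, ψ a = (e : ℂ) * μ a := by
    intro a
    have := congrFun heq a
    simpa using this
  have hψ1 : ψ 1 = (e : ℂ) := by
    have := hψA 1
    rw [hμ1, mul_one] at this
    exact this
  -- A is central
  have hcent : ∀ a ∈ A, ∀ h : H, h * a = a * h := by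
    intro a ha h
    have hc : h * a⁻¹ * h⁻¹ ∈ A := hA.conj_mem _ (A.inv_mem ha) h
    have h1 : ψ (a * (h * a⁻¹ * h⁻¹)) = ψ 1 := by
      have h2 := hψA (⟨a, ha⟩ * ⟨h * a⁻¹ * h⁻¹, hc⟩)
      have h3 : μ (⟨a, ha⟩ * ⟨h * a⁻¹ * h⁻¹, hc⟩) = μ ⟨a, ha⟩ * μ ⟨h * a⁻¹ * h⁻¹, hc⟩ :=
        hμmul _ _
      have h4 : μ ⟨h * a⁻¹ * h⁻¹, hc⟩ = μ ⟨a⁻¹, A.inv_mem ha⟩ := by
        have := congrFun (hinv h) ⟨a⁻¹, A.inv_mem ha⟩
        rw [cj_apply] at this
        exact this
      have h5 : μ ⟨a, ha⟩ * μ ⟨a⁻¹, A.inv_mem ha⟩ = 1 := by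
        have := hμmul ⟨a, ha⟩ ⟨a⁻¹, A.inv_mem ha⟩
        simp only at this
        rw [← this]
        have h6 : (⟨a, ha⟩ : A) * ⟨a⁻¹, A.inv_mem ha⟩ = 1 := by
          apply Subtype.ext
          simp
        rw [h6]
        exact hμ1
      rw [h3, h4, h5, mul_one] at h2
      rw [hψ1]
      exact h2
    have h2 := hfaith _ h1
    have h3 : h * a⁻¹ * h⁻¹ = a⁻¹ := by
      have : a⁻¹ * (a * (h * a⁻¹ * h⁻¹)) = a⁻¹ * 1 := by rw [h2]
      simpa [mul_assoc] using this
    have h4 : h * a⁻¹ = a⁻¹ * h := by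
      have : h * a⁻¹ * h⁻¹ * h = a⁻¹ * h := by rw [h3]
      simpa [mul_assoc] using this
    have h5 : a * (h * a⁻¹) * a = a * (a⁻¹ * h) * a := by rw [h4]
    simp only [mul_assoc, inv_mul_cancel, mul_one, mul_inv_cancel_left] at h5
    exact h5.symm
  -- F = ⊤ in N
  haveI : Group.IsSolvable N := inferInstance
  have hle := Cfsg.Agent.Lib.Helper1.centralizer_fittingSubgroup_le (G := N)
  have hall : ∀ n : N, n ∈ Cfsg.fittingSubgroup N := by
    intro n
    apply hle
    rw [Subgroup.mem_centralizer_iff]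
    intro x hx
    have hxA : (x : H) ∈ A := by
      rw [hAdef]
      exact ⟨x, hx, rfl⟩
    apply Subtype.ext
    show (x : H) * n = n * x
    exact (hcent _ hxA n).symm
  have hNcomm : ∀ x y : N, x * y = y * x := by
    intro x y
    have := hFcomm ⟨x, hall x⟩ ⟨y, hall y⟩
    exact congrArg (fun z : Cfsg.fittingSubgroup N => (z : N)) this
  haveI : IsMulCommutative N := ⟨⟨hNcomm⟩⟩
  have := Cfsg.Agent.Lib.Helper24.gn_irr_one_of_isMulCommutative
    (⟨_, hres⟩ : Cfsg.IrrCharacter N)
  exact this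

universe u

theorem mono_aux (n : ℕ) : ∀ (H : Type u) [Group H] [Fintype H] [Group.IsSolvable H],
    Nat.card H ≤ n → ∀ (N : Subgroup H) [N.Normal], AbSyl N → ∀ ψ : H → ℂ,
    Cfsg.IsIrrCharacter H ψ → Cfsg.IsIrrCharacter N (fun n : N => ψ n) →
    ∃ (U : Subgroup H) (lam : U → ℂ), Cfsg.IsCharacter U lam ∧ lam 1 = 1 ∧
      Cfsg.indFun U lam = ψ := by
  induction n with
  | zero =>
    intro H _ _ _ hcard
    exact absurd hcard (by have := Nat.card_pos (α := H); omega)
  | succ n ih =>
    intro H _ _ _ hcard N _ hab ψ hψ hres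
    classical
    have hψcl := h7_irr_isClassFunction hψ
    have hψchar := h7_irr_isCharacter hψ
    obtain ⟨K, hKn, m, σ, hσ, hK, hchar, hσfaith⟩ := quotient_setup (⟨ψ, hψ⟩ : Cfsg.IrrCharacter H)
    simp only at hK hchar
    by_cases hKbot : K = ⊥
    · -- faithful case
      have hfaith : ∀ g : H, ψ g = ψ 1 → g = 1 := by
        intro g hg
        have := (hK g).mpr hg
        rw [hKbot] at this
        exact Subgroup.mem_bot.mp this
      haveI : (Cfsg.fittingSubgroup N).Characteristic :=
        Cfsg.Agent.Lib.Helper12.fittingSubgroup_characteristic N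
      obtain ⟨A, hAdef⟩ : ∃ A : Subgroup H, A = (Cfsg.fittingSubgroup N).map N.subtype := ⟨_, rfl⟩
      haveI hAn : A.Normal := by
        rw [hAdef]
        exact ConjAct.normal_of_characteristic_of_normal
      haveI : Fintype A := Fintype.ofFinite A
      have hψA : Cfsg.IsCharacter A (fun a : A => ψ a) := isCharacter_restrict hψchar A
      have hψ1 : ψ 1 ≠ 0 := irr_one_ne_zero (⟨ψ, hψ⟩ : Cfsg.IrrCharacter H)
      obtain ⟨μ, c, hc, hμc⟩ := isCharacter_exists_constituent hψA hψ1
      have hcon : Cfsg.classInner (fun a : A => ψ a) (μ : A → ℂ) ≠ 0 := by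
        rw [hμc]
        exact_mod_cast hc.ne'
      by_cases hT : cjStab A (μ : A → ℂ) = ⊤
      · have hinv : ∀ g : H, cj A (μ : A → ℂ) g = μ := by
          intro g
          rw [← mem_cjStab, hT]
          exact Subgroup.mem_top g
        have h1 := mono_central N hab ψ hψ hfaith hres A hAdef μ μ.2 hcon hinv
        exact ⟨⊤, fun h => ψ h, isCharacter_restrict hψchar ⊤, h1, indFun_top ψ hψcl⟩
      · have hcc := clifford_correspondence A ψ hψ μ μ.2 hcon
        obtain ⟨T, hTdef⟩ : ∃ T : Subgroup H, T = cjStab A (μ : A → ℂ) := ⟨_, rfl⟩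
        rw [← hTdef] at hcc hT
        obtain ⟨ξ, hξ, hind⟩ := hcc
        haveI : Fintype T := Fintype.ofFinite T
        have hTcard : Nat.card T ≤ n := by
          have h1 : Nat.card T < Nat.card H := by
            have h2 := Subgroup.card_mul_index T
            have h3 : T.index ≠ 1 := by
              intro h
              exact hT (Subgroup.index_eq_one.mp h)
            have h4 : T.index ≠ 0 := Subgroup.index_ne_zero_of_finite
            have h5 : 0 < Nat.card T := Nat.card_pos
            have h6 : 2 ≤ T.index := by omega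
            nlinarith
          omega
        have hresT := restrict_irr_of_induced N T ξ hξ (hind.symm ▸ hψ) (hind.symm ▸ hres)
        have habT : AbSyl (N.subgroupOf T) := by
          refine abSyl_of_injective
            ((T.subtype.comp (N.subgroupOf T).subtype).codRestrict N (fun k => k.2)) ?_ hab
          intro a b hab'
          apply Subtype.ext
          apply Subtype.ext
          exact congrArg (fun z : N => (z : H)) hab'
        obtain ⟨U, lam, hlam, hlam1, hU⟩ := ih T hTcard (N.subgroupOf T) habT ξ hξ hresT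
        refine ⟨U.map T.subtype, fun h => lam ((U.equivMapOfInjective T.subtype
          T.subtype_injective).symm h), ?_, ?_, ?_⟩
        · exact isCharacter_comp_hom hlam
            (U.equivMapOfInjective T.subtype T.subtype_injective).symm.toMonoidHom
        · show lam ((U.equivMapOfInjective T.subtype T.subtype_injective).symm 1) = 1
          rw [map_one]
          exact hlam1
        · rw [← indFun_trans, hU, hind]
    · -- non-faithful case: pass to the quotient
      haveI := hKn
      haveI : Fintype (H ⧸ K) := Fintype.ofFinite _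
      have hQcard : Nat.card (H ⧸ K) ≤ n := by
        have h1 : Nat.card (H ⧸ K) < Nat.card H := by
          have h2 := Subgroup.card_mul_index K
          rw [Subgroup.index_eq_card] at h2
          have h3 : Nat.card K ≠ 1 := by
            intro h
            exact hKbot (Subgroup.card_eq_one.mp h)
          have h4 : 0 < Nat.card K := Nat.card_pos
          have h5 : 0 < Nat.card (H ⧸ K) := Nat.card_pos
          have h6 : 2 ≤ Nat.card K := by omega
          nlinarith
        omega
      have hσirr : Cfsg.IsIrrCharacter (H ⧸ K) σ.character := ⟨m, σ, hσ, rfl⟩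
      have hσchar := h7_irr_isCharacter hσirr
      obtain ⟨Nb, hNbdef⟩ : ∃ Nb : Subgroup (H ⧸ K), Nb = N.map (QuotientGroup.mk' K) := ⟨_, rfl⟩
      haveI hNbn : Nb.Normal := by
        rw [hNbdef]
        exact Subgroup.Normal.map inferInstance _ (QuotientGroup.mk'_surjective K)
      have hf : ∀ x : N, QuotientGroup.mk' K (x : H) ∈ Nb := by
        intro x
        rw [hNbdef]
        exact ⟨x, x.2, rfl⟩
      obtain ⟨f, hfdef⟩ : ∃ f : N →* Nb, ∀ x : N, ((f x : Nb) : H ⧸ K) = QuotientGroup.mk' K (x : H) :=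
        ⟨((QuotientGroup.mk' K).comp N.subtype).codRestrict Nb hf, fun x => rfl⟩
      have hfsurj : Function.Surjective f := by
        intro y
        have hy : (y : H ⧸ K) ∈ N.map (QuotientGroup.mk' K) := hNbdef ▸ y.2
        obtain ⟨x, hx, hxy⟩ := hy
        refine ⟨⟨x, hx⟩, ?_⟩
        apply Subtype.ext
        rw [hfdef]
        exact hxy
      have habNb : AbSyl Nb := abSyl_of_surjective f hfsurj hab
      have hresNb : Cfsg.IsIrrCharacter Nb (fun y : Nb => σ.character (y : H ⧸ K)) := by
        haveI : Fintype Nb := Fintype.ofFinite Nb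
        haveI : Fintype N := Fintype.ofFinite N
        apply h7_irr_of_norm_one (isCharacter_restrict hσchar Nb)
        rw [← classInner_comp_surjective f hfsurj]
        have h1 : (fun x : N => (fun y : Nb => σ.character (y : H ⧸ K)) (f x)) =
            fun x : N => ψ x := by
          funext x
          show σ.character ((f x : Nb) : H ⧸ K) = ψ x
          rw [hfdef]
          exact hchar x
        rw [h1]
        have := irr_classInner (⟨_, hres⟩ : Cfsg.IrrCharacter N) ⟨_, hres⟩
        rw [if_pos rfl] at this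
        exact this
      obtain ⟨Ub, lamb, hlamb, hlamb1, hUb⟩ := ih (H ⧸ K) hQcard Nb habNb σ.character hσirr hresNb
      refine ⟨Ub.comap (QuotientGroup.mk' K),
        fun h => lamb ⟨QuotientGroup.mk' K (h : H), h.2⟩, ?_, ?_, ?_⟩
      · exact isCharacter_comp_hom hlamb ((QuotientGroup.mk' K).subgroupComap Ub)
      · show lamb ⟨QuotientGroup.mk' K ((1 : Ub.comap (QuotientGroup.mk' K)) : H), _⟩ = 1
        have h1 : (⟨QuotientGroup.mk' K ((1 : Ub.comap (QuotientGroup.mk' K)) : H),
            (1 : Ub.comap (QuotientGroup.mk' K)).2⟩ : Ub) = 1 := by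
          apply Subtype.ext
          simp
        rw [h1]
        exact hlamb1
      · funext g
        rw [indFun_inflation K Ub lamb g, hUb]
        exact hchar g

end Cfsg.Agent.Lib.helper2
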