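import Mathlib
import Cfsg.Prelude.Def_Characters
import Cfsg.Agent.Lib.helper2.BergerLib7
import Cfsg.Agent.Lib.Helper25.CharReal
import Cfsg.Agent.Lib.Helper25.CharLinear
import Cfsg.Agent.Lib.helper2.MGroup2
import Cfsg.Agent.Lib.Helper11.IndTrans

set_option autoImplicit false
open scoped ComplexConjugate

namespace Cfsg.Agent.Lib.helper2

open Cfsg.Agent.Lib.helper7 Cfsg.Agent.Lib.Helper11 Cfsg.Agent.Lib.Helper25

theorem bg_isCharacter_conj {G : Type*} [Group G] [Fintype G] {ψ : G → ℂ}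
    (hψ : Cfsg.IsCharacter G ψ) : Cfsg.IsCharacter G (fun g => conj (ψ g)) := by
  classical
  haveI : Fintype (Cfsg.IrrCharacter G) := Fintype.ofFinite _
  obtain ⟨m, hm, hexp⟩ := isCharacter_expansion hψ
  have : (fun g => conj (ψ g)) =
      ∑ χ : Cfsg.IrrCharacter G, (m χ : ℂ) • ((irrConj χ : Cfsg.IrrCharacter G) : G → ℂ) := by
    funext g
    have h1 := congrFun hexp g
    rw [h1]
    simp only [Finset.sum_apply, Pi.smul_apply, smul_eq_mul, map_sum, map_mul, Complex.conj_natCast,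
      irrConj_apply]
  rw [this]
  exact isCharacter_sum _ _ (fun χ _ => isCharacter_natCast_smul (isCharacter_of_irr _) _)

theorem bg_irr_conj {G : Type*} [Group G] [Fintype G] {ψ : G → ℂ}
    (hψ : Cfsg.IsIrrCharacter G ψ) : Cfsg.IsIrrCharacter G (fun g => conj (ψ g)) :=
  (irrConj ⟨ψ, hψ⟩).2

theorem bg_irr_comp_surjective {X Y : Type*} [Group X] [Group Y] [Fintype X] [Fintype Y]
    (f : X →* Y) (hf : Function.Surjective f) {φ : Y → ℂ} (hφ : Cfsg.IsIrrCharacter Y φ) :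
    Cfsg.IsIrrCharacter X (fun x => φ (f x)) := by
  apply h7_irr_of_norm_one (isCharacter_comp_hom (h7_irr_isCharacter hφ) f)
  rw [classInner_comp_surjective f hf]
  exact h7_irr_norm hφ

theorem bg_classInner_mul {G : Type*} [Group G] [Fintype G] (a b c : G → ℂ) :
    Cfsg.classInner (fun x => a x * b x) c = Cfsg.classInner a (fun x => c x * conj (b x)) := by
  unfold Cfsg.classInner
  congr 1
  refine Finset.sum_congr rfl fun x _ => ?_
  rw [map_mul, Complex.conj_conj]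
  ring

theorem bg_trivial_irr (G : Type*) [Group G] : Cfsg.IsIrrCharacter G (fun _ => (1 : ℂ)) :=
  (trivIrr G).2

/-- If `Z₁ + Z₂` is a multiple of the irreducible `a₀`, so is `Z₁`. -/
theorem bg_sub_multiple {A : Type*} [Group A] [Fintype A] {Z₁ Z₂ a₀ : A → ℂ}
    (h1 : Cfsg.IsCharacter A Z₁) (h2 : Cfsg.IsCharacter A Z₂) (ha : Cfsg.IsIrrCharacter A a₀)
    (c : ℂ) (h : Z₁ + Z₂ = c • a₀) : ∃ c₁ : ℕ, Z₁ = (c₁ : ℂ) • a₀ := by
  classical
  haveI : Fintype (Cfsg.IrrCharacter A) := Fintype.ofFinite _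
  obtain ⟨m, hm, hexp⟩ := isCharacter_expansion h1
  obtain ⟨m₂, hm₂, -⟩ := isCharacter_expansion h2
  refine ⟨m ⟨a₀, ha⟩, ?_⟩
  have hz : ∀ ξ : Cfsg.IrrCharacter A, ξ ≠ ⟨a₀, ha⟩ → m ξ = 0 := by
    intro ξ hξ
    have e1 : Cfsg.classInner (Z₁ + Z₂) (ξ : A → ℂ) = 0 := by
      rw [h, classInner_smul_left]
      have := irr_classInner (⟨a₀, ha⟩ : Cfsg.IrrCharacter A) ξ
      rw [if_neg (fun h' => hξ h'.symm)] at this
      simp only at this
      rw [this, mul_zero]
    rw [classInner_add_left, hm, hm₂] at e1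
    have : (m ξ + m₂ ξ : ℕ) = 0 := by exact_mod_cast e1
    omega
  rw [hexp]
  rw [Finset.sum_eq_single (⟨a₀, ha⟩ : Cfsg.IrrCharacter A)]
  · intro ξ _ hξ
    rw [hz ξ hξ]
    simp
  · intro h'
    exact absurd (Finset.mem_univ _) h'

/-- A character inducing an irreducible character is irreducible. -/
theorem bg_irr_of_ind_irr {G : Type*} [Group G] [Fintype G] (H : Subgroup G) [Fintype H]
    {ψ : H → ℂ} (hψ : Cfsg.IsCharacter H ψ) (hind : Cfsg.IsIrrCharacter G (Cfsg.indFun H ψ)) :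
    Cfsg.IsIrrCharacter H ψ := by
  classical
  have hψ1 : ψ 1 ≠ 0 := by
    intro h0
    have hz := h7_isCharacter_eq_zero hψ h0
    have h1 := irr_one_ne_zero (⟨_, hind⟩ : Cfsg.IrrCharacter G)
    apply h1
    simp only
    rw [hz, indFun_zero']
    rfl
  obtain ⟨ξ, m, hm, hξm⟩ := isCharacter_exists_constituent hψ hψ1
  have hne : Cfsg.classInner ψ (ξ : H → ℂ) ≠ 0 := by
    rw [hξm]; exact_mod_cast hm.ne'
  obtain ⟨Z, hZ, hsplit⟩ := h7_char_split hψ (ξ : H → ℂ) ξ.2 hne
  have hξc := isCharacter_of_irr ξ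
  have hIξ : Cfsg.IsCharacter G (Cfsg.indFun H (ξ : H → ℂ)) := isCharacter_indFun H _ hξc
  have hIZ : Cfsg.IsCharacter G (Cfsg.indFun H Z) := isCharacter_indFun H _ hZ
  have hIξ1 : Cfsg.indFun H (ξ : H → ℂ) 1 ≠ 0 := by
    rw [h7_indFun_one]
    have h1 := irr_one_ne_zero ξ
    have h2 : (H.index : ℂ) ≠ 0 := by
      exact_mod_cast Subgroup.index_ne_zero_of_finite
    exact mul_ne_zero h2 h1
  obtain ⟨χ', m', hm', hχ'm⟩ := isCharacter_exists_constituent hIξ hIξ1
  have hne' : Cfsg.classInner (Cfsg.indFun H (ξ : H → ℂ)) (χ' : G → ℂ) ≠ 0 := by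
    rw [hχ'm]; exact_mod_cast hm'.ne'
  obtain ⟨Z₂, hZ₂, hsplit₂⟩ := h7_char_split hIξ (χ' : G → ℂ) χ'.2 hne'
  have hsum : Cfsg.indFun H ψ = (χ' : G → ℂ) + (Z₂ + Cfsg.indFun H Z) := by
    rw [hsplit, indFun_add, hsplit₂, add_assoc]
  have hZ3 : Cfsg.IsCharacter G (Z₂ + Cfsg.indFun H Z) := isCharacter_add hZ₂ hIZ
  -- χ = χ'
  have heq : Cfsg.indFun H ψ = (χ' : G → ℂ) := by
    by_contra hne2
    have h0 := h7_irr_inner_ne hind χ'.2 hne2
    rw [hsum, classInner_add_left] at h0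
    have h1 := h7_irr_norm χ'.2
    obtain ⟨k, hk⟩ := classInner_character_nat hZ3 (isCharacter_of_irr χ')
    rw [h1, hk] at h0
    have : (1 + k : ℕ) = 0 := by exact_mod_cast h0
    omega
  have hz3 : (Z₂ + Cfsg.indFun H Z) 1 = 0 := by
    have := congrFun hsum 1
    rw [heq] at this
    simp only [Pi.add_apply] at this ⊢
    linear_combination -this
  have hz3' := h7_isCharacter_eq_zero hZ3 hz3
  -- so indFun H Z 1 = 0
  obtain ⟨n₂, hn₂⟩ := isCharacter_one_eq_nat hZ₂
  obtain ⟨n₃, hn₃⟩ := isCharacter_one_eq_nat hZ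
  have hZ1 : Z 1 = 0 := by
    have h1 : (Z₂ + Cfsg.indFun H Z) 1 = 0 := hz3
    rw [Pi.add_apply, h7_indFun_one, hn₂, hn₃] at h1
    have h2 : (n₂ + H.index * n₃ : ℕ) = 0 := by exact_mod_cast h1
    have h3 : H.index * n₃ = 0 := by omega
    have h4 : n₃ = 0 := by
      rcases Nat.mul_eq_zero.mp h3 with h | h
      · exact absurd h Subgroup.index_ne_zero_of_finite
      · exact h
    rw [hn₃, h4]
    simp
  have hZ0 := h7_isCharacter_eq_zero hZ hZ1
  rw [hsplit, hZ0, add_zero]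
  exact ξ.2

/-- induction commutes with pullback along a surjective homomorphism -/
theorem bg_indFun_comp_surjective {P G : Type*} [Group P] [Group G] [Fintype P] [Fintype G]
    (f : P →* G) (hf : Function.Surjective f) (H : Subgroup G) (ϑ : H → ℂ) :
    Cfsg.indFun (H.comap f) (fun x : H.comap f => ϑ ⟨f x, x.2⟩) =
      fun y => Cfsg.indFun H ϑ (f y) := by
  classical
  funext y
  unfold Cfsg.indFun
  have hext : ∀ z : P, Cfsg.extendByZero (H.comap f) (fun x : H.comap f => ϑ ⟨f x, x.2⟩) z =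
      Cfsg.extendByZero H ϑ (f z) := by
    intro z
    by_cases hz : f z ∈ H
    · rw [h7_extendByZero_mem H ϑ _ hz,
        h7_extendByZero_mem (H.comap f) _ z (Subgroup.mem_comap.mpr hz)]
    · rw [h7_extendByZero_not_mem H ϑ _ hz,
        h7_extendByZero_not_mem (H.comap f) _ z (fun h => hz (Subgroup.mem_comap.mp h))]
  simp only [hext, map_mul, map_inv]
  have h1 := sum_comp_surjective f hf (fun g => Cfsg.extendByZero H ϑ (g⁻¹ * f y * g))
  have hP : (Nat.card P : ℂ) ≠ 0 := by exact_mod_cast Nat.card_pos.ne'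
  have hG : (Nat.card G : ℂ) ≠ 0 := by exact_mod_cast Nat.card_pos.ne'
  have hH : (Nat.card H : ℂ) ≠ 0 := by exact_mod_cast Nat.card_pos.ne'
  have hC : (Nat.card (H.comap f) : ℂ) ≠ 0 := by exact_mod_cast Nat.card_pos.ne'
  have hidx : (H.comap f).index = H.index := Subgroup.index_comap_of_surjective H hf
  have e1 := Subgroup.index_mul_card (H.comap f)
  have e2 := Subgroup.index_mul_card H
  have e3 : (Nat.card P : ℂ) * (Nat.card H : ℂ) = (Nat.card G : ℂ) * (Nat.card (H.comap f) : ℂ) := by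
    have : Nat.card P * Nat.card H = Nat.card G * Nat.card (H.comap f) := by
      rw [← e1, ← e2, hidx]; ring
    exact_mod_cast this
  have h2 : ∑ x : P, Cfsg.extendByZero H ϑ ((f x)⁻¹ * f y * f x) =
      (Nat.card P : ℂ) * ((Nat.card G : ℂ)⁻¹ *
        ∑ g : G, Cfsg.extendByZero H ϑ (g⁻¹ * f y * g)) := by
    rw [← h1]
    field_simp
  rw [h2]
  field_simp
  linear_combination (∑ g : G, Cfsg.extendByZero H ϑ (g⁻¹ * f y * g)) * e3

theorem bg_isCoatom_comap {P G : Type*} [Group P] [Group G] (f : P →* G)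
    (hf : Function.Surjective f) {H : Subgroup G} (hH : IsCoatom H) : IsCoatom (H.comap f) := by
  constructor
  · intro h
    apply hH.1
    rw [eq_top_iff]
    intro g _
    obtain ⟨x, rfl⟩ := hf g
    have : x ∈ H.comap f := by rw [h]; trivial
    exact this
  · intro Q' hQ'
    have hker : f.ker ≤ Q' := le_trans (by
      intro x hx
      rw [Subgroup.mem_comap, MonoidHom.mem_ker.mp hx]
      exact H.one_mem) hQ'.le
    have h1 : H < Q'.map f := by
      constructor
      · intro g hg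
        obtain ⟨x, rfl⟩ := hf g
        exact ⟨x, hQ'.le (Subgroup.mem_comap.mpr hg), rfl⟩
      · intro hle
        apply hQ'.not_ge
        intro x hx
        exact Subgroup.mem_comap.mpr (hle ⟨x, hx, rfl⟩)
    have h2 := hH.2 _ h1
    rw [← Subgroup.comap_map_eq_self hker, h2, Subgroup.comap_top]

end Cfsg.Agent.Lib.helper2
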