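import Mathlib
import Cfsg.Prelude.Def_Characters
import Cfsg.Prelude.Def_Blocks
import Cfsg.Agent.Lib.helper2.PModular
import Cfsg.Agent.Lib.helper2.CharInt

set_option autoImplicit false
open scoped ComplexConjugate

namespace Cfsg.Agent.Lib.helper2

open Cfsg.Agent.Lib.helper7 Cfsg.Agent.Lib.Helper11 Cfsg.Agent.Lib.Helper25 Cfsg.Agent.Lib.Helper24

theorem natCast_not_isUnit_algInt (p : ℕ) (hp : 2 ≤ p) : ¬ IsUnit ((p : ℕ) : Cfsg.AlgInt) := by
  rintro ⟨u, hu⟩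
  have h1 : ((p : Cfsg.AlgInt) * (u⁻¹ : Cfsg.AlgIntˣ) : Cfsg.AlgInt) = 1 := by
    rw [← hu]
    simp
  have h2 : (p : ℂ) * ((u⁻¹ : Cfsg.AlgIntˣ) : Cfsg.AlgInt) = 1 := by
    have := congrArg (fun z : Cfsg.AlgInt => (z : ℂ)) h1
    simpa using this
  have hp0 : (p : ℂ) ≠ 0 := by
    have : p ≠ 0 := by omega
    exact_mod_cast this
  have h3 : (((u⁻¹ : Cfsg.AlgIntˣ) : Cfsg.AlgInt) : ℂ) = ((1 : ℕ) : ℂ) / (p : ℂ) := by
    rw [eq_div_iff hp0, mul_comm]
    simpa using h2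
  have h4 : IsIntegral ℤ (((1 : ℕ) : ℂ) / (p : ℂ)) := by
    rw [← h3]
    exact ((u⁻¹ : Cfsg.AlgIntˣ) : Cfsg.AlgInt).2
  have h5 := nat_dvd_of_isIntegral_div 1 p (by omega) h4
  have := Nat.le_of_dvd one_pos h5
  omega

theorem exists_isPModular (p : ℕ) (hp : p.Prime) : ∃ M : Ideal Cfsg.AlgInt, Cfsg.IsPModular p M := by
  have hne : Ideal.span ({(p : Cfsg.AlgInt)} : Set Cfsg.AlgInt) ≠ ⊤ := by
    rw [Ne, Ideal.span_singleton_eq_top]
    exact natCast_not_isUnit_algInt p hp.two_le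
  obtain ⟨M, hM, hle⟩ := Ideal.exists_le_maximal _ hne
  exact ⟨M, hp, hM, hle (Ideal.mem_span_singleton_self _)⟩

/-- Frobenius power of a natural-number combination, modulo `p`. -/
theorem sum_pow_ppow_congr {ι : Type*} (s : Finset ι) (p r : ℕ) [Fact p.Prime] (c : ι → ℕ)
    (t u : ι → Cfsg.AlgInt) (htu : ∀ i ∈ s, t i ^ p ^ r = u i ^ p ^ r) :
    ∃ γ : Cfsg.AlgInt, (∑ i ∈ s, (c i : Cfsg.AlgInt) * t i) ^ p ^ r -
      (∑ i ∈ s, (c i : Cfsg.AlgInt) * u i) ^ p ^ r = (p : Cfsg.AlgInt) * γ := by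
  have hp : (p : Cfsg.AlgInt) ∈ nonunits Cfsg.AlgInt :=
    natCast_not_isUnit_algInt p (Fact.out : p.Prime).two_le
  haveI : CharP (Cfsg.AlgInt ⧸ (Ideal.span ({(p : Cfsg.AlgInt)} : Set Cfsg.AlgInt))) p :=
    CharP.quotient Cfsg.AlgInt p hp
  have key : ∀ v : ι → Cfsg.AlgInt,
      Ideal.Quotient.mk (Ideal.span ({(p : Cfsg.AlgInt)} : Set Cfsg.AlgInt))
        ((∑ i ∈ s, (c i : Cfsg.AlgInt) * v i) ^ p ^ r) =
      ∑ i ∈ s, (c i : Cfsg.AlgInt ⧸ (Ideal.span ({(p : Cfsg.AlgInt)} : Set Cfsg.AlgInt))) *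
        Ideal.Quotient.mk (Ideal.span ({(p : Cfsg.AlgInt)} : Set Cfsg.AlgInt)) (v i ^ p ^ r) := by
    intro v
    rw [map_pow, map_sum, ← iterateFrobenius_def, map_sum]
    refine Finset.sum_congr rfl fun i _ => ?_
    rw [map_mul, map_mul, map_natCast, map_natCast, iterateFrobenius_def, map_pow]
  have h1 : Ideal.Quotient.mk (Ideal.span ({(p : Cfsg.AlgInt)} : Set Cfsg.AlgInt))
      ((∑ i ∈ s, (c i : Cfsg.AlgInt) * t i) ^ p ^ r -
        (∑ i ∈ s, (c i : Cfsg.AlgInt) * u i) ^ p ^ r) = 0 := by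
    rw [map_sub, key t, key u, sub_eq_zero]
    refine Finset.sum_congr rfl fun i hi => ?_
    rw [htu i hi]
  rw [Ideal.Quotient.eq_zero_iff_mem, Ideal.mem_span_singleton'] at h1
  obtain ⟨γ, hγ⟩ := h1
  exact ⟨γ, by rw [← hγ, mul_comm]⟩

theorem char_pow_crt_congr {G : Type*} [Group G] [Finite G] {p : ℕ} [Fact p.Prime]
    {m n e e' r : ℕ}
    (hmn : Nat.card G = m * n) (hm : m = p ^ r)
    (hne' : n ∣ e') (hee : e + e' ≡ 1 [MOD m * n])
    {χ : G → ℂ} (hχ : Cfsg.IsCharacter G χ) (x : G) :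
    ∃ γ : Cfsg.AlgInt, χ x ^ p ^ r - χ (x ^ e) ^ p ^ r = (p : ℂ) * (γ : ℂ) := by
  classical
  haveI : Fintype (Subgroup.zpowers x) := Fintype.ofFinite _
  haveI : Fintype (Cfsg.IrrCharacter (Subgroup.zpowers x)) := Fintype.ofFinite _
  obtain ⟨c, -, hexp⟩ := isCharacter_expansion (isCharacter_restrict hχ (Subgroup.zpowers x))
  obtain ⟨xC, hxC⟩ : ∃ xC : Subgroup.zpowers x, (xC : G) = x :=
    ⟨⟨x, Subgroup.mem_zpowers x⟩, rfl⟩
  have h1 := congrFun hexp xC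
  have h2 := congrFun hexp (xC ^ e)
  simp only [Finset.sum_apply, Pi.smul_apply, smul_eq_mul, Subgroup.coe_pow, hxC] at h1 h2
  have hl1 : ∀ lam : Cfsg.IrrCharacter (Subgroup.zpowers x),
      (lam : Subgroup.zpowers x → ℂ) 1 = 1 := fun lam => gn_irr_one_of_isMulCommutative lam
  obtain ⟨γ, hγ⟩ := sum_pow_ppow_congr (Finset.univ : Finset (Cfsg.IrrCharacter (Subgroup.zpowers x)))
    p r c
    (fun lam => (⟨(lam : Subgroup.zpowers x → ℂ) xC, irr_integral lam xC⟩ : Cfsg.AlgInt))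
    (fun lam => (⟨(lam : Subgroup.zpowers x → ℂ) (xC ^ e), irr_integral lam (xC ^ e)⟩ : Cfsg.AlgInt))
    (by
      intro lam _
      apply Subtype.ext
      simp only [SubmonoidClass.coe_pow]
      have hdec : xC ^ e' * xC ^ e = xC := by
        apply Subtype.ext
        simp only [Subgroup.coe_mul, Subgroup.coe_pow, hxC]
        exact pow_crt_add hmn hee x
      have hz1 : (lam : Subgroup.zpowers x → ℂ) xC =
          (lam : Subgroup.zpowers x → ℂ) (xC ^ e') * (lam : Subgroup.zpowers x → ℂ) (xC ^ e) := by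
        conv_lhs => rw [← hdec]
        exact irr_linear_mul lam (hl1 lam) _ _
      have hzpow : (lam : Subgroup.zpowers x → ℂ) (xC ^ e') ^ p ^ r = 1 := by
        rw [← gn_irr_linear_pow lam (hl1 lam), ← pow_mul]
        have h3 : xC ^ (e' * p ^ r) = 1 := by
          apply Subtype.ext
          simp only [Subgroup.coe_pow, hxC, Subgroup.coe_one]
          have hmn' : Nat.card G = n * m := by rw [hmn, mul_comm]
          have h4 := orderOf_pow_crt_dvd hmn' hne' x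
          rw [pow_mul, ← hm]
          exact orderOf_dvd_iff_pow_eq_one.mp h4
        rw [h3, hl1 lam]
      rw [hz1, mul_pow, hzpow, one_mul])
  refine ⟨γ, ?_⟩
  have := congrArg (fun z : Cfsg.AlgInt => (z : ℂ)) hγ
  simp only [AddSubgroupClass.coe_sub, SubmonoidClass.coe_pow, AddSubmonoidClass.coe_finsetSum,
    MulMemClass.coe_mul, SubringClass.coe_natCast] at this
  rw [h1, h2]
  exact this

end Cfsg.Agent.Lib.helper2
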