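import Mathlib
import Cfsg.Agent.Lib.helper7.BD.CharDefs
import Cfsg.Agent.Lib.helper7.ClassSum

set_option autoImplicit false
set_option linter.unusedVariables false
set_option linter.unusedSectionVars false
set_option linter.style.haveILetI false

namespace Cfsg.Agent.Lib.helper7.BD

open Cfsg.Agent.Lib.helper7

universe u

section chars
variable {G : Type u} [Group G] [Fintype G]

/-- a subgroup of prime order is generated by each of its nontrivial elements -/
theorem h2_mem_zpowers_of_card_prime (p : ℕ) [Fact p.Prime] (P : Subgroup G) (hP : Nat.card P = p)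
    (y : G) (hy : y ∈ P) (hy1 : y ≠ 1) (z : G) (hz : z ∈ P) : z ∈ Subgroup.zpowers y := by
  have hle : Subgroup.zpowers y ≤ P := Subgroup.zpowers_le.mpr hy
  have hcard : Nat.card (Subgroup.zpowers y) = p := by
    have hdvd : Nat.card (Subgroup.zpowers y) ∣ p := hP ▸ Subgroup.card_dvd_of_le hle
    rcases (Nat.dvd_prime (Fact.out : p.Prime)).mp hdvd with h | h
    · exfalso
      rw [Nat.card_zpowers, orderOf_eq_one_iff] at h
      exact hy1 h
    · exact h
  have heq : Subgroup.zpowers y = P := by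
    apply Subgroup.eq_of_le_of_card_ge hle
    rw [hcard, hP]
  rw [heq]
  exact hz

theorem h2_orderOf_of_card_prime (p : ℕ) [Fact p.Prime] (P : Subgroup G) (hP : Nat.card P = p)
    (y : G) (hy : y ∈ P) (hy1 : y ≠ 1) : orderOf y = p := by
  have hdvd : orderOf y ∣ p := by
    rw [← hP]
    have h := Subgroup.card_dvd_of_le (Subgroup.zpowers_le.mpr hy)
    rwa [Nat.card_zpowers] at h
  rcases (Nat.dvd_prime (Fact.out : p.Prime)).mp hdvd with h | h
  · exact absurd (orderOf_eq_one_iff.mp h) hy1
  · exact h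

/-- conjugating one nontrivial element of `P` (of prime order) to another normalises `P` -/
theorem h2_mem_normalizer_of_conj (p : ℕ) [Fact p.Prime] (P : Subgroup G) (hP : Nat.card P = p)
    (y₀ y g : G) (hy₀ : y₀ ∈ P) (hy₀1 : y₀ ≠ 1) (hy : y ∈ P) (hy1 : y ≠ 1)
    (hg : g * y₀ * g⁻¹ = y) : g ∈ Subgroup.normalizer (P : Set G) := by
  rw [Subgroup.mem_normalizer_iff]
  intro h
  constructor
  · intro hh
    obtain ⟨k, hk⟩ := Subgroup.mem_zpowers_iff.mp (h2_mem_zpowers_of_card_prime p P hP y₀ hy₀ hy₀1 h hh)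
    have : g * h * g⁻¹ = y ^ k := by
      rw [← hk, ← hg, conj_zpow]
    rw [this]
    exact P.zpow_mem hy k
  · intro hh
    obtain ⟨k, hk⟩ := Subgroup.mem_zpowers_iff.mp
      (h2_mem_zpowers_of_card_prime p P hP y hy hy1 _ hh)
    have : h = y₀ ^ k := by
      have h1 : g * h * g⁻¹ = g * y₀ ^ k * g⁻¹ := by
        rw [← hk, ← hg, conj_zpow]
      have h2 := mul_left_cancel (mul_right_cancel h1)
      exact h2
    rw [this]
    exact P.zpow_mem hy₀ k

/-- the centraliser of a nontrivial element of `P` (of prime order) is the centraliser of `P` -/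
theorem h2_centralizer_singleton_eq (p : ℕ) [Fact p.Prime] (P : Subgroup G) (hP : Nat.card P = p)
    (y₀ : G) (hy₀ : y₀ ∈ P) (hy₀1 : y₀ ≠ 1) :
    Subgroup.centralizer ({y₀} : Set G) = Subgroup.centralizer (P : Set G) := by
  ext m
  rw [Subgroup.mem_centralizer_iff, Subgroup.mem_centralizer_iff]
  constructor
  · intro h z hz
    obtain ⟨k, hk⟩ := Subgroup.mem_zpowers_iff.mp
      (h2_mem_zpowers_of_card_prime p P hP y₀ hy₀ hy₀1 z hz)
    have hc : Commute y₀ m := h y₀ rfl
    rw [← hk]
    exact (hc.zpow_left k).eq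
  · intro h z hz
    rw [Set.mem_singleton_iff] at hz
    subst hz
    exact h z hy₀

/-- the number of elements of `P ∖ {1}` conjugate to a given one is `|N : C|` -/
theorem h2_card_class_in_P (p : ℕ) [Fact p.Prime] (P : Subgroup G)
    (hP : Nat.card P = p) (y₀ : G) (hy₀ : y₀ ∈ P) (hy₀1 : y₀ ≠ 1) :
    Nat.card {y : G // (y ∈ P ∧ y ≠ 1) ∧ IsConj y₀ y} =
      (Subgroup.centralizer (P : Set G)).relIndex (Subgroup.normalizer (P : Set G)) := by
  classical
  set N := Subgroup.normalizer (P : Set G) with hN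
  have hPN : P ≤ N := Subgroup.le_normalizer
  have hidx := h7_index_centralizer_eq_card_class (G := N) (⟨y₀, hPN hy₀⟩ : N)
  have hcent : Subgroup.centralizer ({(⟨y₀, hPN hy₀⟩ : N)} : Set N) =
      (Subgroup.centralizer (P : Set G)).subgroupOf N := by
    ext m
    rw [Subgroup.mem_subgroupOf, ← h2_centralizer_singleton_eq p P hP y₀ hy₀ hy₀1,
      Subgroup.mem_centralizer_iff, Subgroup.mem_centralizer_iff]
    constructor
    · intro h z hz
      rw [Set.mem_singleton_iff] at hz
      rw [hz]
      have := h ⟨y₀, hPN hy₀⟩ rfl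
      exact congrArg Subtype.val this
    · intro h z hz
      rw [Set.mem_singleton_iff] at hz
      rw [hz]
      exact Subtype.ext (h y₀ rfl)
  rw [hcent] at hidx
  have hrel : (Subgroup.centralizer (P : Set G)).relIndex N =
      ((Subgroup.centralizer (P : Set G)).subgroupOf N).index := rfl
  rw [hrel, hidx]
  apply Nat.card_congr
  refine Equiv.ofBijective (fun y => ⟨⟨y.1, hPN y.2.1.1⟩, ?_⟩) ⟨?_, ?_⟩
  · obtain ⟨g, hg⟩ := isConj_iff.mp y.2.2
    have hgN : g ∈ N := h2_mem_normalizer_of_conj p P hP y₀ y.1 g hy₀ hy₀1 y.2.1.1 y.2.1.2 hg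
    exact isConj_iff.mpr ⟨⟨g, hgN⟩, Subtype.ext hg⟩
  · intro a b hab
    have := congrArg (fun t => (t.1 : G)) hab
    exact Subtype.ext this
  · rintro ⟨n, hn⟩
    obtain ⟨m, hm⟩ := isConj_iff.mp hn
    have hval : (m : G) * y₀ * (m : G)⁻¹ = (n : G) := by
      have := congrArg Subtype.val hm
      simpa using this
    have hnP : (n : G) ∈ P := by
      rw [← hval]
      exact (Subgroup.mem_normalizer_iff.mp m.2 y₀).mp hy₀
    have hn1 : (n : G) ≠ 1 := by
      intro h
      rw [h] at hval
      apply hy₀1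
      have : y₀ = (m : G)⁻¹ * 1 * (m : G) := by rw [← hval]; group
      simpa using this
    exact ⟨⟨(n : G), ⟨hnP, hn1⟩, isConj_iff.mpr ⟨(m : G), hval⟩⟩, Subtype.ext (Subtype.ext rfl)⟩

/-- REPS : the number of classes of nontrivial `p`-elements is `(p - 1) / e` -/
theorem card_pclass_reps [DecidableEq G] (p : ℕ) [Fact p.Prime] (P : Sylow p G) (hP : Nat.card P = p)
    (X : Finset G) (h1 : (1 : G) ∈ X) (hX : ∀ x ∈ X, ∃ k : ℕ, orderOf x = p ^ k)
    (hXrep : ∀ g : G, (∃ k : ℕ, orderOf g = p ^ k) → ∃! x, x ∈ X ∧ IsConj g x) :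
    (∀ x ∈ X.erase 1, orderOf x = p) ∧
    (X.erase 1).card * (Subgroup.centralizer ((P : Subgroup G) : Set G)).relIndex
      (Subgroup.normalizer ((P : Subgroup G) : Set G)) = p - 1 := by
  classical
  have hp := (Fact.out : p.Prime)
  -- every p-element has a conjugate in P
  have hconjP : ∀ x : G, (∃ k, orderOf x = p ^ k) → ∃ g : G, g * x * g⁻¹ ∈ (P : Subgroup G) := by
    rintro x ⟨k, hk⟩
    have hpg : IsPGroup p (Subgroup.zpowers x) := by
      rw [IsPGroup.iff_card]
      exact ⟨k, by rw [Nat.card_zpowers, hk]⟩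
    obtain ⟨Q, hQ⟩ := hpg.exists_le_sylow
    obtain ⟨g, hg⟩ := MulAction.exists_smul_eq G Q P
    refine ⟨g, ?_⟩
    have hxQ : x ∈ (Q : Subgroup G) := hQ (Subgroup.mem_zpowers x)
    rw [← hg, Sylow.coe_subgroup_smul]
    have := Subgroup.smul_mem_pointwise_smul x (MulAut.conj g) (Q : Subgroup G) hxQ
    rwa [MulAut.smul_def, MulAut.conj_apply] at this
  -- elements of X other than 1 are not conjugate to 1 ... and have order p
  have hord : ∀ x ∈ X.erase 1, orderOf x = p := by
    intro x hx
    obtain ⟨hx1, hxX⟩ := Finset.mem_erase.mp hx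
    obtain ⟨g, hg⟩ := hconjP x (hX x hxX)
    have hy1 : g * x * g⁻¹ ≠ 1 := by
      intro h
      apply hx1
      have : x = g⁻¹ * 1 * g := by rw [← h]; group
      simpa using this
    have h2 := h2_orderOf_of_card_prime p (P : Subgroup G) hP _ hg hy1
    have hsc : SemiconjBy g x (g * x * g⁻¹) := by
      unfold SemiconjBy
      group
    rw [hsc.orderOf_eq, h2]
  refine ⟨hord, ?_⟩
  -- the set of nontrivial elements of P
  set S : Finset G := Finset.univ.filter (fun y : G => y ∈ (P : Subgroup G) ∧ y ≠ 1) with hS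
  have hScard : S.card = p - 1 := by
    have h2 : (Finset.univ.filter (fun y : G => y ∈ (P : Subgroup G))).card = p := by
      have h4 : Nat.card (P : Subgroup G) =
          (Finset.univ.filter (fun y : G => y ∈ (P : Subgroup G))).card := by
        rw [Nat.card_eq_fintype_card, Fintype.card_subtype]
      rw [← h4, hP]
    have h3 : S = (Finset.univ.filter (fun y : G => y ∈ (P : Subgroup G))).erase 1 := by
      ext y
      simp only [hS, Finset.mem_filter, Finset.mem_univ, true_and, Finset.mem_erase]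
      tauto
    rw [h3, Finset.card_erase_of_mem, h2]
    simp only [Finset.mem_filter, Finset.mem_univ, true_and]
    exact (P : Subgroup G).one_mem
  have hSp : ∀ y ∈ S, ∃ k, orderOf y = p ^ k := by
    intro y hy
    have hy' := (Finset.mem_filter.mp hy).2
    exact ⟨1, by rw [pow_one]; exact h2_orderOf_of_card_prime p (P : Subgroup G) hP y hy'.1 hy'.2⟩
  -- decomposition of S into classes
  have hunion : S = (X.erase 1).biUnion (fun x => S.filter (fun y => IsConj y x)) := by
    ext y
    simp only [Finset.mem_biUnion, Finset.mem_filter]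
    constructor
    · intro hy
      obtain ⟨x, ⟨hxX, hxc⟩, _⟩ := hXrep y (hSp y hy)
      refine ⟨x, ?_, hy, hxc⟩
      rw [Finset.mem_erase]
      refine ⟨?_, hxX⟩
      intro hx1
      rw [hx1] at hxc
      have hy' := (Finset.mem_filter.mp hy).2
      exact hy'.2 (isConj_one_right.mp hxc.symm)
    · rintro ⟨x, _, hy, _⟩
      exact hy
  have hdisj : ((X.erase 1 : Finset G) : Set G).PairwiseDisjoint
      (fun x => S.filter (fun y => IsConj y x)) := by
    intro x hx x' hx' hne
    rw [Function.onFun, Finset.disjoint_left]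
    intro y hy hy'
    rw [Finset.mem_filter] at hy hy'
    obtain ⟨z, _, hz⟩ := hXrep y (hSp y hy.1)
    have hxz := hz x ⟨(Finset.mem_erase.mp hx).2, hy.2⟩
    have hxz' := hz x' ⟨(Finset.mem_erase.mp hx').2, hy'.2⟩
    exact hne (hxz.trans hxz'.symm)
  have hfib : ∀ x ∈ X.erase 1, (S.filter (fun y => IsConj y x)).card =
      (Subgroup.centralizer ((P : Subgroup G) : Set G)).relIndex
        (Subgroup.normalizer ((P : Subgroup G) : Set G)) := by
    intro x hx
    obtain ⟨hx1, hxX⟩ := Finset.mem_erase.mp hx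
    obtain ⟨g, hg⟩ := hconjP x (hX x hxX)
    have hy1 : g * x * g⁻¹ ≠ 1 := by
      intro h
      apply hx1
      have : x = g⁻¹ * 1 * g := by rw [← h]; group
      simpa using this
    have hcx : IsConj x (g * x * g⁻¹) := isConj_iff.mpr ⟨g, rfl⟩
    rw [← h2_card_class_in_P p (P : Subgroup G) hP (g * x * g⁻¹) hg hy1, Nat.card_eq_fintype_card,
      Fintype.card_subtype]
    congr 1
    ext y
    simp only [hS, Finset.mem_filter, Finset.mem_univ, true_and]
    constructor
    · rintro ⟨hy, hc⟩
      exact ⟨hy, (hc.trans hcx).symm⟩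
    · rintro ⟨hy, hc⟩
      exact ⟨hy, (hcx.trans hc).symm⟩
  rw [← hScard, hunion, Finset.card_biUnion hdisj, Finset.sum_congr rfl hfib, Finset.sum_const,
    smul_eq_mul]

end chars

end Cfsg.Agent.Lib.helper7.BD
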