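import Mathlib
import Cfsg.Agent.Lib.helper7.BD.D1Defs
import Cfsg.Agent.Lib.helper7.Br.Defs
import Cfsg.Agent.Lib.helper7.Br.LocB
import Cfsg.Agent.Lib.helper7.BlockOsima
import Cfsg.Agent.Lib.helper7.BlockHom
import Cfsg.Agent.Lib.helper7.BlockInd

/-!
# Project BD, stage B : piece IDNZ (`eBar_ne_zero`)
-/

set_option autoImplicit false
set_option linter.unusedVariables false
set_option linter.unusedSectionVars false
set_option linter.style.haveILetI false

namespace Cfsg.Agent.Lib.helper7.BD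

open Cfsg.Agent.Lib.helper7 Cfsg.Agent.Lib.helper7.Br

universe u v w

section idem

variable {M : Ideal Cfsg.AlgInt}

/-- if all coefficients of the block idempotent lie in the local ideal, then `1` does -/
theorem bd2idnz_one_mem {H : Type u} [Group H] [Fintype H] (hMp : M.IsPrime)
    (ξ : Cfsg.IrrCharacter H)
    (hz : ∀ g : H, Cfsg.MemLocalIdeal M (Cfsg.blockCoeff (Cfsg.blockOf M (ξ : H → ℂ)) g)) :
    Cfsg.MemLocalIdeal M 1 := by
  classical
  haveI : Fintype (Cfsg.IrrCharacter H) := Fintype.ofFinite _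
  haveI : Fintype (ConjClasses H) := Fintype.ofFinite _
  set b := Cfsg.blockOf M (ξ : H → ℂ) with hb
  have hξb : ξ ∈ b := h7_sameBlock_refl hMp _
  have h1 := h7_sum_coef_centralChar
    (fun ψ : Cfsg.IrrCharacter H => if ψ ∈ b then (1 : ℂ) else 0) (ξ : H → ℂ)
    (fun g h => Cfsg.Agent.Lib.Helper25.irr_conj_invariant ξ g h)
  rw [h7_coef_eval, if_pos hξb, one_mul,
    div_self (Cfsg.Agent.Lib.Helper25.irr_one_ne_zero ξ)] at h1
  rw [h1]
  apply h7_memLocalIdeal_sum hMp
  intro K _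
  rw [h7_coef_indicator]
  exact h7_memLocalIdeal_mul_right hMp (hz _) (h7_memLocalRing_centralChar hMp ξ _)

/-- M0a : the block idempotent of a block is not zero -/
theorem eBar_ne_zero {H : Type u} [Group H] [Fintype H] {p : ℕ} [Fact p.Prime]
    (hM : Cfsg.IsPModular p M) (b : Set (Cfsg.IrrCharacter H)) (hb : Cfsg.IsPBlock M b) :
    eBar hM.2.1.isPrime b ≠ 0 := by
  classical
  have hMp : M.IsPrime := hM.2.1.isPrime
  intro h0
  obtain ⟨χ, hχ⟩ := hb
  apply h7_not_memLocalIdeal_one hMp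
  apply bd2idnz_one_mem hMp χ
  intro g
  rw [← hχ]
  have h1 : eBar hMp b g = 0 := by
    rw [h0]
    rfl
  rw [eBar_apply] at h1
  exact (h7_res_eq_zero_iff hMp (blockCoeff_mem hMp b ⟨χ, hχ⟩ g)).mp h1

end idem

end Cfsg.Agent.Lib.helper7.BD
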