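import Mathlib
import Cfsg.Agent.Lib.helper7.BD.D1Defs
import Cfsg.Agent.Lib.helper7.Br.Defs
import Cfsg.Agent.Lib.helper7.Br.LocB
import Cfsg.Agent.Lib.helper7.BlockOsima
import Cfsg.Agent.Lib.helper7.BlockHom

/-!
# Project BD, stage B : piece IDORTH (`eBar_mul_eBar_of_ne`)
-/

set_option autoImplicit false
set_option linter.unusedVariables false
set_option linter.unusedSectionVars false
set_option linter.style.haveILetI false

namespace Cfsg.Agent.Lib.helper7.BD

open Cfsg.Agent.Lib.helper7 Cfsg.Agent.Lib.helper7.Br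

universe u v w

section idem

variable {M : Ideal Cfsg.AlgInt}

/-- M0b : the block idempotents of different blocks are orthogonal -/
theorem eBar_mul_eBar_of_ne {H : Type u} [Group H] [Fintype H] {p : ℕ} [Fact p.Prime]
    (hM : Cfsg.IsPModular p M) (b b' : Set (Cfsg.IrrCharacter H)) (hb : Cfsg.IsPBlock M b)
    (hb' : Cfsg.IsPBlock M b') (hne : b ≠ b') :
    eBar hM.2.1.isPrime b * eBar hM.2.1.isPrime b' = 0 := by
  classical
  haveI : Fintype (Cfsg.IrrCharacter H) := Fintype.ofFinite _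
  have hMp : M.IsPrime := hM.2.1.isPrime
  obtain ⟨χ, hχ⟩ := hb
  obtain ⟨χ', hχ'⟩ := hb'
  have h1 := h7_block_indicator_mem hMp χ
  have h2 := h7_block_indicator_mem hMp χ'
  rw [← hχ] at h1
  rw [← hχ'] at h2
  rw [← theta_indicator hMp b, ← theta_indicator hMp b', ← theta_mul hMp _ _ h1 h2]
  have h3 : ((fun ψ : Cfsg.IrrCharacter H => if ψ ∈ b then (1 : ℂ) else 0) *
      (fun ψ : Cfsg.IrrCharacter H => if ψ ∈ b' then (1 : ℂ) else 0)) = 0 := by
    funext ψ
    rw [Pi.mul_apply, Pi.zero_apply]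
    by_cases hψ : ψ ∈ b
    · by_cases hψ' : ψ ∈ b'
      · exfalso
        apply hne
        rw [hχ, hχ']
        rw [hχ] at hψ
        rw [hχ'] at hψ'
        rw [h7_blockOf_eq_of_mem hMp χ ψ hψ, h7_blockOf_eq_of_mem hMp χ' ψ hψ']
      · rw [if_neg hψ', mul_zero]
    · rw [if_neg hψ, zero_mul]
  rw [h3]
  apply GA.ext
  intro g
  unfold theta
  rw [red_apply, h7_coef_zero, h7_res_zero, GA.zero_apply]

end idem

end Cfsg.Agent.Lib.helper7.BD
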