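import Mathlib
import Cfsg.Agent.Lib.helper7.BD.D1Defs

/-!
# Project BD, stage B : piece TWIRR (`twistRep_irreducible`)
-/

set_option autoImplicit false
set_option linter.unusedVariables false
set_option linter.unusedSectionVars false

namespace Cfsg.Agent.Lib.helper7.BD

section abstract

variable {F : Type*} [Field F] {H : Type*} [Group H] {S : Type*} [AddCommGroup S] [Module F S]

/-- a subspace stable under a twist is stable under the original representation -/
theorem bd2twirr_stable (σ : Representation F H S) (μ : H →* Fˣ) (U : Submodule F S)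
    (hU : ∀ g, ∀ v ∈ U, twistRep σ μ g v ∈ U) : ∀ g, ∀ v ∈ U, σ g v ∈ U := by
  intro g v hv
  have h1 := hU g v hv
  rw [twistRep_apply, LinearMap.smul_apply] at h1
  have h2 := U.smul_mem (((μ g)⁻¹ : Fˣ) : F) h1
  rwa [smul_smul, ← Units.val_mul, inv_mul_cancel, Units.val_one, one_smul] at h2

/-- M12 = TWIRR : a twist of an irreducible representation is irreducible -/
theorem twistRep_irreducible (σ : Representation F H S) [σ.IsIrreducible] (μ : H →* Fˣ) :
    (twistRep σ μ).IsIrreducible := by
  have hσ : σ.IsIrreducible := inferInstance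
  have hbt : (⊥ : Submodule F S) ≠ ⊤ := by
    intro h
    have h1 : (⊥ : Subrepresentation σ) ≠ ⊤ := bot_ne_top
    exact h1 (Subrepresentation.toSubmodule_injective h)
  have hnt : Nontrivial (Subrepresentation (twistRep σ μ)) := by
    refine ⟨⊥, ⊤, fun h => ?_⟩
    exact hbt (congrArg Subrepresentation.toSubmodule h)
  refine { toNontrivial := hnt, eq_bot_or_eq_top := fun τ => ?_ }
  have hst := bd2twirr_stable σ μ τ.toSubmodule (fun g v hv => τ.apply_mem_toSubmodule g hv)
  rcases hσ.eq_bot_or_eq_top ⟨τ.toSubmodule, fun g v hv => hst g v hv⟩ with h1 | h1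
  · left
    have h2 : τ.toSubmodule = (⊥ : Submodule F S) := congrArg Subrepresentation.toSubmodule h1
    exact Subrepresentation.toSubmodule_injective h2
  · right
    have h2 : τ.toSubmodule = (⊤ : Submodule F S) := congrArg Subrepresentation.toSubmodule h1
    exact Subrepresentation.toSubmodule_injective h2

end abstract

end Cfsg.Agent.Lib.helper7.BD
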