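import Mathlib
import Cfsg.Agent.Lib.helper7.BD.D1Defs

/-!
# Project BD, stage B : piece TWIST (`twist_eq_on`)
-/

set_option autoImplicit false
set_option linter.unusedVariables false
set_option linter.unusedSectionVars false

namespace Cfsg.Agent.Lib.helper7.BD

section abstract

variable {F : Type*} [Field F] {H : Type*} [Group H] {S : Type*} [AddCommGroup S] [Module F S]

/-- `σ t` is injective -/
theorem bd2twist_ne_zero (σ : Representation F H S) (t : H) (w : S) (hw : w ≠ 0) : σ t w ≠ 0 := by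
  intro h
  apply hw
  have h1 : σ t⁻¹ (σ t w) = w := by
    rw [← Module.End.mul_apply, ← map_mul, inv_mul_cancel, map_one, Module.End.one_apply]
  rw [← h1, h, map_zero]

/-- M5 = TWIST : if two twists of `σ` by linear characters trivial on `C` are isomorphic by a map
preserving a `T`-stable, minimal `C`-stable subspace, the two characters agree on `T`. -/
theorem twist_eq_on [IsAlgClosed F] [FiniteDimensional F S] (σ : Representation F H S)
    (C T : Subgroup H) (hCT : C ≤ T) (W : Submodule F S) (hWC : SimpleUnder σ C W)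
    (hWT : StableUnder σ T W) (μ ν : H →* Fˣ) (hμ : ∀ c ∈ C, μ c = 1) (hν : ∀ c ∈ C, ν c = 1)
    (φ : S ≃ₗ[F] S)
    (hφ : ∀ n : H, (φ : S →ₗ[F] S) ∘ₗ twistRep σ μ n = twistRep σ ν n ∘ₗ (φ : S →ₗ[F] S))
    (hφW : ∀ w ∈ W, φ w ∈ W) : ∀ t ∈ T, μ t = ν t := by
  -- the intertwining relation, pointwise
  have hpt : ∀ (n : H) (w : S),
      φ (((μ n : Fˣ) : F) • σ n w) = ((ν n : Fˣ) : F) • σ n (φ w) := by
    intro n w
    have h1 := LinearMap.congr_fun (hφ n) w
    simpa [twistRep_apply] using h1
  -- φ commutes with σ c for c ∈ C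
  have hcomm : ∀ c ∈ C, ∀ w : S, φ (σ c w) = σ c (φ w) := by
    intro c hc w
    have h1 := hpt c w
    rwa [hμ c hc, hν c hc, Units.val_one, one_smul, one_smul] at h1
  -- the restriction of φ to W
  let f : W →ₗ[F] W :=
    { toFun := fun w => ⟨φ w, hφW w w.2⟩
      map_add' := by
        intro a b
        apply Subtype.ext
        simp
      map_smul' := by
        intro a b
        apply Subtype.ext
        simp }
  have hf : ∀ w : W, ((f w : W) : S) = φ (w : S) := fun w => rfl
  have hnt : Nontrivial W := by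
    rw [Submodule.nontrivial_iff_ne_bot]
    exact hWC.1
  obtain ⟨lam, hlam⟩ := Module.End.exists_eigenvalue f
  obtain ⟨w0, hw0⟩ := hlam.exists_hasEigenvector
  have hw0e : f w0 = lam • w0 := hw0.apply_eq_smul
  have hw0ne : w0 ≠ 0 := hw0.2
  have hw0e' : φ (w0 : S) = lam • (w0 : S) := by
    have := congrArg Subtype.val hw0e
    simpa [hf] using this
  have hw0ne' : (w0 : S) ≠ 0 := fun h => hw0ne (Subtype.ext h)
  -- the eigenspace
  let E : Submodule F S :=
    { carrier := {w | w ∈ W ∧ φ w = lam • w}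
      add_mem' := by
        rintro a b ⟨ha, ha'⟩ ⟨hb, hb'⟩
        refine ⟨W.add_mem ha hb, ?_⟩
        rw [map_add, ha', hb', smul_add]
      zero_mem' := ⟨W.zero_mem, by rw [map_zero, smul_zero]⟩
      smul_mem' := by
        rintro a b ⟨hb, hb'⟩
        refine ⟨W.smul_mem a hb, ?_⟩
        rw [map_smul, hb', smul_comm] }
  have hEW : E ≤ W := fun w hw => hw.1
  have hEne : E ≠ ⊥ := by
    intro h
    have h1 : (w0 : S) ∈ E := ⟨w0.2, hw0e'⟩
    rw [h, Submodule.mem_bot] at h1
    exact hw0ne' h1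
  have hEst : StableUnder σ C E := by
    intro c hc w hw
    refine ⟨hWC.2.1 c hc w hw.1, ?_⟩
    rw [hcomm c hc, hw.2, map_smul]
  have hE : E = W := hWC.2.2 E hEW hEne hEst
  have hall : ∀ w ∈ W, φ w = lam • w := by
    intro w hw
    have : w ∈ E := by rw [hE]; exact hw
    exact this.2
  have hlam0 : lam ≠ 0 := by
    intro h
    rw [h, zero_smul] at hw0e'
    apply hw0ne'
    have := φ.injective (hw0e'.trans (map_zero φ).symm)
    exact this
  intro t ht
  have hwt : σ t (w0 : S) ∈ W := hWT t ht _ w0.2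
  have h1 := hpt t (w0 : S)
  rw [map_smul, hall _ hwt, hw0e', map_smul, smul_smul, smul_smul] at h1
  have hne := bd2twist_ne_zero σ t (w0 : S) hw0ne'
  have h2 : ((μ t : Fˣ) : F) * lam = ((ν t : Fˣ) : F) * lam := by
    by_contra hcon
    have h3 : (((μ t : Fˣ) : F) * lam - ((ν t : Fˣ) : F) * lam) • σ t (w0 : S) = 0 := by
      rw [sub_smul, h1, sub_self]
    rcases smul_eq_zero.mp h3 with h4 | h4
    · exact hcon (sub_eq_zero.mp h4)
    · exact hne h4
  exact Units.ext (mul_right_cancel₀ hlam0 h2)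

end abstract

end Cfsg.Agent.Lib.helper7.BD
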