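import Mathlib
import Cfsg.Agent.Lib.Helper22.C3L.Defs
import Cfsg.Agent.Lib.Helper10.C3O.Defs

/-!
# Project C3O, row FSG (verbatim): the `F`-Siegel maps `ρ_{z,w}` of `f = Tr ∘ B`

`fsg_ex`, `fsg_mul`, `fsg_conj`, `fsg_lr`; extras `c3ofsg_*` (bilinearity and symmetry of `tf F B`).
-/

set_option autoImplicit false
set_option linter.unusedVariables false
set_option linter.unusedSectionVars false

namespace Cfsg.Agent.Lib.Helper10.C3O

open Module Cfsg.Agent.Lib.Helper22.C3L

variable {F K V : Type*} [Field F] [Field K] [Algebra F K] [AddCommGroup V] [Module F V] [Module K V]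
  [IsScalarTower F K V]

theorem c3ofsg_add_left (B : V →ₗ[K] V →ₗ[K] K) (x x' y : V) :
    tf F B (x + x') y = tf F B x y + tf F B x' y := by
  rw [tf_def, tf_def, tf_def, map_add, LinearMap.add_apply, map_add]

theorem c3ofsg_add_right (B : V →ₗ[K] V →ₗ[K] K) (x y y' : V) :
    tf F B x (y + y') = tf F B x y + tf F B x y' := by
  rw [tf_def, tf_def, tf_def, map_add, map_add]

theorem c3ofsg_smul_left (B : V →ₗ[K] V →ₗ[K] K) (c : F) (x y : V) :
    tf F B (c • x) y = c * tf F B x y := by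
  rw [tf_def, tf_def, ← algebraMap_smul K c x, map_smul, LinearMap.smul_apply, algebraMap_smul,
    map_smul, smul_eq_mul]

theorem c3ofsg_smul_right (B : V →ₗ[K] V →ₗ[K] K) (c : F) (x y : V) :
    tf F B x (c • y) = c * tf F B x y := by
  rw [tf_def, tf_def, ← algebraMap_smul K c y, map_smul, algebraMap_smul, map_smul, smul_eq_mul]

theorem c3ofsg_sub_left (B : V →ₗ[K] V →ₗ[K] K) (x x' y : V) :
    tf F B (x - x') y = tf F B x y - tf F B x' y := by
  rw [tf_def, tf_def, tf_def, map_sub, LinearMap.sub_apply, map_sub]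

theorem c3ofsg_sub_right (B : V →ₗ[K] V →ₗ[K] K) (x y y' : V) :
    tf F B x (y - y') = tf F B x y - tf F B x y' := by
  rw [tf_def, tf_def, tf_def, map_sub, map_sub]

theorem c3ofsg_neg_right (B : V →ₗ[K] V →ₗ[K] K) (x y : V) :
    tf F B x (-y) = - tf F B x y := by
  rw [tf_def, tf_def, map_neg, map_neg]

theorem c3ofsg_zero_right (B : V →ₗ[K] V →ₗ[K] K) (x : V) : tf F B x 0 = 0 := by
  rw [tf_def, map_zero, map_zero]

theorem c3ofsg_symm (B : V →ₗ[K] V →ₗ[K] K) (hBs : ∀ x y, B x y = B y x) (x y : V) :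
    tf F B x y = tf F B y x := by
  rw [tf_def, tf_def, hBs]

theorem fsg_mul (h2 : (2 : F) ≠ 0) (B : V →ₗ[K] V →ₗ[K] K) (hBs : ∀ x y, B x y = B y x) {z w w' : V}
    (hz : tf F B z z = 0) (hzw : tf F B z w = 0) (hzw' : tf F B z w' = 0) (x : V) :
    fsg F B z w (fsg F B z w' x) = fsg F B z (w + w') x := by
  have hwz : tf F B w z = 0 := by rw [c3ofsg_symm B hBs, hzw]
  have hw'z : tf F B w' z = 0 := by rw [c3ofsg_symm B hBs, hzw']
  have hw'w : tf F B w' w = tf F B w w' := c3ofsg_symm B hBs _ _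
  have e1 : tf F B (w + w') (w + w') / 2 = tf F B w w / 2 + tf F B w' w' / 2 + tf F B w w' := by
    rw [c3ofsg_add_left, c3ofsg_add_right, c3ofsg_add_right, hw'w]
    field_simp
    ring
  unfold fsg
  rw [e1]
  simp only [c3ofsg_add_left, c3ofsg_sub_left, c3ofsg_smul_left, c3ofsg_add_right, hz, hzw, hzw',
    hwz, hw'z, hw'w, mul_zero, sub_zero, add_zero]
  module

theorem fsg_conj (B : V →ₗ[K] V →ₗ[K] K) {k : V ≃ₗ[F] V} (hk : k ∈ Of F B) (z w x : V) :
    k (fsg F B z w (k.symm x)) = fsg F B (k z) (k w) x := by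
  have h1 : ∀ y : V, tf F B (k.symm x) y = tf F B x (k y) := by
    intro y
    have := hk (k.symm x) y
    rw [LinearEquiv.apply_symm_apply] at this
    exact this.symm
  have h3 : tf F B (k w) (k w) = tf F B w w := hk w w
  unfold fsg
  simp only [map_add, map_sub, map_smul, LinearEquiv.apply_symm_apply, h1, h3]

theorem fsg_lr (B : V →ₗ[K] V →ₗ[K] K) (hBs : ∀ x y, B x y = B y x) {z w : V} (hw : tf F B w w = 0) (c : F)
    (x : V) : fsg F B z (c • w) x = x + c • (tf F B z x • w - tf F B w x • z) := by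
  unfold fsg
  simp only [c3ofsg_smul_left, c3ofsg_smul_right, hw, mul_zero, zero_div, zero_mul, zero_smul,
    sub_zero, c3ofsg_symm B hBs x z, c3ofsg_symm B hBs x w]
  module

theorem c3ofsg_iso (h2 : (2 : F) ≠ 0) (B : V →ₗ[K] V →ₗ[K] K) (hBs : ∀ x y, B x y = B y x) {z w : V}
    (hz : tf F B z z = 0) (hzw : tf F B z w = 0) (x y : V) :
    tf F B (fsg F B z w x) (fsg F B z w y) = tf F B x y := by
  have hwz : tf F B w z = 0 := by rw [c3ofsg_symm B hBs, hzw]
  have hzy : tf F B z y = tf F B y z := c3ofsg_symm B hBs _ _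
  have hwy : tf F B w y = tf F B y w := c3ofsg_symm B hBs _ _
  unfold fsg
  simp only [c3ofsg_add_left, c3ofsg_sub_left, c3ofsg_smul_left, c3ofsg_add_right, c3ofsg_sub_right,
    c3ofsg_smul_right, hz, hzw, hwz, hzy, hwy, mul_zero, sub_zero, add_zero]
  field_simp
  ring

theorem c3ofsg_zero (B : V →ₗ[K] V →ₗ[K] K) (z x : V) : fsg F B z 0 x = x := by
  unfold fsg
  simp only [c3ofsg_zero_right, smul_zero, zero_smul, add_zero, sub_zero, zero_div, zero_mul]

theorem fsg_ex (h2 : (2 : F) ≠ 0) (B : V →ₗ[K] V →ₗ[K] K) (hBs : ∀ x y, B x y = B y x) {z w : V}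
    (hz : tf F B z z = 0) (hzw : tf F B z w = 0) : ∃ g ∈ Of F B, ∀ x : V, g x = fsg F B z w x := by
  have hzw' : tf F B z (-w) = 0 := by rw [c3ofsg_neg_right, hzw, neg_zero]
  let g : V ≃ₗ[F] V :=
    { toFun := fsg F B z w
      invFun := fsg F B z (-w)
      map_add' := by
        intro x y
        unfold fsg
        simp only [c3ofsg_add_left]
        module
      map_smul' := by
        intro c x
        unfold fsg
        simp only [c3ofsg_smul_left, RingHom.id_apply]
        module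
      left_inv := by
        intro x
        rw [fsg_mul h2 B hBs hz hzw' hzw, neg_add_cancel, c3ofsg_zero]
      right_inv := by
        intro x
        rw [fsg_mul h2 B hBs hz hzw hzw', add_neg_cancel, c3ofsg_zero] }
  exact ⟨g, fun x y => c3ofsg_iso h2 B hBs hz hzw x y, fun x => rfl⟩

end Cfsg.Agent.Lib.Helper10.C3O
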