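import Mathlib

/-!
# Project MI (S2140): minimal index of proper subgroups of `PSL_n(q)`, `n ≥ 3`.

Basic definitions: transvections `1 + v φᵀ`, the two possible "cases" for a subgroup of
small index, and the number of points.
-/

set_option autoImplicit false
set_option linter.unusedSectionVars false
set_option linter.unusedVariables false

namespace Cfsg.Agent.Lib.helper2.MI

open Matrix

variable {n : ℕ} {F : Type*} [Field F]

/-- the matrix `1 + v φᵀ`. -/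
def tvM (v φ : Fin n → F) : Matrix (Fin n) (Fin n) F := 1 + Matrix.vecMulVec v φ

theorem tvM_mulVec (v φ x : Fin n → F) : tvM v φ *ᵥ x = x + (φ ⬝ᵥ x) • v := by
  unfold tvM
  rw [Matrix.add_mulVec, Matrix.one_mulVec, Matrix.vecMulVec_mulVec, op_smul_eq_smul]

theorem tvM_vecMul (v φ y : Fin n → F) : y ᵥ* tvM v φ = y + (y ⬝ᵥ v) • φ := by
  unfold tvM
  rw [Matrix.vecMul_add, Matrix.vecMul_one, Matrix.vecMul_vecMulVec]

theorem tvM_det (v φ : Fin n → F) (h : φ ⬝ᵥ v = 0) : (tvM v φ).det = 1 := by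
  unfold tvM
  rw [Matrix.vecMulVec_eq Unit, Matrix.det_one_add_replicateCol_mul_replicateRow, h, add_zero]

/-- the transvection `1 + v φᵀ` (with `φ v = 0`) as an element of `SL_n`. -/
def tv (v φ : Fin n → F) (h : φ ⬝ᵥ v = 0) : SpecialLinearGroup (Fin n) F :=
  ⟨tvM v φ, tvM_det v φ h⟩

@[simp] theorem tv_val (v φ : Fin n → F) (h : φ ⬝ᵥ v = 0) :
    ((tv v φ h : SpecialLinearGroup (Fin n) F) : Matrix (Fin n) (Fin n) F) = tvM v φ := rfl

theorem tvM_mul_tvM (v φ v' φ' : Fin n → F) :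
    tvM v φ * tvM v' φ' =
      1 + Matrix.vecMulVec v φ + Matrix.vecMulVec v' φ' + (φ ⬝ᵥ v') • Matrix.vecMulVec v φ' := by
  unfold tvM
  rw [Matrix.add_mul, Matrix.mul_add, Matrix.mul_add, Matrix.one_mul, Matrix.mul_one, Matrix.one_mul,
    Matrix.vecMulVec_mul_vecMulVec]
  have : Matrix.vecMulVec v ((φ ⬝ᵥ v') • φ') = (φ ⬝ᵥ v') • Matrix.vecMulVec v φ' := by
    ext i j
    simp [Matrix.vecMulVec_apply]
    ring
  rw [this]
  abel

theorem vecMulVec_add_right (v φ φ' : Fin n → F) :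
    Matrix.vecMulVec v (φ + φ') = Matrix.vecMulVec v φ + Matrix.vecMulVec v φ' := by
  ext i j
  simp [Matrix.vecMulVec_apply, mul_add]

theorem vecMulVec_add_left (v v' φ : Fin n → F) :
    Matrix.vecMulVec (v + v') φ = Matrix.vecMulVec v φ + Matrix.vecMulVec v' φ := by
  ext i j
  simp [Matrix.vecMulVec_apply, add_mul]

theorem tv_mul_same (v φ φ' : Fin n → F) (h : φ ⬝ᵥ v = 0) (h' : φ' ⬝ᵥ v = 0) :
    tv v φ h * tv v φ' h' = tv v (φ + φ') (by rw [add_dotProduct, h, h', add_zero]) := by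
  apply Subtype.ext
  change tvM v φ * tvM v φ' = tvM v (φ + φ')
  rw [tvM_mul_tvM, h, zero_smul, add_zero]
  unfold tvM
  rw [vecMulVec_add_right, add_assoc]

theorem tv_zero (v : Fin n → F) : tv v (0 : Fin n → F) (zero_dotProduct v) = 1 := by
  apply Subtype.ext
  change tvM v 0 = 1
  unfold tvM
  have : Matrix.vecMulVec v (0 : Fin n → F) = 0 := by
    ext i j
    simp [Matrix.vecMulVec_apply]
  rw [this, add_zero]

theorem tv_inv (v φ : Fin n → F) (h : φ ⬝ᵥ v = 0) :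
    (tv v φ h)⁻¹ = tv v (-φ) (by rw [neg_dotProduct, h, neg_zero]) := by
  rw [inv_eq_iff_mul_eq_one, tv_mul_same]
  have h0 : φ + -φ = 0 := add_neg_cancel φ
  have : ∀ (ψ : Fin n → F) (hψ : ψ ⬝ᵥ v = 0), ψ = 0 → tv v ψ hψ = 1 := by
    intro ψ hψ h0
    subst h0
    exact tv_zero v
  exact this _ _ h0

/-- conjugating a transvection. -/
theorem conj_tv (g : SpecialLinearGroup (Fin n) F) (v φ : Fin n → F) (h : φ ⬝ᵥ v = 0) :
    ∃ h' : (φ ᵥ* (g⁻¹ : SpecialLinearGroup (Fin n) F).1) ⬝ᵥ (g.1 *ᵥ v) = 0,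
      g * tv v φ h * g⁻¹ = tv (g.1 *ᵥ v) (φ ᵥ* (g⁻¹ : SpecialLinearGroup (Fin n) F).1) h' := by
  have hgg : (g⁻¹ : SpecialLinearGroup (Fin n) F).1 * g.1 = 1 := by
    have := inv_mul_cancel g
    exact congrArg Subtype.val this
  have hgg' : g.1 * (g⁻¹ : SpecialLinearGroup (Fin n) F).1 = 1 := by
    have := mul_inv_cancel g
    exact congrArg Subtype.val this
  have h' : (φ ᵥ* (g⁻¹ : SpecialLinearGroup (Fin n) F).1) ⬝ᵥ (g.1 *ᵥ v) = 0 := by
    rw [← Matrix.dotProduct_mulVec, Matrix.mulVec_mulVec, hgg, Matrix.one_mulVec, h]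
  refine ⟨h', ?_⟩
  apply Subtype.ext
  change g.1 * tvM v φ * (g⁻¹ : SpecialLinearGroup (Fin n) F).1 = tvM _ _
  unfold tvM
  rw [Matrix.mul_add, Matrix.mul_one, Matrix.add_mul, hgg', Matrix.mul_vecMulVec, Matrix.vecMulVec_mul]

theorem tv_eq_one_iff (v φ : Fin n → F) (h : φ ⬝ᵥ v = 0) (hv : v ≠ 0) : tv v φ h = 1 ↔ φ = 0 := by
  constructor
  · intro h1
    have h2 : tvM v φ = 1 := congrArg Subtype.val h1
    unfold tvM at h2
    have h3 : Matrix.vecMulVec v φ = 0 := by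
      have := congrArg (fun M => M - 1) h2
      simpa using this
    obtain ⟨i, hi⟩ := Function.ne_iff.mp hv
    funext j
    have := congrFun (congrFun h3 i) j
    simp only [Matrix.vecMulVec_apply, Matrix.zero_apply] at this
    rcases mul_eq_zero.mp this with h4 | h4
    · exact absurd h4 hi
    · exact h4
  · intro h0
    subst h0
    exact tv_zero v

/-- the number of points of the projective space of dimension `n - 1` over a field with `q` elements. -/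
def Npts (q n : ℕ) : ℕ := (q ^ n - 1) / (q - 1)

/-- `H` is transitive on the points of the projective space. -/
def PtTrans (H : Subgroup (SpecialLinearGroup (Fin n) F)) : Prop :=
  ∀ v v' : Fin n → F, v ≠ 0 → v' ≠ 0 →
    ∃ h ∈ H, ∃ c : F, c ≠ 0 ∧ (h : Matrix (Fin n) (Fin n) F) *ᵥ v = c • v'

/-- Case I at `v`: the transvections of `H` with centre `v` are exactly those whose axis contains the
line spanned by `v` and `y`. -/
def CaseIAt (H : Subgroup (SpecialLinearGroup (Fin n) F)) (v : Fin n → F) : Prop :=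
  ∃ y : Fin n → F, (¬ ∃ c : F, y = c • v) ∧
    ∀ (φ : Fin n → F) (h : φ ⬝ᵥ v = 0), (tv v φ h ∈ H ↔ φ ⬝ᵥ y = 0)

/-- Case II at `v`: `H` contains no transvection with centre `v`, and `H` supplements the group of
transvections with centre `v` in the stabiliser of the point `⟨v⟩`. -/
def CaseIIAt (H : Subgroup (SpecialLinearGroup (Fin n) F)) (v : Fin n → F) : Prop :=
  (∀ (φ : Fin n → F) (h : φ ⬝ᵥ v = 0), tv v φ h ∈ H → φ = 0) ∧
    (∀ g : SpecialLinearGroup (Fin n) F, (∃ α : F, (g : Matrix (Fin n) (Fin n) F) *ᵥ v = α • v) →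
      ∃ (φ : Fin n → F) (h : φ ⬝ᵥ v = 0), tv v φ h * g ∈ H)

def CaseI (H : Subgroup (SpecialLinearGroup (Fin n) F)) : Prop :=
  ∀ v : Fin n → F, v ≠ 0 → CaseIAt H v

def CaseII (H : Subgroup (SpecialLinearGroup (Fin n) F)) : Prop :=
  ∀ v : Fin n → F, v ≠ 0 → CaseIIAt H v

/-- the action `φ ↦ φ g⁻¹` on row vectors (so that `g (1 + v φᵀ) g⁻¹ = 1 + (g v) (φ g⁻¹)ᵀ`). -/
def rowAct (g : SpecialLinearGroup (Fin n) F) : (Fin n → F) →+ (Fin n → F) where
  toFun φ := φ ᵥ* (g⁻¹ : SpecialLinearGroup (Fin n) F).1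
  map_zero' := Matrix.zero_vecMul _
  map_add' := fun a b => Matrix.add_vecMul _ a b

@[simp] theorem rowAct_apply (g : SpecialLinearGroup (Fin n) F) (φ : Fin n → F) :
    rowAct g φ = φ ᵥ* (g⁻¹ : SpecialLinearGroup (Fin n) F).1 := rfl

/-- the action `y ↦ g y` on column vectors. -/
def colAct (g : SpecialLinearGroup (Fin n) F) : (Fin n → F) →+ (Fin n → F) where
  toFun y := g.1 *ᵥ y
  map_zero' := Matrix.mulVec_zero _
  map_add' := fun a b => Matrix.mulVec_add _ a b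

@[simp] theorem colAct_apply (g : SpecialLinearGroup (Fin n) F) (y : Fin n → F) :
    colAct g y = g.1 *ᵥ y := rfl

/-- the additive group of all `φ ⊥ v` with `1 + v φᵀ ∈ H`. -/
def Asub (H : Subgroup (SpecialLinearGroup (Fin n) F)) (v : Fin n → F) : AddSubgroup (Fin n → F) where
  carrier := {φ | ∃ h : φ ⬝ᵥ v = 0, tv v φ h ∈ H}
  zero_mem' := ⟨zero_dotProduct v, by rw [tv_zero]; exact H.one_mem⟩
  add_mem' := by
    rintro φ φ' ⟨h, hm⟩ ⟨h', hm'⟩
    refine ⟨by rw [add_dotProduct, h, h', add_zero], ?_⟩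
    have := H.mul_mem hm hm'
    rwa [tv_mul_same] at this
  neg_mem' := by
    rintro φ ⟨h, hm⟩
    refine ⟨by rw [neg_dotProduct, h, neg_zero], ?_⟩
    have := H.inv_mem hm
    rwa [tv_inv] at this

theorem mem_Asub (H : Subgroup (SpecialLinearGroup (Fin n) F)) (v φ : Fin n → F) :
    φ ∈ Asub H v ↔ ∃ h : φ ⬝ᵥ v = 0, tv v φ h ∈ H := Iff.rfl

/-- the first standard basis vector -/
def e0 (hn : 3 ≤ n) : Fin n → F := Pi.single (⟨0, by omega⟩ : Fin n) 1
/-- the last standard basis (co)vector -/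
def eL (hn : 3 ≤ n) : Fin n → F := Pi.single (⟨n - 1, by omega⟩ : Fin n) 1

/-- the data extracted from Case II: for `y ∈ ker eL`, `Ψ y` is the unique `ψ ⊥ e0` with
`1 + e0 ψᵀ + y eLᵀ ∈ H`. -/
structure PsiData (hn : 3 ≤ n) (Ψ : (Fin n → F) → (Fin n → F)) : Prop where
  perp_v : ∀ y : Fin n → F, eL hn ⬝ᵥ y = 0 → Ψ y ⬝ᵥ e0 hn = 0
  add : ∀ y y' : Fin n → F, eL hn ⬝ᵥ y = 0 → eL hn ⬝ᵥ y' = 0 →
    Ψ (y + y') = Ψ y + Ψ y' + (Ψ y ⬝ᵥ y') • eL hn
  symm : ∀ y y' : Fin n → F, eL hn ⬝ᵥ y = 0 → eL hn ⬝ᵥ y' = 0 → Ψ y ⬝ᵥ y' = Ψ y' ⬝ᵥ y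
  inj : ∀ y : Fin n → F, eL hn ⬝ᵥ y = 0 → (∃ c : F, Ψ y = c • eL hn) → ∃ c : F, y = c • e0 hn
  equiv : ∀ (g : SpecialLinearGroup (Fin n) F) (α μ : F), g.1 *ᵥ e0 hn = α • e0 hn →
    eL hn ᵥ* g.1 = μ • eL hn → ∀ y : Fin n → F, eL hn ⬝ᵥ y = 0 →
      ∃ κ : F, Ψ (μ⁻¹ • (g.1 *ᵥ y)) =
        α • (Ψ y ᵥ* (g⁻¹ : SpecialLinearGroup (Fin n) F).1) + κ • eL hn

end Cfsg.Agent.Lib.helper2.MI
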