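import Mathlib
import Cfsg.Agent.Lib.Helper13.S5955.Defs2

/-!
# Project S5955, row X5: what an isometric conjugacy transports
-/

set_option autoImplicit false

namespace Cfsg.Agent.Lib.Helper13.S5955

open Polynomial Module

/-- membership in the fixed space -/
theorem s5955x5_mem_fixS {F : Type*} [Field F] {V : Type*} [AddCommGroup V] [Module F V]
    (x : Module.End F V) (v : V) : v ∈ fixS x ↔ x v = v := by
  unfold fixS
  rw [LinearMap.mem_ker, map_sub, aeval_X, map_one, LinearMap.sub_apply, Module.End.one_apply,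
    sub_eq_zero]

/-- one direction of the transport of invariant totally isotropic subspaces -/
theorem s5955x5_map {F : Type*} [Field F] {V V' : Type*} [AddCommGroup V] [Module F V]
    [AddCommGroup V'] [Module F V']
    (B : LinearMap.BilinForm F V) (x : Module.End F V)
    (B' : LinearMap.BilinForm F V') (x' : Module.End F V') (ψ : V ≃ₗ[F] V')
    (hB : ∀ u v, B' (ψ u) (ψ v) = B u v) (hx : ∀ u, ψ (x u) = x' (ψ u))
    (W : Submodule F V) (hW : SInv x W) (hT : STI B W) :
    SInv x' (W.map (ψ : V →ₗ[F] V')) ∧ STI B' (W.map (ψ : V →ₗ[F] V')) ∧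
      finrank F (W.map (ψ : V →ₗ[F] V')) = finrank F W := by
  refine ⟨?_, ?_, LinearEquiv.finrank_map_eq ψ W⟩
  · intro w' hw'
    obtain ⟨w, hw, rfl⟩ := Submodule.mem_map.mp hw'
    refine Submodule.mem_map.mpr ⟨x w, hW w hw, ?_⟩
    exact hx w
  · intro u' hu' v' hv'
    obtain ⟨u, hu, rfl⟩ := Submodule.mem_map.mp hu'
    obtain ⟨v, hv, rfl⟩ := Submodule.mem_map.mp hv'
    change B' (ψ u) (ψ v) = 0
    rw [hB]
    exact hT u hu v hv

/-- X5 [S-M] TRANSPORTD: what an isometric conjugacy transports. -/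
theorem transport_dims {F : Type*} [Field F] {V V' : Type*} [AddCommGroup V] [Module F V]
    [AddCommGroup V'] [Module F V'] [FiniteDimensional F V] [FiniteDimensional F V']
    (B : LinearMap.BilinForm F V) (x : Module.End F V)
    (B' : LinearMap.BilinForm F V') (x' : Module.End F V') (ψ : V ≃ₗ[F] V')
    (hB : ∀ u v, B' (ψ u) (ψ v) = B u v) (hx : ∀ u, ψ (x u) = x' (ψ u)) :
    (∀ m, TId B x m ↔ TId B' x' m) ∧ finrank F (fixS x) = finrank F (fixS x') ∧
      (x = 1 ↔ x' = 1) ∧
      ((∀ W, SInv x' W → STI B' W → W ≤ fixS x') → ∀ W, SInv x W → STI B W → W ≤ fixS x) := by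
  have hB' : ∀ u v, B (ψ.symm u) (ψ.symm v) = B' u v := by
    intro u v
    rw [← hB, LinearEquiv.apply_symm_apply, LinearEquiv.apply_symm_apply]
  have hx' : ∀ u, ψ.symm (x' u) = x (ψ.symm u) := by
    intro u
    apply ψ.injective
    rw [LinearEquiv.apply_symm_apply, hx, LinearEquiv.apply_symm_apply]
  refine ⟨?_, ?_, ?_, ?_⟩
  · intro m
    constructor
    · rintro ⟨W, hW, hT, hm⟩
      obtain ⟨h1, h2, h3⟩ := s5955x5_map B x B' x' ψ hB hx W hW hT
      exact ⟨_, h1, h2, h3.trans hm⟩
    · rintro ⟨W, hW, hT, hm⟩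
      obtain ⟨h1, h2, h3⟩ := s5955x5_map B' x' B x ψ.symm hB' hx' W hW hT
      exact ⟨_, h1, h2, h3.trans hm⟩
  · have hmap : (fixS x).map (ψ : V →ₗ[F] V') = fixS x' := by
      ext v'
      rw [Submodule.mem_map, s5955x5_mem_fixS]
      constructor
      · rintro ⟨v, hv, rfl⟩
        rw [s5955x5_mem_fixS] at hv
        change x' (ψ v) = ψ v
        rw [← hx, hv]
      · intro hv'
        refine ⟨ψ.symm v', ?_, ?_⟩
        · rw [s5955x5_mem_fixS, ← hx', hv']
        · exact ψ.apply_symm_apply v'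
    rw [← hmap]
    exact (LinearEquiv.finrank_map_eq ψ (fixS x)).symm
  · constructor
    · intro h1
      apply LinearMap.ext
      intro u'
      have := hx (ψ.symm u')
      rw [h1, Module.End.one_apply, LinearEquiv.apply_symm_apply] at this
      rw [Module.End.one_apply, ← this]
    · intro h1
      apply LinearMap.ext
      intro u
      have := hx u
      rw [h1, Module.End.one_apply] at this
      rw [Module.End.one_apply]
      exact ψ.injective this
  · intro hall W hW hT w hw
    obtain ⟨h1, h2, _⟩ := s5955x5_map B x B' x' ψ hB hx W hW hT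
    have h3 := hall _ h1 h2 (Submodule.mem_map.mpr ⟨w, hw, rfl⟩)
    rw [s5955x5_mem_fixS] at h3 ⊢
    change x' (ψ w) = ψ w at h3
    rw [← hx] at h3
    exact ψ.injective h3

end Cfsg.Agent.Lib.Helper13.S5955
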