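import Mathlib
import Cfsg.Agent.Lib.Helper12.OMN.Defs
import Cfsg.Agent.Lib.Helper28.OAll
import Cfsg.Agent.Lib.Helper16.SpinG2
import Cfsg.Agent.Lib.Helper16.OHelp

/-!
# Project OMN (designer helper12), row G1 (`omega_le_of_siegelM`), verbatim (helper2): a subgroup of `GL` containing all Siegel elements of
`quadFormMinus m F A B` (`u, v` singular, orthogonal) contains `Ω⁻_{2m+2}(F)`.  Port of `helper15.OMBO1` + `Helper22.OMBG1`
(transfer of `OGenQ.sgGroupQ_quad … |>.gen` to the index type `(Fin m ⊕ Fin m) ⊕ Fin 2`).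
-/

set_option autoImplicit false

namespace Cfsg.Agent.Lib.Helper12.OMN

open Matrix Cfsg.Agent.Lib.helper15.St2 Cfsg.Agent.Lib.helper3.STC Cfsg.Agent.Lib.Lead.STD Cfsg.Agent.Lib.helper17.STM
  Cfsg.Agent.Lib.Helper28.CTD Cfsg.Agent.Lib.Helper28.OMM

universe u w

section G

variable {m : ℕ} {F : Type u} [Field F] {A B : F}

/-- own-name copy of V0 `polar_eq_bM` (= `Helper16.polar_minus'`). -/
theorem omng1_polar_eq_bM (x y : Im (Fin m) → F) :
    QuadraticMap.polar (Cfsg.quadFormMinus m F A B) x y = bM A B x y :=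
  Cfsg.Agent.Lib.Helper16.polar_minus' m F A B x y

/-- the transfer, in terms of the polar form (port of `helper15.OMBO1.ombo1_omega_le_of_siegel`). -/
theorem omng1_omega_le_of_siegel [Fintype F] (hm : 3 ≤ m)
    (hab : ∀ z₁ z₂ : F, z₁ ^ 2 + A * z₁ * z₂ + B * z₂ ^ 2 = 0 → z₁ = 0 ∧ z₂ = 0)
    (M : Subgroup (Matrix.GeneralLinearGroup ((Fin m ⊕ Fin m) ⊕ Fin 2) F))
    (hM : ∀ (t : Matrix.GeneralLinearGroup ((Fin m ⊕ Fin m) ⊕ Fin 2) F) (u v : (Fin m ⊕ Fin m) ⊕ Fin 2 → F) (c : F),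
      Cfsg.quadFormMinus m F A B u = 0 → Cfsg.quadFormMinus m F A B v = 0 →
      QuadraticMap.polar (Cfsg.quadFormMinus m F A B) u v = 0 →
      (∀ x, (t : Matrix ((Fin m ⊕ Fin m) ⊕ Fin 2) ((Fin m ⊕ Fin m) ⊕ Fin 2) F) *ᵥ x =
        x + c • (QuadraticMap.polar (Cfsg.quadFormMinus m F A B) u x • v -
          QuadraticMap.polar (Cfsg.quadFormMinus m F A B) v x • u)) → t ∈ M) :
    Cfsg.Geo.omegaGL (Cfsg.quadFormMinus m F A B) ≤ M := by
  classical
  obtain ⟨e, -⟩ : ∃ e : ((Fin m ⊕ Fin m) ⊕ Fin 2) ≃ Fin (Fintype.card ((Fin m ⊕ Fin m) ⊕ Fin 2)),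
    e = Fintype.equivFin _ := ⟨_, rfl⟩
  have hcard : 7 ≤ Fintype.card ((Fin m ⊕ Fin m) ⊕ Fin 2) := by
    simp only [Fintype.card_sum, Fintype.card_fin]; omega
  have hQ := Cfsg.Agent.Lib.Helper16.OSemi.qfMinus_nondeg (F := F) m A B hab
  have hQ' := Cfsg.Agent.Lib.Lead.RI.qReindex_nondeg e (Cfsg.Agent.Lib.Helper16.qfMinus m F A B) hQ
  have hsg := Cfsg.Agent.Lib.Helper28.OGenQ.sgGroupQ_quad hcard
    (Cfsg.Agent.Lib.Lead.RI.qReindex e (Cfsg.Agent.Lib.Helper16.qfMinus m F A B)) hQ'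
  have hcoe : ∀ y : Fin (Fintype.card ((Fin m ⊕ Fin m) ⊕ Fin 2)) → F,
      (Cfsg.Agent.Lib.Lead.RI.qReindex e (Cfsg.Agent.Lib.Helper16.qfMinus m F A B)) y =
        Cfsg.quadFormMinus m F A B (y ∘ e) := fun y => rfl
  have hpol : ∀ y z : Fin (Fintype.card ((Fin m ⊕ Fin m) ⊕ Fin 2)) → F,
      Cfsg.Agent.S0795.pf (Cfsg.Agent.Lib.Lead.RI.qReindex e (Cfsg.Agent.Lib.Helper16.qfMinus m F A B)) y z =
        QuadraticMap.polar (Cfsg.quadFormMinus m F A B) (y ∘ e) (z ∘ e) := by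
    intro y z
    show QuadraticMap.polar _ y z = _
    unfold QuadraticMap.polar
    rw [hcoe, hcoe, hcoe]
    rfl
  have hle := hsg.gen (M.map (Cfsg.Agent.Lib.Lead.RI.glReindex (F := F) e).toMonoidHom) (by
    intro t' u' v' c hu' hv' huv' ht'
    rw [Subgroup.mem_map_equiv]
    apply hM _ (u' ∘ e) (v' ∘ e) c
    · rw [← hcoe]; exact hu'
    · rw [← hcoe]; exact hv'
    · rw [← hpol]; exact huv'
    · intro x
      have hh : ((t' : Matrix.GeneralLinearGroup (Fin (Fintype.card ((Fin m ⊕ Fin m) ⊕ Fin 2))) F) : Matrix _ _ F) =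
          Matrix.reindex e e ((((Cfsg.Agent.Lib.Lead.RI.glReindex (F := F) e).symm t' :
            Matrix.GeneralLinearGroup ((Fin m ⊕ Fin m) ⊕ Fin 2) F)) :
              Matrix ((Fin m ⊕ Fin m) ⊕ Fin 2) ((Fin m ⊕ Fin m) ⊕ Fin 2) F) := by
        rw [← Cfsg.Agent.Lib.Lead.RI.glReindex_coe, MulEquiv.apply_symm_apply]
      have h1 := ht' (x ∘ e.symm)
      rw [hh, Cfsg.Agent.Lib.Lead.RI.reindex_mulVec] at h1
      have e1 : (x ∘ e.symm) ∘ e = x := by funext i; simp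
      rw [e1] at h1
      have h2' := congrArg (fun f => f ∘ e) h1
      beta_reduce at h2'
      have e2 : ∀ f : (Fin m ⊕ Fin m) ⊕ Fin 2 → F, (f ∘ e.symm) ∘ e = f := by intro f; funext i; simp
      rw [e2] at h2'
      rw [h2']
      unfold Cfsg.Agent.Lib.Helper28.OMax.Tv
      rw [hpol, hpol, e1]
      funext i
      simp)
  have hmap := Cfsg.Agent.Lib.Helper28.OTrans.map_omegaGL (F := F) e (Cfsg.quadFormMinus m F A B)
  have hle' : (Cfsg.Geo.omegaGL (Cfsg.quadFormMinus m F A B)).map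
      (Cfsg.Agent.Lib.Lead.RI.glReindex (F := F) e).toMonoidHom ≤
      M.map (Cfsg.Agent.Lib.Lead.RI.glReindex (F := F) e).toMonoidHom := by
    rw [hmap]
    exact hle
  exact (Subgroup.map_le_map_iff_of_injective (Cfsg.Agent.Lib.Lead.RI.glReindex (F := F) e).injective).mp hle'

/-- G1 -/
theorem omega_le_of_siegelM [Fintype F] (hm : 3 ≤ m)
    (hab : ∀ z₁ z₂ : F, z₁ ^ 2 + A * z₁ * z₂ + B * z₂ ^ 2 = 0 → z₁ = 0 ∧ z₂ = 0)
    (M : Subgroup (Matrix.GeneralLinearGroup (Im (Fin m)) F))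
    (hM : ∀ (t : Matrix.GeneralLinearGroup (Im (Fin m)) F) (u v : Im (Fin m) → F) (c : F),
      Cfsg.quadFormMinus m F A B u = 0 → Cfsg.quadFormMinus m F A B v = 0 → bM A B u v = 0 → IsSgM A B t u v c → t ∈ M) :
    Cfsg.Geo.omegaGL (Cfsg.quadFormMinus m F A B) ≤ M := by
  apply omng1_omega_le_of_siegel hm hab M
  intro t u v c hu hv huv ht
  apply hM t u v c hu hv
  · rw [← omng1_polar_eq_bM]
    exact huv
  · intro x
    rw [ht x]
    unfold sgActM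
    rw [omng1_polar_eq_bM, omng1_polar_eq_bM]

end G

end Cfsg.Agent.Lib.Helper12.OMN
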