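import Mathlib
import Cfsg.Agent.Lib.helper17.OMP.Defs
import Cfsg.Agent.Lib.helper17.OMP.Defs2
import Cfsg.Agent.Lib.Lead.SLn

/-!
# Project OMP, row E4 (`hE_chain hE_swap hm_mul_self hm_mul`): products of diagonal torus words.  helper2.

Own-name copy `ompe4_hE_coe` of the statement of E3 `hE_coe` (so this file does not wait for E3).
-/

set_option autoImplicit false

namespace Cfsg.Agent.Lib.helper17.OMP

open Matrix Cfsg.Agent.Lib.helper14.CTE Cfsg.Agent.Lib.helper14.CTA Cfsg.Agent.Lib.helper17.SLN Cfsg.Agent.Lib.Helper28.CTD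
  Cfsg.Agent.Lib.helper3.STC Cfsg.Agent.Lib.Lead.STD

universe u v w

section E

variable {F : Type u} [Field F] {ι : Type w} [Fintype ι] [DecidableEq ι]

/-- own copy of E3 `hE_coe` -/
theorem ompe4_hE_coe (i j : ι) (hij : i ≠ j) (s : F) (hs : s ≠ 0) :
    ((hE i j s : Matrix.SpecialLinearGroup ι F) : Matrix ι ι F) =
      Matrix.diagonal (fun k => if k = i then s else if k = j then s⁻¹ else 1) := by
  have h := Cfsg.Agent.Lib.Lead.diag2n_decompose_aux (F := F) hij s hs
  rw [h]
  unfold hE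
  simp only [Matrix.SpecialLinearGroup.coe_mul, tv_coe hij, tv_coe hij.symm, Matrix.transvection,
    mul_assoc]

/-- E4 -/
theorem hE_chain (i j m : ι) (hij : i ≠ j) (him : i ≠ m) (hjm : j ≠ m) (s : F) (hs : s ≠ 0) :
    (hE i j s : Matrix.SpecialLinearGroup ι F) = hE i m s * hE m j s := by
  apply Subtype.ext
  rw [Matrix.SpecialLinearGroup.coe_mul, ompe4_hE_coe i j hij s hs, ompe4_hE_coe i m him s hs,
    ompe4_hE_coe m j hjm.symm s hs, Matrix.diagonal_mul_diagonal]
  congr 1
  funext k
  by_cases hki : k = i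
  · subst hki
    simp [him, hij]
  · by_cases hkj : k = j
    · subst hkj
      simp [hjm, hki]
    · by_cases hkm : k = m
      · subst hkm
        simp [hki, hkj, hs]
      · simp [hki, hkj, hkm]

theorem hE_swap (i j : ι) (hij : i ≠ j) (s : F) (hs : s ≠ 0) :
    (hE j i s : Matrix.SpecialLinearGroup ι F) = hE i j s⁻¹ := by
  apply Subtype.ext
  rw [ompe4_hE_coe j i hij.symm s hs, ompe4_hE_coe i j hij s⁻¹ (inv_ne_zero hs)]
  congr 1
  funext k
  by_cases hki : k = i
  · subst hki
    simp [hij]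
  · by_cases hkj : k = j
    · subst hkj
      simp [hki]
    · simp [hki, hkj]

theorem hm_mul_self (i j : ι) (hij : i ≠ j) : (hm i j : Matrix.SpecialLinearGroup ι F) * hm i j = 1 := by
  apply Subtype.ext
  unfold hm
  have h1 : (-1 : F) ≠ 0 := neg_ne_zero.mpr one_ne_zero
  rw [Matrix.SpecialLinearGroup.coe_mul, ompe4_hE_coe i j hij (-1) h1, Matrix.diagonal_mul_diagonal,
    Matrix.SpecialLinearGroup.coe_one, ← Matrix.diagonal_one]
  congr 1
  funext k
  by_cases hki : k = i
  · subst hki
    simp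
  · by_cases hkj : k = j
    · subst hkj
      simp [hki, inv_neg]
    · simp [hki, hkj]

theorem hm_mul (i j m : ι) (hij : i ≠ j) (him : i ≠ m) (hjm : j ≠ m) :
    (hm i m : Matrix.SpecialLinearGroup ι F) * hm j m = hm i j := by
  apply Subtype.ext
  unfold hm
  have h1 : (-1 : F) ≠ 0 := neg_ne_zero.mpr one_ne_zero
  rw [Matrix.SpecialLinearGroup.coe_mul, ompe4_hE_coe i m him (-1) h1, ompe4_hE_coe j m hjm (-1) h1,
    ompe4_hE_coe i j hij (-1) h1, Matrix.diagonal_mul_diagonal]
  congr 1
  funext k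
  by_cases hki : k = i
  · subst hki
    simp [hij, him]
  · by_cases hkj : k = j
    · subst hkj
      simp [hki, hjm, inv_neg]
    · by_cases hkm : k = m
      · subst hkm
        simp [hki, hkj, inv_neg]
      · simp [hki, hkj, hkm]

end E

end Cfsg.Agent.Lib.helper17.OMP
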