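import Mathlib
import Cfsg.Agent.Lib.helper17.SLP.Defs
import Cfsg.Agent.Lib.helper17.SL3.Defs
import Cfsg.Agent.Lib.helper17.SL3.Defs2

/-!
# Project SL3, row T4 (helper2): `d₁ d₂ d₃` commute, product `1`, `c` permutes them.
-/

set_option autoImplicit false

namespace Cfsg.Agent.Lib.helper17.SL3

open Cfsg.Agent.Lib.helper17.SLP
open Polynomial

universe u v

/-- pure group theory behind T4 -/
theorem sl3t4_aux {G : Type*} [Group G] (d c : G) (hc3 : c ^ 3 = 1) (hT1 : Commute d (c * d * c⁻¹))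
    (hT2 : (d * c) ^ 3 = 1) :
    c * (c * d * c⁻¹) * c⁻¹ = c⁻¹ * d * c ∧ c * (c⁻¹ * d * c) * c⁻¹ = d ∧
      Commute d (c * d * c⁻¹) ∧ Commute d (c⁻¹ * d * c) ∧
      Commute (c * d * c⁻¹) (c⁻¹ * d * c) ∧ d * (c * d * c⁻¹) * (c⁻¹ * d * c) = 1 := by
  have p3 : ∀ g : G, g ^ 3 = g * g * g := fun g => by rw [pow_succ, pow_succ, pow_one]
  have hccc : c * c * c = 1 := by rw [← p3, hc3]
  have hcc : c * c = c⁻¹ := by
    rw [eq_inv_iff_mul_eq_one]
    exact hccc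
  have hcc' : c⁻¹ * c⁻¹ = c := by
    rw [← hcc]
    calc c * c * (c * c) = (c * c * c) * c := by simp only [mul_assoc]
      _ = c := by rw [hccc, one_mul]
  have h1 : c * (c * d * c⁻¹) * c⁻¹ = c⁻¹ * d * c := by
    calc c * (c * d * c⁻¹) * c⁻¹ = (c * c) * d * (c⁻¹ * c⁻¹) := by simp only [mul_assoc]
      _ = c⁻¹ * d * c := by rw [hcc, hcc']
  have h2 : c * (c⁻¹ * d * c) * c⁻¹ = d := by group
  have h23 : Commute (c * d * c⁻¹) (c⁻¹ * d * c) := by
    have := hT1.conj c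
    rw [h1] at this
    exact this
  have h13 : Commute d (c⁻¹ * d * c) := by
    have := h23.conj c
    rw [h1, h2] at this
    exact this.symm
  refine ⟨h1, h2, hT1, h13, h23, ?_⟩
  have h3 : (d * c) ^ 3 = d * (c * d * c⁻¹) * ((c * c) * d * (c⁻¹ * c⁻¹)) * (c * c * c) := by
    rw [p3]
    group
  rw [hcc, hcc', inv_mul_cancel, mul_one] at h3
  rw [← h3, hT2]

theorem tor_rel {F : Type u} [Field F] {G : Type v} [Group G]
    (ζ : Fˣ) (x : F → G) (d w c : G) (H : Hyp ζ x d w c) :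
    c * d2 d c * c⁻¹ = d3 d c ∧ c * d3 d c * c⁻¹ = d ∧ Commute d (d2 d c) ∧ Commute d (d3 d c) ∧
      Commute (d2 d c) (d3 d c) ∧ d * d2 d c * d3 d c = 1 := by
  have hT1 : Commute d (c * d * c⁻¹) := (cm_eq_one_iff _ _).mp H.T1
  exact sl3t4_aux d c H.c3 hT1 H.T2

end Cfsg.Agent.Lib.helper17.SL3
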