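import Mathlib
import Cfsg.Agent.Lib.helper17.SLP.Defs
import Cfsg.Agent.Lib.helper17.SL3.Defs
import Cfsg.Agent.Lib.helper17.SL3.Defs2
import Cfsg.Agent.Lib.helper2.SL3T4

/-!
# Project SL3, row T5 (helper2): the action of `w` on the torus.
-/

set_option autoImplicit false

namespace Cfsg.Agent.Lib.helper17.SL3

open Cfsg.Agent.Lib.helper17.SLP
open Polynomial

universe u v

/-- pure group theory behind T5: `a = d`, `b = d₂ = c d c⁻¹`, `e = d₃ = c⁻¹ d c` -/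
theorem sl3t5_aux {G : Type*} [Group G] (d w c : G)
    (hcb : c * (c * d * c⁻¹) * c⁻¹ = c⁻¹ * d * c)
    (hprod : d * (c * d * c⁻¹) * (c⁻¹ * d * c) = 1)
    (hE2 : (w * c⁻¹) ^ 2 = 1) (hTw : w * d * w⁻¹ * (c⁻¹ * d * c) = 1) :
    w * d * w⁻¹ = (c⁻¹ * d * c)⁻¹ ∧ w * (c * d * c⁻¹) * w⁻¹ = (c * d * c⁻¹)⁻¹ ∧
      w * (c⁻¹ * d * c) * w⁻¹ = d⁻¹ ∧
      w⁻¹ * d * w = (c⁻¹ * d * c)⁻¹ ∧ w⁻¹ * (c * d * c⁻¹) * w = (c * d * c⁻¹)⁻¹ ∧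
      w⁻¹ * (c⁻¹ * d * c) * w = d⁻¹ := by
  set b : G := c * d * c⁻¹ with hb
  set e : G := c⁻¹ * d * c with he
  -- (1)
  have h1 : w * d * w⁻¹ = e⁻¹ := eq_inv_of_mul_eq_one_left hTw
  -- (6)
  have h6 : w⁻¹ * e * w = d⁻¹ := by
    have : e = (w * d * w⁻¹)⁻¹ := by rw [h1, inv_inv]
    rw [this]
    group
  -- `w = c * w⁻¹ * c`
  have hw : w = c * w⁻¹ * c := by
    have h : w * c⁻¹ * (w * c⁻¹) = 1 := by rw [← pow_two]; exact hE2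
    have h' : w * c⁻¹ = (w * c⁻¹)⁻¹ := eq_inv_of_mul_eq_one_left h
    calc w = (w * c⁻¹) * c := by group
      _ = (w * c⁻¹)⁻¹ * c := by rw [← h']
      _ = c * w⁻¹ * c := by group
  have hw' : w⁻¹ = c⁻¹ * w * c⁻¹ := by
    have : w⁻¹ = (c * w⁻¹ * c)⁻¹ := by rw [← hw]
    rw [this]
    group
  -- (2)
  have h2 : w * b * w⁻¹ = b⁻¹ := by
    calc w * b * w⁻¹ = (c * w⁻¹ * c) * b * (c⁻¹ * w * c⁻¹) := by
          conv_lhs => rw [hw', hw]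
          rw [← hw]
      _ = c * (w⁻¹ * (c * b * c⁻¹) * w) * c⁻¹ := by group
      _ = c * (w⁻¹ * e * w) * c⁻¹ := by rw [hcb]
      _ = c * d⁻¹ * c⁻¹ := by rw [h6]
      _ = b⁻¹ := by rw [hb]; group
  -- `e = (d * b)⁻¹`
  have he' : e = (d * b)⁻¹ := (eq_inv_of_mul_eq_one_right hprod)
  have hbe : b * e = d⁻¹ := by
    have : d * (b * e) = 1 := by rw [← mul_assoc]; exact hprod
    exact eq_inv_of_mul_eq_one_right this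
  -- (3)
  have h3 : w * e * w⁻¹ = d⁻¹ := by
    calc w * e * w⁻¹ = ((w * d * w⁻¹) * (w * b * w⁻¹))⁻¹ := by rw [he']; group
      _ = (e⁻¹ * b⁻¹)⁻¹ := by rw [h1, h2]
      _ = b * e := by group
      _ = d⁻¹ := hbe
  -- (4)
  have h4 : w⁻¹ * d * w = e⁻¹ := by
    have : d = (w * e * w⁻¹)⁻¹ := by rw [h3, inv_inv]
    rw [this]
    group
  -- (5)
  have h5 : w⁻¹ * b * w = b⁻¹ := by
    have : b = (w * b * w⁻¹)⁻¹ := by rw [h2, inv_inv]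
    conv_lhs => rw [this]
    group
  exact ⟨h1, h2, h3, h4, h5, h6⟩

theorem tor_w {F : Type u} [Field F] {G : Type v} [Group G]
    (ζ : Fˣ) (x : F → G) (d w c : G) (H : Hyp ζ x d w c) :
    w * d * w⁻¹ = (d3 d c)⁻¹ ∧ w * d2 d c * w⁻¹ = (d2 d c)⁻¹ ∧ w * d3 d c * w⁻¹ = d⁻¹ ∧
      w⁻¹ * d * w = (d3 d c)⁻¹ ∧ w⁻¹ * d2 d c * w = (d2 d c)⁻¹ ∧ w⁻¹ * d3 d c * w = d⁻¹ := by
  obtain ⟨h1, -, -, -, -, h6⟩ := tor_rel ζ x d w c H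
  exact sl3t5_aux d w c h1 h6 H.E2 H.Tw

end Cfsg.Agent.Lib.helper17.SL3
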