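import Mathlib
import Cfsg.Agent.Lib.helper17.SLP.Defs
import Cfsg.Agent.Lib.helper17.SL3.Defs
import Cfsg.Agent.Lib.helper17.SL3.Defs2
import Cfsg.Agent.Lib.helper2.SL3T4
import Cfsg.Agent.Lib.helper2.SL3T5

/-!
# Project SL3, row D4 core (helper2): `rd_weylT` with the statement of K3 (`wsq_mem`) as a hypothesis
(T4, T5 cited; `d₃ ∈ TT` from T4, so K6 is not needed).
-/

set_option autoImplicit false

namespace Cfsg.Agent.Lib.helper17.SL3

open Cfsg.Agent.Lib.helper17.SLP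
open Polynomial

universe u v

/-- a subgroup generated by `S` is stable under conjugation by `g` if the conjugates of the generators
lie in it -/
theorem sl3d4_conj_closure {G : Type*} [Group G] (S : Set G) (g : G)
    (h : ∀ s ∈ S, g * s * g⁻¹ ∈ Subgroup.closure S) :
    ∀ τ ∈ Subgroup.closure S, g * τ * g⁻¹ ∈ Subgroup.closure S := by
  intro τ hτ
  have hle : Subgroup.closure S ≤ (Subgroup.closure S).comap (MulAut.conj g).toMonoidHom := by
    rw [Subgroup.closure_le]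
    intro s hs
    exact h s hs
  exact hle hτ

section D

variable {F : Type u} [Field F] [Fintype F] {G : Type v} [Group G]

theorem sl3d4_core (ζ : Fˣ) (x : F → G) (d w c : G) (H : Hyp ζ x d w c)
    (hK3 : ∃ i : ℤ, ((ζ ^ i : Fˣ) : F) = -1 ∧ w ^ 2 = (d ^ i * (d3 d c) ^ i)⁻¹) :
    (∀ τ ∈ TT d c, w * τ * w⁻¹ ∈ TT d c) ∧ (∀ τ ∈ TT d c, (c * w * c⁻¹) * τ * (c * w * c⁻¹)⁻¹ ∈ TT d c) ∧
      w ^ 2 ∈ TT d c ∧ (c * w * c⁻¹) ^ 2 ∈ TT d c := by
  obtain ⟨hc2, hc3, -, -, -, hprod⟩ := tor_rel ζ x d w c H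
  obtain ⟨hw1, hw2, -, -, -, -⟩ := tor_w ζ x d w c H
  have hd : d ∈ TT d c := Subgroup.subset_closure (by simp)
  have hd2 : d2 d c ∈ TT d c := Subgroup.subset_closure (by simp)
  have hd3 : d3 d c ∈ TT d c := by
    have : d3 d c = (d * d2 d c)⁻¹ := eq_inv_of_mul_eq_one_right hprod
    rw [this]
    exact (TT d c).inv_mem ((TT d c).mul_mem hd hd2)
  -- `w` normalises `TT`
  have hwT : ∀ τ ∈ TT d c, w * τ * w⁻¹ ∈ TT d c := by
    apply sl3d4_conj_closure
    intro s hs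
    simp only [Set.mem_insert_iff, Set.mem_singleton_iff] at hs
    rcases hs with hs | hs
    · rw [hs, hw1]
      exact (TT d c).inv_mem hd3
    · rw [hs, hw2]
      exact (TT d c).inv_mem hd2
  -- `c` normalises `TT`
  have hcT : ∀ τ ∈ TT d c, c * τ * c⁻¹ ∈ TT d c := by
    apply sl3d4_conj_closure
    intro s hs
    simp only [Set.mem_insert_iff, Set.mem_singleton_iff] at hs
    rcases hs with hs | hs
    · rw [hs]
      exact hd2
    · rw [hs, hc2]
      exact hd3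
  -- `c⁻¹` normalises `TT`
  have hcT' : ∀ τ ∈ TT d c, c⁻¹ * τ * c⁻¹⁻¹ ∈ TT d c := by
    apply sl3d4_conj_closure
    intro s hs
    simp only [Set.mem_insert_iff, Set.mem_singleton_iff] at hs
    rcases hs with hs | hs
    · rw [hs, inv_inv]
      exact hd3
    · rw [hs, inv_inv]
      have : c⁻¹ * d2 d c * c = d := by
        unfold d2
        group
      rw [this]
      exact hd
  have hwsq : w ^ 2 ∈ TT d c := by
    obtain ⟨i, -, hi⟩ := hK3
    rw [hi]
    exact (TT d c).inv_mem ((TT d c).mul_mem ((TT d c).zpow_mem hd i) ((TT d c).zpow_mem hd3 i))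
  refine ⟨hwT, ?_, hwsq, ?_⟩
  · intro τ hτ
    have h1 := hcT' τ hτ
    have h2 := hwT _ h1
    have h3 := hcT _ h2
    have : c * w * c⁻¹ * τ * (c * w * c⁻¹)⁻¹ = c * (w * (c⁻¹ * τ * c⁻¹⁻¹) * w⁻¹) * c⁻¹ := by group
    rw [this]
    exact h3
  · have : (c * w * c⁻¹) ^ 2 = c * w ^ 2 * c⁻¹ := by
      rw [pow_two, pow_two]
      group
    rw [this]
    exact hcT _ hwsq

end D

end Cfsg.Agent.Lib.helper17.SL3
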