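import Mathlib
import Cfsg.Agent.Lib.Helper1.SLN.Defs
import Cfsg.Agent.Lib.Helper1.SLN.Defs2
import Cfsg.Agent.Lib.Helper20.SL7Z0a
import Cfsg.Agent.Lib.Helper22.SL7Z0b
import Cfsg.Agent.Lib.Helper16.SL7Z1core

/-!
# SL7 row Z3: `glue3_of_rels` (`r1 r2 r3 ⇒ Glue3`).  (helper2)

Self-contained on the landed rows Z0a, Z0b and helper16's `sl7z1_core`; own-name copies
`sl7z3_zform` (= Z1 `zform`), `sl7z3_nu_inv_t23_mem` (= Z0c), `sl7z3_stab_of_rel` (= Z2).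
-/

set_option autoImplicit false

namespace Cfsg.Agent.Lib.Helper1.SLN

open Matrix Equiv
open Cfsg.Agent.Lib.helper17.SLP

universe u v w

section Z

variable {F : Type u} [Field F] {G : Type v} [Group G]

/-- own-name copy of Z1 `zform` (from `sl7z1_core`, Z0a, Z0b). -/
theorem sl7z3_zform (M : ℕ) (α : alternatingGroup (Fin (M + 4)) →* G)
    (β : Matrix.SpecialLinearGroup (Fin 3) F →* G) (h2c : α (c3 M) = β cM)
    (ν : alternatingGroup (Fin (M + 4)))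
    (h0 : (ν : Equiv.Perm (Fin (M + 4))) (i0 M) = i1 M) (h1 : (ν : Equiv.Perm (Fin (M + 4))) (i1 M) = i0 M)
    (h2 : (ν : Equiv.Perm (Fin (M + 4))) (i2 M) = i2 M)
    (y : Matrix.SpecialLinearGroup (Fin 3) F)
    (hy : Subgroup.closure ({y, cM} : Set (Matrix.SpecialLinearGroup (Fin 3) F)) = ⊤)
    (r1 : Commute (α ν * (β fM)⁻¹) (β y)) :
    (∀ A : Matrix.SpecialLinearGroup (Fin 3) F, α ν * β A * (α ν)⁻¹ = β (fM * A * fM⁻¹)) ∧
      ∀ A : Matrix.SpecialLinearGroup (Fin 3) F, Commute (α (ν * ν)) (β A) :=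
  sl7z1_core M α β h2c ν fM_mul_self fM_inv fM_conj_cM (nu_conj_c3 M ν h0 h1 h2) y hy r1

/-- own-name copy of Z0c `nu_inv_t23_mem`. -/
theorem sl7z3_nu_inv_t23_mem (M : ℕ) (ν : alternatingGroup (Fin (M + 4)))
    (h0 : (ν : Equiv.Perm (Fin (M + 4))) (i0 M) = i1 M) (h1 : (ν : Equiv.Perm (Fin (M + 4))) (i1 M) = i0 M) :
    ν⁻¹ * t23 M ∈ stab01 M := by
  rw [mem_stab01, Subgroup.coe_mul, Subgroup.coe_inv, t23_coe]
  have e0 : (swap (i0 M) (i1 M) * swap (i2 M) (i3 M)) (i0 M) = i1 M := by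
    rw [Equiv.Perm.mul_apply, Equiv.swap_apply_of_ne_of_ne (i02 M) (i03 M), Equiv.swap_apply_left]
  have e1 : (swap (i0 M) (i1 M) * swap (i2 M) (i3 M)) (i1 M) = i0 M := by
    rw [Equiv.Perm.mul_apply, Equiv.swap_apply_of_ne_of_ne (i12 M) (i13 M), Equiv.swap_apply_right]
  constructor
  · rw [Equiv.Perm.mul_apply, e0, Equiv.Perm.inv_eq_iff_eq, h0]
  · rw [Equiv.Perm.mul_apply, e1, Equiv.Perm.inv_eq_iff_eq, h1]

/-- own-name copy of Z2 `stab_of_rel`. -/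
theorem sl7z3_stab_of_rel (M : ℕ) (α : alternatingGroup (Fin (M + 4)) →* G)
    (β : Matrix.SpecialLinearGroup (Fin 3) F →* G) (ν x : alternatingGroup (Fin (M + 4))) (hN : NuHyp M ν x)
    (hflip : ∀ m : Matrix.SpecialLinearGroup (Fin 2) F, α ν * β (emb23 m) * (α ν)⁻¹ = β (emb23 (flip2 m)))
    (hsq : ∀ m : Matrix.SpecialLinearGroup (Fin 2) F, Commute (α (ν * ν)) (β (emb23 m)))
    (a : Matrix.SpecialLinearGroup (Fin 2) F) (ha : flip2 a = a⁻¹)
    (hr : Commute (β (emb23 a)) (α x)) :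
    ∀ τ ∈ stab01 M, Commute (α τ) (β (emb23 a)) := by
  set b : G := β (emb23 a) with hb
  let S : Subgroup (alternatingGroup (Fin (M + 4))) := (Subgroup.centralizer {b}).comap α
  have hmem : ∀ τ, τ ∈ S ↔ Commute (α τ) b := by
    intro τ
    show α τ ∈ Subgroup.centralizer {b} ↔ _
    rw [Subgroup.mem_centralizer_iff]
    constructor
    · intro h
      exact (h b (Set.mem_singleton b)).symm
    · intro h g hg
      rw [Set.mem_singleton_iff] at hg
      subst hg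
      exact h.symm
  have hνb : α ν * b * (α ν)⁻¹ = b⁻¹ := by
    rw [hb, hflip, ha, map_inv, map_inv]
  have hle : stab01 M ≤ S := by
    refine hN.gen S ((hmem x).2 hr.symm) ((hmem _).2 (hsq a)) ?_
    intro τ hτ
    rw [hmem] at hτ ⊢
    rw [map_mul, map_mul, map_inv]
    -- `α ν * α τ * (α ν)⁻¹` commutes with `b⁻¹ = α ν * b * (α ν)⁻¹`, hence with `b`
    have h1 : Commute (α ν * α τ * (α ν)⁻¹) (α ν * b * (α ν)⁻¹) := by
      show α ν * α τ * (α ν)⁻¹ * (α ν * b * (α ν)⁻¹) = α ν * b * (α ν)⁻¹ * (α ν * α τ * (α ν)⁻¹)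
      have e := hτ.eq
      calc α ν * α τ * (α ν)⁻¹ * (α ν * b * (α ν)⁻¹) = α ν * (α τ * b) * (α ν)⁻¹ := by group
        _ = α ν * (b * α τ) * (α ν)⁻¹ := by rw [e]
        _ = α ν * b * (α ν)⁻¹ * (α ν * α τ * (α ν)⁻¹) := by group
    rw [hνb] at h1
    exact (Commute.inv_right_iff.1 h1)
  intro τ hτ
  exact (hmem τ).1 (hle hτ)

/-- Z3 [M]  deps Z0a Z0c Z1 Z2. -/
theorem glue3_of_rels (M : ℕ) (α : alternatingGroup (Fin (M + 4)) →* G)
    (β : Matrix.SpecialLinearGroup (Fin 3) F →* G) (h2c : α (c3 M) = β cM)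
    (ν x : alternatingGroup (Fin (M + 4))) (hN : NuHyp M ν x)
    (y : Matrix.SpecialLinearGroup (Fin 3) F)
    (hy : Subgroup.closure ({y, cM} : Set (Matrix.SpecialLinearGroup (Fin 3) F)) = ⊤)
    (a₁ a₂ : Matrix.SpecialLinearGroup (Fin 2) F) (ha₁ : flip2 a₁ = a₁⁻¹) (ha₂ : flip2 a₂ = a₂⁻¹)
    (hcl : Subgroup.closure ({a₁, a₂} : Set (Matrix.SpecialLinearGroup (Fin 2) F)) = ⊤)
    (r1 : Commute (α ν * (β fM)⁻¹) (β y))
    (r2 : Commute (β (emb23 a₁)) (α x)) (r3 : Commute (β (emb23 a₂)) (α x)) :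
    Glue3 M α β := by
  obtain ⟨hconj, hsq'⟩ := sl7z3_zform M α β h2c ν hN.h0 hN.h1 hN.h2 y hy r1
  have hflip : ∀ m : Matrix.SpecialLinearGroup (Fin 2) F,
      α ν * β (emb23 m) * (α ν)⁻¹ = β (emb23 (flip2 m)) := by
    intro m
    rw [hconj, fM_conj_emb]
  have hsq : ∀ m : Matrix.SpecialLinearGroup (Fin 2) F, Commute (α (ν * ν)) (β (emb23 m)) :=
    fun m => hsq' _
  have hc1 := sl7z3_stab_of_rel M α β ν x hN hflip hsq a₁ ha₁ r2
  have hc2 := sl7z3_stab_of_rel M α β ν x hN hflip hsq a₂ ha₂ r3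
  -- `g4`
  have g4 : ∀ τ ∈ stab01 M, ∀ m : Matrix.SpecialLinearGroup (Fin 2) F,
      α τ * β (emb23 m) * (α τ)⁻¹ = β (emb23 m) := by
    intro τ hτ m
    let K : Subgroup (Matrix.SpecialLinearGroup (Fin 2) F) :=
      (Subgroup.centralizer {α τ}).comap (β.comp emb23)
    have hK : ∀ m, m ∈ K ↔ Commute (α τ) (β (emb23 m)) := by
      intro m
      show β (emb23 m) ∈ Subgroup.centralizer {α τ} ↔ _
      rw [Subgroup.mem_centralizer_iff]
      constructor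
      · intro h
        exact h (α τ) (Set.mem_singleton _)
      · intro h g hg
        rw [Set.mem_singleton_iff] at hg
        subst hg
        exact h
    have hle : Subgroup.closure ({a₁, a₂} : Set (Matrix.SpecialLinearGroup (Fin 2) F)) ≤ K := by
      rw [Subgroup.closure_le]
      intro m hm
      rcases hm with rfl | hm
      · exact (hK _).2 (hc1 τ hτ)
      · rw [Set.mem_singleton_iff] at hm
        subst hm
        exact (hK _).2 (hc2 τ hτ)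
    rw [hcl] at hle
    have hm : Commute (α τ) (β (emb23 m)) := (hK m).1 (hle (Subgroup.mem_top m))
    rw [hm.eq, mul_inv_cancel_right]
  refine ⟨h2c, ?_, g4⟩
  -- `g3`
  intro m
  have hτ0 := sl7z3_nu_inv_t23_mem M ν hN.h0 hN.h1
  have e : t23 M = ν * (ν⁻¹ * t23 M) := by group
  have h4 := g4 _ hτ0 m
  calc α (t23 M) * β (emb23 m) * (α (t23 M))⁻¹
      = α ν * (α (ν⁻¹ * t23 M) * β (emb23 m) * (α (ν⁻¹ * t23 M))⁻¹) * (α ν)⁻¹ := by
        conv_lhs => rw [e]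
        rw [map_mul]
        group
    _ = α ν * β (emb23 m) * (α ν)⁻¹ := by rw [h4]
    _ = β (emb23 (flip2 m)) := hflip m

end Z

end Cfsg.Agent.Lib.Helper1.SLN
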