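import Mathlib
import Cfsg.Prelude.Def_GeometricClasses
import Cfsg.Agent.Lib.Helper19.OU.Defs

set_option autoImplicit false
set_option linter.unusedVariables false
set_option linter.unusedSectionVars false

/-!
# Project OU, piece EXSP : a singular vector orthogonal to `S` and outside `S`, `2 dim S + 3 ≤ n`.
-/

namespace Cfsg.Agent.Lib.Helper19.OU

open Matrix Cfsg.Agent.Lib.Helper28.HForm Cfsg.Agent.Lib.Helper28.OGen
  Cfsg.Agent.Lib.Helper28.OMax Cfsg.Agent.Lib.Helper28.OQ Cfsg.Agent.Lib.Helper28.OMax2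
  Cfsg.Agent.Lib.Helper28.OIwa Cfsg.Agent.Lib.Helper28.OPair

variable {n : ℕ} {F : Type*} [Field F] {Q : (Fin n → F) → F}
  {f : (Fin n → F) → (Fin n → F) → F} {θ : Matrix (Fin n) (Fin n) F} {t N : F}
  {G M : Subgroup (Matrix.GeneralLinearGroup (Fin n) F)}

theorem ouexsp_exists_not_mem (P S' : Submodule F (Fin n → F))
    (h : Module.finrank F S' < Module.finrank F P) : ∃ v ∈ P, v ∉ S' := by
  by_contra hc
  push Not at hc
  have h1 : P ≤ S' := fun v hv => hc v hv
  have h2 := Submodule.finrank_mono h1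
  omega

theorem ouexsp_mem_of_smul (W : Submodule F (Fin n → F)) {c : F} (hc : c ≠ 0) {v : Fin n → F}
    (h : c • v ∈ W) : v ∈ W := by
  have h1 := W.smul_mem c⁻¹ h
  rwa [smul_smul, inv_mul_cancel₀ hc, one_smul] at h1

/-- the orthogonal of `S` (as the kernel of a `perpMap`) is large -/
theorem ouexsp_perp (hf : SymF f) (S : Submodule F (Fin n → F)) :
    ∃ P : Submodule F (Fin n → F), n ≤ Module.finrank F P + Module.finrank F S ∧
      ∀ v ∈ P, ∀ s ∈ S, f s v = 0 := by
  obtain ⟨k, hk⟩ : ∃ k, Module.finrank F S = k := ⟨_, rfl⟩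
  let b := Module.finBasisOfFinrankEq F S hk
  let x : Fin k → (Fin n → F) := fun i => (b i : Fin n → F)
  refine ⟨LinearMap.ker (perpMap hf x), ?_, ?_⟩
  · rw [hk]
    exact finrank_ker_ge hf x
  · intro v hv s hs
    rw [mem_ker_perpMap] at hv
    have h1 := b.sum_repr ⟨s, hs⟩
    have e : s = ∑ i, (b.repr ⟨s, hs⟩ i) • x i := by
      have h2 := congrArg (fun z : S => (z : Fin n → F)) h1
      simp only [Submodule.coe_sum, Submodule.coe_smul] at h2
      exact h2.symm
    rw [e, f_sum_left hf]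
    apply Finset.sum_eq_zero
    intro i _
    rw [hf.smul_left, s_symm hf, hv i, mul_zero]

/-- EXSP -/
theorem ex_sing_perp [Fintype F] (hq : QF Q f) (S : Submodule F (Fin n → F))
    (hS : 2 * Module.finrank F S + 3 ≤ n) :
    ∃ w, Q w = 0 ∧ (∀ s ∈ S, f s w = 0) ∧ w ∉ S := by
  have hf := hq.sym
  obtain ⟨P, hPdim, hperp⟩ := ouexsp_perp hf S
  obtain ⟨v1, hv1P, hv1⟩ := ouexsp_exists_not_mem P S (by omega)
  have d1 := finrank_sup_singleton S v1 hv1
  obtain ⟨v2, hv2P, hv2⟩ := ouexsp_exists_not_mem P (S ⊔ Submodule.span F {v1}) (by omega)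
  have d2 := finrank_sup_singleton _ v2 hv2
  obtain ⟨v3, hv3P, hv3⟩ :=
    ouexsp_exists_not_mem P (S ⊔ Submodule.span F {v1} ⊔ Submodule.span F {v2}) (by omega)
  obtain ⟨x1, x2, x3, hne, hzero⟩ :=
    Cfsg.Agent.Lib.Helper28.Os.cw_ternary (Q v1) (Q v2) (Q v3) (f v1 v2) (f v1 v3) (f v2 v3)
  refine ⟨x1 • v1 + x2 • v2 + x3 • v3, ?_, ?_, ?_⟩
  · rw [hq.polar, hq.polar, hq.smul, hq.smul, hq.smul, hf.add_left, hf.smul_left, hf.smul_left,
      hf.smul_left, s_smul_right hf, s_smul_right hf, s_smul_right hf]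
    linear_combination hzero
  · intro s hs
    rw [f_add_right hf, f_add_right hf, s_smul_right hf, s_smul_right hf, s_smul_right hf,
      hperp v1 hv1P s hs, hperp v2 hv2P s hs, hperp v3 hv3P s hs]
    ring
  · intro hw
    have m1 : ∀ c : F, c • v1 ∈ S ⊔ Submodule.span F {v1} := fun c =>
      Submodule.mem_sup_right (Submodule.smul_mem _ c (Submodule.mem_span_singleton_self v1))
    by_cases h3 : x3 = 0
    · by_cases h2 : x2 = 0
      · have h1 : x1 ≠ 0 := fun h1 => hne ⟨h1, h2, h3⟩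
        apply hv1
        apply ouexsp_mem_of_smul S h1
        have e : x1 • v1 = x1 • v1 + x2 • v2 + x3 • v3 := by rw [h2, h3]; module
        rw [e]; exact hw
      · apply hv2
        apply ouexsp_mem_of_smul _ h2
        have e : x2 • v2 = (x1 • v1 + x2 • v2 + x3 • v3) - x1 • v1 := by rw [h3]; module
        rw [e]
        exact Submodule.sub_mem _ (Submodule.mem_sup_left hw) (m1 x1)
    · apply hv3
      apply ouexsp_mem_of_smul _ h3
      have e : x3 • v3 = (x1 • v1 + x2 • v2 + x3 • v3) - x1 • v1 - x2 • v2 := by module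
      rw [e]
      exact Submodule.sub_mem _ (Submodule.sub_mem _
        (Submodule.mem_sup_left (Submodule.mem_sup_left hw)) (Submodule.mem_sup_left (m1 x1)))
        (Submodule.mem_sup_right (Submodule.smul_mem _ x2 (Submodule.mem_span_singleton_self v2)))

end Cfsg.Agent.Lib.Helper19.OU
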