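import Mathlib
import Cfsg.Agent.Lib.Helper11.GlaubermanFix

set_option autoImplicit false

namespace Cfsg.Agent.Lib.helper2

open Cfsg.Agent.Lib.Helper11

theorem rg_le_normalizer {Γ : Type*} [Group Γ] (A B : Subgroup Γ)
    (h : ∀ a ∈ A, ∀ b ∈ B, a * b * a⁻¹ ∈ B) : A ≤ Subgroup.normalizer (B : Set Γ) := by
  intro a ha
  rw [Subgroup.mem_normalizer_iff]
  intro b
  constructor
  · intro hb
    exact h a ha b hb
  · intro hb
    have := h a⁻¹ (A.inv_mem ha) _ hb
    simpa [mul_assoc] using this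

/-- relative form of Glauberman's lemma (existence part), purely group-theoretic -/
theorem rel_glauberman {Γ : Type*} [Group Γ] [Finite Γ] (G S N I : Subgroup Γ) (hNG : N ≤ G)
    [hNn : (N.subgroupOf G).Normal]
    (hSG : ∀ s ∈ S, ∀ g ∈ G, s * g * s⁻¹ ∈ G) (hSN : ∀ s ∈ S, ∀ n ∈ N, s * n * s⁻¹ ∈ N)
    (hcop : (N.relIndex G).Coprime (Nat.card S))
    (hsolv : Group.IsSolvable S ∨ Group.IsSolvable (G ⧸ N.subgroupOf G))
    (hNI : N ≤ I) (hI : ∀ s ∈ S, ∃ g ∈ G, g * s ∈ I) :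
    ∃ g ∈ G, ∀ s ∈ S, g * s * g⁻¹ ∈ I := by
  classical
  obtain ⟨T, hTdef⟩ : ∃ T : Subgroup Γ, T = G ⊔ S := ⟨_, rfl⟩
  have hGT : G ≤ T := by rw [hTdef]; exact le_sup_left
  have hST : S ≤ T := by rw [hTdef]; exact le_sup_right
  have hNT : N ≤ T := hNG.trans hGT
  have hGN : ∀ g ∈ G, ∀ n ∈ N, g * n * g⁻¹ ∈ N := by
    intro g hg n hn
    have := hNn.conj_mem (⟨n, hNG hn⟩ : G) (Subgroup.mem_subgroupOf.mpr hn) ⟨g, hg⟩
    exact Subgroup.mem_subgroupOf.mp this
  have hTN : T ≤ Subgroup.normalizer (N : Set Γ) := by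
    rw [hTdef]
    exact sup_le (rg_le_normalizer G N hGN) (rg_le_normalizer S N hSN)
  have hTG : T ≤ Subgroup.normalizer (G : Set Γ) := by
    rw [hTdef]
    exact sup_le Subgroup.le_normalizer (rg_le_normalizer S G hSG)
  haveI hNTn : (N.subgroupOf T).Normal := (Subgroup.normal_subgroupOf_iff_le_normalizer hNT).mpr hTN
  haveI hGTn : (G.subgroupOf T).Normal := (Subgroup.normal_subgroupOf_iff_le_normalizer hGT).mpr hTG
  let π : T →* (T ⧸ N.subgroupOf T) := QuotientGroup.mk' (N.subgroupOf T)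
  have hπ : Function.Surjective π := QuotientGroup.mk'_surjective _
  let fG : G →* (T ⧸ N.subgroupOf T) := π.comp (Subgroup.inclusion hGT)
  let fS : S →* (T ⧸ N.subgroupOf T) := π.comp (Subgroup.inclusion hST)
  have hfG : fG.range = (G.subgroupOf T).map π := by
    rw [← Subgroup.inclusion_range hGT, MonoidHom.map_range]
  have hfS : fS.range = (S.subgroupOf T).map π := by
    rw [← Subgroup.inclusion_range hST, MonoidHom.map_range]
  haveI : fG.range.Normal := by
    rw [hfG]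
    exact Subgroup.Normal.map hGTn π hπ
  -- sup conditions
  have hsup1 : fS.range ⊔ fG.range = ⊤ := by
    rw [hfS, hfG, ← Subgroup.map_sup, ← Subgroup.subgroupOf_sup hST hGT]
    have : S ⊔ G = T := by rw [hTdef, sup_comm]
    rw [this, Subgroup.subgroupOf_self]
    exact Subgroup.map_top_of_surjective π hπ
  obtain ⟨Ibar, hIbar⟩ : ∃ Ibar : Subgroup (T ⧸ N.subgroupOf T), Ibar = (I.subgroupOf T).map π :=
    ⟨_, rfl⟩
  have hsup2 : Ibar ⊔ fG.range = ⊤ := by
    rw [eq_top_iff, ← hsup1]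
    apply sup_le
    · rintro x ⟨s, rfl⟩
      obtain ⟨g, hg, hgs⟩ := hI s s.2
      have hgsT : g * (s : Γ) ∈ T := T.mul_mem (hGT hg) (hST s.2)
      have h1 : π ⟨g * (s : Γ), hgsT⟩ ∈ Ibar := by
        rw [hIbar]
        exact ⟨⟨g * (s : Γ), hgsT⟩, Subgroup.mem_subgroupOf.mpr hgs, rfl⟩
      have h2 : fG ⟨g, hg⟩⁻¹ ∈ fG.range := ⟨⟨g, hg⟩⁻¹, rfl⟩
      have h3 : fS s = fG ⟨g, hg⟩⁻¹ * π ⟨g * (s : Γ), hgsT⟩ := by
        change π _ = π _ * π _
        rw [← map_mul]
        congr 1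
        apply Subtype.ext
        simp [Subgroup.inclusion]
      rw [h3]
      exact Subgroup.mul_mem _ (Subgroup.mem_sup_right h2) (Subgroup.mem_sup_left h1)
    · exact le_sup_right
  -- coprimality
  have hcardS : Nat.card fS.range ∣ Nat.card S := Subgroup.card_range_dvd fS
  have hcardG : Nat.card fG.range ∣ N.relIndex G := by
    rw [← Subgroup.index_ker fG]
    apply Subgroup.index_dvd_of_le
    intro g hg
    rw [MonoidHom.mem_ker]
    change π _ = 1
    rw [QuotientGroup.mk'_apply, QuotientGroup.eq_one_iff]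
    exact Subgroup.mem_subgroupOf.mpr (Subgroup.mem_subgroupOf.mp hg)
  have hcop' : (Nat.card fS.range).Coprime (Nat.card fG.range) :=
    (Nat.Coprime.coprime_dvd_left hcardG (Nat.Coprime.coprime_dvd_right hcardS hcop)).symm
  have hsolv' : Group.IsSolvable fS.range ∨ Group.IsSolvable fG.range := by
    rcases hsolv with h | h
    · left
      haveI := h
      exact Group.isSolvable_of_surjective (f := fS.rangeRestrict) fS.rangeRestrict_surjective
    · right
      haveI := h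
      have hker : N.subgroupOf G ≤ fG.ker := by
        intro g hg
        rw [MonoidHom.mem_ker]
        change π _ = 1
        rw [QuotientGroup.mk'_apply, QuotientGroup.eq_one_iff]
        exact Subgroup.mem_subgroupOf.mpr (Subgroup.mem_subgroupOf.mp hg)
      let fq : (G ⧸ N.subgroupOf G) →* fG.range :=
        QuotientGroup.lift (N.subgroupOf G) fG.rangeRestrict (by
          intro g hg
          apply Subtype.ext
          exact MonoidHom.mem_ker.mp (hker hg))
      have hfq : Function.Surjective fq := by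
        rintro ⟨y, g, rfl⟩
        exact ⟨QuotientGroup.mk g, Subtype.ext rfl⟩
      exact Group.isSolvable_of_surjective hfq
  obtain ⟨k, hk, hkA⟩ := exists_conj_le_ext fS.range fG.range hsup1 hcop' hsolv' Ibar hsup2
  obtain ⟨g, rfl⟩ := hk
  refine ⟨g, g.2, ?_⟩
  intro s hs
  have h1 := hkA (fS ⟨s, hs⟩) ⟨⟨s, hs⟩, rfl⟩
  rw [hIbar] at h1
  obtain ⟨i, hi, hi2⟩ := h1
  have hgsT : (g : Γ) * s * (g : Γ)⁻¹ ∈ T := T.mul_mem (T.mul_mem (hGT g.2) (hST hs)) (T.inv_mem (hGT g.2))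
  have h2 : π i = π ⟨(g : Γ) * s * (g : Γ)⁻¹, hgsT⟩ := by
    rw [hi2]
    change π _ * π _ * (π _)⁻¹ = π _
    rw [← map_inv, ← map_mul, ← map_mul]
    congr 1
  rw [QuotientGroup.mk'_apply, QuotientGroup.mk'_apply, QuotientGroup.eq] at h2
  have h3 : (i : Γ)⁻¹ * ((g : Γ) * s * (g : Γ)⁻¹) ∈ N := Subgroup.mem_subgroupOf.mp h2
  have h4 : (i : Γ) ∈ I := Subgroup.mem_subgroupOf.mp hi
  have h5 := I.mul_mem h4 (hNI h3)
  have : (i : Γ) * ((i : Γ)⁻¹ * ((g : Γ) * s * (g : Γ)⁻¹)) = (g : Γ) * s * (g : Γ)⁻¹ := by group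
  rw [this] at h5
  exact h5

/-- conjugation by an element of the normalizer as an automorphism -/
def rgConjN {Γ : Type*} [Group Γ] (N : Subgroup Γ) (γ : Γ)
    (h : γ ∈ Subgroup.normalizer (N : Set Γ)) : N ≃* N where
  toFun n := ⟨γ * n * γ⁻¹, (Subgroup.mem_normalizer_iff.mp h n).mp n.2⟩
  invFun n := ⟨γ⁻¹ * n * γ, by
    have := (Subgroup.mem_normalizer_iff.mp ((Subgroup.normalizer (N : Set Γ)).inv_mem h) n).mp n.2
    simpa using this⟩
  left_inv n := Subtype.ext (by simp only; group)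
  right_inv n := Subtype.ext (by simp only; group)
  map_mul' a b := Subtype.ext (by simp only [Subgroup.coe_mul]; group)

theorem rgConjN_coe {Γ : Type*} [Group Γ] (N : Subgroup Γ) (γ : Γ)
    (h : γ ∈ Subgroup.normalizer (N : Set Γ)) (n : N) :
    ((rgConjN N γ h n : N) : Γ) = γ * n * γ⁻¹ := rfl

/-- the stabilizer of a function on `N` inside the normalizer -/
def rgStabN {Γ : Type*} [Group Γ] (N : Subgroup Γ) (θ : N → ℂ) : Subgroup Γ where
  carrier := {γ | ∃ h : γ ∈ Subgroup.normalizer (N : Set Γ), ∀ n : N, θ (rgConjN N γ h n) = θ n}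
  one_mem' := by
    refine ⟨Subgroup.one_mem _, ?_⟩
    intro n
    congr 1
    apply Subtype.ext
    simp [rgConjN_coe]
  mul_mem' := by
    rintro a b ⟨ha, ha2⟩ ⟨hb, hb2⟩
    refine ⟨Subgroup.mul_mem _ ha hb, ?_⟩
    intro n
    rw [← hb2 n, ← ha2 (rgConjN N b hb n)]
    congr 1
    apply Subtype.ext
    simp only [rgConjN_coe]
    group
  inv_mem' := by
    rintro a ⟨ha, ha2⟩
    refine ⟨Subgroup.inv_mem _ ha, ?_⟩
    intro n
    rw [← ha2 (rgConjN N a⁻¹ (Subgroup.inv_mem _ ha) n)]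
    congr 1
    apply Subtype.ext
    simp only [rgConjN_coe]
    group


end Cfsg.Agent.Lib.helper2
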