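import Mathlib
import Cfsg.Agent.Lib.helper2.RelGlauberman

set_option autoImplicit false

namespace Cfsg.Agent.Lib.helper2

open scoped Pointwise

theorem gc_normal {Γ : Type*} [Group Γ] (G S : Subgroup Γ)
    (hnorm : ∀ s ∈ S, ∀ g ∈ G, s * g * s⁻¹ ∈ G) (htop : G ⊔ S = ⊤) : G.Normal := by
  have h1 : G ≤ Subgroup.normalizer (G : Set Γ) := Subgroup.le_normalizer
  have h2 : S ≤ Subgroup.normalizer (G : Set Γ) := rg_le_normalizer S G hnorm
  have h3 : Subgroup.normalizer (G : Set Γ) = ⊤ := top_le_iff.mp (htop ▸ sup_le h1 h2)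
  exact Subgroup.normalizer_eq_top_iff.mp h3

theorem gc_mem_mul {Γ : Type*} [Group Γ] (G S : Subgroup Γ) [hG : G.Normal] (htop : G ⊔ S = ⊤)
    (x : Γ) : ∃ g ∈ G, ∃ t ∈ S, x = g * t := by
  have hx : x ∈ ((G ⊔ S : Subgroup Γ) : Set Γ) := by
    rw [htop]; exact Subgroup.mem_top x
  rw [Subgroup.normal_mul] at hx
  obtain ⟨g, hg, t, ht, rfl⟩ := Set.mem_mul.mp hx
  exact ⟨g, hg, t, ht, rfl⟩

theorem gc_disjoint {Γ : Type*} [Group Γ] [Finite Γ] (G S : Subgroup Γ)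
    (hcop : (Nat.card G).Coprime (Nat.card S)) : G ⊓ S = ⊥ :=
  (Subgroup.disjoint_of_coprime_natCard hcop).eq_bot

theorem gc_index {Γ : Type*} [Group Γ] [Finite Γ] (G S : Subgroup Γ) [hG : G.Normal]
    (htop : G ⊔ S = ⊤) (hcop : (Nat.card G).Coprime (Nat.card S)) : G.index = Nat.card S := by
  have hc : Subgroup.IsComplement' G S := by
    apply Subgroup.isComplement'_of_disjoint_and_mul_eq_univ
    · exact disjoint_iff.mpr (gc_disjoint G S hcop)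
    · rw [← Subgroup.normal_mul, htop]; rfl
  exact hc.symm.index_eq_card

theorem gc_comm_quot {Γ : Type*} [Group Γ] (G S : Subgroup Γ) [hG : G.Normal]
    (htop : G ⊔ S = ⊤) (hS : ∀ a ∈ S, ∀ b ∈ S, a * b = b * a) (x y : Γ) :
    x * y * x⁻¹ * y⁻¹ ∈ G := by
  obtain ⟨g₁, hg₁, t₁, ht₁, rfl⟩ := gc_mem_mul G S htop x
  obtain ⟨g₂, hg₂, t₂, ht₂, rfl⟩ := gc_mem_mul G S htop y
  rw [← QuotientGroup.eq_one_iff]
  have e1 : ((g₁ : Γ) : Γ ⧸ G) = 1 := (QuotientGroup.eq_one_iff _).mpr hg₁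
  have e2 : ((g₂ : Γ) : Γ ⧸ G) = 1 := (QuotientGroup.eq_one_iff _).mpr hg₂
  simp only [QuotientGroup.mk_mul, QuotientGroup.mk_inv, e1, e2, one_mul]
  rw [← QuotientGroup.mk_mul, hS t₁ ht₁ t₂ ht₂, QuotientGroup.mk_mul]
  group


theorem gc_zpowers_comm {Γ : Type*} [Group Γ] (s : Γ) (a b : Γ) (ha : a ∈ Subgroup.zpowers s)
    (hb : b ∈ Subgroup.zpowers s) : a * b = b * a := by
  obtain ⟨i, rfl⟩ := Subgroup.mem_zpowers_iff.mp ha
  obtain ⟨j, rfl⟩ := Subgroup.mem_zpowers_iff.mp hb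
  rw [← zpow_add, ← zpow_add, add_comm]

/-- every element of the coset `G s` is `G`-conjugate to an element of `C s` -/
theorem gc_conj_into {Γ : Type*} [Group Γ] [Finite Γ] (G S : Subgroup Γ) [hG : G.Normal]
    (hcop : (Nat.card G).Coprime (Nat.card S)) (s : Γ) (hs : Subgroup.zpowers s = S) (x : Γ)
    (hx : x * s⁻¹ ∈ G) :
    ∃ g ∈ G, ∃ c ∈ G ⊓ Subgroup.centralizer (S : Set Γ), x = g * (c * s) * g⁻¹ := by
  have hsS : s ∈ S := hs ▸ Subgroup.mem_zpowers s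
  have hScomm : ∀ a ∈ S, ∀ b ∈ S, a * b = b * a := by
    intro a ha b hb
    rw [← hs] at ha hb
    exact gc_zpowers_comm s a b ha hb
  haveI : ((⊥ : Subgroup Γ).subgroupOf G).Normal := by
    rw [Subgroup.bot_subgroupOf]; infer_instance
  have hsolv : Group.IsSolvable S := by
    apply Group.isSolvable_of_comm
    intro a b
    exact Subtype.ext (hScomm a a.2 b b.2)
  have hnorm : ∀ t ∈ S, ∀ g ∈ G, t * g * t⁻¹ ∈ G := fun t _ g hg => hG.conj_mem g hg t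
  have hcop' : ((⊥ : Subgroup Γ).relIndex G).Coprime (Nat.card S) := by
    rw [Subgroup.relIndex_bot_left]; exact hcop
  have hI : ∀ t ∈ S, ∃ g ∈ G, g * t ∈ Subgroup.centralizer ({x} : Set Γ) := by
    intro t ht
    rw [← hs] at ht
    obtain ⟨k, rfl⟩ := Subgroup.mem_zpowers_iff.mp ht
    refine ⟨x ^ k * (s ^ k)⁻¹, ?_, ?_⟩
    · rw [← QuotientGroup.eq_one_iff]
      have e1 : ((x : Γ) : Γ ⧸ G) = ((s : Γ) : Γ ⧸ G) := by
        rw [QuotientGroup.eq]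
        have h1 := hG.conj_mem _ (G.inv_mem hx) x⁻¹
        have e2 : x⁻¹ * s = x⁻¹ * (x * s⁻¹)⁻¹ * x⁻¹⁻¹ := by group
        rw [e2]
        exact h1
      rw [QuotientGroup.mk_mul, QuotientGroup.mk_inv, QuotientGroup.mk_zpow, QuotientGroup.mk_zpow,
        e1, mul_inv_cancel]
    · rw [inv_mul_cancel_right, Subgroup.mem_centralizer_iff]
      intro h hh
      rw [Set.mem_singleton_iff] at hh
      rw [hh]
      exact ((Commute.refl x).zpow_right k).eq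
  obtain ⟨g, hg, hgS⟩ := rel_glauberman G S ⊥ (Subgroup.centralizer ({x} : Set Γ)) bot_le hnorm
    (fun t _ n hn => by rw [Subgroup.mem_bot] at hn ⊢; rw [hn]; group) hcop' (Or.inl hsolv) bot_le hI
  -- y := g⁻¹ x g is S-fixed
  have hy : ∀ t ∈ S, (g⁻¹ * x * g) * t = t * (g⁻¹ * x * g) := by
    intro t ht
    have h1 := Subgroup.mem_centralizer_iff.mp (hgS t ht) x (Set.mem_singleton x)
    calc (g⁻¹ * x * g) * t = g⁻¹ * (x * (g * t * g⁻¹)) * g := by group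
      _ = g⁻¹ * ((g * t * g⁻¹) * x) * g := by rw [h1]
      _ = t * (g⁻¹ * x * g) := by group
  refine ⟨g, hg, g⁻¹ * x * g * s⁻¹, Subgroup.mem_inf.mpr ⟨?_, ?_⟩, ?_⟩
  · have e : g⁻¹ * x * g * s⁻¹ = g⁻¹ * (x * s⁻¹) * (s * g * s⁻¹) := by group
    rw [e]
    exact G.mul_mem (G.mul_mem (G.inv_mem hg) hx) (hG.conj_mem g hg s)
  · rw [Subgroup.mem_centralizer_iff]
    intro t ht
    have h1 := hy t ht
    have h2 := hScomm t ht s hsS
    calc t * (g⁻¹ * x * g * s⁻¹) = (t * (g⁻¹ * x * g)) * s⁻¹ := by group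
      _ = ((g⁻¹ * x * g) * t) * s⁻¹ := by rw [h1]
      _ = (g⁻¹ * x * g) * (s⁻¹ * (s * t) * s⁻¹) := by group
      _ = (g⁻¹ * x * g) * (s⁻¹ * (t * s) * s⁻¹) := by rw [h2]
      _ = g⁻¹ * x * g * s⁻¹ * t := by group
  · group

/-- uniqueness part -/
theorem gc_conj_unique {Γ : Type*} [Group Γ] [Finite Γ] (G S : Subgroup Γ)
    (hcop : (Nat.card G).Coprime (Nat.card S)) (s : Γ) (hs : Subgroup.zpowers s = S)
    (g c c' : Γ) (hc : c ∈ G ⊓ Subgroup.centralizer (S : Set Γ))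
    (hc' : c' ∈ G ⊓ Subgroup.centralizer (S : Set Γ))
    (h : g * (c * s) * g⁻¹ = c' * s) :
    g ∈ Subgroup.centralizer (S : Set Γ) ∧ c' = g * c * g⁻¹ := by
  have hsS : s ∈ S := hs ▸ Subgroup.mem_zpowers s
  obtain ⟨e, he1, he0⟩ := Nat.chineseRemainder hcop.symm 1 0
  -- s ^ e = s
  have hse : s ^ e = s := by
    have h1 : orderOf s ∣ Nat.card S := by
      have := orderOf_dvd_natCard (⟨s, hsS⟩ : S)
      rwa [Subgroup.orderOf_mk] at this
    have h2 : e ≡ 1 [MOD orderOf s] := he1.of_dvd h1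
    have := pow_eq_pow_iff_modEq.mpr h2
    rw [this, pow_one]
  have hpow : ∀ d : Γ, d ∈ G → d ^ e = 1 := by
    intro d hd
    have h1 : orderOf d ∣ Nat.card G := by
      have := orderOf_dvd_natCard (⟨d, hd⟩ : G)
      rwa [Subgroup.orderOf_mk] at this
    have h2 : e ≡ 0 [MOD orderOf d] := he0.of_dvd h1
    have := pow_eq_pow_iff_modEq.mpr h2
    rw [this, pow_zero]
  have hcs : ∀ d : Γ, d ∈ G ⊓ Subgroup.centralizer (S : Set Γ) → (d * s) ^ e = s := by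
    intro d hd
    have hcomm : Commute d s := by
      have := Subgroup.mem_centralizer_iff.mp hd.2 s hsS
      exact this.symm
    rw [hcomm.mul_pow, hpow d hd.1, hse, one_mul]
  have hgs : g * s * g⁻¹ = s := by
    have h1 : (g * (c * s) * g⁻¹) ^ e = g * (c * s) ^ e * g⁻¹ := conj_pow
    rw [h, hcs c' hc', hcs c hc] at h1
    exact h1.symm
  have hgs' : g * s = s * g := by
    calc g * s = (g * s * g⁻¹) * g := by group
      _ = s * g := by rw [hgs]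
  constructor
  · rw [Subgroup.mem_centralizer_iff]
    intro t ht
    rw [← hs] at ht
    obtain ⟨k, rfl⟩ := Subgroup.mem_zpowers_iff.mp ht
    have : Commute g s := hgs'
    exact (this.zpow_right k).eq.symm
  · have h2 : g * (c * s) * g⁻¹ = (g * c * g⁻¹) * (g * s * g⁻¹) := by group
    rw [h2, hgs] at h
    exact (mul_right_cancel h).symm


/-- coset sum formula -/
theorem gc_sum_coset {Γ : Type*} [Group Γ] [Fintype Γ] (G S : Subgroup Γ) [hG : G.Normal]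
    [Fintype G] (hcop : (Nat.card G).Coprime (Nat.card S)) (s : Γ)
    (hs : Subgroup.zpowers s = S) [Fintype ↥(G ⊓ Subgroup.centralizer (S : Set Γ))]
    (f : Γ → ℂ) (hf : ∀ x, ∀ g ∈ G, f (g * x * g⁻¹) = f x) :
    (Nat.card ↥(G ⊓ Subgroup.centralizer (S : Set Γ)) : ℂ) * ∑ g : G, f (g * s) =
      (Nat.card G : ℂ) * ∑ c : ↥(G ⊓ Subgroup.centralizer (S : Set Γ)), f (c * s) := by
  classical
  have hsS : s ∈ S := hs ▸ Subgroup.mem_zpowers s
  have hΦmem : ∀ p : G × ↥(G ⊓ Subgroup.centralizer (S : Set Γ)),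
      (p.1 : Γ) * ((p.2 : Γ) * s) * (p.1 : Γ)⁻¹ * s⁻¹ ∈ G := by
    intro p
    have e : (p.1 : Γ) * ((p.2 : Γ) * s) * (p.1 : Γ)⁻¹ * s⁻¹ =
        (p.1 : Γ) * (p.2 : Γ) * (s * (p.1 : Γ)⁻¹ * s⁻¹) := by group
    rw [e]
    exact G.mul_mem (G.mul_mem p.1.2 p.2.2.1) (hG.conj_mem _ (G.inv_mem p.1.2) s)
  obtain ⟨Φ, hΦ⟩ : ∃ Φ : G × ↥(G ⊓ Subgroup.centralizer (S : Set Γ)) → G,
      ∀ p, ((Φ p : G) : Γ) = (p.1 : Γ) * ((p.2 : Γ) * s) * (p.1 : Γ)⁻¹ * s⁻¹ :=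
    ⟨fun p => ⟨_, hΦmem p⟩, fun p => rfl⟩
  have hΦs : ∀ p, ((Φ p : G) : Γ) * s = (p.1 : Γ) * ((p.2 : Γ) * s) * (p.1 : Γ)⁻¹ := by
    intro p
    rw [hΦ]
    group
  -- first evaluation
  have h1 : ∑ p : G × ↥(G ⊓ Subgroup.centralizer (S : Set Γ)), f (((Φ p : G) : Γ) * s) =
      (Nat.card G : ℂ) * ∑ c : ↥(G ⊓ Subgroup.centralizer (S : Set Γ)), f (c * s) := by
    rw [Fintype.sum_prod_type]
    have : ∀ g : G, ∑ c : ↥(G ⊓ Subgroup.centralizer (S : Set Γ)), f (((Φ (g, c) : G) : Γ) * s) =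
        ∑ c : ↥(G ⊓ Subgroup.centralizer (S : Set Γ)), f (c * s) := by
      intro g
      apply Finset.sum_congr rfl
      intro c _
      rw [hΦs]
      exact hf _ g g.2
    rw [Finset.sum_congr rfl (fun g _ => this g), Finset.sum_const, Finset.card_univ,
      nsmul_eq_mul, Nat.card_eq_fintype_card]
  -- fibers
  have hfib : ∀ h : G, (Finset.univ.filter (fun p => Φ p = h)).card =
      Fintype.card ↥(G ⊓ Subgroup.centralizer (S : Set Γ)) := by
    intro h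
    obtain ⟨g₀, hg₀, c₀, hc₀, hx⟩ := gc_conj_into G S hcop s hs ((h : Γ) * s)
      (by rw [mul_inv_cancel_right]; exact h.2)
    rw [← Finset.card_univ]
    symm
    refine Finset.card_bij
      (fun k _ => ((⟨g₀ * k, G.mul_mem hg₀ k.2.1⟩ : G),
        (⟨(k : Γ)⁻¹ * c₀ * k, Subgroup.mul_mem _ (Subgroup.mul_mem _ (Subgroup.inv_mem _ k.2) hc₀)
          k.2⟩ : ↥(G ⊓ Subgroup.centralizer (S : Set Γ))))) ?_ ?_ ?_
    · intro k _
      rw [Finset.mem_filter]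
      refine ⟨Finset.mem_univ _, ?_⟩
      apply Subtype.ext
      apply mul_right_cancel (b := s)
      rw [hΦs, hx]
      simp only
      have hks : (k : Γ) * s = s * k := by
        have := Subgroup.mem_centralizer_iff.mp k.2.2 s hsS
        exact this.symm
      calc g₀ * (k : Γ) * ((k : Γ)⁻¹ * c₀ * k * s) * (g₀ * (k : Γ))⁻¹
          = g₀ * (c₀ * ((k : Γ) * s) * (k : Γ)⁻¹) * g₀⁻¹ := by group
        _ = g₀ * (c₀ * (s * (k : Γ)) * (k : Γ)⁻¹) * g₀⁻¹ := by rw [hks]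
        _ = g₀ * (c₀ * s) * g₀⁻¹ := by group
    · intro k _ k' _ hkk
      have := congrArg (fun p : G × ↥(G ⊓ Subgroup.centralizer (S : Set Γ)) => ((p.1 : G) : Γ)) hkk
      simp only at this
      exact Subtype.ext (mul_left_cancel this)
    · intro p hp
      rw [Finset.mem_filter] at hp
      have hp2 : ((Φ p : G) : Γ) * s = (h : Γ) * s := by rw [hp.2]
      rw [hΦs, hx] at hp2
      -- (g₀⁻¹ g) (c s) (g₀⁻¹ g)⁻¹ = c₀ s
      have h3 : (g₀⁻¹ * (p.1 : Γ)) * ((p.2 : Γ) * s) * (g₀⁻¹ * (p.1 : Γ))⁻¹ = c₀ * s := by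
        calc (g₀⁻¹ * (p.1 : Γ)) * ((p.2 : Γ) * s) * (g₀⁻¹ * (p.1 : Γ))⁻¹
            = g₀⁻¹ * ((p.1 : Γ) * ((p.2 : Γ) * s) * (p.1 : Γ)⁻¹) * g₀ := by group
          _ = g₀⁻¹ * (g₀ * (c₀ * s) * g₀⁻¹) * g₀ := by rw [hp2]
          _ = c₀ * s := by group
      obtain ⟨hk1, hk2⟩ := gc_conj_unique G S hcop s hs _ _ _ p.2.2 hc₀ h3
      have hkG : g₀⁻¹ * (p.1 : Γ) ∈ G := G.mul_mem (G.inv_mem hg₀) p.1.2
      refine ⟨⟨g₀⁻¹ * (p.1 : Γ), Subgroup.mem_inf.mpr ⟨hkG, hk1⟩⟩, Finset.mem_univ _, ?_⟩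
      apply Prod.ext
      · apply Subtype.ext
        simp only
        group
      · apply Subtype.ext
        simp only
        rw [hk2]
        group
  -- second evaluation
  have h2 : ∑ p : G × ↥(G ⊓ Subgroup.centralizer (S : Set Γ)), f (((Φ p : G) : Γ) * s) =
      (Nat.card ↥(G ⊓ Subgroup.centralizer (S : Set Γ)) : ℂ) * ∑ g : G, f (g * s) := by
    rw [← Finset.sum_fiberwise Finset.univ Φ]
    have : ∀ h : G, ∑ p ∈ Finset.univ.filter (fun p => Φ p = h), f (((Φ p : G) : Γ) * s) =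
        (Fintype.card ↥(G ⊓ Subgroup.centralizer (S : Set Γ)) : ℂ) * f (h * s) := by
      intro h
      have e : ∀ p ∈ Finset.univ.filter (fun p => Φ p = h), f (((Φ p : G) : Γ) * s) = f (h * s) := by
        intro p hp
        rw [(Finset.mem_filter.mp hp).2]
      rw [Finset.sum_congr rfl e, Finset.sum_const, hfib h, nsmul_eq_mul]
    rw [Finset.sum_congr rfl (fun h _ => this h), ← Finset.mul_sum, Nat.card_eq_fintype_card]
  rw [← h2, h1]

end Cfsg.Agent.Lib.helper2
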