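import Mathlib
import Cfsg.Prelude.Def_Characters
import Cfsg.Agent.Lib.Helper11.AbelianQuot
import Cfsg.Agent.Lib.helper7.CliffordSub
import Cfsg.Agent.Lib.helper2.CharInd

set_option autoImplicit false
open Cfsg
open scoped ComplexConjugate

namespace Cfsg.Agent.Lib.helper2

open Cfsg.Agent.Lib.helper7 Cfsg.Agent.Lib.Helper11 Cfsg.Agent.Lib.Helper25

/-- two characters with a common irreducible constituent have nonzero inner product -/
theorem ia_inner_ne_zero {A : Type*} [Group A] [Fintype A] {α β θ : A → ℂ}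
    (hα : Cfsg.IsCharacter A α) (hβ : Cfsg.IsCharacter A β) (hθ : Cfsg.IsIrrCharacter A θ)
    (h1 : Cfsg.classInner α θ ≠ 0) (h2 : Cfsg.classInner β θ ≠ 0) :
    Cfsg.classInner α β ≠ 0 := by
  obtain ⟨Δ₁, hΔ₁, rfl⟩ := h7_char_split hα θ hθ h1
  obtain ⟨Δ₂, hΔ₂, rfl⟩ := h7_char_split hβ θ hθ h2
  have hθc := h7_irr_isCharacter hθ
  obtain ⟨m₁, hm₁⟩ := classInner_character_nat hθc hΔ₂
  obtain ⟨m₂, hm₂⟩ := classInner_character_nat hΔ₁ hθc
  obtain ⟨m₃, hm₃⟩ := classInner_character_nat hΔ₁ hΔ₂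
  rw [classInner_add_left, classInner_add_right', classInner_add_right', h7_irr_norm hθ,
    hm₁, hm₂, hm₃]
  have : ((1 + m₁ + (m₂ + m₃) : ℕ) : ℂ) ≠ 0 := by
    rw [Nat.cast_ne_zero]; omega
  intro h
  apply this
  push_cast
  rw [← h]

/-- abelian quotient: two irreducible characters over the same irreducible character of the normal
subgroup differ by a linear character of the quotient -/
theorem ia_twist {K : Type*} [Group K] [Fintype K] (N : Subgroup K) [hN : N.Normal] [Fintype N]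
    (hab : ∀ x y : K, x * y * x⁻¹ * y⁻¹ ∈ N) (θ : N → ℂ) (hθ : Cfsg.IsIrrCharacter N θ)
    (χ χ' : K → ℂ) (hχ : Cfsg.IsIrrCharacter K χ) (hχ' : Cfsg.IsIrrCharacter K χ')
    (h1 : Cfsg.classInner (fun n : N => χ n) θ ≠ 0)
    (h2 : Cfsg.classInner (fun n : N => χ' n) θ ≠ 0) :
    ∃ φ : K →* ℂˣ, φ ∈ annih N ∧ ∀ g : K, χ' g = ((φ g : ℂˣ) : ℂ) * χ g := by
  classical
  haveI : Fintype ↥(annih N) := Fintype.ofFinite _
  have hχc := h7_irr_isCharacter hχ
  have hχ'c := h7_irr_isCharacter hχ'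
  have hχcl := isCharacter_isClassFunction hχc
  have hχ'cl := isCharacter_isClassFunction hχ'c
  have hr1 : Cfsg.IsCharacter N (fun n : N => χ n) := isCharacter_comp_hom hχc N.subtype
  have hr2 : Cfsg.IsCharacter N (fun n : N => χ' n) := isCharacter_comp_hom hχ'c N.subtype
  have hne : Cfsg.classInner (fun n : N => χ n) (fun n : N => χ' n) ≠ 0 :=
    ia_inner_ne_zero hr1 hr2 hθ h1 h2
  have hfrob : Cfsg.classInner (Cfsg.indFun N (fun n : N => χ n)) χ' =
      Cfsg.classInner (fun n : N => χ n) (fun n : N => χ' n) :=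
    h7_frobenius_reciprocity N _ _ hχ'cl
  have hkey : Cfsg.indFun N (fun n : N => χ n) =
      ((N.index : ℂ) / (Fintype.card ↥(annih N) : ℂ)) •
        ∑ φ : ↥(annih N), (fun u : K => (((φ : K →* ℂˣ) u : ℂˣ) : ℂ) * χ u) := by
    have e1 : Cfsg.indFun N ((fun _ : N => (1 : ℂ)) * fun n : N => χ n) =
        Cfsg.indFun N (fun _ : N => (1 : ℂ)) * χ :=
      h7_indFun_mul_restrict N _ _ hχcl
    have e2 : ((fun _ : N => (1 : ℂ)) * fun n : N => χ n) = fun n : N => χ n := by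
      funext n
      simp
    rw [e2] at e1
    rw [e1, indFun_one_eq_sum_annih N hab]
    funext u
    simp only [Pi.mul_apply, Pi.smul_apply, Finset.sum_apply, smul_eq_mul, Finset.sum_mul,
      mul_assoc]
  rw [hkey, classInner_smul_left', classInner_sum_left'] at hfrob
  have hex : ∃ φ : ↥(annih N), Cfsg.classInner
      (fun u : K => (((φ : K →* ℂˣ) u : ℂˣ) : ℂ) * χ u) χ' ≠ 0 := by
    by_contra hcon
    push Not at hcon
    apply hne
    rw [← hfrob, Finset.sum_eq_zero (fun φ _ => hcon φ), mul_zero]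
  obtain ⟨φ, hφ⟩ := hex
  have hirr := isIrr_linChar_mul (φ : K →* ℂˣ) χ hχ
  refine ⟨φ, φ.2, ?_⟩
  have heq : (fun u : K => (((φ : K →* ℂˣ) u : ℂˣ) : ℂ) * χ u) = χ' := by
    by_contra hne'
    exact hφ (h7_irr_inner_ne hirr hχ' hne')
  intro g
  exact (congrFun heq g).symm

end Cfsg.Agent.Lib.helper2
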