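import Mathlib
import Cfsg.Prelude.Def_Characters
import Cfsg.Agent.Lib.helper2.InvAbove1

set_option autoImplicit false
open Cfsg
open scoped ComplexConjugate

namespace Cfsg.Agent.Lib.helper2

open Cfsg.Agent.Lib.helper7 Cfsg.Agent.Lib.Helper11 Cfsg.Agent.Lib.Helper25

/-- the number of linear characters of an abelian quotient is the index -/
theorem gc_card_annih {Γ : Type*} [Group Γ] [Fintype Γ] (N : Subgroup Γ) [hN : N.Normal]
    (hab : ∀ x y : Γ, x * y * x⁻¹ * y⁻¹ ∈ N) [Fintype ↥(annih N)] :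
    (Fintype.card ↥(annih N) : ℂ) = (N.index : ℂ) := by
  classical
  haveI : Fintype N := Fintype.ofFinite _
  have hcard : (Fintype.card ↥(annih N) : ℂ) ≠ 0 := by
    have : 0 < Fintype.card ↥(annih N) := Fintype.card_pos
    exact_mod_cast this.ne'
  have h1 := h7_frobenius_reciprocity N (fun _ : N => (1 : ℂ)) (fun _ : Γ => (1 : ℂ))
    (fun g h => rfl)
  have h2 : Cfsg.classInner (fun _ : N => (1 : ℂ)) (fun h : N => (fun _ : Γ => (1 : ℂ)) h) = 1 := by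
    unfold Cfsg.classInner
    simp only [map_one, mul_one, Finset.sum_const, Finset.card_univ, nsmul_eq_mul]
    rw [Nat.card_eq_fintype_card]
    have : (Fintype.card N : ℂ) ≠ 0 := by exact_mod_cast Fintype.card_ne_zero
    field_simp
  rw [h2, indFun_one_eq_sum_annih N hab, classInner_smul_left', classInner_sum_left'] at h1
  have h3 : ∀ φ : ↥(annih N), Cfsg.classInner (fun u : Γ => (((φ : Γ →* ℂˣ) u : ℂˣ) : ℂ))
      (fun _ : Γ => (1 : ℂ)) = if φ = 1 then 1 else 0 := by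
    intro φ
    have e1 : (fun u : Γ => (((φ : Γ →* ℂˣ) u : ℂˣ) : ℂ)) = linFun (φ : Γ →* ℂˣ) := rfl
    have e2 : (fun _ : Γ => (1 : ℂ)) = linFun (1 : Γ →* ℂˣ) := by
      funext u
      simp [linFun]
    rw [e1, e2, classInner_linFun]
    by_cases h : φ = 1
    · rw [if_pos h, if_pos (by rw [h]; rfl)]
    · rw [if_neg h, if_neg]
      intro h'
      exact h (Subtype.ext h')
  rw [Finset.sum_congr rfl (fun φ _ => h3 φ), Finset.sum_ite_eq' Finset.univ (1 : ↥(annih N))] at h1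
  simp only [Finset.mem_univ, if_true, mul_one] at h1
  rw [div_eq_one_iff_eq hcard] at h1
  exact h1.symm

/-- twists sum to the inner product of restrictions -/
theorem gc_sum_twist {Γ : Type*} [Group Γ] [Fintype Γ] (N : Subgroup Γ) [hN : N.Normal]
    [Fintype N] (hab : ∀ x y : Γ, x * y * x⁻¹ * y⁻¹ ∈ N) [Fintype ↥(annih N)] (ψ φ : Γ → ℂ)
    (hψ : Cfsg.IsClassFunction Γ ψ) (hφ : Cfsg.IsClassFunction Γ φ) :
    ∑ l : ↥(annih N), Cfsg.classInner (fun x : Γ => (((l : Γ →* ℂˣ) x : ℂˣ) : ℂ) * ψ x) φ =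
      Cfsg.classInner (fun n : N => ψ n) (fun n : N => φ n) := by
  have hfrob := h7_frobenius_reciprocity N (fun n : N => ψ n) φ hφ
  have hidx : (N.index : ℂ) ≠ 0 := by exact_mod_cast Subgroup.index_ne_zero_of_finite
  have hkey : Cfsg.indFun N (fun n : N => ψ n) =
      ∑ l : ↥(annih N), (fun u : Γ => (((l : Γ →* ℂˣ) u : ℂˣ) : ℂ) * ψ u) := by
    have e1 : Cfsg.indFun N ((fun _ : N => (1 : ℂ)) * fun n : N => ψ n) =
        Cfsg.indFun N (fun _ : N => (1 : ℂ)) * ψ :=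
      h7_indFun_mul_restrict N _ _ hψ
    have e2 : ((fun _ : N => (1 : ℂ)) * fun n : N => ψ n) = fun n : N => ψ n := by
      funext n
      simp
    rw [e2] at e1
    rw [e1, indFun_one_eq_sum_annih N hab, gc_card_annih N hab, div_self hidx, one_smul]
    funext u
    simp only [Pi.mul_apply, Finset.sum_apply, Finset.sum_mul]
  rw [hkey, classInner_sum_left'] at hfrob
  exact hfrob

/-- coset orthogonality -/
theorem gc_coset_orth {Γ : Type*} [Group Γ] [Fintype Γ] (N : Subgroup Γ) [hN : N.Normal]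
    [Fintype N] (hab : ∀ x y : Γ, x * y * x⁻¹ * y⁻¹ ∈ N) [Fintype ↥(annih N)] (s : Γ)
    (ψ φ : Γ → ℂ) :
    ∑ l : ↥(annih N), conj ((((l : Γ →* ℂˣ) s : ℂˣ) : ℂ)) *
        Cfsg.classInner (fun x : Γ => (((l : Γ →* ℂˣ) x : ℂˣ) : ℂ) * ψ x) φ =
      (Nat.card N : ℂ)⁻¹ * ∑ g : N, ψ (g * s) * conj (φ (g * s)) := by
  classical
  have hΓ : (Nat.card Γ : ℂ) ≠ 0 := by exact_mod_cast Nat.card_pos.ne'
  have hNc : (Nat.card N : ℂ) ≠ 0 := by exact_mod_cast Nat.card_pos.ne'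
  have hidx : (N.index : ℂ) ≠ 0 := by exact_mod_cast Subgroup.index_ne_zero_of_finite
  unfold Cfsg.classInner
  -- swap sums
  have h1 : ∑ l : ↥(annih N), conj ((((l : Γ →* ℂˣ) s : ℂˣ) : ℂ)) *
      ((Nat.card Γ : ℂ)⁻¹ * ∑ x : Γ, (((l : Γ →* ℂˣ) x : ℂˣ) : ℂ) * ψ x * conj (φ x)) =
      (Nat.card Γ : ℂ)⁻¹ * ∑ x : Γ, (ψ x * conj (φ x)) *
        ∑ l : ↥(annih N), (((l : Γ →* ℂˣ) (x * s⁻¹) : ℂˣ) : ℂ) := by
    simp only [Finset.mul_sum]
    rw [Finset.sum_comm]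
    apply Finset.sum_congr rfl
    intro x _
    apply Finset.sum_congr rfl
    intro l _
    rw [map_mul, Units.val_mul, linChar_conj' (l : Γ →* ℂˣ) s]
    ring
  rw [h1]
  have h2 : ∀ x : Γ, ∑ l : ↥(annih N), (((l : Γ →* ℂˣ) (x * s⁻¹) : ℂˣ) : ℂ) =
      if x * s⁻¹ ∈ N then (N.index : ℂ) else 0 := by
    intro x
    rw [sum_annih_of_normal N hab, gc_card_annih N hab]
  simp only [h2, mul_ite, mul_zero]
  -- reindex
  have h3 : ∑ x : Γ, (if x * s⁻¹ ∈ N then ψ x * conj (φ x) * (N.index : ℂ) else 0) =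
      (N.index : ℂ) * ∑ g : N, ψ (g * s) * conj (φ (g * s)) := by
    rw [← Equiv.sum_comp (Equiv.mulRight s)]
    simp only [Equiv.coe_mulRight, mul_inv_cancel_right]
    rw [← Finset.sum_filter, Finset.mul_sum]
    rw [Finset.sum_subtype (Finset.univ.filter (fun x : Γ => x ∈ N)) (p := fun x => x ∈ N)
      (fun x => by simp)]
    apply Finset.sum_congr rfl
    intro g _
    ring
  rw [h3]
  have h4 : (Nat.card Γ : ℂ) = (N.index : ℂ) * (Nat.card N : ℂ) := by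
    rw [← Nat.cast_mul, Subgroup.index_mul_card]
  rw [h4]
  field_simp


/-- inner products of a twist with an irreducible character -/
theorem gc_twist_inner {Γ : Type*} [Group Γ] [Fintype Γ] (l : Γ →* ℂˣ) (ψ φ : Γ → ℂ)
    (hψ : Cfsg.IsIrrCharacter Γ ψ) (hφ : Cfsg.IsIrrCharacter Γ φ)
    [Decidable ((fun x : Γ => ((l x : ℂˣ) : ℂ) * ψ x) = φ)] :
    Cfsg.classInner (fun x : Γ => ((l x : ℂˣ) : ℂ) * ψ x) φ =
      if (fun x : Γ => ((l x : ℂˣ) : ℂ) * ψ x) = φ then 1 else 0 := by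
  have hirr := isIrr_linChar_mul l ψ hψ
  split_ifs with h
  · rw [h]; exact h7_irr_norm hφ
  · exact h7_irr_inner_ne hirr hφ h

/-- distinct restrictions: orthogonality on the coset -/
theorem gc_coset_orth_ne {Γ : Type*} [Group Γ] [Fintype Γ] (N : Subgroup Γ) [hN : N.Normal]
    [Fintype N] (hab : ∀ x y : Γ, x * y * x⁻¹ * y⁻¹ ∈ N) (s : Γ)
    (ψ φ : Γ → ℂ) (hψ : Cfsg.IsIrrCharacter Γ ψ) (hφ : Cfsg.IsIrrCharacter Γ φ)
    (hne : (fun n : N => ψ n) ≠ (fun n : N => φ n)) :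
    ∑ g : N, ψ (g * s) * conj (φ (g * s)) = 0 := by
  classical
  haveI : Fintype ↥(annih N) := Fintype.ofFinite _
  have hNc : (Nat.card N : ℂ) ≠ 0 := by exact_mod_cast Nat.card_pos.ne'
  have h1 := gc_coset_orth N hab s ψ φ
  have h2 : ∀ l : ↥(annih N),
      Cfsg.classInner (fun x : Γ => (((l : Γ →* ℂˣ) x : ℂˣ) : ℂ) * ψ x) φ = 0 := by
    intro l
    rw [gc_twist_inner (l : Γ →* ℂˣ) ψ φ hψ hφ, if_neg]
    intro h
    apply hne
    funext n
    have := congrFun h (n : Γ)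
    rw [l.2 (n : Γ) n.2, Units.val_one, one_mul] at this
    exact this
  simp only [h2, mul_zero, Finset.sum_const_zero] at h1
  rcases mul_eq_zero.mp h1.symm with h | h
  · exact absurd (inv_eq_zero.mp h) hNc
  · exact h

/-- irreducible restriction: norm one on the coset -/
theorem gc_coset_orth_self {Γ : Type*} [Group Γ] [Fintype Γ] (N : Subgroup Γ) [hN : N.Normal]
    [Fintype N] (hab : ∀ x y : Γ, x * y * x⁻¹ * y⁻¹ ∈ N) (s : Γ)
    (ψ : Γ → ℂ) (hψ : Cfsg.IsIrrCharacter Γ ψ)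
    (hres : Cfsg.IsIrrCharacter N (fun n : N => ψ n)) :
    ∑ g : N, ψ (g * s) * conj (ψ (g * s)) = (Nat.card N : ℂ) := by
  classical
  haveI : Fintype ↥(annih N) := Fintype.ofFinite _
  have hNc : (Nat.card N : ℂ) ≠ 0 := by exact_mod_cast Nat.card_pos.ne'
  have hcl := isCharacter_isClassFunction (h7_irr_isCharacter hψ)
  have h1 := gc_coset_orth N hab s ψ ψ
  have h2 := gc_sum_twist N hab ψ ψ hcl hcl
  rw [h7_irr_norm hres] at h2
  simp only [gc_twist_inner _ ψ ψ hψ hψ] at h1 h2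
  -- as naturals
  have h3 : ∑ l : ↥(annih N),
      (if (fun x : Γ => (((l : Γ →* ℂˣ) x : ℂˣ) : ℂ) * ψ x) = ψ then 1 else 0 : ℕ) = 1 := by
    have : ((∑ l : ↥(annih N),
      (if (fun x : Γ => (((l : Γ →* ℂˣ) x : ℂˣ) : ℂ) * ψ x) = ψ then 1 else 0 : ℕ) : ℕ) : ℂ) = 1 := by
      rw [← h2]
      push_cast
      rfl
    exact_mod_cast this
  have h4 : (fun x : Γ => ((((1 : ↥(annih N)) : Γ →* ℂˣ) x : ℂˣ) : ℂ) * ψ x) = ψ := by
    funext x
    simp
  have h5 : ∀ l : ↥(annih N), l ≠ 1 →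
      ¬ ((fun x : Γ => (((l : Γ →* ℂˣ) x : ℂˣ) : ℂ) * ψ x) = ψ) := by
    intro l hl hcon
    rw [← Finset.add_sum_erase Finset.univ _ (Finset.mem_univ (1 : ↥(annih N))), if_pos h4] at h3
    have h6 : ∑ x ∈ Finset.univ.erase (1 : ↥(annih N)),
        (if (fun y : Γ => (((x : Γ →* ℂˣ) y : ℂˣ) : ℂ) * ψ y) = ψ then 1 else 0 : ℕ) = 0 := by
      omega
    have h7 := (Finset.sum_eq_zero_iff.mp h6) l (Finset.mem_erase.mpr ⟨hl, Finset.mem_univ _⟩)
    rw [if_pos hcon] at h7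
    exact one_ne_zero h7
  rw [Finset.sum_eq_single (1 : ↥(annih N))] at h1
  · rw [if_pos h4] at h1
    simp only [OneMemClass.coe_one, MonoidHom.one_apply, Units.val_one, map_one, mul_one] at h1
    field_simp at h1
    exact h1.symm
  · intro l _ hl
    rw [if_neg (h5 l hl), mul_zero]
  · intro h
    exact absurd (Finset.mem_univ _) h

/-- reducible restriction: vanishing on the generating coset -/
theorem gc_coset_vanish {Γ : Type*} [Group Γ] [Fintype Γ] (N : Subgroup Γ) [hN : N.Normal]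
    [Fintype N] (hab : ∀ x y : Γ, x * y * x⁻¹ * y⁻¹ ∈ N) (s : Γ)
    (hgen : ∀ l : Γ →* ℂˣ, l ∈ annih N → l s = 1 → l = 1)
    (φ : Γ → ℂ) (hφ : Cfsg.IsIrrCharacter Γ φ)
    (hres : ¬ Cfsg.IsIrrCharacter N (fun n : N => φ n)) (g : N) : φ (g * s) = 0 := by
  classical
  haveI : Fintype ↥(annih N) := Fintype.ofFinite _
  have hNc : (Nat.card N : ℂ) ≠ 0 := by exact_mod_cast Nat.card_pos.ne'
  have hφc := h7_irr_isCharacter hφ
  have hcl := isCharacter_isClassFunction hφc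
  have h1 := gc_coset_orth N hab s φ φ
  have h2 := gc_sum_twist N hab φ φ hcl hcl
  simp only [gc_twist_inner _ φ φ hφ hφ] at h1 h2
  have h4 : (fun x : Γ => ((((1 : ↥(annih N)) : Γ →* ℂˣ) x : ℂˣ) : ℂ) * φ x) = φ := by
    funext x
    simp
  -- existence of a nontrivial stabilizing twist
  have hex : ∃ l₀ : ↥(annih N), l₀ ≠ 1 ∧
      (fun x : Γ => (((l₀ : Γ →* ℂˣ) x : ℂˣ) : ℂ) * φ x) = φ := by
    by_contra hcon
    push Not at hcon
    apply hres
    apply h7_irr_of_norm_one (isCharacter_comp_hom hφc N.subtype)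
    have e : (fun k : N => φ (N.subtype k)) = fun n : N => φ n := rfl
    rw [e, ← h2, Finset.sum_eq_single (1 : ↥(annih N))]
    · rw [if_pos h4]
    · intro l _ hl
      rw [if_neg (hcon l hl)]
    · intro h
      exact absurd (Finset.mem_univ _) h
  obtain ⟨l₀, hl₀, hl₀φ⟩ := hex
  have hl₀s : (((l₀ : Γ →* ℂˣ) s : ℂˣ) : ℂ) ≠ 1 := by
    intro h
    apply hl₀
    apply Subtype.ext
    apply hgen _ l₀.2
    exact Units.ext h
  -- the sum T vanishes
  have hT : ∑ l : ↥(annih N), conj ((((l : Γ →* ℂˣ) s : ℂˣ) : ℂ)) *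
      (if (fun x : Γ => (((l : Γ →* ℂˣ) x : ℂˣ) : ℂ) * φ x) = φ then (1 : ℂ) else 0) = 0 := by
    have hre := Equiv.sum_comp (Equiv.mulLeft l₀) (fun l : ↥(annih N) =>
      conj ((((l : Γ →* ℂˣ) s : ℂˣ) : ℂ)) *
      (if (fun x : Γ => (((l : Γ →* ℂˣ) x : ℂˣ) : ℂ) * φ x) = φ then (1 : ℂ) else 0))
    have hterm : ∀ l : ↥(annih N),
        conj (((((Equiv.mulLeft l₀ l : ↥(annih N)) : Γ →* ℂˣ) s : ℂˣ) : ℂ)) *
        (if (fun x : Γ => ((((Equiv.mulLeft l₀ l : ↥(annih N)) : Γ →* ℂˣ) x : ℂˣ) : ℂ) * φ x) = φ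
          then (1 : ℂ) else 0) =
        conj ((((l₀ : Γ →* ℂˣ) s : ℂˣ) : ℂ)) * (conj ((((l : Γ →* ℂˣ) s : ℂˣ) : ℂ)) *
        (if (fun x : Γ => (((l : Γ →* ℂˣ) x : ℂˣ) : ℂ) * φ x) = φ then (1 : ℂ) else 0)) := by
      intro l
      have e1 : (fun x : Γ => ((((Equiv.mulLeft l₀ l : ↥(annih N)) : Γ →* ℂˣ) x : ℂˣ) : ℂ) * φ x) =
          fun x : Γ => (((l : Γ →* ℂˣ) x : ℂˣ) : ℂ) * φ x := by
        funext x
        have := congrFun hl₀φ x
        simp only [Equiv.coe_mulLeft, Subgroup.coe_mul, MonoidHom.mul_apply, Units.val_mul]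
        rw [mul_comm ((((l₀ : Γ →* ℂˣ) x : ℂˣ) : ℂ)), mul_assoc, this]
      rw [e1]
      simp only [Equiv.coe_mulLeft, Subgroup.coe_mul, MonoidHom.mul_apply, Units.val_mul, map_mul]
      ring
    rw [Finset.sum_congr rfl (fun l _ => hterm l), ← Finset.mul_sum] at hre
    have hne : conj ((((l₀ : Γ →* ℂˣ) s : ℂˣ) : ℂ)) ≠ 1 := by
      intro h
      apply hl₀s
      have := congrArg conj h
      simpa using this
    have : (conj ((((l₀ : Γ →* ℂˣ) s : ℂˣ) : ℂ)) - 1) * ∑ l : ↥(annih N),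
        conj ((((l : Γ →* ℂˣ) s : ℂˣ) : ℂ)) *
        (if (fun x : Γ => (((l : Γ →* ℂˣ) x : ℂˣ) : ℂ) * φ x) = φ then (1 : ℂ) else 0) = 0 := by
      rw [sub_mul, one_mul, hre, sub_self]
    rcases mul_eq_zero.mp this with h | h
    · exact absurd (sub_eq_zero.mp h) hne
    · exact h
  rw [hT] at h1
  have h5 : ∑ g : N, φ (g * s) * conj (φ (g * s)) = 0 := by
    rcases mul_eq_zero.mp h1.symm with h | h
    · exact absurd (inv_eq_zero.mp h) hNc
    · exact h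
  have h6 : ∀ g : N, φ (g * s) * conj (φ (g * s)) = ((Complex.normSq (φ (g * s)) : ℝ) : ℂ) :=
    fun g => Complex.mul_conj _
  simp only [h6] at h5
  rw [← Complex.ofReal_sum, Complex.ofReal_eq_zero] at h5
  have h7 := (Finset.sum_eq_zero_iff_of_nonneg (fun g _ => Complex.normSq_nonneg _)).mp h5 g
    (Finset.mem_univ g)
  exact Complex.normSq_eq_zero.mp h7

end Cfsg.Agent.Lib.helper2
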