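import Mathlib
import Cfsg.Prelude.Def_Characters
import Cfsg.Agent.Lib.helper2.GlaubCyc2

set_option autoImplicit false
open Cfsg
open scoped ComplexConjugate

namespace Cfsg.Agent.Lib.helper2

open Cfsg.Agent.Lib.helper7 Cfsg.Agent.Lib.Helper11 Cfsg.Agent.Lib.Helper25

/-- multiplicity functions on `S` of a character of `Γ` restricted to `C × S` -/
theorem gc_mult_expansion {Γ : Type*} [Group Γ] (C S : Subgroup Γ) [Fintype C] [Fintype S]
    (hcomm : ∀ c ∈ C, ∀ t ∈ S, c * t = t * c) (hSab : ∀ a b : S, a * b = b * a)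
    [Fintype ↥(annih (⊥ : Subgroup S))]
    (ψ : Γ → ℂ) (hψ : Cfsg.IsCharacter Γ ψ) (β : C → ℂ) (hβ : Cfsg.IsCharacter C β) :
    ∃ a : ↥(annih (⊥ : Subgroup S)) → ℕ, ∀ t : S,
      (Nat.card C : ℂ)⁻¹ * ∑ c : C, ψ (c * t) * conj (β c) =
        ∑ l : ↥(annih (⊥ : Subgroup S)), (a l : ℂ) * (((l : S →* ℂˣ) t : ℂˣ) : ℂ) := by
  classical
  let j : C × S →* Γ := MonoidHom.noncommCoprod C.subtype S.subtype
    (fun c t => hcomm c c.2 t t.2)
  have hj : ∀ p : C × S, j p = (p.1 : Γ) * (p.2 : Γ) := fun p => rfl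
  have hψj : Cfsg.IsCharacter (C × S) (fun p => ψ (j p)) := isCharacter_comp_hom hψ j
  have hβl : ∀ l : S →* ℂˣ,
      Cfsg.IsCharacter (C × S) (fun p : C × S => β p.1 * ((l p.2 : ℂˣ) : ℂ)) := by
    intro l
    have h1 : Cfsg.IsCharacter (C × S) (fun p => β ((MonoidHom.fst C S) p)) :=
      isCharacter_comp_hom hβ (MonoidHom.fst C S)
    have h2 : Cfsg.IsCharacter (C × S) (linIrr (l.comp (MonoidHom.snd C S)) : C × S → ℂ) :=
      Cfsg.Agent.Lib.helper2.isCharacter_of_irr _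
    exact h7_isCharacter_mul h1 h2
  choose a ha using fun l : ↥(annih (⊥ : Subgroup S)) =>
    classInner_character_nat hψj (hβl (l : S →* ℂˣ))
  refine ⟨a, fun t => ?_⟩
  have hCc : (Nat.card C : ℂ) ≠ 0 := by exact_mod_cast Nat.card_pos.ne'
  have hSc : (Nat.card S : ℂ) ≠ 0 := by exact_mod_cast Nat.card_pos.ne'
  have hab : ∀ x y : S, x * y * x⁻¹ * y⁻¹ ∈ (⊥ : Subgroup S) := by
    intro x y
    rw [Subgroup.mem_bot, hSab x y]
    group
  have hcard : (Fintype.card ↥(annih (⊥ : Subgroup S)) : ℂ) = (Nat.card S : ℂ) := by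
    rw [gc_card_annih (⊥ : Subgroup S) hab, Subgroup.index_bot]
  -- expand the right side
  have h1 : ∀ l : ↥(annih (⊥ : Subgroup S)), (a l : ℂ) =
      ((Nat.card C : ℂ) * (Nat.card S : ℂ))⁻¹ * ∑ c : C, ∑ u : S,
        ψ ((c : Γ) * (u : Γ)) * conj (β c) * conj ((((l : S →* ℂˣ) u : ℂˣ) : ℂ)) := by
    intro l
    rw [← ha l]
    unfold Cfsg.classInner
    rw [Nat.card_prod, Nat.cast_mul, Fintype.sum_prod_type]
    congr 1
    apply Finset.sum_congr rfl
    intro c _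
    apply Finset.sum_congr rfl
    intro u _
    simp only
    rw [hj, map_mul]
    ring
  simp only [h1]
  have h2 : ∑ l : ↥(annih (⊥ : Subgroup S)),
      ((Nat.card C : ℂ) * (Nat.card S : ℂ))⁻¹ * (∑ c : C, ∑ u : S,
        ψ ((c : Γ) * (u : Γ)) * conj (β c) * conj ((((l : S →* ℂˣ) u : ℂˣ) : ℂ))) *
        (((l : S →* ℂˣ) t : ℂˣ) : ℂ) =
      ((Nat.card C : ℂ) * (Nat.card S : ℂ))⁻¹ * ∑ c : C, ∑ u : S,
        ψ ((c : Γ) * (u : Γ)) * conj (β c) *
        ∑ l : ↥(annih (⊥ : Subgroup S)), (((l : S →* ℂˣ) (t * u⁻¹) : ℂˣ) : ℂ) := by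
    simp only [Finset.mul_sum, Finset.sum_mul]
    rw [Finset.sum_comm]
    apply Finset.sum_congr rfl
    intro c _
    rw [Finset.sum_comm]
    apply Finset.sum_congr rfl
    intro u _
    apply Finset.sum_congr rfl
    intro l _
    rw [map_mul, Units.val_mul, linChar_conj' (l : S →* ℂˣ) u]
    ring
  rw [h2]
  have h3 : ∀ u : S, ∑ l : ↥(annih (⊥ : Subgroup S)), (((l : S →* ℂˣ) (t * u⁻¹) : ℂˣ) : ℂ) =
      if u = t then (Nat.card S : ℂ) else 0 := by
    intro u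
    rw [sum_annih_of_normal (⊥ : Subgroup S) hab, hcard]
    by_cases h : u = t
    · rw [if_pos h, if_pos]
      rw [Subgroup.mem_bot, h, mul_inv_cancel]
    · rw [if_neg h, if_neg]
      intro h'
      apply h
      rw [Subgroup.mem_bot, mul_inv_eq_one] at h'
      exact h'.symm
  simp only [h3, mul_ite, mul_zero, Finset.sum_ite_eq', Finset.mem_univ, if_true]
  rw [← Finset.sum_mul]
  field_simp

end Cfsg.Agent.Lib.helper2
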