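import Mathlib
import Cfsg.Prelude.Def_Characters
import Cfsg.Prelude.Def_CharExt
import Cfsg.Agent.Lib.helper2.GlaubCyc3
import Cfsg.Agent.Lib.Helper11.GaloisConj
import Cfsg.Agent.Lib.Helper11.GaloisRat
import Cfsg.Agent.S0867

set_option autoImplicit false
open Cfsg
open scoped ComplexConjugate

namespace Cfsg.Agent.Lib.helper2

open Cfsg.Agent.Lib.helper7 Cfsg.Agent.Lib.Helper11 Cfsg.Agent.Lib.Helper25

theorem gc_det_conjRep {G : Type*} [Group G] {n : ℕ} (τ : ℂ ≃+* ℂ)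
    (ρ : Representation ℂ G (Fin n → ℂ)) (g : G) :
    LinearMap.det ((conjRep τ ρ) g) = τ (LinearMap.det (ρ g)) := by
  have h1 : (conjRep τ ρ) g = Matrix.toLin' ((LinearMap.toMatrix' (ρ g)).map τ) := by
    simp only [conjRep, MonoidHom.coe_comp, Function.comp_apply, MonoidHom.coe_coe,
      RingHom.mapMatrix_apply, RingHom.coe_coe]
    rfl
  rw [h1, LinearMap.det_toLin']
  have h2 := RingHom.map_det (τ : ℂ →+* ℂ) (LinearMap.toMatrix' (ρ g))
  rw [LinearMap.det_toMatrix'] at h2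
  rw [RingHom.mapMatrix_apply] at h2
  exact h2.symm

theorem gc_detChar_ringAut {G : Type*} [Group G] [Finite G] (τ : ℂ ≃+* ℂ) {χ : G → ℂ}
    (hχ : Cfsg.IsIrrCharacter G χ) (g : G) :
    Cfsg.detChar (fun x => τ (χ x)) g = τ (Cfsg.detChar χ g) := by
  classical
  haveI : Fintype G := Fintype.ofFinite G
  have hirr' := isIrrCharacter_ringAut τ hχ
  obtain ⟨n, ρ, hρ, rfl⟩ := hχ
  obtain ⟨n', ρ', hρ', hχ'⟩ := hirr'
  haveI := hρ
  haveI := hρ'
  have hc : (conjRep τ ρ).character = ρ'.character := by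
    rw [hχ']
    funext x
    exact conjRep_character τ ρ x
  rw [← hχ', h7_detChar_eq ρ' g, h7_detChar_eq ρ g, ← gc_det_conjRep]
  exact (h7_det_eq_of_char_eq ρ' (conjRep τ ρ) hc g).symm

theorem gc_detOrder_ringAut {G : Type*} [Group G] [Finite G] (τ : ℂ ≃+* ℂ) {χ : G → ℂ}
    (hχ : Cfsg.IsIrrCharacter G χ) :
    Cfsg.detOrder (fun x => τ (χ x)) = Cfsg.detOrder χ := by
  unfold Cfsg.detOrder
  have h1 : Cfsg.detChar (fun x => τ (χ x)) =
      (MonoidHom.compLeft ((τ : ℂ →+* ℂ) : ℂ →* ℂ) G) (Cfsg.detChar χ) := by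
    funext g
    rw [gc_detChar_ringAut τ hχ g]
    rfl
  rw [h1]
  apply orderOf_injective
  intro f₁ f₂ h
  funext g
  have := congrFun h g
  exact τ.injective this

/-- the determinantal order of an irreducible character divides the group order -/
theorem gc_detOrder_dvd {G : Type*} [Group G] [Finite G] {χ : G → ℂ}
    (hχ : Cfsg.IsIrrCharacter G χ) : Cfsg.detOrder χ ∣ Nat.card G := by
  unfold Cfsg.detOrder
  apply orderOf_dvd_of_pow_eq_one
  obtain ⟨n, ρ, hρ, rfl⟩ := hχ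
  haveI := hρ
  funext g
  rw [Pi.pow_apply, h7_detChar_eq ρ g, ← map_pow, ← map_pow, pow_card_eq_one', map_one, map_one]
  rfl

/-- a canonical extension is fixed by Galois automorphisms fixing `|N|`-th roots of unity -/
theorem gc_galois_fixed {Γ : Type*} [Group Γ] [Finite Γ] (N : Subgroup Γ) [hN : N.Normal]
    (hcop : (Nat.card N).Coprime N.index) (ψ : Γ → ℂ) (hψ : Cfsg.IsIrrCharacter Γ ψ)
    (hres : Cfsg.IsIrrCharacter N (fun n : N => ψ n))
    (hdet : (Cfsg.detOrder ψ).Coprime N.index)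
    (τ : ℂ ≃+* ℂ) (hτ : ∀ z : ℂ, z ^ Nat.card N = 1 → τ z = z) (x : Γ) : τ (ψ x) = ψ x := by
  have hcl := isCharacter_isClassFunction (h7_irr_isCharacter hψ)
  obtain ⟨d, -, hd1, hd2⟩ := irr_degree_dvd_card (⟨_, hres⟩ : Cfsg.IrrCharacter N)
  have hinv : ∀ (g : Γ) (n : N),
      (fun n : N => ψ n) ⟨g * n * g⁻¹, hN.conj_mem (n : Γ) n.2 g⟩ = (fun n : N => ψ n) n := by
    intro g n
    exact hcl n g
  have hcop' : Nat.Coprime N.index (Cfsg.detOrder (fun n : N => ψ n) * d) := by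
    apply Nat.Coprime.mul_right
    · exact (Nat.Coprime.coprime_dvd_left (gc_detOrder_dvd hres) hcop).symm
    · exact (Nat.Coprime.coprime_dvd_left hd2 hcop).symm
  obtain ⟨χ₀, -, huniq⟩ := Cfsg.Agent.S0867.result N (fun n : N => ψ n) hres hinv d hd1 hcop'
  have h1 : ψ = χ₀ := huniq ψ hψ (fun n => rfl) hdet.symm
  have h2 : (fun x => τ (ψ x)) = χ₀ := by
    apply huniq _ (isIrrCharacter_ringAut τ hψ)
    · intro n
      have := ringAut_character_apply τ 1 (fun z hz => by rw [pow_one]; exact hτ z hz)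
        (h7_irr_isCharacter hres) n
      rw [pow_one] at this
      exact this
    · rw [gc_detOrder_ringAut τ hψ]
      exact hdet.symm
  have := congrFun h2 x
  rw [← h1] at this
  exact this

/-- values on `c s ^ m` -/
theorem gc_value_gen {Γ : Type*} [Group Γ] [Finite Γ] (N : Subgroup Γ) [hN : N.Normal]
    (hcop : (Nat.card N).Coprime N.index) (ψ : Γ → ℂ) (hψ : Cfsg.IsIrrCharacter Γ ψ)
    (hres : Cfsg.IsIrrCharacter N (fun n : N => ψ n))
    (hdet : (Cfsg.detOrder ψ).Coprime N.index)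
    (c s : Γ) (hc : c ∈ N) (hcs : c * s = s * c) (hs : s ^ N.index = 1) (m : ℕ)
    (hm : m.Coprime N.index) : ψ (c * s ^ m) = ψ (c * s) := by
  have hΓpos : 0 < Nat.card Γ := Nat.card_pos
  obtain ⟨m₁, hm₁c, hm₁n, hm₁a⟩ := exists_coprime_lift (Nat.card Γ) N.index (Nat.card N) m hΓpos
    (Subgroup.index_dvd_card N) (Subgroup.card_subgroup_dvd_card N) hcop.symm hm
  obtain ⟨τ, hτ⟩ := exists_ringAut_pow (Nat.card Γ) m₁ hΓpos hm₁c
  have hτN : ∀ z : ℂ, z ^ Nat.card N = 1 → τ z = z := by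
    intro z hz
    have hz' : z ^ Nat.card Γ = 1 := by
      obtain ⟨k, hk⟩ := Subgroup.card_subgroup_dvd_card N
      rw [hk, pow_mul, hz, one_pow]
    rw [hτ z hz']
    have h1 : z ^ m₁ = z ^ (m₁ % Nat.card N) := pow_eq_pow_mod m₁ hz
    have h2 : z ^ 1 = z ^ (1 % Nat.card N) := pow_eq_pow_mod 1 hz
    have h3 : m₁ % Nat.card N = 1 % Nat.card N := hm₁a
    rw [h1, h3, ← h2, pow_one]
  have h1 := gc_galois_fixed N hcop ψ hψ hres hdet τ hτN (c * s)
  have h2 := ringAut_character_apply τ m₁ hτ (h7_irr_isCharacter hψ) (c * s)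
  rw [h1] at h2
  rw [h2]
  have hcomm : Commute c s := hcs
  rw [hcomm.mul_pow]
  have hc1 : c ^ m₁ = c := by
    have h3 : orderOf c ∣ Nat.card N := by
      have := orderOf_dvd_natCard (⟨c, hc⟩ : N)
      rwa [Subgroup.orderOf_mk] at this
    have h4 : m₁ ≡ 1 [MOD orderOf c] := hm₁a.of_dvd h3
    rw [pow_eq_pow_iff_modEq.mpr h4, pow_one]
  have hs1 : s ^ m₁ = s ^ m := by
    have h3 : orderOf s ∣ N.index := orderOf_dvd_of_pow_eq_one hs
    exact pow_eq_pow_iff_modEq.mpr (hm₁n.of_dvd h3)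
  rw [hc1, hs1]

end Cfsg.Agent.Lib.helper2
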