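import Mathlib
import Cfsg.Prelude.Def_Characters
import Cfsg.Prelude.Def_CharExt
import Cfsg.Agent.Lib.helper2.GlaubCyc1
import Cfsg.Agent.Lib.helper2.GlaubCyc4
import Cfsg.Agent.Lib.Helper25.CharAbelian

set_option autoImplicit false
open Cfsg
open scoped ComplexConjugate

namespace Cfsg.Agent.Lib.helper2

open Cfsg.Agent.Lib.helper7 Cfsg.Agent.Lib.Helper11 Cfsg.Agent.Lib.Helper25

/-- a natural combination of roots of unity fixed by all coprime power maps is an integer -/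
theorem gc_int_of_fixed {ι : Type*} [Fintype ι] (N : ℕ) (hN : 0 < N) (a : ι → ℕ) (ζ : ι → ℂ)
    (hζ : ∀ i, ζ i ^ N = 1)
    (hfix : ∀ m : ℕ, Nat.Coprime m N → ∑ i, (a i : ℂ) * ζ i ^ m = ∑ i, (a i : ℂ) * ζ i) :
    ∃ n : ℤ, ∑ i, (a i : ℂ) * ζ i = n := by
  classical
  have key : ∀ m : ℕ, ∑ i, (a i : ℂ) * ζ i ^ m =
      ∑ z ∈ Finset.univ.image ζ,
        (((fun z : ℂ => ∑ i ∈ Finset.univ.filter (fun i => ζ i = z), (a i : ℤ)) z : ℤ) : ℂ) *
          z ^ m := by
    intro m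
    rw [← Finset.sum_fiberwise_of_maps_to (s := Finset.univ) (t := Finset.univ.image ζ) (g := ζ)
      (fun i _ => Finset.mem_image_of_mem ζ (Finset.mem_univ i))]
    apply Finset.sum_congr rfl
    intro z _
    simp only
    push_cast
    rw [Finset.sum_mul]
    apply Finset.sum_congr rfl
    intro i hi
    rw [(Finset.mem_filter.mp hi).2]
  have key1 := key 1
  simp only [pow_one] at key1
  obtain ⟨n, hn⟩ := int_of_galois_fixed N hN (Finset.univ.image ζ)
    (fun z : ℂ => ∑ i ∈ Finset.univ.filter (fun i => ζ i = z), (a i : ℤ))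
    (by
      intro z hz
      obtain ⟨i, -, rfl⟩ := Finset.mem_image.mp hz
      exact hζ i)
    (by
      intro m hm
      rw [← key m, ← key1]
      exact hfix m hm)
  exact ⟨n, by rw [key1]; exact hn⟩

/-- integers whose squares sum to one -/
theorem gc_sq_sum_one {ι : Type*} [Fintype ι] [DecidableEq ι] (n : ι → ℤ)
    (h : ∑ i, n i * n i = 1) : ∃ i, (n i = 1 ∨ n i = -1) ∧ ∀ j, j ≠ i → n j = 0 := by
  have hex : ∃ i, n i ≠ 0 := by
    by_contra hcon
    push Not at hcon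
    simp only [hcon, mul_zero, Finset.sum_const_zero] at h
    exact zero_ne_one h
  obtain ⟨i, hi⟩ := hex
  rw [← Finset.add_sum_erase Finset.univ _ (Finset.mem_univ i)] at h
  have h1 : 1 ≤ n i * n i := by
    have : 0 < n i * n i := mul_self_pos.mpr hi
    omega
  have h2 : 0 ≤ ∑ j ∈ Finset.univ.erase i, n j * n j :=
    Finset.sum_nonneg (fun j _ => mul_self_nonneg (n j))
  have h3 : ∑ j ∈ Finset.univ.erase i, n j * n j = 0 := by omega
  have h4 : n i * n i = 1 := by omega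
  refine ⟨i, ?_, ?_⟩
  · have : (n i - 1) * (n i + 1) = 0 := by
      have e : (n i - 1) * (n i + 1) = n i * n i - 1 := by ring
      rw [e, h4]; rfl
    rcases mul_eq_zero.mp this with h5 | h5
    · left; omega
    · right; omega
  · intro j hj
    have h5 := (Finset.sum_eq_zero_iff_of_nonneg (fun j _ => mul_self_nonneg (n j))).mp h3 j
      (Finset.mem_erase.mpr ⟨hj, Finset.mem_univ j⟩)
    exact mul_self_eq_zero.mp h5


/-- core: the values of a canonical extension on the coset of a generator -/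
theorem gc_core {Γ : Type*} [Group Γ] [Fintype Γ] (G S : Subgroup Γ) [Fintype G] [hG : G.Normal]
    (hcop : (Nat.card G).Coprime (Nat.card S)) (htop : G ⊔ S = ⊤) (s : Γ)
    (hs : Subgroup.zpowers s = S) [Fintype ↥(G ⊓ Subgroup.centralizer (S : Set Γ))]
    (ψ : Γ → ℂ) (hψ : Cfsg.IsIrrCharacter Γ ψ)
    (hres : Cfsg.IsIrrCharacter G (fun g : G => ψ g))
    (hdet : (Cfsg.detOrder ψ).Coprime (Nat.card S)) :
    ∃ β : Cfsg.IrrCharacter ↥(G ⊓ Subgroup.centralizer (S : Set Γ)), ∃ ε : ℤ,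
      (ε = 1 ∨ ε = -1) ∧
      ∀ c : ↥(G ⊓ Subgroup.centralizer (S : Set Γ)),
        ψ ((c : Γ) * s) = (ε : ℂ) * (β : ↥(G ⊓ Subgroup.centralizer (S : Set Γ)) → ℂ) c := by
  classical
  haveI : Fintype S := Fintype.ofFinite _
  haveI : Fintype ↥(annih (⊥ : Subgroup S)) := Fintype.ofFinite _
  haveI : Fintype (Cfsg.IrrCharacter ↥(G ⊓ Subgroup.centralizer (S : Set Γ))) :=
    Fintype.ofFinite _
  have hsS : s ∈ S := hs ▸ Subgroup.mem_zpowers s
  have hScomm : ∀ a ∈ S, ∀ b ∈ S, a * b = b * a := by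
    intro a ha b hb
    rw [← hs] at ha hb
    exact gc_zpowers_comm s a b ha hb
  have hab := gc_comm_quot G S htop hScomm
  have hidx : G.index = Nat.card S := gc_index G S htop hcop
  have hcopN : (Nat.card G).Coprime G.index := by rw [hidx]; exact hcop
  have hdet' : (Cfsg.detOrder ψ).Coprime G.index := by rw [hidx]; exact hdet
  have hsn : s ^ G.index = 1 := by
    rw [hidx]
    have := pow_card_eq_one' (G := S) (x := ⟨s, hsS⟩)
    exact congrArg Subtype.val this
  have hCs : ∀ c : ↥(G ⊓ Subgroup.centralizer (S : Set Γ)), (c : Γ) * s = s * c := by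
    intro c
    exact (Subgroup.mem_centralizer_iff.mp c.2.2 s hsS).symm
  have hcl := isCharacter_isClassFunction (h7_irr_isCharacter hψ)
  have hCcard : (Nat.card ↥(G ⊓ Subgroup.centralizer (S : Set Γ)) : ℂ) ≠ 0 := by
    exact_mod_cast Nat.card_pos.ne'
  have hGcard : (Nat.card G : ℂ) ≠ 0 := by exact_mod_cast Nat.card_pos.ne'
  -- the function on C
  obtain ⟨ψt, hψt⟩ : ∃ ψt : ↥(G ⊓ Subgroup.centralizer (S : Set Γ)) → ℂ,
      ψt = fun c : ↥(G ⊓ Subgroup.centralizer (S : Set Γ)) => ψ ((c : Γ) * s) := ⟨_, rfl⟩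
  have hψtcl : ∀ c h : ↥(G ⊓ Subgroup.centralizer (S : Set Γ)), ψt (h * c * h⁻¹) = ψt c := by
    intro c h
    rw [hψt]
    simp only [Subgroup.coe_mul, Subgroup.coe_inv]
    have e : (h : Γ) * c * (h : Γ)⁻¹ * s = (h : Γ) * ((c : Γ) * s) * (h : Γ)⁻¹ := by
      have := hCs h
      calc (h : Γ) * c * (h : Γ)⁻¹ * s = (h : Γ) * c * ((h : Γ)⁻¹ * (s * h) * (h : Γ)⁻¹) := by group
        _ = (h : Γ) * c * ((h : Γ)⁻¹ * ((h : Γ) * s) * (h : Γ)⁻¹) := by rw [this]
        _ = (h : Γ) * ((c : Γ) * s) * (h : Γ)⁻¹ := by group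
    rw [e]
    exact hcl _ _
  -- norm one
  have hnorm : Cfsg.classInner ψt ψt = 1 := by
    have h1 := gc_sum_coset G S hcop s hs (fun x => ψ x * conj (ψ x))
      (fun x g _ => by rw [hcl x g])
    have h2 := gc_coset_orth_self G hab s ψ hψ hres
    rw [h2] at h1
    unfold Cfsg.classInner
    rw [hψt]
    have h3 : ∑ c : ↥(G ⊓ Subgroup.centralizer (S : Set Γ)),
        ψ ((c : Γ) * s) * conj (ψ ((c : Γ) * s)) =
        (Nat.card ↥(G ⊓ Subgroup.centralizer (S : Set Γ)) : ℂ) := by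
      apply mul_left_cancel₀ hGcard
      rw [← h1]
      ring
    rw [h3, inv_mul_cancel₀ hCcard]
  -- integrality of the coefficients
  have hint : ∀ β' : Cfsg.IrrCharacter ↥(G ⊓ Subgroup.centralizer (S : Set Γ)),
      ∃ k : ℤ, Cfsg.classInner ψt (β' : ↥(G ⊓ Subgroup.centralizer (S : Set Γ)) → ℂ) = k := by
    intro β'
    obtain ⟨a, ha⟩ := gc_mult_expansion (G ⊓ Subgroup.centralizer (S : Set Γ)) S
      (fun c hc t ht => (Subgroup.mem_centralizer_iff.mp hc.2 t ht).symm)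
      (fun a b => Subtype.ext (hScomm a a.2 b b.2)) ψ (h7_irr_isCharacter hψ)
      (β' : ↥(G ⊓ Subgroup.centralizer (S : Set Γ)) → ℂ)
      (Cfsg.Agent.Lib.helper2.isCharacter_of_irr β')
    have hval : Cfsg.classInner ψt (β' : ↥(G ⊓ Subgroup.centralizer (S : Set Γ)) → ℂ) =
        ∑ l : ↥(annih (⊥ : Subgroup S)), (a l : ℂ) * (((l : S →* ℂˣ) ⟨s, hsS⟩ : ℂˣ) : ℂ) := by
      rw [← ha ⟨s, hsS⟩, hψt]
      rfl
    rw [hval]
    apply gc_int_of_fixed (Nat.card S) Nat.card_pos a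
      (fun l => (((l : S →* ℂˣ) ⟨s, hsS⟩ : ℂˣ) : ℂ))
    · intro l
      rw [← Units.val_pow_eq_pow_val, ← map_pow, pow_card_eq_one', map_one, Units.val_one]
    · intro m hm
      have h1 : ∀ l : ↥(annih (⊥ : Subgroup S)),
          (a l : ℂ) * (((l : S →* ℂˣ) ⟨s, hsS⟩ : ℂˣ) : ℂ) ^ m =
          (a l : ℂ) * (((l : S →* ℂˣ) ((⟨s, hsS⟩ : S) ^ m) : ℂˣ) : ℂ) := by
        intro l
        rw [map_pow, Units.val_pow_eq_pow_val]
      rw [Finset.sum_congr rfl (fun l _ => h1 l), ← ha, ← ha]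
      congr 1
      apply Finset.sum_congr rfl
      intro c _
      congr 1
      have := gc_value_gen G hcopN ψ hψ hres hdet' (c : Γ) s c.2.1 (hCs c) hsn m
        (by rw [hidx]; exact hm)
      simpa using this
  choose k hk using hint
  -- expansion and Parseval
  have hexp := classFunction_expansion ψt hψtcl
  have hpar := classInner_parseval ψt hψtcl
  rw [hnorm] at hpar
  have hsq : ∑ β' : Cfsg.IrrCharacter ↥(G ⊓ Subgroup.centralizer (S : Set Γ)), k β' * k β' = 1 := by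
    have : ((∑ β' : Cfsg.IrrCharacter ↥(G ⊓ Subgroup.centralizer (S : Set Γ)),
        k β' * k β' : ℤ) : ℂ) = 1 := by
      rw [hpar]
      push_cast
      apply Finset.sum_congr rfl
      intro β' _
      rw [hk β', map_intCast]
    exact_mod_cast this
  obtain ⟨β, hβ1, hβ2⟩ := gc_sq_sum_one k hsq
  refine ⟨β, k β, hβ1, ?_⟩
  intro c
  have h1 := congrFun hexp c
  rw [Finset.sum_apply, Finset.sum_eq_single β] at h1
  · rw [hψt] at h1
    simp only [Pi.smul_apply, smul_eq_mul] at h1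
    rw [h1, ← hψt, hk β]
  · intro β' _ hβ'
    rw [hk β', hβ2 β' hβ']
    simp
  · intro h
    exact absurd (Finset.mem_univ _) h

end Cfsg.Agent.Lib.helper2
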