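import Mathlib

set_option autoImplicit false

namespace Cfsg.Agent.Lib.helper2

/-- an integer of the form `∑ wᵢ (ζᵢ - 1)` with `wᵢ` algebraic integers and `ζᵢ` roots of unity of
`p`-power order is divisible by `p` -/
theorem gf_cong_mixed {ι : Type*} [Fintype ι] (p : ℕ) [hp : Fact p.Prime] (k : ℕ) (w ζ : ι → ℂ)
    (hw : ∀ i, IsIntegral ℤ (w i)) (hζ : ∀ i, ζ i ^ (p ^ k) = 1) (J : ℤ)
    (h : ∑ i, w i * (ζ i - 1) = J) : (p : ℤ) ∣ J := by
  classical
  have hpk : 0 < p ^ k := pow_pos hp.out.pos k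
  have hζint : ∀ i, IsIntegral ℤ (ζ i) := fun i =>
    IsIntegral.of_pow hpk (by rw [hζ i]; exact isIntegral_one)
  -- the ring of algebraic integers
  let w' : ι → integralClosure ℤ ℂ := fun i => ⟨w i, hw i⟩
  let ζ' : ι → integralClosure ℤ ℂ := fun i => ⟨ζ i, hζint i⟩
  have hsum : ∑ i, w' i * (ζ' i - 1) = (J : integralClosure ℤ ℂ) := by
    apply Subtype.ext
    have e1 : ((∑ i, w' i * (ζ' i - 1) : integralClosure ℤ ℂ) : ℂ) = ∑ i, w i * (ζ i - 1) := by
      push_cast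
      rfl
    have e2 : (((J : integralClosure ℤ ℂ)) : ℂ) = (J : ℂ) := by simp
    rw [e1, e2, h]
  -- p is not a unit
  have hnonunit : ((p : ℕ) : integralClosure ℤ ℂ) ∈ nonunits (integralClosure ℤ ℂ) := by
    intro hu
    obtain ⟨u, hu⟩ := hu.exists_right_inv
    have h1 : (p : ℂ) * (u : ℂ) = 1 := by
      have := congrArg (fun x : integralClosure ℤ ℂ => (x : ℂ)) hu
      simpa using this
    have hp0 : (p : ℂ) ≠ 0 := by exact_mod_cast hp.out.ne_zero
    have h2 : (u : ℂ) = (1 : ℂ) / (p : ℂ) := by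
      field_simp
      rw [mul_comm]; exact h1
    have h3 : IsIntegral ℤ ((1 : ℚ) / (p : ℚ)) := by
      rw [← isIntegral_algebraMap_iff (algebraMap ℚ ℂ).injective]
      have hu2 : IsIntegral ℤ (u : ℂ) := u.2
      rw [h2] at hu2
      have e3 : (algebraMap ℚ ℂ) ((1 : ℚ) / (p : ℚ)) = (1 : ℂ) / (p : ℂ) := by simp
      rw [e3]
      exact hu2
    obtain ⟨z, hz⟩ := IsIntegrallyClosed.isIntegral_iff.mp h3
    have hpq : (p : ℚ) ≠ 0 := by exact_mod_cast hp.out.ne_zero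
    have h4 : (z : ℚ) * (p : ℚ) = 1 := by
      have : (algebraMap ℤ ℚ) z = (z : ℚ) := rfl
      rw [this] at hz
      rw [hz]
      field_simp
    have h5 : z * (p : ℤ) = 1 := by exact_mod_cast h4
    have h6 : (p : ℤ) ∣ 1 := Dvd.intro_left _ h5
    have h7 : p ∣ 1 := by exact_mod_cast h6
    exact hp.out.one_lt.ne' (Nat.dvd_one.mp h7)
  haveI hchar := CharP.quotient (integralClosure ℤ ℂ) p hnonunit
  set I : Ideal (integralClosure ℤ ℂ) := Ideal.span {((p : ℕ) : integralClosure ℤ ℂ)} with hI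
  -- compute in the quotient
  have hq : (Ideal.Quotient.mk I (J : integralClosure ℤ ℂ)) ^ (p ^ k) = 0 := by
    rw [← hsum, map_sum, sum_pow_char_pow]
    apply Finset.sum_eq_zero
    intro i _
    rw [map_mul, map_sub, map_one, mul_pow, sub_pow_char_pow, one_pow, ← map_pow, ← map_pow]
    have : ζ' i ^ (p ^ k) = 1 := by
      apply Subtype.ext
      simp only [ζ']
      exact hζ i
    rw [this, map_one, sub_self, mul_zero]
  rw [← map_pow, Ideal.Quotient.eq_zero_iff_mem, hI, Ideal.mem_span_singleton] at hq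
  obtain ⟨r, hr⟩ := hq
  -- back to rationals
  have hr' : ((J : ℂ)) ^ (p ^ k) = (p : ℂ) * (r : ℂ) := by
    have := congrArg (fun x : integralClosure ℤ ℂ => (x : ℂ)) hr
    simpa using this
  have hp0 : (p : ℂ) ≠ 0 := by exact_mod_cast hp.out.ne_zero
  have hrq : (r : ℂ) = (((J ^ (p ^ k) : ℤ) : ℚ) / (p : ℚ) : ℚ) := by
    push_cast
    rw [hr']
    field_simp
  have h3 : IsIntegral ℤ (((J ^ (p ^ k) : ℤ) : ℚ) / (p : ℚ)) := by
    rw [← isIntegral_algebraMap_iff (algebraMap ℚ ℂ).injective]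
    have hr2 : IsIntegral ℤ (r : ℂ) := r.2
    rw [hrq] at hr2
    exact hr2
  obtain ⟨z, hz⟩ := IsIntegrallyClosed.isIntegral_iff.mp h3
  have hpq : (p : ℚ) ≠ 0 := by exact_mod_cast hp.out.ne_zero
  have h4 : ((J ^ (p ^ k) : ℤ) : ℚ) = (z : ℚ) * (p : ℚ) := by
    have : (algebraMap ℤ ℚ) z = (z : ℚ) := rfl
    rw [this] at hz
    rw [hz]
    field_simp
  have h5 : J ^ (p ^ k) = z * (p : ℤ) := by exact_mod_cast h4
  have h6 : (p : ℤ) ∣ J ^ (p ^ k) := Dvd.intro_left _ h5.symm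
  exact (Nat.prime_iff_prime_int.mp hp.out).dvd_of_dvd_pow h6

end Cfsg.Agent.Lib.helper2
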