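import Mathlib
import Cfsg.Prelude.Def_Characters
import Cfsg.Agent.Lib.Helper11.GaloisConj
import Cfsg.Agent.Lib.helper2.GlaubCyc5
import Cfsg.Agent.Lib.helper2.GlaubF1

set_option autoImplicit false
open Cfsg
open scoped ComplexConjugate

namespace Cfsg.Agent.Lib.helper2

open Cfsg.Agent.Lib.helper7 Cfsg.Agent.Lib.Helper11 Cfsg.Agent.Lib.Helper25

/-- a field automorphism of `ℂ` fixing `ζ` fixes `ℚ(ζ)` -/
theorem sb_fixed_adjoin (τ : ℂ ≃+* ℂ) (ζ : ℂ) (hζ : τ ζ = ζ) (y : ℂ)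
    (hy : y ∈ IntermediateField.adjoin ℚ ({ζ} : Set ℂ)) : τ y = y := by
  induction hy using IntermediateField.adjoin_induction with
  | mem x hx =>
    rw [Set.mem_singleton_iff] at hx
    rw [hx, hζ]
  | algebraMap x =>
    simp
  | add x y _ _ hx hy => rw [map_add, hx, hy]
  | inv x _ hx => rw [map_inv₀, hx]
  | mul x y _ _ hx hy => rw [map_mul, hx, hy]

/-- a `p`-rational character is constant on the generators of a cyclic `p`-subgroup -/
theorem sb_pow_invariant {G : Type*} [Group G] [Finite G] (p : ℕ) (hp : p.Prime) (χ : G → ℂ)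
    (hχ : Cfsg.IsCharacter G χ) (r : ℕ) (hr : 0 < r) (hpr : ¬ p ∣ r)
    (hrat : ∀ g : G, χ g ∈ IntermediateField.adjoin ℚ
      ({Complex.exp (2 * Real.pi * Complex.I / r)} : Set ℂ))
    (x : G) (e : ℕ) (hx : x ^ (p ^ e) = 1) (m : ℕ) (hm : m.Coprime p) :
    χ (x ^ m) = χ x := by
  classical
  set N := Nat.card G with hN
  have hNpos : 0 < N := Nat.card_pos
  have hNr : 0 < N * r := Nat.mul_pos hNpos hr
  set M₂ := ordCompl[p] (N * r) with hM₂
  have hM₂cop : Nat.Coprime p M₂ := Nat.coprime_ordCompl hp hNr.ne'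
  have hcop : Nat.Coprime (p ^ (e + 1)) M₂ := Nat.Coprime.pow_left _ hM₂cop
  obtain ⟨m', hm'1, hm'2⟩ := Nat.chineseRemainder hcop m 1
  -- m' coprime to N * r
  have hm'p : Nat.Coprime m' p := by
    have h1 : m' ≡ m [MOD p] :=
      hm'1.of_dvd (dvd_pow_self p (Nat.succ_ne_zero e))
    rw [Nat.coprime_comm] at hm ⊢
    rw [Nat.Prime.coprime_iff_not_dvd hp] at hm ⊢
    intro hd
    apply hm
    exact (Nat.modEq_zero_iff_dvd.mp ((h1.symm.trans (Nat.modEq_zero_iff_dvd.mpr hd))))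
  have hm'M : Nat.Coprime m' M₂ := by
    have h1 : Nat.gcd m' M₂ = Nat.gcd 1 M₂ := Nat.ModEq.gcd_eq hm'2
    rw [Nat.Coprime, h1, Nat.gcd_one_left]
  have hm'N : Nat.Coprime m' (N * r) := by
    have h1 : N * r = p ^ (N * r).factorization p * M₂ :=
      (Nat.ordProj_mul_ordCompl_eq_self (N * r) p).symm
    rw [h1]
    exact Nat.Coprime.mul_right (Nat.Coprime.pow_right _ hm'p) hm'M
  have hrM : r ∣ M₂ := by
    have h1 : N * r = p ^ (N * r).factorization p * M₂ :=
      (Nat.ordProj_mul_ordCompl_eq_self (N * r) p).symm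
    have h2 : r ∣ p ^ (N * r).factorization p * M₂ := h1 ▸ dvd_mul_left r N
    have h3 : Nat.Coprime r (p ^ (N * r).factorization p) :=
      Nat.Coprime.pow_right _ ((Nat.coprime_comm).mp ((Nat.Prime.coprime_iff_not_dvd hp).mpr hpr))
    exact h3.dvd_of_dvd_mul_left h2
  have hm'r : m' ≡ 1 [MOD r] := hm'2.of_dvd hrM
  obtain ⟨τ, hτ⟩ := exists_ringAut_pow (N * r) m' hNr hm'N
  set ζ := Complex.exp (2 * Real.pi * Complex.I / r) with hζdef
  have hζr : ζ ^ r = 1 := by
    have := (Complex.isPrimitiveRoot_exp r hr.ne').pow_eq_one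
    exact this
  have hζfix : τ ζ = ζ := by
    have h1 : ζ ^ (N * r) = 1 := by rw [mul_comm, pow_mul, hζr, one_pow]
    rw [hτ ζ h1]
    have h2 : ζ ^ m' = ζ ^ 1 := by
      rw [pow_eq_pow_mod m' hζr, pow_eq_pow_mod 1 hζr]
      congr 1
    rw [h2, pow_one]
  have h1 : τ (χ x) = χ (x ^ m') := by
    apply ringAut_character_apply τ m' _ hχ x
    intro z hz
    apply hτ
    rw [pow_mul, hz, one_pow]
  have h2 : τ (χ x) = χ x := sb_fixed_adjoin τ ζ hζfix _ (hrat x)
  have h3 : x ^ m' = x ^ m := by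
    rw [pow_eq_pow_iff_modEq]
    have h4 : m' ≡ m [MOD p ^ e] := hm'1.of_dvd (pow_dvd_pow p (Nat.le_succ e))
    exact h4.of_dvd (orderOf_dvd_of_pow_eq_one hx)
  rw [← h3, ← h1, h2]

theorem sb_sum_range_mul (q' p : ℕ) (F : ℕ → ℝ) :
    ∑ k ∈ Finset.range (q' * p), F k =
      ∑ i ∈ Finset.range q', ∑ j ∈ Finset.range p, F (j + p * i) := by
  rw [Finset.sum_range, ← Equiv.sum_comp finProdFinEquiv, Fintype.sum_prod_type, Finset.sum_range]
  refine Finset.sum_congr rfl fun i _ => ?_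
  rw [Finset.sum_range]
  rfl

/-- values of a character of a `p`-group that is constant on generators of cyclic subgroups -/
theorem sb_values {P : Type*} [Group P] [Finite P] (p : ℕ) [hp : Fact p.Prime] (a : ℕ)
    (hP : Nat.card P = p ^ a) (ψ : P → ℂ) (hψ : Cfsg.IsCharacter P ψ) (n : ℕ) (hn : ψ 1 = n)
    (hinv : ∀ (x : P) (m : ℕ), m.Coprime p → ψ (x ^ m) = ψ x) (x : P) :
    ∃ v : ℤ, ψ x = v ∧ v ≤ n ∧ (p : ℤ) ∣ (n : ℤ) - v ∧ 0 ≤ ((p : ℤ) - 1) * v + n := by
  classical
  by_cases ha : a = 0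
  · rw [ha, pow_zero] at hP
    haveI : Subsingleton P := (Nat.card_eq_one_iff_unique.mp hP).1
    have hx1 : x = 1 := Subsingleton.elim _ _
    refine ⟨n, ?_, le_refl _, ?_, ?_⟩
    · rw [hx1, hn]; simp
    · simp
    · have h1 : (1 : ℤ) ≤ p := by exact_mod_cast hp.out.one_lt.le
      have h2 : (0 : ℤ) ≤ n := by exact_mod_cast Nat.zero_le n
      nlinarith
  have hapos : 0 < a := Nat.pos_of_ne_zero ha
  obtain ⟨s, c, hs, hk⟩ := Cfsg.Agent.Lib.Helper24.gn_char_pow_expansion hψ x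
  rw [hP] at hs
  have hk0 : (n : ℂ) = ∑ z ∈ s, (c z : ℂ) := by
    have := hk 0
    rw [pow_zero, hn] at this
    rw [this]
    simp
  have hk1 : ψ x = ∑ z ∈ s, (c z : ℂ) * z := by
    have := hk 1
    rw [pow_one] at this
    rw [this]
    simp
  -- integrality
  have hfix : ∀ m : ℕ, Nat.Coprime m (p ^ a) →
      ∑ z : s, (c z : ℂ) * (z : ℂ) ^ m = ∑ z : s, (c z : ℂ) * (z : ℂ) := by
    intro m hm
    have hmp : m.Coprime p := Nat.Coprime.coprime_dvd_right (dvd_pow_self p ha) hm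
    rw [Finset.sum_coe_sort s (fun z => (c z : ℂ) * z ^ m),
      Finset.sum_coe_sort s (fun z => (c z : ℂ) * z), ← hk m, ← hk1]
    exact hinv x m hmp
  obtain ⟨v, hv⟩ := gc_int_of_fixed (p ^ a) (pow_pos hp.out.pos a) (fun z : s => c z)
    (fun z : s => (z : ℂ)) (fun z => hs z z.2) hfix
  rw [Finset.sum_coe_sort s (fun z => (c z : ℂ) * z), ← hk1] at hv
  -- norm bound for all powers
  have hnorm : ∀ k : ℕ, ‖ψ (x ^ k)‖ ≤ n := by
    intro k
    rw [hk k]
    calc ‖∑ z ∈ s, (c z : ℂ) * z ^ k‖ ≤ ∑ z ∈ s, ‖(c z : ℂ) * z ^ k‖ := norm_sum_le _ _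
      _ = ∑ z ∈ s, (c z : ℝ) := by
        refine Finset.sum_congr rfl fun z hz => ?_
        have h1 : ‖z‖ = 1 := Complex.norm_eq_one_of_pow_eq_one (hs z hz) (pow_pos hp.out.pos a).ne'
        rw [norm_mul, norm_pow, h1, one_pow, mul_one, Complex.norm_natCast]
      _ = n := by
        have : ((∑ z ∈ s, (c z : ℝ) : ℝ) : ℂ) = (n : ℂ) := by rw [hk0]; push_cast; rfl
        exact_mod_cast this
  have hvle : v ≤ n := by
    have h1 := hnorm 1
    rw [pow_one, hv] at h1
    have h2 : ((v : ℤ) : ℝ) ≤ n := by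
      calc ((v : ℤ) : ℝ) ≤ |((v : ℤ) : ℝ)| := le_abs_self _
        _ = ‖((v : ℤ) : ℂ)‖ := by rw [Complex.norm_intCast]
        _ ≤ n := h1
    exact_mod_cast h2
  refine ⟨v, hv, hvle, ?_, ?_⟩
  · -- congruence
    have hJ : ∑ z : s, ((c z : ℂ)) * ((z : ℂ) - 1) = ((v - n : ℤ) : ℂ) := by
      rw [Finset.sum_coe_sort s (fun z => (c z : ℂ) * (z - 1))]
      simp only [mul_sub, mul_one, Finset.sum_sub_distrib]
      rw [← hk1, ← hk0, hv]
      push_cast
      rfl
    have h1 := gf_cong_mixed p a (fun z : s => (c z : ℂ)) (fun z : s => (z : ℂ))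
      (fun z => by
        have : IsIntegral ℤ ((c z : ℤ) : ℂ) := isIntegral_algebraMap
        simpa using this)
      (fun z => hs z z.2) (v - n) hJ
    have h2 : (n : ℤ) - v = -(v - n) := by ring
    rw [h2]
    exact (dvd_neg).mpr h1
  · -- lower bound
    obtain ⟨a', rfl⟩ : ∃ a', a = a' + 1 := ⟨a - 1, by omega⟩
    set q' := p ^ a' with hq'
    have hq'pos : 0 < q' := pow_pos hp.out.pos a'
    have hq : p ^ (a' + 1) = q' * p := pow_succ p a'
    -- the full sum
    have hfull : ∑ k ∈ Finset.range (q' * p), ψ (x ^ k) =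
        ((q' * p : ℕ) : ℂ) * ((if (1 : ℂ) ∈ s then c 1 else 0 : ℕ) : ℂ) := by
      simp only [hk]
      rw [Finset.sum_comm]
      have h1 : ∀ z ∈ s, ∑ k ∈ Finset.range (q' * p), (c z : ℂ) * z ^ k =
          if z = 1 then ((q' * p : ℕ) : ℂ) * (c z : ℂ) else 0 := by
        intro z hz
        rw [← Finset.mul_sum]
        by_cases hz1 : z = 1
        · rw [if_pos hz1, hz1]
          simp
          ring
        · rw [if_neg hz1]
          have h2 : (∑ k ∈ Finset.range (q' * p), z ^ k) * (z - 1) = 0 := by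
            rw [geom_sum_mul, ← hq, hs z hz, sub_self]
          have h3 : ∑ k ∈ Finset.range (q' * p), z ^ k = 0 := by
            rcases mul_eq_zero.mp h2 with h | h
            · exact h
            · exact absurd (sub_eq_zero.mp h) hz1
          rw [h3, mul_zero]
      rw [Finset.sum_congr rfl h1, Finset.sum_ite_eq' s (1 : ℂ)]
      split_ifs <;> simp
    -- real parts
    set R : ℕ → ℝ := fun k => (ψ (x ^ k)).re with hR
    have hRsum : 0 ≤ ∑ k ∈ Finset.range (q' * p), R k := by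
      have h1 : ∑ k ∈ Finset.range (q' * p), R k =
          (∑ k ∈ Finset.range (q' * p), ψ (x ^ k)).re := by
        rw [Complex.re_sum]
      rw [h1, hfull]
      have : (((q' * p : ℕ) : ℂ) * ((if (1 : ℂ) ∈ s then c 1 else 0 : ℕ) : ℂ)) =
          (((q' * p) * (if (1 : ℂ) ∈ s then c 1 else 0) : ℕ) : ℂ) := by push_cast; ring
      rw [this, Complex.natCast_re]
      exact Nat.cast_nonneg _
    have hRle : ∀ k, R k ≤ n := fun k =>
      le_trans (Complex.re_le_norm _) (hnorm k)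
    have hRv : ∀ k, ¬ p ∣ k → R k = v := by
      intro k hk'
      have hcop : k.Coprime p := (Nat.coprime_comm).mp ((Nat.Prime.coprime_iff_not_dvd hp.out).mpr hk')
      simp only [hR]
      rw [hinv x k hcop, hv, Complex.intCast_re]
    rw [sb_sum_range_mul] at hRsum
    have hinner : ∀ i ∈ Finset.range q', ∑ j ∈ Finset.range p, R (j + p * i) ≤
        (n : ℝ) + ((p : ℝ) - 1) * v := by
      intro i _
      have h1 : ∀ j ∈ Finset.range p, R (j + p * i) ≤ (v : ℝ) + if j = 0 then ((n : ℝ) - v) else 0 := by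
        intro j hj
        by_cases hj0 : j = 0
        · rw [if_pos hj0]
          have := hRle (j + p * i)
          linarith
        · rw [if_neg hj0, add_zero]
          apply le_of_eq
          apply hRv
          intro hd
          have h2 : p ∣ j := (Nat.dvd_add_left (dvd_mul_right p i)).mp hd
          have h3 : j < p := Finset.mem_range.mp hj
          exact hj0 (Nat.eq_zero_of_dvd_of_lt h2 h3)
      calc ∑ j ∈ Finset.range p, R (j + p * i)
          ≤ ∑ j ∈ Finset.range p, ((v : ℝ) + if j = 0 then ((n : ℝ) - v) else 0) :=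
            Finset.sum_le_sum h1
        _ = (n : ℝ) + ((p : ℝ) - 1) * v := by
          rw [Finset.sum_add_distrib, Finset.sum_const, Finset.card_range,
            Finset.sum_ite_eq' (Finset.range p) 0, if_pos (Finset.mem_range.mpr hp.out.pos)]
          simp only [nsmul_eq_mul]
          ring
    have h2 : ∑ i ∈ Finset.range q', ∑ j ∈ Finset.range p, R (j + p * i) ≤
        (q' : ℝ) * ((n : ℝ) + ((p : ℝ) - 1) * v) := by
      calc _ ≤ ∑ i ∈ Finset.range q', ((n : ℝ) + ((p : ℝ) - 1) * v) := Finset.sum_le_sum hinner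
        _ = (q' : ℝ) * ((n : ℝ) + ((p : ℝ) - 1) * v) := by
          rw [Finset.sum_const, Finset.card_range, nsmul_eq_mul]
    have h3 : 0 ≤ (q' : ℝ) * ((n : ℝ) + ((p : ℝ) - 1) * v) := le_trans hRsum h2
    have h4 : 0 ≤ (n : ℝ) + ((p : ℝ) - 1) * v := by
      have hq'R : (0 : ℝ) < q' := by exact_mod_cast hq'pos
      exact nonneg_of_mul_nonneg_right h3 hq'R
    have h5 : (0 : ℝ) ≤ ((((p : ℤ) - 1) * v + n : ℤ) : ℝ) := by
      push_cast
      linarith
    exact_mod_cast h5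

end Cfsg.Agent.Lib.helper2
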