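import Mathlib
import Cfsg.Prelude.Def_OddOrderLocal

set_option autoImplicit false
open scoped commutatorElement

namespace Cfsg.Agent.Lib.helper2

section rel

variable {G : Type*} [Group G]

theorem bgf_exists_mul {X Y : Subgroup G} (hn : Y ≤ Subgroup.normalizer (X : Set G)) {c : G}
    (hc : c ∈ X ⊔ Y) : ∃ x ∈ X, ∃ y ∈ Y, c = x * y := by
  have h := Subgroup.coe_mul_of_right_le_normalizer_left X Y hn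
  have hc' : c ∈ ((X ⊔ Y : Subgroup G) : Set G) := hc
  rw [h] at hc'
  obtain ⟨x, hx, y, hy, rfl⟩ := Set.mem_mul.mp hc'
  exact ⟨x, hx, y, hy, rfl⟩

theorem bgf_conj_mem {N : Subgroup G} {g n : G} (hg : g ∈ Subgroup.normalizer (N : Set G))
    (hn : n ∈ N) : g * n * g⁻¹ ∈ N :=
  (Subgroup.mem_normalizer_iff.mp hg n).mp hn

theorem bgf_conj_mem' {N : Subgroup G} {g n : G} (hg : g ∈ Subgroup.normalizer (N : Set G))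
    (hn : n ∈ N) : g⁻¹ * n * g ∈ N := by
  have := bgf_conj_mem (Subgroup.inv_mem _ hg) hn
  simpa using this

theorem bgf_comm_sup_le {N A : Subgroup G} (hA : A ≤ Subgroup.normalizer (N : Set G))
    (hc : ∀ a ∈ A, ∀ b ∈ A, a * b = b * a) : ⁅N ⊔ A, N ⊔ A⁆ ≤ N := by
  rw [Subgroup.commutator_le]
  intro g₁ hg₁ g₂ hg₂
  obtain ⟨n₁, hn₁, a₁, ha₁, rfl⟩ := bgf_exists_mul hA hg₁
  obtain ⟨n₂, hn₂, a₂, ha₂, rfl⟩ := bgf_exists_mul hA hg₂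
  have h12 := hc a₁ ha₁ a₂ ha₂
  have e2 : ⁅n₁ * a₁, n₂ * a₂⁆ = n₁ * (a₁ * n₂ * a₁⁻¹) * (a₂ * n₁⁻¹ * a₂⁻¹) * n₂⁻¹ := by
    rw [commutatorElement_def]
    have h21 : a₂ * a₁⁻¹ = a₁⁻¹ * a₂ := by
      have : a₁⁻¹ * (a₁ * a₂) * a₁⁻¹ = a₁⁻¹ * (a₂ * a₁) * a₁⁻¹ := by rw [h12]
      simpa [mul_assoc] using this
    calc n₁ * a₁ * (n₂ * a₂) * (n₁ * a₁)⁻¹ * (n₂ * a₂)⁻¹
        = n₁ * (a₁ * n₂ * a₁⁻¹) * a₁ * (a₂ * a₁⁻¹) * n₁⁻¹ * a₂⁻¹ * n₂⁻¹ := by group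
      _ = n₁ * (a₁ * n₂ * a₁⁻¹) * a₁ * (a₁⁻¹ * a₂) * n₁⁻¹ * a₂⁻¹ * n₂⁻¹ := by rw [h21]
      _ = n₁ * (a₁ * n₂ * a₁⁻¹) * (a₂ * n₁⁻¹ * a₂⁻¹) * n₂⁻¹ := by group
  rw [e2]
  have t1 : a₁ * n₂ * a₁⁻¹ ∈ N := bgf_conj_mem (hA ha₁) hn₂
  have t2 : a₂ * n₁⁻¹ * a₂⁻¹ ∈ N := bgf_conj_mem (hA ha₂) (N.inv_mem hn₁)
  exact N.mul_mem (N.mul_mem (N.mul_mem hn₁ t1) t2) (N.inv_mem hn₂)

theorem bgf_comm_le_sup_comm {M N U : Subgroup G} (hUM : U ≤ M)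
    (hn : M ≤ Subgroup.normalizer (N : Set G))
    (hfac : ∀ m ∈ M, ∃ u ∈ U, ∃ n ∈ N, m = u * n) : ⁅M, M⁆ ≤ N ⊔ ⁅U, U⁆ := by
  rw [Subgroup.commutator_le]
  intro g₁ hg₁ g₂ hg₂
  obtain ⟨u₁, hu₁, n₁, hn₁, rfl⟩ := hfac g₁ hg₁
  obtain ⟨u₂, hu₂, n₂, hn₂, rfl⟩ := hfac g₂ hg₂
  have e : ⁅u₁ * n₁, u₂ * n₂⁆ = (u₁ * n₁ * u₁⁻¹) * ((u₁ * u₂) * (n₂ * n₁⁻¹) * (u₁ * u₂)⁻¹) *
      ((u₁ * u₂ * u₁⁻¹) * n₂⁻¹ * (u₁ * u₂ * u₁⁻¹)⁻¹) * ⁅u₁, u₂⁆ := by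
    rw [commutatorElement_def, commutatorElement_def]; group
  rw [e]
  have hu₁M := hUM hu₁
  have hu₂M := hUM hu₂
  have t1 : u₁ * n₁ * u₁⁻¹ ∈ N := bgf_conj_mem (hn hu₁M) hn₁
  have t2 : (u₁ * u₂) * (n₂ * n₁⁻¹) * (u₁ * u₂)⁻¹ ∈ N :=
    bgf_conj_mem (hn (M.mul_mem hu₁M hu₂M)) (N.mul_mem hn₂ (N.inv_mem hn₁))
  have t3 : (u₁ * u₂ * u₁⁻¹) * n₂⁻¹ * (u₁ * u₂ * u₁⁻¹)⁻¹ ∈ N :=
    bgf_conj_mem (hn (M.mul_mem (M.mul_mem hu₁M hu₂M) (M.inv_mem hu₁M))) (N.inv_mem hn₂)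
  exact Subgroup.mul_mem _ (Subgroup.mem_sup_left (N.mul_mem (N.mul_mem t1 t2) t3))
    (Subgroup.mem_sup_right (Subgroup.commutator_mem_commutator hu₁ hu₂))

end rel

end Cfsg.Agent.Lib.helper2
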