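import Mathlib
import Cfsg.Prelude.Def_OddOrderLocal
import Cfsg.Agent.Lib.Helper11.NilpCoprime
import Cfsg.Agent.Lib.helper2.PiPart

set_option autoImplicit false
open scoped commutatorElement

namespace Cfsg.Agent.Lib.helper2

section rel2

variable {G : Type*} [Group G]

/-- class-two criterion -/
theorem bgf_nilpotent_class_two {C : Subgroup G}
    (h : ⁅C, C⁆ ≤ Subgroup.centralizer (C : Set G)) : Group.IsNilpotent C := by
  apply Subgroup.isNilpotent_of_lowerCentralSeries_eq_bot (n := 2)
  rw [Subgroup.lowerCentralSeries_succ, Subgroup.lowerCentralSeries_succ,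
    Subgroup.lowerCentralSeries_zero]
  exact Subgroup.commutator_eq_bot_iff_le_centralizer.mpr h

/-- nilpotent via a hom with central kernel and nilpotent range -/
theorem bgf_nilpotent_of_hom {C : Subgroup G} {H : Type*} [Group H] (f : ↥C →* H)
    (hker : ∀ c : ↥C, f c = 1 → ∀ d : ↥C, d * c = c * d) (hH : Group.IsNilpotent f.range) :
    Group.IsNilpotent C := by
  apply Subgroup.isNilpotent_of_ker_le_center f.rangeRestrict
  intro c hc
  rw [MonoidHom.mem_ker] at hc
  have hc' : f c = 1 := by
    have := congrArg Subtype.val hc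
    simpa using this
  rw [Subgroup.mem_center_iff]
  intro d
  exact hker c hc' d

/-- the product of two elementwise commuting nilpotent subgroups is nilpotent -/
theorem bgf_nilpotent_sup_of_commute {A B : Subgroup G} (hA : Group.IsNilpotent A)
    (hB : Group.IsNilpotent B) (hc : ∀ a ∈ A, ∀ b ∈ B, a * b = b * a) :
    Group.IsNilpotent ↥(A ⊔ B) := by
  let f : ↥A × ↥B →* G :=
    { toFun := fun z => (z.1 : G) * (z.2 : G)
      map_one' := by simp
      map_mul' := by
        rintro ⟨a, b⟩ ⟨a', b'⟩
        have := hc a'.1 a'.2 b.1 b.2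
        simp only [Prod.mk_mul_mk, Subgroup.coe_mul]
        calc (a : G) * a' * (b * b') = a * (a' * b) * b' := by group
          _ = a * (b * a') * b' := by rw [this]
          _ = a * b * (a' * b') := by group }
  have hrange : f.range = A ⊔ B := by
    apply le_antisymm
    · rintro _ ⟨⟨a, b⟩, rfl⟩
      exact Subgroup.mul_mem _ (Subgroup.mem_sup_left a.2) (Subgroup.mem_sup_right b.2)
    · apply sup_le
      · intro a ha
        exact ⟨(⟨a, ha⟩, 1), by simp [f]⟩
      · intro b hb
        exact ⟨(1, ⟨b, hb⟩), by simp [f]⟩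
  rw [← hrange]
  exact Group.nilpotent_of_surjective f.rangeRestrict f.rangeRestrict_surjective

theorem bgf_coprime_fix {x s t : G} (h : x * s * x⁻¹ = t * s)
    (hxt : x * t = t * x) (hcop : (orderOf x).Coprime (orderOf t)) : t = 1 := by
  have hxtn : ∀ n : ℕ, x * t ^ n * x⁻¹ = t ^ n := by
    intro n
    have : x * t ^ n = t ^ n * x := (Commute.pow_right (show Commute x t from hxt) n).eq
    rw [this]; group
  have key : ∀ n : ℕ, x ^ n * s * (x ^ n)⁻¹ = t ^ n * s := by
    intro n
    induction n with
    | zero => simp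
    | succ n ih =>
      calc x ^ (n + 1) * s * (x ^ (n + 1))⁻¹ = x * (x ^ n * s * (x ^ n)⁻¹) * x⁻¹ := by
            rw [pow_succ']; group
        _ = x * (t ^ n * s) * x⁻¹ := by rw [ih]
        _ = (x * t ^ n * x⁻¹) * (x * s * x⁻¹) := by group
        _ = t ^ n * (t * s) := by rw [hxtn, h]
        _ = t ^ (n + 1) * s := by rw [pow_succ]; group
  have h1 := key (orderOf x)
  rw [pow_orderOf_eq_one] at h1
  have h2 : t ^ orderOf x = 1 := by
    have : s = t ^ orderOf x * s := by simpa using h1
    have h3 : t ^ orderOf x * s = 1 * s := by rw [one_mul]; exact this.symm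
    exact mul_right_cancel h3
  have h3 : orderOf t ∣ orderOf x := orderOf_dvd_of_pow_eq_one h2
  have h4 : orderOf t = 1 := Nat.Coprime.eq_one_of_dvd hcop.symm h3
  exact orderOf_eq_one_iff.mp h4

end rel2

section nilp

theorem bgf_mem_of_coprime_index {Γ : Type*} [Group Γ] [Finite Γ] (N : Subgroup Γ) [N.Normal]
    {y : Γ} (h : (orderOf y).Coprime N.index) : y ∈ N := by
  have h1 : orderOf (QuotientGroup.mk' N y) ∣ orderOf y := orderOf_map_dvd (QuotientGroup.mk' N) y
  have h2 : orderOf (QuotientGroup.mk' N y) ∣ N.index := by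
    rw [Subgroup.index_eq_card]
    exact orderOf_dvd_natCard _
  have h3 : orderOf (QuotientGroup.mk' N y) = 1 := Nat.eq_one_of_dvd_coprimes h h1 h2
  rw [orderOf_eq_one_iff] at h3
  rwa [QuotientGroup.mk'_apply, QuotientGroup.eq_one_iff] at h3

/-- in a finite nilpotent group a normal Hall subgroup is complemented by its centralizer -/
theorem bgf_hall_decomp {Γ : Type*} [Group Γ] [Finite Γ] [Group.IsNilpotent Γ] (H : Subgroup Γ)
    [H.Normal] (hH : (Nat.card H).Coprime H.index) (x : Γ) :
    ∃ h ∈ H, ∃ c ∈ Subgroup.centralizer (H : Set Γ), x = c * h := by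
  have hmn : Nat.card Γ = Nat.card H * H.index := (Subgroup.card_mul_index H).symm
  obtain ⟨e, e', hme, hen, hne', hem', hee⟩ := exists_crt_exponent (Nat.card H) H.index hH
  have hx : x ^ e' * x ^ e = x := pow_crt_add hmn hee x
  have ho1 : orderOf (x ^ e) ∣ H.index := orderOf_pow_crt_dvd hmn hme x
  have ho2 : orderOf (x ^ e') ∣ Nat.card H := by
    have hmn' : Nat.card Γ = H.index * Nat.card H := by rw [hmn, mul_comm]
    exact orderOf_pow_crt_dvd hmn' hne' x
  refine ⟨x ^ e', ?_, x ^ e, ?_, ?_⟩
  · apply bgf_mem_of_coprime_index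
    exact Nat.Coprime.coprime_dvd_left ho2 hH
  · rw [Subgroup.mem_centralizer_iff]
    intro h hh
    have hoh : orderOf h ∣ Nat.card H := by
      have := orderOf_dvd_natCard (⟨h, hh⟩ : H)
      rwa [Subgroup.orderOf_mk] at this
    have hc : (orderOf h).Coprime (orderOf (x ^ e)) :=
      Nat.Coprime.coprime_dvd_left hoh (Nat.Coprime.coprime_dvd_right ho1 hH)
    exact (Cfsg.Agent.Lib.Helper11.commute_of_coprime_orderOf h (x ^ e) hc).eq
  · have hc : Commute (x ^ e') (x ^ e) := (Commute.refl x).pow_pow e' e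
    rw [← hc.eq]; exact hx.symm

end nilp

end Cfsg.Agent.Lib.helper2
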