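import Mathlib
import Cfsg.Prelude.Def_OddOrderLocal
import Cfsg.Agent.Lib.helper2.BG15A
import Cfsg.Agent.Lib.helper2.BG15B

set_option autoImplicit false
open scoped commutatorElement

namespace Cfsg.Agent.Lib.helper2

open Cfsg

variable {G : Type*} [Group G] [Finite G]

/-- no nonidentity element of `K` centralizes `M_σ` -/
theorem bgf_no_kappa_centralizes {M K : Subgroup G}
    (h30 : ∀ k ∈ K, k ≠ 1 → sigmaCore M ⊓ Subgroup.centralizer ({k} : Set G) =
      sigmaCore M ⊓ Subgroup.centralizer (K : Set G))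
    (h31 : ∀ p : ℕ, p.Prime → p ∣ Nat.card ↥(sigmaCore M ⊓ Subgroup.centralizer (K : Set G)) →
      ∀ S : Sylow p ↥(sigmaCore M),
        ¬ (S : Subgroup ↥(sigmaCore M)).map (sigmaCore M).subtype ≤
          sigmaCore M ⊓ Subgroup.centralizer (K : Set G))
    (hne : sigmaCore M ⊓ Subgroup.centralizer (K : Set G) ≠ ⊥)
    {k : G} (hk : k ∈ K) (hk1 : k ≠ 1) :
    ¬ sigmaCore M ≤ Subgroup.centralizer ({k} : Set G) := by
  intro hle
  have e : sigmaCore M ≤ sigmaCore M ⊓ Subgroup.centralizer (K : Set G) := by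
    rw [← h30 k hk hk1]
    exact le_inf le_rfl hle
  have hc : Nat.card ↥(sigmaCore M ⊓ Subgroup.centralizer (K : Set G)) ≠ 1 := by
    intro h
    exact hne (Subgroup.card_eq_one.mp h)
  obtain ⟨p, hp, hpd⟩ := Nat.exists_prime_and_dvd hc
  haveI : Fact p.Prime := ⟨hp⟩
  obtain ⟨S⟩ : Nonempty (Sylow p ↥(sigmaCore M)) := inferInstance
  exact h31 p hp hpd S ((Subgroup.map_subtype_le _).trans e)

/-- a subgroup normalized by `M` and meeting `K` trivially lies in the normal `κ'`-Hall subgroup -/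
theorem bgf_normal_le_W {M K W X : Subgroup G}
    (hconj : ∀ w ∈ M, w ≠ 1 → (∀ p : ℕ, p.Prime → p ∣ orderOf w → p ∈ kappa M) →
      ∃ m ∈ M, m⁻¹ * w * m ∈ K)
    (hW : ∀ Y : Subgroup G, Y ≤ M → (∀ p : ℕ, p.Prime → p ∣ Nat.card Y → p ∉ kappa M) → Y ≤ W)
    (hXM : X ≤ M) (hn : M ≤ Subgroup.normalizer (X : Set G)) (hXK : X ⊓ K = ⊥) : X ≤ W := by
  apply hW X hXM
  intro p hp hpd hκ
  haveI : Fact p.Prime := ⟨hp⟩
  obtain ⟨x, hx⟩ := exists_prime_orderOf_dvd_card' p hpd
  have hxo : orderOf (x : G) = p := by rw [Subgroup.orderOf_coe]; exact hx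
  have hx1 : (x : G) ≠ 1 := by
    intro h
    rw [h, orderOf_one] at hxo
    exact hp.one_lt.ne hxo
  obtain ⟨m, hm, hmK⟩ := hconj (x : G) (hXM x.2) hx1 (by
    intro q hq hqd
    rw [hxo] at hqd
    rwa [(Nat.prime_dvd_prime_iff_eq hq hp).mp hqd])
  have hmX : m⁻¹ * (x : G) * m ∈ X := bgf_conj_mem' (hn hm) x.2
  have : m⁻¹ * (x : G) * m ∈ X ⊓ K := ⟨hmX, hmK⟩
  rw [hXK, Subgroup.mem_bot] at this
  apply hx1
  have e : (x : G) = m * (m⁻¹ * (x : G) * m) * m⁻¹ := by group
  rw [e, this]; group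

/-- `C_M(M_σ)`-type subgroups inside `U M_σ` are nilpotent (of class at most two) -/
theorem bgf_cent_class_two {M U C : Subgroup G}
    (hUM : U ≤ M) (hMn : M ≤ Subgroup.normalizer (sigmaCore M : Set G))
    (hnil : Group.IsNilpotent (sigmaCore M)) (hne : sigmaCore M ≠ ⊥)
    (h59 : IsMulCommutative (Subgroup.closure ((U : Set G) ∩ sigmaHat M)))
    (hCc : C ≤ Subgroup.centralizer (sigmaCore M : Set G)) (hCle : C ≤ U ⊔ sigmaCore M) :
    Group.IsNilpotent C := by
  haveI : Nontrivial ↥(sigmaCore M) := (Subgroup.nontrivial_iff_ne_bot _).mpr hne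
  have hcen : Subgroup.center ↥(sigmaCore M) ≠ ⊥ :=
    Group.IsNilpotent.center_ne_bot (G := ↥(sigmaCore M))
  obtain ⟨⟨z, hzc⟩, hz1⟩ := (Subgroup.ne_bot_iff_exists_ne_one).mp hcen
  have hzM : (z : G) ∈ sigmaCore M := z.2
  have hz1' : (z : G) ≠ 1 := by
    intro h
    apply hz1
    apply Subtype.ext
    apply Subtype.ext
    simpa using h
  have hzcomm : ∀ s ∈ sigmaCore M, s * (z : G) = (z : G) * s := by
    intro s hs
    have := (Subgroup.mem_center_iff.mp hzc) ⟨s, hs⟩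
    exact congrArg Subtype.val this
  obtain ⟨A, hA⟩ : ∃ A : Subgroup G, A = Subgroup.closure ((U : Set G) ∩ sigmaHat M) := ⟨_, rfl⟩
  have hAM : A ≤ M := by
    rw [hA, Subgroup.closure_le]
    intro a ha
    exact hUM ha.1
  have hCA : C ≤ sigmaCore M ⊔ A := by
    intro c hc
    have hc' : c ∈ sigmaCore M ⊔ U := by rw [sup_comm]; exact hCle hc
    obtain ⟨s, hs, u, hu, rfl⟩ := bgf_exists_mul (hUM.trans hMn) hc'
    apply Subgroup.mul_mem _ (Subgroup.mem_sup_left hs)
    apply Subgroup.mem_sup_right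
    rw [hA]
    apply Subgroup.subset_closure
    refine ⟨hu, hUM hu, (z : G), hzM, hz1', ?_⟩
    have h1 : (s * u) * (z : G) = (z : G) * (s * u) :=
      ((Subgroup.mem_centralizer_iff.mp (hCc hc)) (z : G) hzM).symm
    have h2 := hzcomm s hs
    have h3 : s * (u * (z : G)) = s * ((z : G) * u) := by
      calc s * (u * (z : G)) = (s * u) * (z : G) := by group
        _ = (z : G) * (s * u) := h1
        _ = ((z : G) * s) * u := by group
        _ = (s * (z : G)) * u := by rw [h2]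
        _ = s * ((z : G) * u) := by group
    exact mul_left_cancel h3
  have hcomm : ∀ a ∈ A, ∀ b ∈ A, a * b = b * a := by
    intro a ha b hb
    rw [hA] at ha hb
    have := h59.is_comm.comm (⟨a, ha⟩ : Subgroup.closure ((U : Set G) ∩ sigmaHat M)) ⟨b, hb⟩
    exact congrArg Subtype.val this
  have h1 : ⁅C, C⁆ ≤ sigmaCore M :=
    (Subgroup.commutator_mono hCA hCA).trans (bgf_comm_sup_le (hAM.trans hMn) hcomm)
  apply bgf_nilpotent_class_two
  refine h1.trans ?_
  intro s hs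
  rw [Subgroup.mem_centralizer_iff]
  intro c hc
  exact ((Subgroup.mem_centralizer_iff.mp (hCc hc)) s hs).symm

end Cfsg.Agent.Lib.helper2
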