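import Mathlib
import Cfsg.Prelude.Def_OddOrderLocal
import Cfsg.Agent.Lib.Helper11.FrobDerived
import Cfsg.Agent.Lib.helper2.BG15A
import Cfsg.Agent.Lib.helper2.BG15B

set_option autoImplicit false
open scoped commutatorElement

namespace Cfsg.Agent.Lib.helper2

open Cfsg

section quot

variable {X : Type*} [Group X] [Finite X]

/-- Frobenius action modulo the fixed points of the kernel: the derived group of the kernel
centralizes the `q`-group. -/
theorem bgf_derived_centralizes_top (q : ℕ) [hq : Fact q.Prime] (Q D K : Subgroup X) [hQn : Q.Normal]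
    (hN : (Q ⊓ Subgroup.centralizer (D : Set X)).Normal)
    (hKD : K ≤ Subgroup.normalizer (D : Set X)) (hDnil : Group.IsNilpotent D)
    (hfpf : ∀ k ∈ K, k ≠ 1 → D ⊓ Subgroup.centralizer ({k} : Set X) = ⊥)
    (hQD : Q ⊓ D = ⊥) (hQ : IsPGroup q Q) (hDq : ¬ q ∣ Nat.card D) (hKq : ¬ q ∣ Nat.card K)
    (hcyc : IsCyclic ↥(Q ⊓ Subgroup.centralizer (K : Set X))) :
    ⁅D, D⁆ ≤ Subgroup.centralizer (Q : Set X) := by
  obtain ⟨N, hNdef⟩ : ∃ N : Subgroup X, N = Q ⊓ Subgroup.centralizer (D : Set X) := ⟨_, rfl⟩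
  haveI hNn : N.Normal := hNdef ▸ hN
  have hNQ : N ≤ Q := hNdef ▸ inf_le_left
  obtain ⟨n, hn⟩ := hQ.exists_card_eq
  have hcopD : (Nat.card D).Coprime (Nat.card Q) := by
    rw [hn]
    exact Nat.Coprime.pow_right n ((Nat.Prime.coprime_iff_not_dvd hq.out).mpr hDq).symm
  have hcopK : (Nat.card K).Coprime (Nat.card Q) := by
    rw [hn]
    exact Nat.Coprime.pow_right n ((Nat.Prime.coprime_iff_not_dvd hq.out).mpr hKq).symm
  have hQsolv : Group.IsSolvable Q := by
    haveI : Group.IsNilpotent Q := hQ.isNilpotent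
    infer_instance
  have hnormQ : Subgroup.normalizer (Q : Set X) = ⊤ := Subgroup.normalizer_eq_top Q
  have hfixD := Cfsg.Agent.Lib.Helper11.FrobDerived.map_fixed_quot N Q D hNQ
    (by rw [hnormQ]; exact le_top) hcopD hQsolv
  have hfixK := Cfsg.Agent.Lib.Helper11.FrobDerived.map_fixed_quot N Q K hNQ
    (by rw [hnormQ]; exact le_top) hcopK hQsolv
  have hQbarN : ((Q.map (QuotientGroup.mk' N))).Normal :=
    hQn.map _ (QuotientGroup.mk'_surjective N)
  have hnormQbar : Subgroup.normalizer ((Q.map (QuotientGroup.mk' N) : Subgroup (X ⧸ N)) : Set (X ⧸ N)) = ⊤ :=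
    Subgroup.normalizer_eq_top _
  have key := Cfsg.Agent.Lib.Helper11.FrobDerived.derived_conc q (D.map (QuotientGroup.mk' N))
    (K.map (QuotientGroup.mk' N)) (Q.map (QuotientGroup.mk' N))
    ((Subgroup.map_mono hKD).trans (Subgroup.le_normalizer_map _))
    (by
      haveI := hDnil
      exact Group.nilpotent_of_surjective ((QuotientGroup.mk' N).subgroupMap D)
        ((QuotientGroup.mk' N).subgroupMap_surjective D))
    (by
      rintro _ ⟨k, hk, rfl⟩ hk1
      have hk1' : k ≠ 1 := by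
        intro h
        apply hk1
        rw [h, map_one]
      rw [eq_bot_iff]
      rintro _ ⟨⟨d, hd, rfl⟩, hy2⟩
      rw [Subgroup.mem_bot]
      have hcomm : QuotientGroup.mk' N k * QuotientGroup.mk' N d =
          QuotientGroup.mk' N d * QuotientGroup.mk' N k :=
        (Subgroup.mem_centralizer_iff.mp hy2) _ (Set.mem_singleton _)
      have hmemN : k * d * k⁻¹ * d⁻¹ ∈ N := by
        rw [← QuotientGroup.eq_one_iff]
        have e : ((k * d * k⁻¹ * d⁻¹ : X) : X ⧸ N) =
            (QuotientGroup.mk' N k * QuotientGroup.mk' N d) * (QuotientGroup.mk' N k)⁻¹ *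
              (QuotientGroup.mk' N d)⁻¹ := by
          simp
        rw [e, hcomm]
        group
      have hmemD : k * d * k⁻¹ * d⁻¹ ∈ D :=
        D.mul_mem (bgf_conj_mem (hKD hk) hd) (D.inv_mem hd)
      have h1 : k * d * k⁻¹ * d⁻¹ ∈ Q ⊓ D := ⟨hNQ hmemN, hmemD⟩
      rw [hQD, Subgroup.mem_bot] at h1
      have h2 : k * d = d * k := by
        have : k * d = (k * d * k⁻¹ * d⁻¹) * (d * k) := by group
        rw [this, h1, one_mul]
      have h3 : d ∈ D ⊓ Subgroup.centralizer ({k} : Set X) := by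
        refine Subgroup.mem_inf.mpr ⟨hd, ?_⟩
        rw [Subgroup.mem_centralizer_singleton_iff]
        exact h2.symm
      rw [hfpf k hk hk1', Subgroup.mem_bot] at h3
      rw [h3, map_one])
    (by rw [hnormQbar]; exact le_top)
    (by rw [hnormQbar]; exact le_top)
    (fun h => hDq (h.trans (Subgroup.card_map_dvd D _)))
    (fun h => hKq (h.trans (Subgroup.card_map_dvd K _)))
    (hQ.map _)
    (by
      rw [← hfixD, ← hNdef]
      exact QuotientGroup.map_mk'_self N)
    (by
      rw [← hfixK]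
      haveI := hcyc
      exact isCyclic_of_surjective
        ((QuotientGroup.mk' N).subgroupMap (Q ⊓ Subgroup.centralizer (K : Set X)))
        ((QuotientGroup.mk' N).subgroupMap_surjective _))
  rw [Subgroup.commutator_le]
  intro a ha b hb
  have hab : ⁅a, b⁆ ∈ ⁅D, D⁆ := Subgroup.commutator_mem_commutator ha hb
  have habD : ⁅a, b⁆ ∈ D := (Subgroup.commutator_le_self D) hab
  rw [Subgroup.mem_centralizer_iff]
  intro x hx
  have h1 : QuotientGroup.mk' N ⁅a, b⁆ ∈
      ⁅D.map (QuotientGroup.mk' N), D.map (QuotientGroup.mk' N)⁆ := by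
    rw [← Subgroup.map_commutator]
    exact Subgroup.mem_map_of_mem _ hab
  have h2 := (Subgroup.mem_centralizer_iff.mp (key h1)) _ (Subgroup.mem_map_of_mem _ hx)
  obtain ⟨c, hc⟩ : ∃ c : X, c = ⁅a, b⁆ := ⟨_, rfl⟩
  rw [← hc] at h2 habD ⊢
  have hmemN : c * x * c⁻¹ * x⁻¹ ∈ N := by
    rw [← QuotientGroup.eq_one_iff]
    have e : ((c * x * c⁻¹ * x⁻¹ : X) : X ⧸ N) =
        (QuotientGroup.mk' N c * QuotientGroup.mk' N x) * (QuotientGroup.mk' N c)⁻¹ *
          (QuotientGroup.mk' N x)⁻¹ := by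
      simp
    rw [e, ← h2]
    group
  have htc : c * (c * x * c⁻¹ * x⁻¹) = (c * x * c⁻¹ * x⁻¹) * c := by
    rw [hNdef] at hmemN
    exact (Subgroup.mem_centralizer_iff.mp hmemN.2) c habD
  have ht1 : c * x * c⁻¹ * x⁻¹ = 1 := by
    apply bgf_coprime_fix (x := c) (s := x) (t := c * x * c⁻¹ * x⁻¹) (by group) htc
    have ho1 : orderOf c ∣ Nat.card D := by
      have := orderOf_dvd_natCard (⟨c, habD⟩ : D)
      rwa [Subgroup.orderOf_mk] at this
    have ho2 : orderOf (c * x * c⁻¹ * x⁻¹) ∣ Nat.card Q := by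
      have := orderOf_dvd_natCard (⟨_, hNQ hmemN⟩ : Q)
      rwa [Subgroup.orderOf_mk] at this
    exact Nat.Coprime.coprime_dvd_left ho1 (Nat.Coprime.coprime_dvd_right ho2 hcopD)
  have : x * c = (c * x * c⁻¹ * x⁻¹)⁻¹ * (c * x) := by group
  rw [this, ht1]; group

end quot

section transport

variable {G : Type*} [Group G] [Finite G]

/-- the same inside a subgroup `M` normalizing `Q` and `C_Q(D)` -/
theorem bgf_derived_centralizes (q : ℕ) [hq : Fact q.Prime] (M Q D K : Subgroup G)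
    (hQM : Q ≤ M) (hDM : D ≤ M) (hKM : K ≤ M)
    (hMQ : M ≤ Subgroup.normalizer (Q : Set G))
    (hMN : M ≤ Subgroup.normalizer ((Q ⊓ Subgroup.centralizer (D : Set G) : Subgroup G) : Set G))
    (hKD : K ≤ Subgroup.normalizer (D : Set G)) (hDnil : Group.IsNilpotent D)
    (hfpf : ∀ k ∈ K, k ≠ 1 → D ⊓ Subgroup.centralizer ({k} : Set G) = ⊥)
    (hQD : Q ⊓ D = ⊥) (hQ : IsPGroup q Q) (hDq : ¬ q ∣ Nat.card D) (hKq : ¬ q ∣ Nat.card K)
    (hcyc : IsCyclic ↥(Q ⊓ Subgroup.centralizer (K : Set G))) :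
    ⁅D, D⁆ ≤ Subgroup.centralizer (Q : Set G) := by
  haveI hQn : (Q.subgroupOf M).Normal := Subgroup.normal_subgroupOf_of_le_normalizer hMQ
  have key := bgf_derived_centralizes_top q (Q.subgroupOf M) (D.subgroupOf M) (K.subgroupOf M)
    (by
      rw [Cfsg.Agent.Lib.Helper11.FrobFourTerm2.inf_centralizer_subgroupOf M Q D hDM]
      exact Subgroup.normal_subgroupOf_of_le_normalizer hMN)
    (by
      rw [Subgroup.le_normalizer_iff]
      intro e he u hu
      rw [Subgroup.mem_subgroupOf] at he hu ⊢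
      simp only [Subgroup.coe_mul, InvMemClass.coe_inv]
      exact (Subgroup.le_normalizer_iff.mp hKD) _ he _ hu)
    ((Group.isNilpotent_congr (Subgroup.subgroupOfEquivOfLe hDM)).mpr hDnil)
    (by
      intro e he he1
      rw [Subgroup.mem_subgroupOf] at he
      have he1' : (e : G) ≠ 1 := by
        intro h
        apply he1
        exact Subtype.ext h
      rw [eq_bot_iff]
      intro u hu
      obtain ⟨hu1, hu2⟩ := Subgroup.mem_inf.mp hu
      rw [Subgroup.mem_subgroupOf] at hu1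
      have h1 : (u : G) ∈ D ⊓ Subgroup.centralizer ({(e : G)} : Set G) := by
        refine Subgroup.mem_inf.mpr ⟨hu1, ?_⟩
        rw [Subgroup.mem_centralizer_iff]
        intro y hy
        rw [Set.mem_singleton_iff] at hy
        rw [hy]
        have := (Subgroup.mem_centralizer_iff.mp hu2) e (Set.mem_singleton _)
        exact congrArg Subtype.val this
      rw [hfpf e he he1', Subgroup.mem_bot] at h1
      rw [Subgroup.mem_bot]
      exact Subtype.ext h1)
    (by
      rw [eq_bot_iff]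
      intro u hu
      obtain ⟨hu1, hu2⟩ := Subgroup.mem_inf.mp hu
      rw [Subgroup.mem_subgroupOf] at hu1 hu2
      have h1 : (u : G) ∈ Q ⊓ D := Subgroup.mem_inf.mpr ⟨hu1, hu2⟩
      rw [hQD, Subgroup.mem_bot] at h1
      rw [Subgroup.mem_bot]
      exact Subtype.ext h1)
    (hQ.of_equiv (Subgroup.subgroupOfEquivOfLe hQM).symm)
    (by rw [Cfsg.Agent.Lib.Helper11.FrobConcCore.card_subgroupOf_eq hDM]; exact hDq)
    (by rw [Cfsg.Agent.Lib.Helper11.FrobConcCore.card_subgroupOf_eq hKM]; exact hKq)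
    (by
      rw [Cfsg.Agent.Lib.Helper11.FrobFourTerm2.inf_centralizer_subgroupOf M Q K hKM]
      have e := (Subgroup.subgroupOfEquivOfLe
        ((inf_le_left : Q ⊓ Subgroup.centralizer (K : Set G) ≤ Q).trans hQM)).symm
      exact isCyclic_of_surjective e.toMonoidHom e.surjective)
  rw [Subgroup.commutator_le]
  intro a ha b hb
  have h1 : ⁅(⟨a, hDM ha⟩ : M), (⟨b, hDM hb⟩ : M)⁆ ∈ ⁅D.subgroupOf M, D.subgroupOf M⁆ :=
    Subgroup.commutator_mem_commutator (Subgroup.mem_subgroupOf.mpr ha)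
      (Subgroup.mem_subgroupOf.mpr hb)
  have h2 := key h1
  rw [Subgroup.mem_centralizer_iff] at h2 ⊢
  intro x hx
  have h3 := h2 (⟨x, hQM hx⟩ : M) (Subgroup.mem_subgroupOf.mpr hx)
  exact congrArg Subtype.val h3

end transport

end Cfsg.Agent.Lib.helper2
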