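import Mathlib
import Cfsg.Prelude.Def_OddOrderLocal
import Cfsg.Agent.Lib.Helper10.TypeP
import Cfsg.Agent.Lib.Helper11.MaxLocB
import Cfsg.Agent.Lib.Helper11.CNNormalSylow
import Cfsg.Agent.Lib.Helper11.CNQuot
import Cfsg.Agent.Lib.helper2.BG15A
import Cfsg.Agent.Lib.helper2.BG15B

set_option autoImplicit false
open scoped commutatorElement

namespace Cfsg.Agent.Lib.helper2

open Cfsg

section fit

variable {G : Type*} [Group G]

/-- a nilpotent subgroup of `M` normalized by `M` lies in `F(M)` -/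
theorem bgf_le_fittingOf {W M : Subgroup G} (hWM : W ≤ M)
    (hMW : M ≤ Subgroup.normalizer (W : Set G)) (hW : Group.IsNilpotent W) :
    W ≤ fittingOf M := by
  have hn : (W.subgroupOf M).Normal := Subgroup.normal_subgroupOf_of_le_normalizer hMW
  have hnil : Group.IsNilpotent (W.subgroupOf M) :=
    (Group.isNilpotent_congr (Subgroup.subgroupOfEquivOfLe hWM)).mpr hW
  have hle : W.subgroupOf M ≤ fittingSubgroup ↥M := le_sSup ⟨hn, hnil⟩
  intro w hw
  exact ⟨⟨w, hWM hw⟩, hle (by rw [Subgroup.mem_subgroupOf]; exact hw), rfl⟩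

/-- `M_F` is nilpotent -/
theorem bgf_fittingHallOf_nilpotent [Finite G] (M : Subgroup G) :
    Group.IsNilpotent (fittingHallOf M) := by
  haveI : Group.IsNilpotent (fittingHall ↥M) := Cfsg.Agent.Lib.Helper11.fittingHall_isNilpotent
  unfold fittingHallOf
  exact Group.nilpotent_of_mulEquiv
    ((fittingHall ↥M).equivMapOfInjective M.subtype M.subtype_injective)

/-- `M_F ≤ F(M)` -/
theorem bgf_fittingHallOf_le_fittingOf [Finite G] (M : Subgroup G) :
    fittingHallOf M ≤ fittingOf M :=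
  bgf_le_fittingOf (Cfsg.Agent.Lib.Helper10.fittingHallOf_le M)
    (Cfsg.Agent.Lib.Helper10.le_normalizer_fittingHallOf M) (bgf_fittingHallOf_nilpotent M)

/-- `F(M) ≤ C_M(M_F) M_F` -/
theorem bgf_fitting_le [Finite G] (M : Subgroup G) :
    fittingOf M ≤ (M ⊓ Subgroup.centralizer (fittingHallOf M : Set G)) ⊔ fittingHallOf M := by
  obtain ⟨F, hF⟩ : ∃ F : Subgroup G, F = fittingOf M := ⟨_, rfl⟩
  obtain ⟨H, hH⟩ : ∃ H : Subgroup G, H = fittingHallOf M := ⟨_, rfl⟩
  have hFM : F ≤ M := hF ▸ Cfsg.Agent.Lib.Helper11.MaxLocB.fittingOf_le M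
  have hHF : H ≤ F := by rw [hH, hF]; exact bgf_fittingHallOf_le_fittingOf M
  have hHM : H ≤ M := hHF.trans hFM
  have hMH : M ≤ Subgroup.normalizer (H : Set G) :=
    hH ▸ Cfsg.Agent.Lib.Helper10.le_normalizer_fittingHallOf M
  haveI hFnil : Group.IsNilpotent ↥F := hF ▸ Cfsg.Agent.Lib.Helper11.MaxLocB.fittingOf_nilpotent M
  haveI hn : (H.subgroupOf F).Normal :=
    Subgroup.normal_subgroupOf_of_le_normalizer (hFM.trans hMH)
  have hcop : (Nat.card (H.subgroupOf F)).Coprime (H.subgroupOf F).index := by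
    have h1 : Nat.card (H.subgroupOf F) = Nat.card H :=
      Nat.card_congr (Subgroup.subgroupOfEquivOfLe hHF).toEquiv
    have h2 : (H.subgroupOf F).index = H.relIndex F := rfl
    have h3 : H.relIndex F ∣ H.relIndex M :=
      Dvd.intro _ (Subgroup.relIndex_mul_relIndex H F M hHF hFM)
    rw [h1, h2]
    have := Cfsg.Agent.Lib.Helper10.fittingHallOf_coprime M
    rw [← hH] at this
    exact Nat.Coprime.coprime_dvd_right h3 this
  rw [← hF, ← hH]
  intro x hx
  obtain ⟨h, hh, c, hc, hxc⟩ := bgf_hall_decomp (H.subgroupOf F) hcop (⟨x, hx⟩ : F)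
  have hx' : x = (c : G) * (h : G) := by
    have := congrArg Subtype.val hxc
    simpa using this
  rw [hx']
  apply Subgroup.mul_mem _ (Subgroup.mem_sup_left _) (Subgroup.mem_sup_right _)
  · refine Subgroup.mem_inf.mpr ⟨hFM c.2, ?_⟩
    rw [Subgroup.mem_centralizer_iff]
    intro y hy
    have := (Subgroup.mem_centralizer_iff.mp hc) (⟨y, hHF hy⟩ : F)
      (by rw [SetLike.mem_coe, Subgroup.mem_subgroupOf]; exact hy)
    exact congrArg Subtype.val this
  · exact Subgroup.mem_subgroupOf.mp hh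

/-- the image of `M'` in `M / M_F` is nilpotent when `M' ≤ M_F A` with `A` nilpotent -/
theorem bgf_image_nilpotent {M A : Subgroup G} (hAM : A ≤ M) (hA : Group.IsNilpotent A)
    (hle : ⁅M, M⁆ ≤ fittingHallOf M ⊔ A) :
    Group.IsNilpotent ↥((commutator ↥M).map (QuotientGroup.mk' (fittingHall ↥M))) := by
  have hnil : Group.IsNilpotent ↥((A.subgroupOf M).map (QuotientGroup.mk' (fittingHall ↥M))) := by
    apply Cfsg.Agent.Lib.Helper11.isNilpotent_map'
    exact (Group.isNilpotent_congr (Subgroup.subgroupOfEquivOfLe hAM)).mpr hA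
  apply Cfsg.Agent.Lib.Helper11.isNilpotent_of_le' _ hnil
  rintro _ ⟨x, hx, rfl⟩
  have hx' : (x : G) ∈ ⁅M, M⁆ := by
    rw [← Subgroup.map_subtype_commutator]
    exact ⟨x, hx, rfl⟩
  obtain ⟨f, hf, a, ha, hfa⟩ := bgf_exists_mul
    (hAM.trans (Cfsg.Agent.Lib.Helper10.le_normalizer_fittingHallOf M)) (hle hx')
  obtain ⟨f', hf', rfl⟩ := hf
  refine ⟨⟨a, hAM ha⟩, Subgroup.mem_subgroupOf.mpr ha, ?_⟩
  have hxe : x = f' * ⟨a, hAM ha⟩ := Subtype.ext hfa
  rw [hxe, map_mul]
  have : QuotientGroup.mk' (fittingHall ↥M) f' = 1 := by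
    rw [QuotientGroup.mk'_apply, QuotientGroup.eq_one_iff]
    exact hf'
  rw [this, one_mul]

/-- a subgroup of `N = Q D` centralizing the normal subgroup `Q`, with `D` nilpotent, is nilpotent -/
theorem bgf_nilpotent_of_central_quot {N Q D X : Subgroup G} (hQN : Q ≤ N) (hDN : D ≤ N)
    (hNQ : N ≤ Subgroup.normalizer (Q : Set G)) (hD : Group.IsNilpotent D)
    (hfac : ∀ m ∈ N, ∃ a ∈ Q, ∃ b ∈ D, m = a * b)
    (hXN : X ≤ N) (hXQ : X ≤ Subgroup.centralizer (Q : Set G)) : Group.IsNilpotent X := by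
  haveI hn : (Q.subgroupOf N).Normal := Subgroup.normal_subgroupOf_of_le_normalizer hNQ
  -- the quotient `N / Q` is nilpotent, as an image of `D`
  have hquot : Group.IsNilpotent (↥N ⧸ Q.subgroupOf N) := by
    haveI := hD
    let g : ↥D →* (↥N ⧸ Q.subgroupOf N) :=
      (QuotientGroup.mk' (Q.subgroupOf N)).comp (Subgroup.inclusion hDN)
    apply Group.nilpotent_of_surjective g
    intro y
    obtain ⟨m, rfl⟩ := QuotientGroup.mk'_surjective (Q.subgroupOf N) y
    obtain ⟨a, ha, b, hb, hm⟩ := hfac m.1 m.2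
    refine ⟨⟨b, hb⟩, ?_⟩
    have hme : m = (⟨a, hQN ha⟩ : N) * (⟨b, hDN hb⟩ : N) := Subtype.ext hm
    have h1 : QuotientGroup.mk' (Q.subgroupOf N) (⟨a, hQN ha⟩ : N) = 1 := by
      rw [QuotientGroup.mk'_apply, QuotientGroup.eq_one_iff, Subgroup.mem_subgroupOf]
      exact ha
    rw [hme, map_mul, h1, one_mul]
    rfl
  let f : ↥X →* (↥N ⧸ Q.subgroupOf N) :=
    (QuotientGroup.mk' (Q.subgroupOf N)).comp (Subgroup.inclusion hXN)
  apply bgf_nilpotent_of_hom f
  · intro c hc d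
    have hcQ : (c : G) ∈ Q := by
      have h1 : QuotientGroup.mk' (Q.subgroupOf N) (Subgroup.inclusion hXN c) = 1 := hc
      rw [QuotientGroup.mk'_apply, QuotientGroup.eq_one_iff, Subgroup.mem_subgroupOf] at h1
      exact h1
    apply Subtype.ext
    simp only [Subgroup.coe_mul]
    exact ((Subgroup.mem_centralizer_iff.mp (hXQ d.2)) (c : G) hcQ).symm
  · haveI := hquot
    infer_instance

end fit

end Cfsg.Agent.Lib.helper2
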