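import Mathlib
import Cfsg.Prelude.Def_OddOrderLocal
import Cfsg.Agent.Lib.Helper1.Hall
import Cfsg.Agent.Lib.Helper1.InternalSZ
import Cfsg.Agent.Lib.helper2.BG15A

set_option autoImplicit false
open scoped commutatorElement Pointwise

namespace Cfsg.Agent.Lib.helper2

open Cfsg

section compl

variable {G : Type*} [Group G] [Finite G]

/-- Hall: a subgroup of order coprime to the index of a Hall subgroup is conjugate into it -/
theorem bgf_hall_conj_into {W U Y : Subgroup G} (hWs : Group.IsSolvable W) (hUW : U ≤ W)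
    (hYW : Y ≤ W) {n : ℕ} (hcard : Nat.card W = Nat.card U * n)
    (hcop : (Nat.card U).Coprime n) (hY : (Nat.card Y).Coprime n) :
    ∃ w ∈ W, ∀ y ∈ Y, w⁻¹ * y * w ∈ U := by
  have hcU : Nat.card (U.subgroupOf W) = Nat.card U :=
    Nat.card_congr (Subgroup.subgroupOfEquivOfLe hUW).toEquiv
  have hcY : (Nat.card (Y.subgroupOf W)).Coprime n := by
    rw [Nat.card_congr (Subgroup.subgroupOfEquivOfLe hYW).toEquiv]
    exact hY
  obtain ⟨g, hg⟩ := Cfsg.Agent.Lib.Helper1.hall_le_conj (Nat.card U) n hcard hcop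
    (U.subgroupOf W) (Y.subgroupOf W) hcU hcY
  refine ⟨g, g.2, ?_⟩
  intro y hy
  have hyg : (⟨y, hYW hy⟩ : W) ∈ MulAut.conj g • U.subgroupOf W :=
    hg (by simpa [Subgroup.mem_subgroupOf] using hy)
  rw [Subgroup.mem_smul_pointwise_iff_exists] at hyg
  obtain ⟨e, he, hey⟩ := hyg
  have hgy : (g : G) * (e : G) * (g : G)⁻¹ = y := by
    have := congrArg Subtype.val hey
    simpa [MulAut.smul_def, MulAut.conj_apply] using this
  rw [← hgy]
  have h1 : (g : G)⁻¹ * ((g : G) * (e : G) * (g : G)⁻¹) * (g : G) = e := by group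
  rw [h1]
  exact Subgroup.mem_subgroupOf.mp he

/-- a normal Hall subgroup `Q` of the solvable group `M`, inside a normal subgroup `N`, has a
complement in `N` invariant under a given subgroup `K` of order coprime to `|Q|` -/
theorem bgf_exists_invariant_compl {M N Q K : Subgroup G} (hMs : Group.IsSolvable M)
    (hQN : Q ≤ N) (hNM : N ≤ M) (hKM : K ≤ M)
    (hMQ : M ≤ Subgroup.normalizer (Q : Set G)) (hMN : M ≤ Subgroup.normalizer (N : Set G))
    (hcop : (Nat.card Q).Coprime (Q.relIndex M)) (hK : (Nat.card K).Coprime (Nat.card Q)) :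
    ∃ D : Subgroup G, IsComplIn Q D N ∧ K ≤ Subgroup.normalizer (D : Set G) := by
  obtain ⟨H, hHM, hQH, hsup, hcardH⟩ :=
    Cfsg.Agent.Lib.Helper1.exists_complement_of_coprime_relIndex Q M (hQN.trans hNM) hMQ hcop
  have hcardM : Nat.card M = Nat.card H * Nat.card Q := by
    have h1 := Subgroup.relIndex_mul_relIndex ⊥ Q M bot_le (hQN.trans hNM)
    rw [Subgroup.relIndex_bot_left, Subgroup.relIndex_bot_left] at h1
    rw [hcardH, ← h1, mul_comm]
  have hcop' : (Nat.card H).Coprime (Nat.card Q) := by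
    rw [hcardH]; exact hcop.symm
  obtain ⟨w, hwM, hw⟩ := bgf_hall_conj_into hMs hHM hKM hcardM hcop' hK
  have hmemH' : ∀ x : G, x ∈ H.map (MulAut.conj w).toMonoidHom ↔ w⁻¹ * x * w ∈ H := by
    intro x
    constructor
    · rintro ⟨h, hh, rfl⟩
      have : w⁻¹ * ((MulAut.conj w).toMonoidHom h) * w = h := by
        simp [MulAut.conj_apply, mul_assoc]
      rw [this]; exact hh
    · intro hx
      refine ⟨w⁻¹ * x * w, hx, ?_⟩
      simp [MulAut.conj_apply, mul_assoc]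
  have hKH' : K ≤ H.map (MulAut.conj w).toMonoidHom := by
    intro k hk
    rw [hmemH']
    exact hw k hk
  refine ⟨H.map (MulAut.conj w).toMonoidHom ⊓ N, ⟨hQN, inf_le_right, ?_, ?_⟩, ?_⟩
  · rw [eq_bot_iff]
    intro x hx
    obtain ⟨hxQ, hxD⟩ := Subgroup.mem_inf.mp hx
    have hxH := (hmemH' x).mp (Subgroup.mem_inf.mp hxD).1
    have hxQ' : w⁻¹ * x * w ∈ Q := bgf_conj_mem' (hMQ hwM) hxQ
    have h1 : w⁻¹ * x * w ∈ Q ⊓ H := Subgroup.mem_inf.mpr ⟨hxQ', hxH⟩
    rw [hQH, Subgroup.mem_bot] at h1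
    rw [Subgroup.mem_bot]
    have e : x = w * (w⁻¹ * x * w) * w⁻¹ := by group
    rw [e, h1]; group
  · intro n hn
    have h1 : w⁻¹ * n * w ∈ Q ⊔ H := by
      rw [hsup]
      exact M.mul_mem (M.mul_mem (M.inv_mem hwM) (hNM hn)) hwM
    obtain ⟨a, ha, h, hh, e⟩ := bgf_exists_mul (hHM.trans hMQ) h1
    have hne : n = (w * a * w⁻¹) * (w * h * w⁻¹) := by
      have e' : n = w * (w⁻¹ * n * w) * w⁻¹ := by group
      rw [e', e]; group
    have haQ : w * a * w⁻¹ ∈ Q := bgf_conj_mem (hMQ hwM) ha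
    refine ⟨w * a * w⁻¹, haQ, w * h * w⁻¹, Subgroup.mem_inf.mpr ⟨?_, ?_⟩, hne⟩
    · rw [hmemH']
      have : w⁻¹ * (w * h * w⁻¹) * w = h := by group
      rw [this]; exact hh
    · have : w * h * w⁻¹ = (w * a * w⁻¹)⁻¹ * n := by rw [hne]; group
      rw [this]
      exact N.mul_mem (N.inv_mem (hQN haQ)) hn
  · rw [Subgroup.le_normalizer_iff]
    intro k hk d hd
    obtain ⟨hd1, hd2⟩ := Subgroup.mem_inf.mp hd
    refine Subgroup.mem_inf.mpr ⟨?_, bgf_conj_mem (hMN (hKM hk)) hd2⟩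
    exact Subgroup.mul_mem _ (Subgroup.mul_mem _ (hKH' hk) hd1) (Subgroup.inv_mem _ (hKH' hk))

end compl

end Cfsg.Agent.Lib.helper2
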