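import Mathlib
import Cfsg.Prelude.Def_OddOrderLocal
import Cfsg.Agent.Lib.helper2.BG15C
import Cfsg.Agent.Lib.helper2.BG15D
import Cfsg.Agent.Lib.helper2.BG15E
import Cfsg.Agent.Lib.helper2.BG15F

set_option autoImplicit false
open scoped commutatorElement

namespace Cfsg.Agent.Lib.helper2

open Cfsg

section basic

variable {G : Type*} [Group G]

theorem bgf_le_normalizer_map_subtype {M : Subgroup G} (N : Subgroup ↥M) [hN : N.Normal] :
    M ≤ Subgroup.normalizer ((N.map M.subtype : Subgroup G) : Set G) := by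
  rw [Subgroup.le_normalizer_iff]
  rintro m hm _ ⟨y, hy, rfl⟩
  exact ⟨⟨m, hm⟩ * y * ⟨m, hm⟩⁻¹, hN.conj_mem y hy ⟨m, hm⟩, rfl⟩

theorem bgf_sigmaCore_le (M : Subgroup G) : sigmaCore M ≤ M := Subgroup.map_subtype_le _

theorem bgf_le_normalizer_sigmaCore (M : Subgroup G) :
    M ≤ Subgroup.normalizer (sigmaCore M : Set G) :=
  bgf_le_normalizer_map_subtype (piCore (sigma M) ↥M)

theorem bgf_le_normalizer_inf_centralizer {M N : Subgroup G}
    (hMN : M ≤ Subgroup.normalizer (N : Set G)) :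
    M ≤ Subgroup.normalizer ((M ⊓ Subgroup.centralizer (N : Set G) : Subgroup G) : Set G) := by
  rw [Subgroup.le_normalizer_iff]
  intro m hm c hc
  obtain ⟨hcM, hcC⟩ := Subgroup.mem_inf.mp hc
  refine Subgroup.mem_inf.mpr ⟨M.mul_mem (M.mul_mem hm hcM) (M.inv_mem hm), ?_⟩
  rw [Subgroup.mem_centralizer_iff]
  intro n hn
  have hn' : m⁻¹ * n * m ∈ N := bgf_conj_mem' (hMN hm) hn
  have h := (Subgroup.mem_centralizer_iff.mp hcC) _ hn'
  calc n * (m * c * m⁻¹) = m * ((m⁻¹ * n * m) * c) * m⁻¹ := by group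
    _ = m * (c * (m⁻¹ * n * m)) * m⁻¹ := by rw [h]
    _ = m * c * m⁻¹ * n := by group

theorem bgf_normalizer_commutator {A : Subgroup G} :
    Subgroup.normalizer (A : Set G) ≤ Subgroup.normalizer ((⁅A, A⁆ : Subgroup G) : Set G) := by
  intro g hg
  rw [Subgroup.mem_normalizer_iff_map_conj_eq] at hg ⊢
  rw [Subgroup.map_commutator, hg]

theorem bgf_derived_lt {M : Subgroup G} (hMs : Group.IsSolvable ↥M) (hne : M ≠ ⊥) :
    ⁅M, M⁆ < M := by
  haveI : Nontrivial ↥M := (Subgroup.nontrivial_iff_ne_bot M).mpr hne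
  have h1 : commutator ↥M < ⊤ := Group.IsSolvable.commutator_lt_top_of_nontrivial ↥M
  refine lt_of_le_of_ne (Subgroup.commutator_le_self M) ?_
  intro h
  apply h1.ne
  apply Subgroup.map_injective M.subtype_injective
  rw [Subgroup.map_subtype_commutator, h, ← MonoidHom.range_eq_map, Subgroup.range_subtype]

end basic

section main

variable {G : Type*} [Group G] [Finite G]

theorem bgf_kappa_conj {M K : Subgroup G} (hMs : Group.IsSolvable ↥M)
    (hK : IsPiHallOf (kappa M) K M) :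
    ∀ w ∈ M, w ≠ 1 → (∀ p : ℕ, p.Prime → p ∣ orderOf w → p ∈ kappa M) →
      ∃ m ∈ M, m⁻¹ * w * m ∈ K := by
  intro w hwM _ hwκ
  have hcard : Nat.card M = Nat.card K * K.relIndex M := by
    have h1 := Subgroup.relIndex_mul_relIndex ⊥ K M bot_le hK.1
    rw [Subgroup.relIndex_bot_left, Subgroup.relIndex_bot_left] at h1
    exact h1.symm
  have hcop : (Nat.card K).Coprime (K.relIndex M) := by
    apply Nat.coprime_of_dvd
    intro k hk hkK hkn
    exact hK.2.2 k hk (hK.2.1 k hk hkK) hkn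
  have hY : (Nat.card (Subgroup.zpowers w)).Coprime (K.relIndex M) := by
    rw [Nat.card_zpowers]
    apply Nat.coprime_of_dvd
    intro k hk h1 h2
    exact hK.2.2 k hk (hwκ k hk h1) h2
  obtain ⟨m, hm, hmw⟩ := bgf_hall_conj_into hMs hK.1 (Subgroup.zpowers_le.mpr hwM) hcard hcop hY
  exact ⟨m, hm, hmw w (Subgroup.mem_zpowers w)⟩

theorem bgf_fitting_inf_kappa {M K : Subgroup G}
    (hσ : ∀ p : ℕ, p.Prime → p ∣ Nat.card (sigmaCore M) → p ∈ sigma M)
    (hκ : ∀ p : ℕ, p.Prime → p ∣ Nat.card K → p ∈ kappa M)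
    (hL1 : ∀ k ∈ K, k ≠ 1 → ¬ sigmaCore M ≤ Subgroup.centralizer ({k} : Set G)) :
    fittingOf M ⊓ K = ⊥ := by
  rw [eq_bot_iff]
  intro k hk
  obtain ⟨hkF, hkK⟩ := Subgroup.mem_inf.mp hk
  rw [Subgroup.mem_bot]
  by_contra hk1
  apply hL1 k hkK hk1
  intro s hs
  rw [Subgroup.mem_centralizer_singleton_iff]
  have hFM := Cfsg.Agent.Lib.Helper11.MaxLocB.fittingOf_le M
  have hFn := Cfsg.Agent.Lib.Helper11.MaxLocB.le_normalizer_fittingOf M
  have hkM : k ∈ M := hFM hkF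
  have hsM : s ∈ M := bgf_sigmaCore_le M hs
  obtain ⟨t, ht⟩ : ∃ t : G, t = k * s * k⁻¹ * s⁻¹ := ⟨_, rfl⟩
  have htS : t ∈ sigmaCore M := by
    rw [ht]
    exact Subgroup.mul_mem _ (bgf_conj_mem (bgf_le_normalizer_sigmaCore M hkM) hs)
      (Subgroup.inv_mem _ hs)
  have htF : t ∈ fittingOf M := by
    have : t = k * (s * k⁻¹ * s⁻¹) := by rw [ht]; group
    rw [this]
    exact Subgroup.mul_mem _ hkF (bgf_conj_mem (hFn hsM) (Subgroup.inv_mem _ hkF))
  have hcop : (orderOf k).Coprime (orderOf t) := by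
    apply Nat.coprime_of_dvd
    intro p hp h1 h2
    have hpκ : p ∈ kappa M := hκ p hp (h1.trans (by
      have := orderOf_dvd_natCard (⟨k, hkK⟩ : K)
      rwa [Subgroup.orderOf_mk] at this))
    have hpσ : p ∈ sigma M := hσ p hp (h2.trans (by
      have := orderOf_dvd_natCard (⟨t, htS⟩ : sigmaCore M)
      rwa [Subgroup.orderOf_mk] at this))
    exact hpκ.2.2.1 hpσ
  have hcomm : k * t = t * k := by
    haveI := Cfsg.Agent.Lib.Helper11.MaxLocB.fittingOf_nilpotent M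
    have h := Cfsg.Agent.Lib.Helper11.commute_of_coprime_orderOf
      (⟨k, hkF⟩ : fittingOf M) ⟨t, htF⟩
      (by rw [Subgroup.orderOf_mk, Subgroup.orderOf_mk]; exact hcop)
    exact congrArg Subtype.val h.eq
  have ht1 : t = 1 := bgf_coprime_fix (x := k) (s := s) (t := t) (by rw [ht]; group) hcomm hcop
  have : k * s = t * (s * k) := by rw [ht]; group
  rw [ht1, one_mul] at this
  exact this.symm

theorem bgf_caseA_core {M U E : Subgroup G}
    (hMF : sigmaCore M = fittingHallOf M) (hnil : Group.IsNilpotent (sigmaCore M))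
    (hne : sigmaCore M ≠ ⊥) (hE : IsComplIn E (sigmaCore M) M)
    (hEnil : Group.IsNilpotent ↥⁅E, E⁆) (hEab : IsMulCommutative ↥⁅E, E⁆)
    (hUM : U ≤ M) (h59 : IsMulCommutative (Subgroup.closure ((U : Set G) ∩ sigmaHat M)))
    (hC : ∀ C : Subgroup G, C ≤ M → M ≤ Subgroup.normalizer (C : Set G) →
      C ≤ Subgroup.centralizer (sigmaCore M : Set G) → C ≤ U ⊔ sigmaCore M) :
    Group.IsNilpotent ↥((commutator ↥M).map (QuotientGroup.mk' (fittingHall ↥M))) ∧
    ⁅⁅M, M⁆, ⁅M, M⁆⁆ ≤ fittingOf M ∧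
    M ⊓ Subgroup.centralizer (fittingHallOf M : Set G) ≤ fittingOf M := by
  have hMn := bgf_le_normalizer_sigmaCore M
  have hder : ⁅M, M⁆ ≤ sigmaCore M ⊔ ⁅E, E⁆ := bgf_comm_le_sup_comm hE.1 hMn hE.2.2.2
  have hE'M : ⁅E, E⁆ ≤ M := (Subgroup.commutator_le_self E).trans hE.1
  refine ⟨?_, ?_, ?_⟩
  · apply bgf_image_nilpotent hE'M hEnil
    rw [← hMF]; exact hder
  · have h1 : ⁅⁅M, M⁆, ⁅M, M⁆⁆ ≤ sigmaCore M :=
      (Subgroup.commutator_mono hder hder).trans (bgf_comm_sup_le (hE'M.trans hMn) (by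
        intro a ha b hb
        have := hEab.is_comm.comm (⟨a, ha⟩ : ↥⁅E, E⁆) ⟨b, hb⟩
        exact congrArg Subtype.val this))
    exact h1.trans (bgf_le_fittingOf (bgf_sigmaCore_le M) hMn hnil)
  · rw [← hMF]
    have hCn := bgf_le_normalizer_inf_centralizer hMn
    have hCle := hC _ inf_le_left hCn inf_le_right
    have hCnil := bgf_cent_class_two hUM hMn hnil hne h59 inf_le_right hCle
    exact bgf_le_fittingOf inf_le_left hCn hCnil

theorem bgf_caseB_core {M K U Q : Subgroup G} (hMs : Group.IsSolvable ↥M)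
    (hKh : IsPiHallOf (kappa M) K M)
    (hSh : IsPiHallOf (sigma M) (sigmaCore M) M)
    (hFle : fittingHallOf M ≤ sigmaCore M)
    (h30 : ∀ k ∈ K, k ≠ 1 → sigmaCore M ⊓ Subgroup.centralizer ({k} : Set G) =
      sigmaCore M ⊓ Subgroup.centralizer (K : Set G))
    (hX : ∀ X : Subgroup G, X ≤ M → M ≤ Subgroup.normalizer (X : Set G) → X ⊓ K = ⊥ →
      X ≤ U ⊔ sigmaCore M)
    (hU : U = ⊥) (hder : sigmaCore M = ⁅M, M⁆) (hp : (Nat.card K).Prime)
    (hq : (Nat.card ↥(sigmaCore M ⊓ Subgroup.centralizer (K : Set G))).Prime)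
    (hqF : Nat.card ↥(sigmaCore M ⊓ Subgroup.centralizer (K : Set G)) ∣
      Nat.card (fittingHallOf M))
    (hQF : Q ≤ fittingHallOf M) (hMQ : M ≤ Subgroup.normalizer (Q : Set G))
    (hQp : IsPGroup (Nat.card ↥(sigmaCore M ⊓ Subgroup.centralizer (K : Set G))) Q)
    (hQi : ¬ Nat.card ↥(sigmaCore M ⊓ Subgroup.centralizer (K : Set G)) ∣
      Q.relIndex (sigmaCore M))
    (hD : ∀ D : Subgroup G, IsComplIn Q D (sigmaCore M) →
      Group.IsNilpotent D ∧
      M ≤ Subgroup.normalizer ((Q ⊓ Subgroup.centralizer (D : Set G) : Subgroup G) : Set G) ∧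
      Nat.card Q = Nat.card ↥(Q ⊓ Subgroup.centralizer (D : Set G)) *
        Nat.card ↥(sigmaCore M ⊓ Subgroup.centralizer (K : Set G)) ^ Nat.card K) :
    fittingHallOf M ≠ ⊥ ∧
    Group.IsNilpotent ↥((commutator ↥M).map (QuotientGroup.mk' (fittingHall ↥M))) ∧
    ⁅⁅M, M⁆, ⁅M, M⁆⁆ ≤ fittingOf M ∧
    M ⊓ Subgroup.centralizer (fittingHallOf M : Set G) ≤ fittingOf M := by
  obtain ⟨Ks, hKs⟩ : ∃ Ks : Subgroup G,
    Ks = sigmaCore M ⊓ Subgroup.centralizer (K : Set G) := ⟨_, rfl⟩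
  rw [← hKs] at hq hqF hQp hQi hD h30
  obtain ⟨q, hqdef⟩ : ∃ q : ℕ, q = Nat.card ↥Ks := ⟨_, rfl⟩
  rw [← hqdef] at hq hqF hQp hQi hD
  haveI : Fact q.Prime := ⟨hq⟩
  have hMn := bgf_le_normalizer_sigmaCore M
  have hSM := bgf_sigmaCore_le M
  have hQS : Q ≤ sigmaCore M := hQF.trans hFle
  have hQM : Q ≤ M := hQS.trans hSM
  have hKM : K ≤ M := hKh.1
  have hqσ : q ∈ sigma M := hSh.2.1 q hq (hqF.trans (Subgroup.card_dvd_of_le hFle))
  have hpκ : Nat.card K ∈ kappa M := hKh.2.1 _ hp dvd_rfl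
  have hpq : ¬ q ∣ Nat.card K := by
    intro h
    have : q = Nat.card K := (Nat.prime_dvd_prime_iff_eq hq hp).mp h
    rw [← this] at hpκ
    exact hpκ.2.2.1 hqσ
  obtain ⟨n, hn⟩ := hQp.exists_card_eq
  have hKQ : (Nat.card K).Coprime (Nat.card Q) := by
    rw [hn]
    exact Nat.Coprime.pow_right n ((Nat.Prime.coprime_iff_not_dvd hq).mpr hpq).symm
  have hQiM : ¬ q ∣ Q.relIndex M := by
    rw [← Subgroup.relIndex_mul_relIndex Q (sigmaCore M) M hQS hSM]
    intro h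
    rcases (Nat.Prime.dvd_mul hq).mp h with h | h
    · exact hQi h
    · exact hSh.2.2 q hq hqσ h
  have hcopQM : (Nat.card Q).Coprime (Q.relIndex M) := by
    rw [hn]
    exact Nat.Coprime.pow_left n ((Nat.Prime.coprime_iff_not_dvd hq).mpr hQiM)
  obtain ⟨D, hDc, hKD⟩ := bgf_exists_invariant_compl hMs hQS hSM hKM hMQ hMn hcopQM hKQ
  obtain ⟨hDnil, hMN, hcard⟩ := hD D hDc
  have hDS : D ≤ sigmaCore M := hDc.2.1
  have hDM : D ≤ M := hDS.trans hSM
  have hQD : Q ⊓ D = ⊥ := hDc.2.2.1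
  have hfac := hDc.2.2.2
  have hcardD : Nat.card D = Q.relIndex (sigmaCore M) := by
    have h1 := Cfsg.Agent.Lib.Helper10.isComplIn_card hDc (hDM.trans hMQ)
    have h2 := Subgroup.relIndex_mul_relIndex ⊥ Q (sigmaCore M) bot_le hQS
    rw [Subgroup.relIndex_bot_left, Subgroup.relIndex_bot_left] at h2
    have hpos : 0 < Nat.card Q := Nat.card_pos
    apply Nat.eq_of_mul_eq_mul_left hpos
    rw [← h1, h2]
  have hDq : ¬ q ∣ Nat.card D := by rw [hcardD]; exact hQi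
  have hKsQ : Ks ≤ Q := by
    intro x hx
    have hxS : x ∈ sigmaCore M := by rw [hKs] at hx; exact hx.1
    haveI hn' : (Q.subgroupOf (sigmaCore M)).Normal :=
      Subgroup.normal_subgroupOf_of_le_normalizer (hSM.trans hMQ)
    have hmem : (⟨x, hxS⟩ : sigmaCore M) ∈ Q.subgroupOf (sigmaCore M) := by
      apply bgf_mem_of_coprime_index
      have ho : orderOf (⟨x, hxS⟩ : sigmaCore M) ∣ q := by
        rw [Subgroup.orderOf_mk, hqdef]
        have := orderOf_dvd_natCard (⟨x, hx⟩ : Ks)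
        rwa [Subgroup.orderOf_mk] at this
      have hidx : (Q.subgroupOf (sigmaCore M)).index = Q.relIndex (sigmaCore M) := rfl
      rw [hidx]
      exact Nat.Coprime.coprime_dvd_left ho ((Nat.Prime.coprime_iff_not_dvd hq).mpr hQi)
    exact Subgroup.mem_subgroupOf.mp hmem
  have hfpf : ∀ k ∈ K, k ≠ 1 → D ⊓ Subgroup.centralizer ({k} : Set G) = ⊥ := by
    intro k hk hk1
    rw [eq_bot_iff]
    intro x hx
    obtain ⟨hxD, hxC⟩ := Subgroup.mem_inf.mp hx
    have h1 : x ∈ sigmaCore M ⊓ Subgroup.centralizer ({k} : Set G) :=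
      Subgroup.mem_inf.mpr ⟨hDS hxD, hxC⟩
    rw [h30 k hk hk1] at h1
    have h2 : x ∈ Q ⊓ D := Subgroup.mem_inf.mpr ⟨hKsQ h1, hxD⟩
    rw [hQD] at h2
    exact h2
  have hcyc : IsCyclic ↥(Q ⊓ Subgroup.centralizer (K : Set G)) := by
    haveI : IsCyclic ↥Ks := isCyclic_of_prime_card (p := q) hqdef.symm
    have hle : Q ⊓ Subgroup.centralizer (K : Set G) ≤ Ks := by
      rw [hKs]; exact inf_le_inf_right _ hQS
    have e := (Subgroup.subgroupOfEquivOfLe hle)
    exact isCyclic_of_surjective e.toMonoidHom e.surjective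
  have hDQ : ⁅D, D⁆ ≤ Subgroup.centralizer (Q : Set G) :=
    bgf_derived_centralizes q M Q D K hQM hDM hKM hMQ hMN hKD hDnil hfpf hQD hQp hDq hpq hcyc
  have hQnil : Group.IsNilpotent Q := hQp.isNilpotent
  refine ⟨?_, ?_, ?_, ?_⟩
  · intro h
    rw [h, Subgroup.card_bot] at hqF
    exact hq.one_lt.ne' (Nat.dvd_one.mp hqF)
  · apply bgf_image_nilpotent hDM hDnil
    rw [← hder]
    intro m hm
    obtain ⟨a, ha, b, hb, rfl⟩ := hfac m hm
    exact Subgroup.mul_mem _ (Subgroup.mem_sup_left (hQF ha)) (Subgroup.mem_sup_right hb)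
  · rw [← hder]
    have hfac' : ∀ m ∈ sigmaCore M, ∃ u ∈ D, ∃ n ∈ Q, m = u * n := by
      intro m hm
      obtain ⟨a, ha, b, hb, rfl⟩ := hfac m hm
      refine ⟨b, hb, b⁻¹ * a * b, bgf_conj_mem' (hMQ (hDM hb)) ha, by group⟩
    have h1 : ⁅sigmaCore M, sigmaCore M⁆ ≤ Q ⊔ ⁅D, D⁆ :=
      bgf_comm_le_sup_comm hDS (hSM.trans hMQ) hfac'
    have hD'nil : Group.IsNilpotent ↥⁅D, D⁆ :=
      Cfsg.Agent.Lib.Helper11.isNilpotent_of_le' (Subgroup.commutator_le_self D) hDnil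
    have h2 : Group.IsNilpotent ↥(Q ⊔ ⁅D, D⁆) := bgf_nilpotent_sup_of_commute hQnil hD'nil (by
      intro a ha b hb
      exact (Subgroup.mem_centralizer_iff.mp (hDQ hb)) a ha)
    have h3 : Group.IsNilpotent ↥⁅sigmaCore M, sigmaCore M⁆ :=
      Cfsg.Agent.Lib.Helper11.isNilpotent_of_le' h1 h2
    apply bgf_le_fittingOf ((Subgroup.commutator_le_self _).trans hSM) _ h3
    exact hMn.trans bgf_normalizer_commutator
  · have hXn := bgf_le_normalizer_inf_centralizer hMQ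
    have hXK : (M ⊓ Subgroup.centralizer (Q : Set G)) ⊓ K = ⊥ := by
      rw [eq_bot_iff]
      intro k hk
      obtain ⟨hkX, hkK⟩ := Subgroup.mem_inf.mp hk
      rw [Subgroup.mem_bot]
      by_contra hk1
      have hQle : Q ≤ Ks := by
        rw [← h30 k hkK hk1]
        intro x hx
        refine Subgroup.mem_inf.mpr ⟨hQS hx, ?_⟩
        rw [Subgroup.mem_centralizer_singleton_iff]
        exact ((Subgroup.mem_centralizer_iff.mp (Subgroup.mem_inf.mp hkX).2) x hx)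
      have h1 : Nat.card Q ∣ q := by rw [hqdef]; exact Subgroup.card_dvd_of_le hQle
      have h2 : q ^ 2 ∣ Nat.card Q := by
        rw [hcard]
        exact Dvd.dvd.mul_left (pow_dvd_pow q hp.two_le) _
      have h3 : q ^ 2 ∣ q := h2.trans h1
      have h4 : q ^ 2 ≤ q := Nat.le_of_dvd hq.pos h3
      nlinarith [hq.one_lt]
    have hXle := hX _ inf_le_left hXn hXK
    rw [hU, bot_sup_eq] at hXle
    have hXnil := bgf_nilpotent_of_central_quot hQS hDS (hSM.trans hMQ) hDnil hfac hXle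
      inf_le_right
    have hXF := bgf_le_fittingOf inf_le_left hXn hXnil
    refine le_trans ?_ hXF
    exact inf_le_inf_left M (Subgroup.centralizer_le hQF)

end main

end Cfsg.Agent.Lib.helper2
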