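import Mathlib
import Cfsg.Prelude.Def_OddOrderLocal
import Cfsg.Agent.S1350
import Cfsg.Agent.S1351
import Cfsg.Agent.S1352
import Cfsg.Agent.S1354
import Cfsg.Agent.S1359
import Cfsg.Agent.S1365
import Cfsg.Agent.S1420
import Cfsg.Agent.S1430
import Cfsg.Agent.S1431
import Cfsg.Agent.Lib.Helper13.BG14M
import Cfsg.Agent.Lib.Helper1.BG14.KappaCyc
import Cfsg.Agent.Lib.Helper1.BG14.KappaDerived
import Cfsg.Agent.Lib.Helper18.BGTwelveA
import Cfsg.Agent.Lib.Helper1.BG12.TwelveOneMain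
import Cfsg.Agent.Lib.Helper1.BG12.TwelveFourPre
import Cfsg.Agent.Lib.Helper28.BGtC
import Cfsg.Agent.Lib.helper2.BG15G

set_option autoImplicit false
open scoped commutatorElement

namespace Cfsg.Agent.Lib.helper2

open Cfsg

variable {G : Type*} [Group G] [Finite G]

/-- a subgroup normalized by `M` meeting `K` trivially lies in `U M_σ` -/
theorem bgf_le_USigma (hG : IsMinSimpleOddOrder G) {M K U X : Subgroup G} (hM : IsCoatom M)
    (hKU : IsSigmaDecomposition M K U) (hXM : X ≤ M)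
    (hn : M ≤ Subgroup.normalizer (X : Set G)) (hXK : X ⊓ K = ⊥) : X ≤ U ⊔ sigmaCore M := by
  have hMs : Group.IsSolvable ↥M := hG.2.2.2 M hM.1
  have Hκ := Cfsg.Agent.Lib.Helper1.BG14.kappa_sub_tau1_of_cyclic hG hM hKU.hall hKU.cyclic
  obtain ⟨W, hW⟩ := Cfsg.Agent.Lib.Helper1.BG14.exists_kHall hG hM Hκ
  rw [hW.decomp_sup_eq hG hM hKU]
  exact bgf_normal_le_W (bgf_kappa_conj hMs hKU.hall)
    (fun Y hYM hY => hW.le_of_not_kappa hYM hY) hXM hn hXK

/-- no nonidentity element of `K` centralizes `M_σ` -/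
theorem bgf_kappa_not_centralizes (hG : IsMinSimpleOddOrder G) {M K : Subgroup G}
    (hM : IsCoatom M) (hKc : IsCyclic K) (hK : IsPiHallOf (kappa M) K M) {k : G} (hk : k ∈ K)
    (hk1 : k ≠ 1) : ¬ sigmaCore M ≤ Subgroup.centralizer ({k} : Set G) := by
  have hK1 : K ≠ ⊥ := by
    intro h
    rw [h, Subgroup.mem_bot] at hk
    exact hk1 hk
  have h30 := (Cfsg.Agent.S1430.result hG M hM K hK hK1).1
  have h31 := (Cfsg.Agent.S1431.result hG M hM K hK hK1).2.2.1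
  have h54 := (Cfsg.Agent.S1354.result hG M hM K hKc hK).1
  exact bgf_no_kappa_centralizes h30 (fun p hp hpd S => (h31 p hp hpd S).2.2) h54 hk hk1

/-- `F(M) ≤ M'` when `K ≠ 1` -/
theorem bgf_fitting_le_derived (hG : IsMinSimpleOddOrder G) {M K U : Subgroup G}
    (hM : IsCoatom M) (hKU : IsSigmaDecomposition M K U) (hK1 : K ≠ ⊥) :
    fittingOf M ≤ ⁅M, M⁆ := by
  rw [(Cfsg.Agent.S1365.result hG M hM K U hKU hK1).1]
  apply bgf_le_USigma hG hM hKU (Cfsg.Agent.Lib.Helper11.MaxLocB.fittingOf_le M)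
    (Cfsg.Agent.Lib.Helper11.MaxLocB.le_normalizer_fittingOf M)
  have h50 := (Cfsg.Agent.S1350.result hG M hM).1
  exact bgf_fitting_inf_kappa h50.2.1 hKU.hall.2.1
    (fun k hk hk1 => bgf_kappa_not_centralizes hG hM hKU.cyclic hKU.hall hk hk1)

theorem bgf_exists_decomp (hG : IsMinSimpleOddOrder G) {M : Subgroup G} (hM : IsCoatom M) :
    ∃ K U : Subgroup G, IsSigmaDecomposition M K U := by
  obtain ⟨⟨K, hK⟩, hKc⟩ := Cfsg.Agent.S1351.result hG M hM
  obtain ⟨⟨U, hKU⟩, -⟩ := Cfsg.Agent.S1352.result hG M hM K (hKc K hK) hK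
  exact ⟨K, U, hKU⟩

/-- the case `M_σ` nilpotent -/
theorem bgf_caseA (hG : IsMinSimpleOddOrder G) {M K U : Subgroup G} (hM : IsCoatom M)
    (hKU : IsSigmaDecomposition M K U) (hnil : Group.IsNilpotent (sigmaCore M)) :
    fittingHallOf M = sigmaCore M ∧
    Group.IsNilpotent ↥((commutator ↥M).map (QuotientGroup.mk' (fittingHall ↥M))) ∧
    ⁅⁅M, M⁆, ⁅M, M⁆⁆ ≤ fittingOf M ∧
    M ⊓ Subgroup.centralizer (fittingHallOf M : Set G) ≤ fittingOf M := by
  have hMF := Cfsg.Agent.Lib.Helper13.BG14.bg14_sigmaCore_eq_fittingHallOf hG hM hnil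
  have hne := Cfsg.Agent.Lib.Helper1.BG12.sigmaCore_ne_bot hG M hM
  obtain ⟨E, hE⟩ := Cfsg.Agent.Lib.Helper18.BGTwelveA.exists_complIn_sigmaCore hG M hM
  have hEnil := (Cfsg.Agent.Lib.Helper1.BG12.twelve_one hG M hM E hE).1
  have hEab := (Cfsg.Agent.S1420.result hG M hM E hE).2.1
  have h59 := Cfsg.Agent.S1359.result hG M hM K U hKU
  refine ⟨hMF.symm, bgf_caseA_core hMF hnil hne hE hEnil hEab hKU.compl.1 h59 ?_⟩
  intro C hCM hCn hCc
  apply bgf_le_USigma hG hM hKU hCM hCn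
  rw [eq_bot_iff]
  intro k hk
  obtain ⟨hkC, hkK⟩ := Subgroup.mem_inf.mp hk
  rw [Subgroup.mem_bot]
  by_contra hk1
  apply bgf_kappa_not_centralizes hG hM hKU.cyclic hKU.hall hkK hk1
  intro s hs
  rw [Subgroup.mem_centralizer_singleton_iff]
  exact ((Subgroup.mem_centralizer_iff.mp (hCc hkC)) s hs)

/-- the case `M_F ≠ M_σ`, from the structure theorem (B&G 15.2) -/
theorem bgf_caseB (hG : IsMinSimpleOddOrder G) {M K U Q : Subgroup G} (hM : IsCoatom M)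
    (hKU : IsSigmaDecomposition M K U)
    (hU : U = ⊥) (hder : sigmaCore M = ⁅M, M⁆) (hp : (Nat.card K).Prime)
    (hq : (Nat.card ↥(sigmaCore M ⊓ Subgroup.centralizer (K : Set G))).Prime)
    (hqF : Nat.card ↥(sigmaCore M ⊓ Subgroup.centralizer (K : Set G)) ∣
      Nat.card (fittingHallOf M))
    (hQF : Q ≤ fittingHallOf M) (hMQ : M ≤ Subgroup.normalizer (Q : Set G))
    (hQp : IsPGroup (Nat.card ↥(sigmaCore M ⊓ Subgroup.centralizer (K : Set G))) Q)
    (hQi : ¬ Nat.card ↥(sigmaCore M ⊓ Subgroup.centralizer (K : Set G)) ∣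
      Q.relIndex (sigmaCore M))
    (hD : ∀ D : Subgroup G, IsComplIn Q D (sigmaCore M) →
      Group.IsNilpotent D ∧
      M ≤ Subgroup.normalizer ((Q ⊓ Subgroup.centralizer (D : Set G) : Subgroup G) : Set G) ∧
      Nat.card Q = Nat.card ↥(Q ⊓ Subgroup.centralizer (D : Set G)) *
        Nat.card ↥(sigmaCore M ⊓ Subgroup.centralizer (K : Set G)) ^ Nat.card K) :
    fittingHallOf M ≠ ⊥ ∧
    Group.IsNilpotent ↥((commutator ↥M).map (QuotientGroup.mk' (fittingHall ↥M))) ∧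
    ⁅⁅M, M⁆, ⁅M, M⁆⁆ ≤ fittingOf M ∧
    M ⊓ Subgroup.centralizer (fittingHallOf M : Set G) ≤ fittingOf M := by
  have hMs : Group.IsSolvable ↥M := hG.2.2.2 M hM.1
  have hK1 : K ≠ ⊥ := by
    intro h
    rw [h, Subgroup.card_bot] at hp
    exact Nat.not_prime_one hp
  exact bgf_caseB_core hMs hKU.hall (Cfsg.Agent.S1350.result hG M hM).1
    (Cfsg.Agent.Lib.Helper13.BG14.bg14_fittingHallOf_le_sigmaCore hG hM)
    (Cfsg.Agent.S1430.result hG M hM K hKU.hall hK1).1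
    (fun X hXM hXn hXK => bgf_le_USigma hG hM hKU hXM hXn hXK)
    hU hder hp hq hqF hQF hMQ hQp hQi hD

/-- the four facts common to S1355 and S1356, from the structure theorem (B&G 15.2) as a
hypothesis -/
theorem bgf_main (hG : IsMinSimpleOddOrder G) {M K U : Subgroup G} (hM : IsCoatom M)
    (hKU : IsSigmaDecomposition M K U)
    (h37 : fittingHallOf M ≠ sigmaCore M →
      U = ⊥ ∧ sigmaCore M = ⁅M, M⁆ ∧ (Nat.card K).Prime ∧
      (Nat.card ↥(sigmaCore M ⊓ Subgroup.centralizer (K : Set G))).Prime ∧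
      Nat.card ↥(sigmaCore M ⊓ Subgroup.centralizer (K : Set G)) ∣ Nat.card (fittingHallOf M) ∧
      Nat.card ↥(sigmaCore M ⊓ Subgroup.centralizer (K : Set G)) ∈ beta M ∧
      ∃ Q : Subgroup G, Q ≤ fittingHallOf M ∧ M ≤ Subgroup.normalizer (Q : Set G) ∧
        IsPGroup (Nat.card ↥(sigmaCore M ⊓ Subgroup.centralizer (K : Set G))) Q ∧
        ¬ Nat.card ↥(sigmaCore M ⊓ Subgroup.centralizer (K : Set G)) ∣ Q.relIndex (sigmaCore M) ∧
        ∀ D : Subgroup G, IsComplIn Q D (sigmaCore M) →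
          Group.IsNilpotent D ∧
          M ≤ Subgroup.normalizer ((Q ⊓ Subgroup.centralizer (D : Set G) : Subgroup G) : Set G) ∧
          Q ⊓ Subgroup.centralizer (D : Set G) < Q ∧
          Nat.card Q = Nat.card ↥(Q ⊓ Subgroup.centralizer (D : Set G)) *
            Nat.card ↥(sigmaCore M ⊓ Subgroup.centralizer (K : Set G)) ^ Nat.card K ∧
          (∀ a ∈ Q, ∀ b ∈ Q,
            a ^ Nat.card ↥(sigmaCore M ⊓ Subgroup.centralizer (K : Set G)) ∈
              Q ⊓ Subgroup.centralizer (D : Set G) ∧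
            a * b * a⁻¹ * b⁻¹ ∈ Q ⊓ Subgroup.centralizer (D : Set G)) ∧
          ∀ N : Subgroup G, Q ⊓ Subgroup.centralizer (D : Set G) < N → N < Q →
            ¬ M ≤ Subgroup.normalizer (N : Set G)) :
    fittingHallOf M ≠ ⊥ ∧
    Group.IsNilpotent ↥((commutator ↥M).map (QuotientGroup.mk' (fittingHall ↥M))) ∧
    ⁅⁅M, M⁆, ⁅M, M⁆⁆ ≤ fittingOf M ∧
    M ⊓ Subgroup.centralizer (fittingHallOf M : Set G) ≤ fittingOf M := by
  by_cases hnil : Group.IsNilpotent (sigmaCore M)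
  · obtain ⟨hMF, h2, h3, h4⟩ := bgf_caseA hG hM hKU hnil
    refine ⟨?_, h2, h3, h4⟩
    rw [hMF]
    exact Cfsg.Agent.Lib.Helper1.BG12.sigmaCore_ne_bot hG M hM
  · have hne : fittingHallOf M ≠ sigmaCore M := by
      intro h
      apply hnil
      rw [← h]
      exact bgf_fittingHallOf_nilpotent M
    obtain ⟨hU, hder, hp, hq, hqF, -, Q, hQF, hMQ, hQp, hQi, hD⟩ := h37 hne
    exact bgf_caseB hG hM hKU hU hder hp hq hqF hQF hMQ hQp hQi
      (fun D hD' => ⟨(hD D hD').1, (hD D hD').2.1, (hD D hD').2.2.2.1⟩)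

/-- S1355 from the four facts -/
theorem bgf_S1355_of (hG : IsMinSimpleOddOrder G) {M : Subgroup G} (hM : IsCoatom M)
    (h : fittingHallOf M ≠ ⊥ ∧
      Group.IsNilpotent ↥((commutator ↥M).map (QuotientGroup.mk' (fittingHall ↥M))) ∧
      ⁅⁅M, M⁆, ⁅M, M⁆⁆ ≤ fittingOf M ∧
      M ⊓ Subgroup.centralizer (fittingHallOf M : Set G) ≤ fittingOf M) :
    fittingHallOf M ≠ ⊥ ∧ fittingHallOf M ≤ sigmaCore M ∧ sigmaCore M ≤ ⁅M, M⁆ ∧ ⁅M, M⁆ < M ∧
      Group.IsNilpotent ↥((commutator ↥M).map (QuotientGroup.mk' (fittingHall ↥M))) := by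
  have hMs : Group.IsSolvable ↥M := hG.2.2.2 M hM.1
  have hne : M ≠ ⊥ := by
    intro h0
    have h1 := Cfsg.Agent.Lib.Helper1.BG12.sigmaCore_ne_bot hG M hM
    apply h1
    rw [eq_bot_iff, ← h0]
    exact bgf_sigmaCore_le M
  exact ⟨h.1, Cfsg.Agent.Lib.Helper13.BG14.bg14_fittingHallOf_le_sigmaCore hG hM,
    Cfsg.Agent.Lib.Helper28.BGt.sigmaCore_le_derived hG hM, bgf_derived_lt hMs hne, h.2.1⟩

/-- S1356 from the four facts -/
theorem bgf_S1356_of (hG : IsMinSimpleOddOrder G) {M K U : Subgroup G} (hM : IsCoatom M)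
    (hKU : IsSigmaDecomposition M K U)
    (h : fittingHallOf M ≠ ⊥ ∧
      Group.IsNilpotent ↥((commutator ↥M).map (QuotientGroup.mk' (fittingHall ↥M))) ∧
      ⁅⁅M, M⁆, ⁅M, M⁆⁆ ≤ fittingOf M ∧
      M ⊓ Subgroup.centralizer (fittingHallOf M : Set G) ≤ fittingOf M) :
    ⁅⁅M, M⁆, ⁅M, M⁆⁆ ≤ fittingOf M ∧
      fittingOf M = (M ⊓ Subgroup.centralizer (fittingHallOf M : Set G)) ⊔ fittingHallOf M ∧
      ((kappa M).Nonempty → fittingOf M ≤ ⁅M, M⁆) := by
  refine ⟨h.2.2.1, le_antisymm (bgf_fitting_le M)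
    (sup_le h.2.2.2 (bgf_fittingHallOf_le_fittingOf M)), ?_⟩
  rintro ⟨p, hpκ⟩
  apply bgf_fitting_le_derived hG hM hKU
  intro hK
  have hp : p.Prime := hpκ.1
  have hpM : p ∣ Nat.card M := hpκ.2.1
  have h1 := Subgroup.relIndex_mul_relIndex ⊥ K M bot_le hKU.hall.1
  rw [Subgroup.relIndex_bot_left, Subgroup.relIndex_bot_left, hK, Subgroup.card_bot, one_mul] at h1
  rw [← h1] at hpM
  rw [hK] at hKU
  exact hKU.hall.2.2 p hp hpκ hpM

end Cfsg.Agent.Lib.helper2
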