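import Mathlib

/-!
# Project SLK, row G3 (helper2): fibres of a homomorphism of finite groups.
-/

set_option autoImplicit false

namespace Cfsg.Agent.Lib.Helper1.SLK

universe u

theorem fiber_card_mul_le {A B : Type*} [Group A] [Group B] [Finite A] [Finite B]
    (χ : A →* B) (b : B) :
    Nat.card {a : A // χ a = b} * Nat.card B ≤ Nat.card A * χ.range.index := by
  by_cases hne : ∃ a₀ : A, χ a₀ = b
  · obtain ⟨a₀, ha₀⟩ := hne
    have e : {a : A // χ a = b} ≃ χ.ker :=
      { toFun := fun a => ⟨a₀⁻¹ * a.1, by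
          rw [MonoidHom.mem_ker, map_mul, map_inv, ha₀, a.2, inv_mul_cancel]⟩
        invFun := fun k => ⟨a₀ * k.1, by
          rw [map_mul, ha₀, MonoidHom.mem_ker.mp k.2, mul_one]⟩
        left_inv := fun a => by simp
        right_inv := fun k => by simp }
    rw [Nat.card_congr e]
    have h1 : Nat.card χ.ker * Nat.card χ.range = Nat.card A := by
      rw [← Subgroup.index_ker, Subgroup.card_mul_index]
    have h2 : Nat.card χ.range * χ.range.index = Nat.card B := Subgroup.card_mul_index _
    rw [← h1, ← h2]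
    apply le_of_eq
    ring
  · have : IsEmpty {a : A // χ a = b} := ⟨fun a => hne ⟨a.1, a.2⟩⟩
    rw [Nat.card_of_isEmpty, zero_mul]
    exact Nat.zero_le _

end Cfsg.Agent.Lib.Helper1.SLK
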