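import Cfsg.Agent.Lib.Helper1.SLK.Defs
import Cfsg.Agent.Lib.Helper22.SLKA1

/-!
# Project SLK, row A7 core (helper2): `exists_commute_det_pow` with the statements of A3, D3, D5 as
hypotheses (A1 cited directly).
-/

set_option autoImplicit false

namespace Cfsg.Agent.Lib.Helper1.SLK

open Polynomial
open Cfsg.Agent.Lib.Helper29.GLK

universe u

theorem slka7_core {F : Type u} [Field F] [Fintype F] [DecidableEq F] {n : ℕ}
    (x : Matrix.GeneralLinearGroup (Fin n) F)
    (hA3 : ∀ {ι : Type u} [Fintype ι] [DecidableEq ι] (g a : ι → F[X]) (_ : ∀ j, g j ≠ 0)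
      (Φ : gMod x ≃ₗ[F[X]] DirectSum ι fun j => F[X] ⧸ Ideal.span {g j}),
      LinearMap.det (((Φ.symm.toLinearMap ∘ₗ dmul g a) ∘ₗ Φ.toLinearMap).restrictScalars F) =
        ∏ j, Algebra.norm F (Ideal.Quotient.mk (Ideal.span {g j}) (a j)))
    (hD3 : ∀ (p a : F[X]) (_ : p ≠ 0) (e : ℕ),
      Algebra.norm F (Ideal.Quotient.mk (Ideal.span {p ^ e}) a) =
        Algebra.norm F (Ideal.Quotient.mk (Ideal.span {p}) a) ^ e)
    (hD5 : ∀ (p : F[X]) (_ : Irreducible p) (c : F),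
      ∃ a : F[X], Algebra.norm F (Ideal.Quotient.mk (Ideal.span {p}) a) = c)
    (G : ℕ → F[X]) (h : IsInv x G)
    (i : Fin n) (hi : (G i).natDegree ≠ 0) (c : Fˣ) :
    ∃ h : Matrix.GeneralLinearGroup (Fin n) F,
      Commute h x ∧ Matrix.GeneralLinearGroup.det h = c ^ ((i : ℕ) + 1) := by
  classical
  obtain ⟨ι, instι, p, e, hirr, he, ⟨Φ⟩, hG⟩ := h
  -- an index with `e j0 = i + 1`
  have hex : ∃ j0, e j0 = (i : ℕ) + 1 := by
    by_contra hno
    push_neg at hno
    apply hi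
    rw [hG (i : ℕ)]
    have : Finset.univ.filter (fun j => e j = (i : ℕ) + 1) = ∅ := by
      apply Finset.filter_eq_empty_iff.mpr
      intro j _
      exact hno j
    rw [this, Finset.prod_empty, natDegree_one]
  obtain ⟨j0, hj0⟩ := hex
  obtain ⟨a0, ha0⟩ := hD5 (p j0) (hirr j0) (c : F)
  have hg : ∀ j, p j ^ e j ≠ 0 := fun j => pow_ne_zero _ (hirr j).ne_zero
  set a : ι → F[X] := fun j => if j = j0 then a0 else 1 with ha_def
  have hdet := hA3 (fun j => p j ^ e j) a hg Φ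
  have hprod : ∏ j, Algebra.norm F (Ideal.Quotient.mk (Ideal.span {p j ^ e j}) (a j)) =
      ((c ^ ((i : ℕ) + 1) : Fˣ) : F) := by
    rw [Finset.prod_eq_single j0]
    · simp only [ha_def, if_true]
      rw [hD3 (p j0) a0 (hirr j0).ne_zero (e j0), ha0, hj0, Units.val_pow_eq_pow_val]
    · intro j _ hj
      simp only [ha_def, if_neg hj, map_one]
    · intro hj
      exact absurd (Finset.mem_univ j0) hj
  rw [hprod] at hdet
  exact exists_gl_of_end x ((Φ.symm.toLinearMap ∘ₗ dmul (fun j => p j ^ e j) a) ∘ₗ Φ.toLinearMap)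
    (c ^ ((i : ℕ) + 1)) hdet

end Cfsg.Agent.Lib.Helper1.SLK
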