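import Cfsg.Agent.Lib.Helper1.PLK.Defs
import Cfsg.Agent.Lib.Helper24.GLKM1
import Cfsg.Agent.Lib.helper15.PLKU4b
import Cfsg.Agent.Lib.Helper25.PLKU5

/-!
# Project PLK, row U6 core (helper2): `nu_decomp` with the statements of U3 (`finrank_ker_lmap`) and U4c
(`finrank_ker_quot_pow`) as hypotheses; U4b, U5 cited.
-/

set_option autoImplicit false

namespace Cfsg.Agent.Lib.Helper1.PLK

open Polynomial
open Cfsg.Agent.Lib.Helper29.GLK
open Cfsg.Agent.Lib.Helper1.SLK

universe u

/-- `sm a` on a direct sum of `F[X]`-quotients is the direct sum of the `sm a` -/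
theorem plku6_sm_directSum {F : Type u} [Field F] {ι : Type*} [DecidableEq ι] (g : ι → F[X]) (a : F[X]) :
    sm a (DirectSum ι fun j => F[X] ⧸ Ideal.span {g j}) =
      DirectSum.lmap (fun j => sm a (F[X] ⧸ Ideal.span {g j})) := by
  apply LinearMap.ext
  intro y
  refine DFinsupp.ext fun j => ?_
  rw [DirectSum.lmap_apply]
  rfl

/-- associated polynomials have the same kernel -/
theorem plku6_ker_of_associated {F : Type u} [Field F] {M : Type*} [AddCommGroup M] [Module F M]
    [Module F[X] M] [IsScalarTower F F[X] M] (a b : F[X]) (h : Associated a b) :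
    LinearMap.ker (sm a M) = LinearMap.ker (sm b M) := by
  obtain ⟨u, rfl⟩ := h
  ext m
  simp only [LinearMap.mem_ker, sm_apply]
  constructor
  · intro hm
    rw [mul_comm, mul_smul, hm, smul_zero]
  · intro hm
    have : ((u⁻¹ : F[X]ˣ) : F[X]) • ((a * (u : F[X])) • m) = a • m := by
      rw [← mul_smul, mul_comm a, ← mul_assoc, Units.inv_mul, one_mul]
    rw [← this, hm, smul_zero]

theorem plku6_core {F : Type u} [Field F] {n : ℕ} (x : Matrix.GeneralLinearGroup (Fin n) F)
    (hU3 : ∀ {ι : Type u} [Fintype ι] [DecidableEq ι] (M : ι → Type u) [∀ j, AddCommGroup (M j)]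
      [∀ j, Module F (M j)] [∀ j, Module.Finite F (M j)] (f : ∀ j, M j →ₗ[F] M j),
      Module.finrank F (LinearMap.ker (DirectSum.lmap f)) =
        ∑ j, Module.finrank F (LinearMap.ker (f j)))
    (hU4c : ∀ (p : F[X]) (_ : p ≠ 0) (e k : ℕ),
      Module.finrank F (LinearMap.ker (sm (p ^ k) (F[X] ⧸ Ideal.span {p ^ e}))) =
        p.natDegree * min e k)
    {ι : Type u} [Fintype ι] (p : ι → F[X]) (e : ι → ℕ) (hp : ∀ j, Irreducible (p j))
    (Φ : gMod x ≃ₗ[F[X]] DirectSum ι fun j => F[X] ⧸ Ideal.span {p j ^ e j})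
    (P : F[X]) (hP : Irreducible P) (k : ℕ) :
    nu x (P ^ k) =
      P.natDegree * ∑ j, (open Classical in if Associated (p j) P then min (e j) k else 0) := by
  classical
  have hfin : ∀ j, Module.Finite F (F[X] ⧸ Ideal.span {p j ^ e j}) :=
    fun j => glkM1_finite _ (pow_ne_zero _ (hp j).ne_zero)
  unfold nu
  rw [finrank_ker_congr (N := DirectSum ι fun j => F[X] ⧸ Ideal.span {p j ^ e j}) Φ (P ^ k),
    plku6_sm_directSum, hU3, Finset.mul_sum]
  apply Finset.sum_congr rfl
  intro j _
  by_cases hA : Associated (p j) P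
  · rw [if_pos hA]
    have hk : Associated (P ^ k) (p j ^ k) := (hA.pow_pow (n := k)).symm
    rw [plku6_ker_of_associated _ _ hk, hU4c (p j) (hp j).ne_zero (e j) k]
    congr 1
    exact natDegree_eq_of_degree_eq (degree_eq_degree_of_associated hA)
  · rw [if_neg hA, mul_zero]
    apply finrank_ker_quot_coprime
    apply IsCoprime.pow
    rw [hP.coprime_iff_not_dvd]
    intro hdvd
    exact hA (hP.associated_of_dvd (hp j) hdvd).symm

end Cfsg.Agent.Lib.Helper1.PLK
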