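import Mathlib
import Cfsg.Agent.Lib.helper7.REE.Defs

/-!
# Project REE, row G4C (`Ct_elements`), core: the statement of PC (`sl2_trichotomy`) is a hypothesis.
-/

set_option autoImplicit false

namespace Cfsg.Agent.Lib.helper7.REE

open Matrix Cfsg.Agent.Lib.helper8

universe u v

namespace ReeAx

variable {G : Type u} [Group G] [Finite G] {K : Type v} [Field K] [Fintype K] {m : ℕ}

theorem reeg4c_U_le (R : ReeAx G K m) : R.U ≤ R.B := by
  intro u hu
  rw [R.B_iff]
  exact ⟨u, hu, 1, R.H.one_mem, (mul_one u).symm⟩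

theorem reeg4c_H_le (R : ReeAx G K m) : R.H ≤ R.B := by
  intro h hh
  rw [R.B_iff]
  exact ⟨1, R.U.one_mem, h, hh, (one_mul h).symm⟩

theorem reeg4c_psi_neg (R : ReeAx G K m) (y : SpecialLinearGroup (Fin 2) K) :
    R.psi (-y) = R.psi y := by
  have : -y = (-1) * y := by rw [neg_mul, one_mul]
  rw [this, map_mul, R.psi_neg, one_mul]

/-- G4C, core: `hPC` is the statement of PC (`sl2_trichotomy`). -/
theorem reeg4c_core (R : ReeAx G K m)
    (hPC : ∀ g : SpecialLinearGroup (Fin 2) K,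
      (∃ (x : SpecialLinearGroup (Fin 2) K) (s : K),
          x * g * x⁻¹ = h8slU s ∨ x * g * x⁻¹ = -h8slU s) ∨
      (∃ (x : SpecialLinearGroup (Fin 2) K) (s : K), s ≠ 0 ∧ x * g * x⁻¹ = h8slD s) ∨
      (∃ x : SpecialLinearGroup (Fin 2) K, x * g * x⁻¹ ∈ so2 K))
    (c : G) (hc : R.t * c = c * R.t) :
    (∃ x : G, x * c * x⁻¹ ∈ R.B) ∨ (∃ x : G, x * c * x⁻¹ ∈ R.E) := by
  obtain ⟨g, hg⟩ := R.psi_cent c hc
  have htB : R.t ∈ R.B := R.reeg4c_H_le R.t_mem
  have htE : R.t ∈ R.E := by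
    unfold ReeAx.E
    exact Subgroup.mem_sup_left (Subgroup.mem_zpowers R.t)
  -- the conjugate of `c` by `ψ x` is `ψ (x g x⁻¹)` or `t ψ (x g x⁻¹)`
  have hconj : ∀ x : SpecialLinearGroup (Fin 2) K,
      R.psi x * c * (R.psi x)⁻¹ = R.psi (x * g * x⁻¹) ∨
        R.psi x * c * (R.psi x)⁻¹ = R.t * R.psi (x * g * x⁻¹) := by
    intro x
    rcases hg with hg | hg
    · left
      rw [hg, map_mul, map_mul, map_inv]
    · right
      rw [hg, map_mul, map_mul, map_inv, ← mul_assoc, ← R.psi_comm x]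
      simp only [mul_assoc]
  rcases hPC g with ⟨x, s, hx⟩ | ⟨x, s, hs, hx⟩ | ⟨x, hx⟩
  · left
    refine ⟨R.psi x, ?_⟩
    have hU : R.psi (x * g * x⁻¹) ∈ R.B := by
      rcases hx with hx | hx
      · rw [hx]; exact R.reeg4c_U_le (R.psi_U s)
      · rw [hx, R.reeg4c_psi_neg]; exact R.reeg4c_U_le (R.psi_U s)
    rcases hconj x with h | h
    · rw [h]; exact hU
    · rw [h]; exact R.B.mul_mem htB hU
  · left
    refine ⟨R.psi x, ?_⟩
    have hH : R.psi (x * g * x⁻¹) ∈ R.B := by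
      rw [hx]; exact R.reeg4c_H_le (R.psi_D s hs)
    rcases hconj x with h | h
    · rw [h]; exact hH
    · rw [h]; exact R.B.mul_mem htB hH
  · right
    refine ⟨R.psi x, ?_⟩
    have hD : R.psi (x * g * x⁻¹) ∈ R.E := by
      unfold ReeAx.E
      apply Subgroup.mem_sup_right
      unfold ReeAx.D
      exact Subgroup.mem_map_of_mem _ hx
    rcases hconj x with h | h
    · rw [h]; exact hD
    · rw [h]; exact R.E.mul_mem htE hD

end ReeAx

end Cfsg.Agent.Lib.helper7.REE
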