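import Mathlib
import Cfsg.Agent.Lib.helper7.REE.Defs
import Cfsg.Agent.Lib.helper2.REEG4Ccore
import Cfsg.Agent.Lib.Helper28.REEPC

/-!
# Project REE, row G4C (`Ct_elements`), verbatim from `helper7/REE/Skel2.lean.txt`.
-/

set_option autoImplicit false

namespace Cfsg.Agent.Lib.helper7.REE

open Matrix Cfsg.Agent.Lib.helper8

universe u v

namespace ReeAx

variable {G : Type u} [Group G] [Finite G] {K : Type v} [Field K] [Fintype K] {m : ℕ}

/-- G4C. Every element of `C(t)` is conjugate into `B` or into `E` (`sl2_trichotomy`). -/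
theorem Ct_elements (R : ReeAx G K m) (c : G) (hc : R.t * c = c * R.t) :
    (∃ x : G, x * c * x⁻¹ ∈ R.B) ∨ (∃ x : G, x * c * x⁻¹ ∈ R.E) :=
  R.reeg4c_core (fun g => sl2_trichotomy R.hK g) c hc

end ReeAx

end Cfsg.Agent.Lib.helper7.REE
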