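import Mathlib
import Cfsg.Agent.Lib.helper7.REE.Defs

/-!
# Project REE, row PD (`so2_anti`): elements `x` with `x W = ± W x` normalise `SO₂(K) = C(W)`.
-/

set_option autoImplicit false

namespace Cfsg.Agent.Lib.helper7.REE

open Matrix Polynomial Cfsg.Agent.Lib.helper8

universe u v

section P

variable {K : Type v} [Field K] [Fintype K] {m : ℕ}

/-- `SO₂(K) = C(W)` (no hypothesis on the field) -/
theorem reepd_mem_iff (g : SpecialLinearGroup (Fin 2) K) :
    g ∈ so2 K ↔ g * h8slW = h8slW * g := by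
  have hmulW : ((g * h8slW : SpecialLinearGroup (Fin 2) K) : Matrix (Fin 2) (Fin 2) K) =
      (g : Matrix (Fin 2) (Fin 2) K) * !![0, 1; -1, 0] := by
    rw [Matrix.SpecialLinearGroup.coe_mul, h8slW_val]
  have hWmul : ((h8slW * g : SpecialLinearGroup (Fin 2) K) : Matrix (Fin 2) (Fin 2) K) =
      !![0, 1; -1, 0] * (g : Matrix (Fin 2) (Fin 2) K) := by
    rw [Matrix.SpecialLinearGroup.coe_mul, h8slW_val]
  constructor
  · rintro ⟨h1, h2⟩
    apply Subtype.ext
    rw [hmulW, hWmul]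
    ext i j
    fin_cases i <;> fin_cases j
    · simp [Matrix.mul_apply, Fin.sum_univ_two]
      rw [h2, neg_neg]
    · simp [Matrix.mul_apply, Fin.sum_univ_two]
      exact h1
    · simp [Matrix.mul_apply, Fin.sum_univ_two]
      exact h1.symm
    · simp [Matrix.mul_apply, Fin.sum_univ_two]
      rw [h2, neg_neg]
  · intro h
    have h' := congrArg Subtype.val h
    rw [hmulW, hWmul] at h'
    have e00 := congrFun (congrFun h' 0) 0
    have e01 := congrFun (congrFun h' 0) 1
    simp [Matrix.mul_apply, Fin.sum_univ_two] at e00 e01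
    exact ⟨e01, by rw [← e00, neg_neg]⟩

/-- PD. -/
theorem so2_anti (hK : Fintype.card K = qq m) (x : SpecialLinearGroup (Fin 2) K)
    (hx : x * h8slW = h8slW * x ∨ x * h8slW = -(h8slW * x)) :
    ∀ d ∈ so2 K, x * d * x⁻¹ ∈ so2 K := by
  intro d hd
  rw [reepd_mem_iff] at hd ⊢
  rcases hx with hx | hx
  · have hxi : x⁻¹ * h8slW = h8slW * x⁻¹ := by
      have : x⁻¹ * (x * h8slW) * x⁻¹ = x⁻¹ * (h8slW * x) * x⁻¹ := by rw [hx]
      simpa [mul_assoc] using this.symm
    calc x * d * x⁻¹ * h8slW = x * d * (x⁻¹ * h8slW) := by simp only [mul_assoc]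
      _ = x * (d * h8slW) * x⁻¹ := by rw [hxi]; simp only [mul_assoc]
      _ = (x * h8slW) * d * x⁻¹ := by rw [hd]; simp only [mul_assoc]
      _ = h8slW * (x * d * x⁻¹) := by rw [hx]; simp only [mul_assoc]
  · have hxi : x⁻¹ * h8slW = -(h8slW * x⁻¹) := by
      have : x⁻¹ * (x * h8slW) * x⁻¹ = x⁻¹ * (-(h8slW * x)) * x⁻¹ := by rw [hx]
      rw [mul_neg, neg_mul] at this
      simp only [mul_assoc, inv_mul_cancel_left, mul_inv_cancel, mul_one] at this
      rw [this, neg_neg]
    calc x * d * x⁻¹ * h8slW = x * d * (x⁻¹ * h8slW) := by simp only [mul_assoc]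
      _ = -(x * (d * h8slW) * x⁻¹) := by rw [hxi, mul_neg]; simp only [mul_assoc]
      _ = -((x * h8slW) * d * x⁻¹) := by rw [hd]; simp only [mul_assoc]
      _ = h8slW * (x * d * x⁻¹) := by
        rw [hx, neg_mul, neg_mul, neg_neg]; simp only [mul_assoc]

end P

end Cfsg.Agent.Lib.helper7.REE
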