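import Mathlib
import Cfsg.Agent.Lib.Helper18.REELA.Defs

/-!
# Project REE, block LA, row LA19 (`la_norm_six`), core: the conclusion of LA04 (`la_split`) for `M` and the
statement of LA20 (`la_abs_norm`) for `V = Fin 7 → K`, `G = ↥C` are hypotheses.
-/

set_option autoImplicit false

namespace Cfsg.Agent.Lib.helper7.REE

open Matrix Polynomial

universe v

section finite

variable {K : Type v} [Field K] [Fintype K]

/-- LA19, core. -/
theorem reela19_core (M : GL (Fin 7) K)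
    (C : Subgroup (GL (Fin 7) K)) [Finite C] (hC : ∀ c ∈ C, c * M = M * c) (hMC : M ∈ C)
    (hcop : (Nat.card C).Coprime (Fintype.card K - 1))
    (n : GL (Fin 7) K) (hn : ∀ c ∈ C, n * c * n⁻¹ ∈ C)
    (hsplit : ∃ p : K[X], p.natDegree = 6 ∧ LaSplit (laHom (Fin 7) K M) p)
    (hLA20 : ∀ (f : Module.End K (Fin 7 → K)) (p : K[X]), LaSplit f p →
      ∀ (ρ : ↥C →* Module.End K (Fin 7 → K)), Function.Injective ρ → (∀ g, Commute (ρ g) f) →
      (Nat.card ↥C).Coprime (Fintype.card K - 1) → ∀ (g₀ : ↥C), ρ g₀ = f →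
      ∀ (N N' : Module.End K (Fin 7 → K)), N * N' = 1 → N' * N = 1 →
      ∀ (σ : ↥C → ↥C), (∀ g, N * ρ g * N' = ρ (σ g)) →
      ∃ i, i < p.natDegree ∧ ∀ g : ↥C, σ g = g ^ (Fintype.card K ^ i)) :
    ∃ i, i < 6 ∧ ∀ c ∈ C, n * c * n⁻¹ = c ^ (Fintype.card K ^ i) := by
  obtain ⟨p, hp6, hs⟩ := hsplit
  have hρ : Function.Injective ((laHom (Fin 7) K).comp C.subtype) := by
    intro a b h
    exact C.subtype_injective (laHom_injective (Fin 7) K h)
  have hcom : ∀ g : ↥C, Commute (((laHom (Fin 7) K).comp C.subtype) g) (laHom (Fin 7) K M) := by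
    intro g
    show laHom (Fin 7) K (g : GL (Fin 7) K) * laHom (Fin 7) K M =
      laHom (Fin 7) K M * laHom (Fin 7) K (g : GL (Fin 7) K)
    rw [← map_mul, ← map_mul, hC g.1 g.2]
  have hNN' : laHom (Fin 7) K n * laHom (Fin 7) K n⁻¹ = 1 := by
    rw [← map_mul, mul_inv_cancel, map_one]
  have hN'N : laHom (Fin 7) K n⁻¹ * laHom (Fin 7) K n = 1 := by
    rw [← map_mul, inv_mul_cancel, map_one]
  obtain ⟨i, hi, hσi⟩ := hLA20 (laHom (Fin 7) K M) p hs ((laHom (Fin 7) K).comp C.subtype) hρ hcom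
    hcop ⟨M, hMC⟩ rfl (laHom (Fin 7) K n) (laHom (Fin 7) K n⁻¹) hNN' hN'N
    (fun c => ⟨n * c * n⁻¹, hn c c.2⟩)
    (by
      intro g
      show laHom (Fin 7) K n * laHom (Fin 7) K (g : GL (Fin 7) K) * laHom (Fin 7) K n⁻¹ =
        laHom (Fin 7) K (n * (g : GL (Fin 7) K) * n⁻¹)
      rw [map_mul, map_mul])
  refine ⟨i, by rw [hp6] at hi; exact hi, ?_⟩
  intro c hc
  have h := congrArg Subtype.val (hσi ⟨c, hc⟩)
  simpa using h

end finite

end Cfsg.Agent.Lib.helper7.REE
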