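import Mathlib
import Cfsg.Agent.Lib.Helper18.REELA.Defs
import Cfsg.Agent.Lib.helper2.REELA19core
import Cfsg.Agent.Lib.helper15.REELA04h15
import Cfsg.Agent.Lib.Helper18.REELA20

/-!
# Project REE, block LA, row LA19 (`la_norm_six`), verbatim (= helper7 Skel1 LAE), export cited by G7C.
`la_split` enters through helper15's landed copy `la_split_h15` (same statement, via `la_decomp`).
-/

set_option autoImplicit false

namespace Cfsg.Agent.Lib.helper7.REE

open Matrix Polynomial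

universe v

section finite

variable {K : Type v} [Field K] [Fintype K]

/-- LA19 [S-M] (VERBATIM helper7 LAE, EXPORT cited by G7C). -/
theorem la_norm_six (l : ℕ) (hl : l.Prime) (h6 : l ∣ Fintype.card K ^ 6 - 1)
    (hmin : ∀ i, 0 < i → i < 6 → ¬ l ∣ Fintype.card K ^ i - 1) (hlK : ¬ l ∣ Fintype.card K)
    (M : GL (Fin 7) K) (hM : orderOf M = l)
    (C : Subgroup (GL (Fin 7) K)) [Finite C] (hC : ∀ c ∈ C, c * M = M * c) (hMC : M ∈ C)
    (hcop : (Nat.card C).Coprime (Fintype.card K - 1))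
    (n : GL (Fin 7) K) (hn : ∀ c ∈ C, n * c * n⁻¹ ∈ C) :
    ∃ i, i < 6 ∧ ∀ c ∈ C, n * c * n⁻¹ = c ^ (Fintype.card K ^ i) :=
  reela19_core M C hC hMC hcop n hn (la_split_h15 l hl h6 hmin hlK M hM)
    (fun f p hs ρ hρ hcom hcop' g₀ hg₀ N N' hNN' hN'N σ hσ =>
      la_abs_norm f p hs ρ hρ hcom hcop' g₀ hg₀ N N' hNN' hN'N σ hσ)

end finite

end Cfsg.Agent.Lib.helper7.REE
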