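import Mathlib

set_option autoImplicit false

/-! Definitions for project S91 (= S4091): the number of `p`-elements of a `p`-solvable group. -/

namespace Cfsg.Agent.Lib.helper2.S91

/-- number of `p`-elements (elements of `p`-power order) of `G` lying in the set `T` -/
noncomputable def uIn (p : ℕ) {G : Type*} [Group G] (T : Set G) : ℕ :=
  Nat.card {g : G // g ∈ T ∧ ∃ k : ℕ, orderOf g = p ^ k}

/-- the product inequality for fixed points: with `s = #P0`,
`(∏_{u ∈ P0} #C_K(x u))^p * #C_K(P0)^s ≤ #K^s * #C_K(⟨x⟩P0)^(p s)`. -/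
def PIneq (p : ℕ) {G : Type*} [Group G] (K P0 : Subgroup G) [Fintype ↥P0] (x : G) : Prop :=
  (∏ u : ↥P0, Nat.card ↥(K ⊓ Subgroup.centralizer {x * (u : G)})) ^ p *
      Nat.card ↥(K ⊓ Subgroup.centralizer (P0 : Set G)) ^ Nat.card ↥P0 ≤
    Nat.card ↥K ^ Nat.card ↥P0 *
      Nat.card ↥(K ⊓ Subgroup.centralizer {x} ⊓ Subgroup.centralizer (P0 : Set G)) ^
        (p * Nat.card ↥P0)

end Cfsg.Agent.Lib.helper2.S91
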