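import Mathlib
import Cfsg.Agent.Lib.helper17.STM.Defs
import Cfsg.Agent.Lib.helper17.STM.Defs2

/-!
# Project STM (designer helper17), row H5 (`hs_comm`, `h_hs_comm`), CORE (helper2): port of `Helper16.STBH5core`.
Hypotheses = the statements of W11 `IsMon.cj_hs` and H1 `ws_mul_ws`.
-/

set_option autoImplicit false

namespace Cfsg.Agent.Lib.helper17.STM

open Cfsg.Agent.Lib.helper15.St2 Cfsg.Agent.Lib.helper3.STC Cfsg.Agent.Lib.Lead.STD

universe v w

namespace SysM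

variable {F : Type*} [Field F] {A B : F} [Fact (∀ r : F, r ^ 2 ≠ -B + A * r)] {ι : Type*} {G : Type*} [Group G] (S : SysM F A B ι G)

/-- H5 core: an element which is monomial with trivial permutation and `ε = false` commutes with every short torus element.
`hcj` = statement of W11 `IsMon.cj_hs`, `hww` = statement of H1 `ws_mul_ws`. -/
theorem stmh5_core
    (hcj : ∀ {g : G} {σ : Equiv.Perm (ι ⊕ ι)} {d : ι ⊕ ι → F} {c0 : Kq F A B} {ε : Bool}, S.IsMon g σ d c0 ε →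
      ∀ (a : ι ⊕ ι) (u : Kq F A B), u ≠ 0 →
      cj g (S.hs a u) = S.ws (σ a) (d a • (c0 * tw ε u)) * S.ws (σ a) (-(d a • c0)))
    (hww : ∀ (a : ι ⊕ ι) (c d : Kq F A B), c ≠ 0 → d ≠ 0 → S.ws a c * S.ws a d = S.hs a (-(c * d⁻¹)))
    {g : G} {d : ι ⊕ ι → F} {c0 : Kq F A B} (hg : S.IsMon g 1 d c0 false) (c : ι ⊕ ι) (v : Kq F A B) (hv : v ≠ 0) :
    g * S.hs c v = S.hs c v * g := by
  have hd : d c ≠ 0 := left_ne_zero_of_mul_eq_one (hg.2.2.1 c)
  have hc0 : c0 ≠ 0 := by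
    intro h
    have h1 := hg.2.2.2.1
    rw [h, nm_eq_zero.2 rfl] at h1
    exact zero_ne_one h1
  have hda : algebraMap F (Kq F A B) (d c) ≠ 0 := (map_ne_zero (algebraMap F (Kq F A B))).mpr hd
  have h1 := hcj hg c v hv
  rw [Equiv.Perm.coe_one, id_eq, tw_false, kq_smul_def, kq_smul_def] at h1
  have hne1 : algebraMap F (Kq F A B) (d c) * (c0 * v) ≠ 0 := mul_ne_zero hda (mul_ne_zero hc0 hv)
  have hne2 : -(algebraMap F (Kq F A B) (d c) * c0) ≠ 0 := neg_ne_zero.2 (mul_ne_zero hda hc0)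
  rw [hww c _ _ hne1 hne2] at h1
  have e : -(algebraMap F (Kq F A B) (d c) * (c0 * v) * (-(algebraMap F (Kq F A B) (d c) * c0))⁻¹) = v := by
    rw [inv_neg]
    field_simp
  rw [e] at h1
  unfold cj at h1
  exact mul_inv_eq_iff_eq_mul.mp h1

end SysM

end Cfsg.Agent.Lib.helper17.STM
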