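import Mathlib
import Cfsg.Agent.Lib.helper2.STMH5core
import Cfsg.Agent.Lib.Helper21.STMW11
import Cfsg.Agent.Lib.Helper20.STMH1
import Cfsg.Agent.Lib.Helper20.STMH2

/-!
# Project STM (designer helper17), row H5 (`hs_comm`, `h_hs_comm`), VERBATIM (helper2): wrappers of `stmh5_core` on W11 `IsMon.cj_hs`, H1 `ws_mul_ws`, H2 `isMon_hs` `isMon_h`.
-/

set_option autoImplicit false

namespace Cfsg.Agent.Lib.helper17.STM

open Cfsg.Agent.Lib.helper15.St2 Cfsg.Agent.Lib.helper3.STC Cfsg.Agent.Lib.Lead.STD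

universe v w

namespace SysM

variable {F : Type*} [Field F] {A B : F} [Fact (∀ r : F, r ^ 2 ≠ -B + A * r)] {ι : Type*} {G : Type*} [Group G] (S : SysM F A B ι G)

variable [DecidableEq ι]

section H
variable [Finite F]

/-- H5 [S-M] -/
theorem hs_comm (a b : ι ⊕ ι) (u v : Kq F A B) (hu : u ≠ 0) (hv : v ≠ 0) : S.hs a u * S.hs b v = S.hs b v * S.hs a u :=
  S.stmh5_core (fun hg a u hu => IsMon.cj_hs S hg a u hu) (fun a c d hc hd => S.ws_mul_ws a c d hc hd) (S.isMon_hs a u hu) b v hv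

theorem h_hs_comm {a b : ι ⊕ ι} (hab : a ≠ b) (hab' : a ≠ ng b) (c : ι ⊕ ι) (u : F) (v : Kq F A B) (hu : u ≠ 0) (hv : v ≠ 0) :
    S.h a b u * S.hs c v = S.hs c v * S.h a b u :=
  S.stmh5_core (fun hg a u hu => IsMon.cj_hs S hg a u hu) (fun a c d hc hd => S.ws_mul_ws a c d hc hd) (S.isMon_h hab hab' u hu) c v hv

end H

end SysM

end Cfsg.Agent.Lib.helper17.STM
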