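import Mathlib
import Cfsg.Agent.Lib.Lead.STB.Defs

/-!
# Project STB, row X2 (`toSysD_XQ_le`).  helper2.
-/

set_option autoImplicit false

namespace Cfsg.Agent.Lib.Lead.STB

open Cfsg.Agent.Lib.helper15.St2 Cfsg.Agent.Lib.helper3.STC Cfsg.Agent.Lib.Lead.STD

universe v w

namespace SysB

variable {K : Type*} [Field K] {ι : Type*} {G : Type*} [Group G] (S : SysB K ι G)

/-- X2 -/
theorem toSysD_XQ_le (Q : ι ⊕ ι → ι ⊕ ι → Prop) (Qs : ι ⊕ ι → Prop) : S.toSysD.XQ Q ≤ S.XQ Q Qs := by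
  unfold Cfsg.Agent.Lib.Lead.STD.SysD.XQ Cfsg.Agent.Lib.Lead.STB.SysB.XQ
  apply Subgroup.closure_mono
  exact Set.subset_union_left

end SysB

end Cfsg.Agent.Lib.Lead.STB
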