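import Mathlib
import Cfsg.Agent.Lib.helper17.STM.Defs
import Cfsg.Agent.Lib.helper17.STM.Defs2
import Cfsg.Agent.Lib.Helper9.STMF8
import Cfsg.Agent.Lib.Helper21.STMW12

/-!
# Project STM (designer helper17), part 2, rows F17 (`lemB`) and F17s (`lemB_s`), CORES.  helper2.

`stmf17_core`: `lemB` with `hA` = the statement of F10 `lemA_all`, `hW` = the statement of F15 `InD_w` (at `k`) as hypotheses.
`stmf17s_core`: `lemB_s` with `hAs` = the statement of F10s `lemA_all_s`, `hW` = the statement of F15 `InD_w` (at `k`).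
Cited from main: W12 `isMon_w` (`Helper21.STMW12`), F8 `IsMon_move` / `IsMon_move_s` (`Helper9.STMF8`).
Ports of `Helper25.STBF17core`, `helper15.STBF17score`.
-/

set_option autoImplicit false

namespace Cfsg.Agent.Lib.helper17.STM

open Cfsg.Agent.Lib.helper15.St2 Cfsg.Agent.Lib.helper3.STC Cfsg.Agent.Lib.Lead.STD

universe v w

namespace SysM

variable {F : Type*} [Field F] {A B : F} [Fact (∀ r : F, r ^ 2 ≠ -B + A * r)] {ι : Type*} [DecidableEq ι] {G : Type*} [Group G] (S : SysM F A B ι G)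

section F
variable (o : ι ⊕ ι)

/-- core of F17 `lemB` -/
theorem stmf17_core {k : ι ⊕ ι} (hk : k ≠ o) (hk' : k ≠ ng o) (a b : ι ⊕ ι) (t : F) {y p : G} (hy : y ∈ S.Yg o) (hp : p ∈ S.Phat o)
    (hA : ∀ (a b : ι ⊕ ι) (t : F) {y p : G}, y ∈ S.Yg o → p ∈ S.Phat o → S.InD o (S.x a b t * (y * p)))
    (hW : ∀ {g : G}, S.InD o g → S.InD o (S.w o k 1 * g)) :
    S.InD o (S.x a b t * (S.w o k 1 * y * p)) := by
  have hngng : ∀ a : ι ⊕ ι, ng (ng a) = a := fun a => by cases a <;> rfl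
  by_cases hab : a = b
  · subst hab
    rw [S.diag, one_mul, mul_assoc]
    apply hW
    have h1 := hA a a 0 hy hp
    rw [S.diag, one_mul] at h1
    exact h1
  · have hok' : o ≠ ng k := by
      intro h
      apply hk'
      rw [h, hngng]
    have hmon := S.isMon_w (Ne.symm hk) hok' 1 one_ne_zero
    obtain ⟨s, hs⟩ := S.IsMon_move hmon hab t
    have e : S.x a b t * (S.w o k 1 * y * p) =
        S.w o k 1 * (S.x ((sws o k)⁻¹ a) ((sws o k)⁻¹ b) s * (y * p)) := by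
      calc S.x a b t * (S.w o k 1 * y * p) = (S.x a b t * S.w o k 1) * (y * p) := by group
        _ = (S.w o k 1 * S.x ((sws o k)⁻¹ a) ((sws o k)⁻¹ b) s) * (y * p) := by rw [hs]
        _ = S.w o k 1 * (S.x ((sws o k)⁻¹ a) ((sws o k)⁻¹ b) s * (y * p)) := by group
    rw [e]
    exact hW (hA _ _ s hy hp)

/-- core of F17s `lemB_s` -/
theorem stmf17s_core {k : ι ⊕ ι} (hk : k ≠ o) (hk' : k ≠ ng o) (a : ι ⊕ ι) (t : Kq F A B) {y p : G} (hy : y ∈ S.Yg o) (hp : p ∈ S.Phat o)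
    (hAs : ∀ (a : ι ⊕ ι) (t : Kq F A B) {y p : G}, y ∈ S.Yg o → p ∈ S.Phat o → S.InD o (S.xs a t * (y * p)))
    (hW : ∀ {g : G}, S.InD o g → S.InD o (S.w o k 1 * g)) :
    S.InD o (S.xs a t * (S.w o k 1 * y * p)) := by
  have hngng : ∀ a : ι ⊕ ι, ng (ng a) = a := fun a => by cases a <;> rfl
  have hok' : o ≠ ng k := by
    intro h
    apply hk'
    rw [h, hngng]
  have hmon := S.isMon_w (Ne.symm hk) hok' 1 one_ne_zero
  obtain ⟨s, hs⟩ := S.IsMon_move_s hmon a t
  have e : S.xs a t * (S.w o k 1 * y * p) = S.w o k 1 * (S.xs ((sws o k)⁻¹ a) s * (y * p)) := by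
    calc S.xs a t * (S.w o k 1 * y * p) = (S.xs a t * S.w o k 1) * (y * p) := by group
      _ = (S.w o k 1 * S.xs ((sws o k)⁻¹ a) s) * (y * p) := by rw [hs]
      _ = S.w o k 1 * (S.xs ((sws o k)⁻¹ a) s * (y * p)) := by group
  rw [e]
  exact hW (hAs _ s hy hp)

end F

end SysM

end Cfsg.Agent.Lib.helper17.STM
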