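import Mathlib
import Cfsg.Agent.Lib.helper17.STM.Defs
import Cfsg.Agent.Lib.helper17.STM.Defs2

/-!
# Project STM (designer helper17), part 2, row F18 (`InD_one InD_mul InD_mul_s`), CORE.  helper2.

`stmf18_one` = `InD_one`; `stmf18_mul` / `stmf18_mul_s`: `InD_mul` / `InD_mul_s` with the statements of F10 / F10s (`lemA_all`, `lemA_all_s`), F17 / F17s (`lemB`, `lemB_s`), F17N (`lemBN`, `lemBN_s`)
as hypotheses.  Port of `helper4.STBF18core`.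
-/

set_option autoImplicit false

namespace Cfsg.Agent.Lib.helper17.STM

open Cfsg.Agent.Lib.helper15.St2 Cfsg.Agent.Lib.helper3.STC Cfsg.Agent.Lib.Lead.STD

universe v w

namespace SysM

variable {F : Type*} [Field F] {A B : F} [Fact (∀ r : F, r ^ 2 ≠ -B + A * r)] {ι : Type*} {G : Type*} [Group G] (S : SysM F A B ι G)

section F
variable (o : ι ⊕ ι)

/-- F18, first statement -/
theorem stmf18_one : S.InD o 1 :=
  Or.inl ⟨1, one_mem _, 1, one_mem _, by group⟩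

/-- core of F18 `InD_mul` -/
theorem stmf18_mul
    (hA : ∀ (a b : ι ⊕ ι) (t : F) {y p : G}, y ∈ S.Yg o → p ∈ S.Phat o → S.InD o (S.x a b t * (y * p)))
    (hB : ∀ {k : ι ⊕ ι}, k ≠ o → k ≠ ng o → ∀ (a b : ι ⊕ ι) (t : F) {y p : G}, y ∈ S.Yg o → p ∈ S.Phat o →
      S.InD o (S.x a b t * (S.w o k 1 * y * p)))
    (hBN : ∀ (a b : ι ⊕ ι) (t : F) {y p : G}, y ∈ S.Yg o → p ∈ S.Phat o → S.InD o (S.x a b t * (S.ws o 1 * y * p)))
    (a b : ι ⊕ ι) (t : F) {g : G} (hg : S.InD o g) :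
    S.InD o (S.x a b t * g) := by
  rcases hg with ⟨y, hy, p, hp, rfl⟩ | ⟨k, hk, hk', y, hy, p, hp, rfl⟩ | ⟨y, hy, p, hp, rfl⟩
  · exact hA a b t hy hp
  · exact hB hk hk' a b t hy hp
  · exact hBN a b t hy hp

/-- core of F18 `InD_mul_s` -/
theorem stmf18_mul_s
    (hA : ∀ (a : ι ⊕ ι) (t : Kq F A B) {y p : G}, y ∈ S.Yg o → p ∈ S.Phat o → S.InD o (S.xs a t * (y * p)))
    (hB : ∀ {k : ι ⊕ ι}, k ≠ o → k ≠ ng o → ∀ (a : ι ⊕ ι) (t : Kq F A B) {y p : G}, y ∈ S.Yg o → p ∈ S.Phat o →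
      S.InD o (S.xs a t * (S.w o k 1 * y * p)))
    (hBN : ∀ (a : ι ⊕ ι) (t : Kq F A B) {y p : G}, y ∈ S.Yg o → p ∈ S.Phat o → S.InD o (S.xs a t * (S.ws o 1 * y * p)))
    (a : ι ⊕ ι) (t : Kq F A B) {g : G} (hg : S.InD o g) :
    S.InD o (S.xs a t * g) := by
  rcases hg with ⟨y, hy, p, hp, rfl⟩ | ⟨k, hk, hk', y, hy, p, hp, rfl⟩ | ⟨y, hy, p, hp, rfl⟩
  · exact hA a t hy hp
  · exact hB hk hk' a t hy hp
  · exact hBN a t hy hp

end F

end SysM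

end Cfsg.Agent.Lib.helper17.STM
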