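import Mathlib
import Cfsg.Agent.Lib.Helper25.BGL.PCDefs
import Cfsg.Agent.Lib.Helper10.BGL.Bridge
import Cfsg.Agent.Lib.helper8.ChevK

/-!
# Project BGL, row PC01 (`pc_tab`): tables for the highest root.  helper2.
-/

set_option autoImplicit false

namespace Cfsg.Agent.Lib.Helper10.BGL

open Cfsg.Lie Cfsg.Lie.ChevalleyDatum Cfsg.Agent.Lib.helper8

universe u

theorem bglpc01_long_of_sl (D : ChevalleyDatum) (h1 : D.nroots ≠ 12) (h2 : D.nroots ≠ 8)
    (h3 : D.nroots ≠ 48) (r : ℕ) : isLong D r := by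
  unfold isLong
  rw [if_neg h1, if_neg h2, if_neg h3]
  trivial

theorem bglpc01_stable_of_sl (D : ChevalleyDatum) (h1 : D.nroots ≠ 12) (h2 : D.nroots ≠ 8)
    (h3 : D.nroots ≠ 48) : ReflStable D (isLong D) :=
  fun _ _ _ _ _ => bglpc01_long_of_sl D h1 h2 h3 _

theorem bglpc01_base (D : ChevalleyDatum) (hD : Seven D) :
    2 ≤ D.nroots ∧ D.negIdx.getD (D.nroots - 1) 0 = 0 ∧ D.negIdx.getD 0 0 = D.nroots - 1 ∧
      D.IsPosRoot (D.nroots - 1) := by
  simp only [List.mem_cons, List.not_mem_nil, or_false] at hD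
  rcases hD with rfl | rfl | rfl | rfl | rfl | rfl | rfl <;> decide +kernel

theorem bglpc01_long (D : ChevalleyDatum) (hD : Seven D) :
    isLong D (D.nroots - 1) ∧ ReflStable D (isLong D) := by
  simp only [List.mem_cons, List.not_mem_nil, or_false] at hD
  rcases hD with rfl | rfl | rfl | rfl | rfl | rfl | rfl
  · unfold ReflStable; decide +kernel
  · unfold ReflStable; decide +kernel
  · exact ⟨bglpc01_long_of_sl _ (by decide +kernel) (by decide +kernel) (by decide +kernel) _,
      bglpc01_stable_of_sl _ (by decide +kernel) (by decide +kernel) (by decide +kernel)⟩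
  · unfold ReflStable; decide +kernel
  · exact ⟨bglpc01_long_of_sl _ (by decide +kernel) (by decide +kernel) (by decide +kernel) _,
      bglpc01_stable_of_sl _ (by decide +kernel) (by decide +kernel) (by decide +kernel)⟩
  · exact ⟨bglpc01_long_of_sl _ (by decide +kernel) (by decide +kernel) (by decide +kernel) _,
      bglpc01_stable_of_sl _ (by decide +kernel) (by decide +kernel) (by decide +kernel)⟩
  · exact ⟨bglpc01_long_of_sl _ (by decide +kernel) (by decide +kernel) (by decide +kernel) _,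
      bglpc01_stable_of_sl _ (by decide +kernel) (by decide +kernel) (by decide +kernel)⟩

/-- PC01 -/
theorem pc_tab (D : ChevalleyDatum) (hD : Seven D) :
    2 ≤ D.nroots ∧ D.negIdx.getD (D.nroots - 1) 0 = 0 ∧ D.negIdx.getD 0 0 = D.nroots - 1 ∧
      D.IsPosRoot (D.nroots - 1) ∧ isLong D (D.nroots - 1) ∧ ReflStable D (isLong D) := by
  obtain ⟨h1, h2, h3, h4⟩ := bglpc01_base D hD
  obtain ⟨h5, h6⟩ := bglpc01_long D hD
  exact ⟨h1, h2, h3, h4, h5, h6⟩

end Cfsg.Agent.Lib.Helper10.BGL
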