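import Mathlib
import Cfsg.Prelude.Def_ChevStructure
import Cfsg.Agent.Lib.helper8.BTT.Defs
import Cfsg.Agent.Lib.Helper22.BTTGEN3

/-!
# BTT row GEN4 (`fil_inv`, `filP_inv`, `par_inv`): the sets `Fil ℓ c` (`c ≥ 0`), `FilP ℓ`, `Par ℓ`
are closed under inverses in `GL ι F`, `F` finite (the inverse is a power).  (helper2)

Self-contained for `Fil` / `FilP` (own-name copies `bttgen4_fil_one`, `bttgen4_fil_mul`,
`bttgen4_filP_one`, `bttgen4_filP_mul` of the GEN1 / GEN2 statements); `Par` cites helper22's GEN3.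
-/

set_option autoImplicit false

namespace Cfsg.Agent.Lib.helper8.BTT

open Cfsg.Lie Cfsg.Lie.ChevalleyDatum

universe u

section gen
variable {ι : Type*} [Fintype ι] [DecidableEq ι] {F : Type*} [Field F]

/-- `M * M' - 1 = (M - 1) * (M' - 1) + (M - 1) + (M' - 1)` -/
theorem bttgen4_mul_sub_one (M M' : Matrix ι ι F) :
    M * M' - 1 = (M - 1) * (M' - 1) + (M - 1) + (M' - 1) := by
  noncomm_ring

/-- a non-zero entry of `M * M' - 1` comes from `M - 1`, from `M' - 1`, or from a pair -/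
theorem bttgen4_entry (M M' : Matrix ι ι F) (i j : ι) (h : (M * M' - 1) i j ≠ 0) :
    (∃ k, (M - 1) i k ≠ 0 ∧ (M' - 1) k j ≠ 0) ∨ (M - 1) i j ≠ 0 ∨ (M' - 1) i j ≠ 0 := by
  by_contra hcon
  push_neg at hcon
  obtain ⟨h1, h2, h3⟩ := hcon
  apply h
  rw [bttgen4_mul_sub_one, Matrix.add_apply, Matrix.add_apply, h2, h3, add_zero, add_zero,
    Matrix.mul_apply]
  apply Finset.sum_eq_zero
  intro k _
  by_cases hk : (M - 1) i k = 0
  · rw [hk, zero_mul]
  · rw [h1 k hk, mul_zero]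

/-- own copy of GEN1 `fil_one` -/
theorem bttgen4_fil_one (ℓ : ι → ℝ) (c : ℝ) : Fil ℓ c (1 : Matrix ι ι F) := by
  intro i j h
  exact absurd (by simp) h

/-- own copy of GEN1 `fil_mul` -/
theorem bttgen4_fil_mul (ℓ : ι → ℝ) (c : ℝ) (hc : 0 ≤ c) (M M' : Matrix ι ι F) (h : Fil ℓ c M)
    (h' : Fil ℓ c M') : Fil ℓ c (M * M') := by
  intro i j hij
  rcases bttgen4_entry M M' i j hij with ⟨k, h1, h2⟩ | h1 | h1
  · have a1 := h i k h1
    have a2 := h' k j h2
    linarith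
  · exact h i j h1
  · exact h' i j h1

/-- own copy of GEN2 `filP_one` -/
theorem bttgen4_filP_one (ℓ : ι → ℝ) : FilP ℓ (1 : Matrix ι ι F) := by
  intro i j h
  exact absurd (by simp) h

/-- own copy of GEN2 `filP_mul` -/
theorem bttgen4_filP_mul (ℓ : ι → ℝ) (M M' : Matrix ι ι F) (h : FilP ℓ M) (h' : FilP ℓ M') :
    FilP ℓ (M * M') := by
  intro i j hij
  rcases bttgen4_entry M M' i j hij with ⟨k, h1, h2⟩ | h1 | h1
  · exact (h' k j h2).trans (h i k h1)
  · exact h i j h1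
  · exact h' i j h1

/-- in a finite general linear group the inverse is a power -/
theorem bttgen4_inv_eq_pow [Finite F] (g : GL ι F) : ∃ k : ℕ, g⁻¹ = g ^ k := by
  haveI : Finite (Matrix ι ι F) := by
    unfold Matrix
    infer_instance
  haveI : Finite (GL ι F) := by
    unfold Matrix.GeneralLinearGroup
    infer_instance
  have hfin : IsOfFinOrder g := isOfFinOrder_of_finite g
  have hpos : 0 < orderOf g := hfin.orderOf_pos
  refine ⟨orderOf g - 1, ?_⟩
  apply inv_eq_of_mul_eq_one_right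
  rw [← pow_succ', Nat.sub_add_cancel hpos, pow_orderOf_eq_one]

/-- a set of matrices containing `1` and closed under products is closed under inverses in
`GL ι F`, `F` finite -/
theorem bttgen4_inv_of_mul [Finite F] (P : Matrix ι ι F → Prop) (h1 : P 1)
    (hmul : ∀ M M', P M → P M' → P (M * M')) (g : GL ι F) (h : P (g : Matrix ι ι F)) :
    P ((g⁻¹ : GL ι F) : Matrix ι ι F) := by
  have hpow : ∀ k : ℕ, P ((g : Matrix ι ι F) ^ k) := by
    intro k
    induction k with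
    | zero => rw [pow_zero]; exact h1
    | succ n ih => rw [pow_succ]; exact hmul _ _ ih h
  obtain ⟨k, hk⟩ := bttgen4_inv_eq_pow g
  rw [hk, Units.val_pow_eq_pow_val]
  exact hpow k

/-- GEN4 [S-M]: inverses (finite field: the inverse is a power). -/
theorem fil_inv [Finite F] (ℓ : ι → ℝ) (c : ℝ) (hc : 0 ≤ c) (g : GL ι F)
    (h : Fil ℓ c (g : Matrix ι ι F)) : Fil ℓ c ((g⁻¹ : GL ι F) : Matrix ι ι F) :=
  bttgen4_inv_of_mul (Fil ℓ c) (bttgen4_fil_one ℓ c) (bttgen4_fil_mul ℓ c hc) g h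

theorem filP_inv [Finite F] (ℓ : ι → ℝ) (g : GL ι F)
    (h : FilP ℓ (g : Matrix ι ι F)) : FilP ℓ ((g⁻¹ : GL ι F) : Matrix ι ι F) :=
  bttgen4_inv_of_mul (FilP ℓ) (bttgen4_filP_one ℓ) (bttgen4_filP_mul ℓ) g h

theorem par_inv [Finite F] (ℓ : ι → ℝ) (g : GL ι F)
    (h : Par ℓ (g : Matrix ι ι F)) : Par ℓ ((g⁻¹ : GL ι F) : Matrix ι ι F) :=
  bttgen4_inv_of_mul (Par ℓ) (par_one ℓ) (par_mul ℓ) g h

end gen

end Cfsg.Agent.Lib.helper8.BTT
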