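import Mathlib
import Cfsg.Agent.Lib.Helper22.C3L.Defs
import Cfsg.Agent.Lib.helper8.C3S.Defs

set_option autoImplicit false
set_option linter.unusedVariables false
set_option linter.unusedSectionVars false

/-!
# Project C3S, piece SPREAD (helper2) : the core, with the transitivity of `SpB` (statement `spb_trans`) as a hypothesis.
-/

namespace Cfsg.Agent.Lib.helper8.C3S

open Module Cfsg.Agent.Lib.Helper22.C3L

variable {F K V : Type*} [Field F] [Field K] [Algebra F K] [AddCommGroup V] [Module F V] [Module K V]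
  [IsScalarTower F K V]

/-- every element of a finite field is a sum of two squares -/
theorem c3sspread_sq2 [Finite F] (x : F) : ∃ a b : F, x = a * a + b * b := by
  classical
  haveI : Fintype F := Fintype.ofFinite F
  by_cases h2 : (2 : F) = 0
  · have hinj : Function.Injective (fun y : F => y * y) := by
      intro y z hyz
      simp only at hyz
      have h1 : (y - z) * (y - z) = 0 := by
        have e : (y - z) * (y - z) = y * y + z * z - 2 * (y * z) := by ring
        rw [e, h2, zero_mul, sub_zero, hyz]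
        have : z * z + z * z = 2 * (z * z) := by ring
        rw [this, h2, zero_mul]
      have := mul_self_eq_zero.1 h1
      exact sub_eq_zero.1 this
    obtain ⟨a, ha⟩ := Finite.surjective_of_injective hinj x
    exact ⟨a, 0, by simp only at ha; rw [ha]; ring⟩
  · have hodd : Fintype.card F % 2 = 1 := by
      have hch : ringChar F ≠ 2 := by
        intro h
        apply h2
        have : CharP F 2 := by rw [← h]; exact ringChar.charP F
        exact CharTwo.two_eq_zero
      exact FiniteField.odd_card_of_char_ne_two hch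
    have hd1 : (Polynomial.X ^ 2 : Polynomial F).degree = 2 := Polynomial.degree_X_pow 2
    have hd2 : (Polynomial.X ^ 2 - Polynomial.C x : Polynomial F).degree = 2 :=
      Polynomial.degree_X_pow_sub_C (by norm_num) x
    obtain ⟨a, b, hab⟩ := FiniteField.exists_root_sum_quadratic hd1 hd2 hodd
    refine ⟨a, b, ?_⟩
    simp only [Polynomial.eval_sub, Polynomial.eval_pow, Polynomial.eval_X, Polynomial.eval_C] at hab
    linear_combination -hab

/-- `HasFtv z 0` always -/
theorem c3sspread_zero (B : V →ₗ[K] V →ₗ[K] K) (H : Subgroup (V ≃ₗ[F] V)) (z : V) : HasFtv B H z 0 :=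
  ⟨1, H.one_mem, fun x => by rw [zero_mul, zero_smul, add_zero]; rfl⟩

/-- `HasFtv 0 c` always -/
theorem c3sspread_zero_vec (B : V →ₗ[K] V →ₗ[K] K) (H : Subgroup (V ≃ₗ[F] V)) (c : F) : HasFtv B H 0 c :=
  ⟨1, H.one_mem, fun x => by rw [smul_zero, add_zero]; rfl⟩

/-- conjugation by an element of `SpB` -/
theorem c3sspread_conj (B : V →ₗ[K] V →ₗ[K] K) (H : Subgroup (V ≃ₗ[F] V)) (hC : SpB F B ≤ H)
    {v : V} {c : F} (h : HasFtv B H v c) {d : V ≃ₗ[F] V} (hd : d ∈ SpB F B) : HasFtv B H (d v) c := by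
  obtain ⟨g, hg, hgx⟩ := h
  refine ⟨d * g * d⁻¹, H.mul_mem (H.mul_mem (hC hd) hg) (H.inv_mem (hC hd)), fun x => ?_⟩
  have h1 : (d * g * d⁻¹) x = d (g (d.symm x)) := rfl
  have h2 : B (d.symm x) v = B x (d v) := by
    rw [← hd.2 (d.symm x) v, LinearEquiv.apply_symm_apply]
  rw [h1, hgx, map_add, map_smul, LinearEquiv.apply_symm_apply, h2]

/-- `t_{λ z, c} = t_{z, c λ²}` -/
theorem c3sspread_scale (B : V →ₗ[K] V →ₗ[K] K) (H : Subgroup (V ≃ₗ[F] V)) {z : V} {c l : F}
    (h : HasFtv B H (l • z) c) : HasFtv B H z (c * l * l) := by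
  obtain ⟨g, hg, hgx⟩ := h
  refine ⟨g, hg, fun x => ?_⟩
  have h1 : B x (l • z) = l • B x z := (B x).map_smul_of_tower l z
  rw [hgx, h1, map_smul, smul_eq_mul, smul_smul]
  congr 2
  ring

/-- additivity in the parameter -/
theorem c3sspread_add (B : V →ₗ[K] V →ₗ[K] K) (hB0 : ∀ x, B x x = 0) (H : Subgroup (V ≃ₗ[F] V)) {z : V}
    {c c' : F} (h : HasFtv B H z c) (h' : HasFtv B H z c') : HasFtv B H z (c + c') := by
  obtain ⟨g, hg, hgx⟩ := h
  obtain ⟨g', hg', hgx'⟩ := h'
  refine ⟨g * g', H.mul_mem hg hg', fun x => ?_⟩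
  have h1 : (g * g') x = g (g' x) := rfl
  have h2 : ∀ s : F, B (x + s • z) z = B x z := by
    intro s
    have h3 : B (s • z) = s • B z := B.map_smul_of_tower s z
    rw [map_add, LinearMap.add_apply, h3, LinearMap.smul_apply, hB0, smul_zero, add_zero]
  rw [h1, hgx', hgx, h2, add_assoc, ← add_smul, add_mul]
  congr 2
  ring

/-- SPREAD, with the transitivity of `SpB` as a hypothesis -/
theorem c3sspread_core [Finite K] (B : V →ₗ[K] V →ₗ[K] K) (hB0 : ∀ x, B x x = 0)
    (H : Subgroup (V ≃ₗ[F] V)) (hC : SpB F B ≤ H) {v : V}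
    (htr : ∀ w : V, w ≠ 0 → ∃ g ∈ SpB F B, g v = w) (h1 : HasFtv B H v 1) : AllFtv B H := by
  haveI : Finite F := Finite.of_injective (algebraMap F K) (algebraMap F K).injective
  have hall : ∀ w : V, HasFtv B H w 1 := by
    intro w
    by_cases hw : w = 0
    · rw [hw]
      exact c3sspread_zero_vec B H 1
    · obtain ⟨d, hd, hdv⟩ := htr w hw
      rw [← hdv]
      exact c3sspread_conj B H hC h1 hd
  have hsq : ∀ (z : V) (l : F), HasFtv B H z (l * l) := by
    intro z l
    have := c3sspread_scale B H (hall (l • z))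
    rwa [one_mul] at this
  intro z c
  obtain ⟨a, b, rfl⟩ := c3sspread_sq2 c
  exact c3sspread_add B hB0 H (hsq z a) (hsq z b)

end Cfsg.Agent.Lib.helper8.C3S
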