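import Mathlib
import Cfsg.Agent.Lib.Helper22.C3L.Defs
import Cfsg.Agent.Lib.helper8.C3S.Defs
import Cfsg.Agent.Lib.helper2.C3SSPREADcore
import Cfsg.Agent.Lib.Helper11.C3STRANS

/-!
# Project C3S, row SPREAD (verbatim): from one `F`-transvection to all
-/

set_option autoImplicit false

namespace Cfsg.Agent.Lib.helper8.C3S

open Module Cfsg.Agent.Lib.Helper22.C3L

variable {F K V : Type*} [Field F] [Field K] [Algebra F K] [AddCommGroup V] [Module F V] [Module K V]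
  [IsScalarTower F K V]

theorem ftv_spread [Finite K] (B : V →ₗ[K] V →ₗ[K] K) (hB0 : ∀ x, B x x = 0) (hBn : ∀ x, x ≠ 0 → ∃ y, B x y ≠ 0)
    (H : Subgroup (V ≃ₗ[F] V)) (hC : SpB F B ≤ H) {v : V} (hv : v ≠ 0) (h1 : HasFtv B H v 1) : AllFtv B H :=
  c3sspread_core B hB0 H hC (fun w hw => spb_trans B hB0 hBn hv hw) h1

end Cfsg.Agent.Lib.helper8.C3S
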