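import Mathlib
import Cfsg.Agent.Lib.Helper22.C3L.Defs
import Cfsg.Agent.Lib.Helper10.C3O.Defs

/-!
# Project C3O, row DSING: the core (the statements of `fsg_mul`, `fsg_conj`, `hyp_ex` enter as hypotheses)
-/

set_option autoImplicit false
set_option linter.unusedVariables false
set_option linter.unusedSectionVars false

namespace Cfsg.Agent.Lib.Helper10.C3O

open Module Cfsg.Agent.Lib.Helper22.C3L

variable {F K V : Type*} [Field F] [Field K] [Algebra F K] [AddCommGroup V] [Module F V] [Module K V]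
  [IsScalarTower F K V]

theorem c3odsing_tf_smul_left (B : V →ₗ[K] V →ₗ[K] K) (k : K) (x y : V) :
    tf F B (k • x) y = Algebra.trace F K (k * B x y) := by
  rw [tf_def, map_smul, LinearMap.smul_apply, smul_eq_mul]

theorem c3odsing_tf_smul_right (B : V →ₗ[K] V →ₗ[K] K) (k : K) (x y : V) :
    tf F B x (k • y) = Algebra.trace F K (k * B x y) := by
  rw [tf_def, map_smul, smul_eq_mul]

theorem c3odsing_tf_add_right (B : V →ₗ[K] V →ₗ[K] K) (x y y' : V) :
    tf F B x (y + y') = tf F B x y + tf F B x y' := by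
  rw [tf_def, tf_def, tf_def, map_add, map_add]

/-- a vector outside a `K`-plane, in dimension `≥ 3`. -/
theorem c3odsing_outside [FiniteDimensional K V] (hd : 3 ≤ finrank K V) (v v' : V) :
    ∃ w : V, w ∉ Submodule.span K ({v, v'} : Set V) := by
  classical
  by_contra hcon
  push Not at hcon
  have htop : Submodule.span K ({v, v'} : Set V) = ⊤ := by
    rw [eq_top_iff]
    intro w _
    exact hcon w
  have h1 : finrank K (Submodule.span K ((({v, v'} : Finset V)) : Set V)) ≤ ({v, v'} : Finset V).card :=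
    finrank_span_finset_le_card _
  have h2 : (({v, v'} : Finset V) : Set V) = ({v, v'} : Set V) := by simp
  rw [h2, htop, finrank_top] at h1
  have h3 : ({v, v'} : Finset V).card ≤ 2 := Finset.card_le_two
  omega

/-- the hyperbolic complement `⟨v, v'⟩^⊥` is non-zero and non-degenerate: a pair `w, x₂` in it with `B w x₂ ≠ 0`. -/
theorem c3odsing_pair [FiniteDimensional K V] (B : V →ₗ[K] V →ₗ[K] K)
    (hBs : ∀ x y, B x y = B y x) (hBn : ∀ x, x ≠ 0 → ∃ y, B x y ≠ 0) (hd : 3 ≤ finrank K V)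
    {v v' : V} (hv0 : B v v = 0) (hv'0 : B v' v' = 0) (hvv' : B v v' = 1) :
    ∃ w x₂ : V, B w v = 0 ∧ B w v' = 0 ∧ B x₂ v = 0 ∧ B x₂ v' = 0 ∧ B x₂ w ≠ 0 := by
  have hv'v : B v' v = 1 := by rw [hBs, hvv']
  obtain ⟨w₀, hw₀⟩ := c3odsing_outside hd v v'
  set w : V := w₀ - B w₀ v' • v - B w₀ v • v' with hw
  have hwv : B w v = 0 := by
    rw [hw]
    simp only [map_sub, map_smul, LinearMap.sub_apply, LinearMap.smul_apply, smul_eq_mul, hv0, hv'v]
    ring
  have hwv' : B w v' = 0 := by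
    rw [hw]
    simp only [map_sub, map_smul, LinearMap.sub_apply, LinearMap.smul_apply, smul_eq_mul, hvv', hv'0]
    ring
  have hw0 : w ≠ 0 := by
    intro h0
    apply hw₀
    have : w₀ = B w₀ v' • v + B w₀ v • v' := by
      have h1 : w₀ - B w₀ v' • v - B w₀ v • v' = 0 := by rw [← hw]; exact h0
      have h2 : w₀ = w₀ - B w₀ v' • v - B w₀ v • v' + (B w₀ v' • v + B w₀ v • v') := by abel
      rw [h1, zero_add] at h2
      exact h2
    rw [this]
    refine Submodule.add_mem _ (Submodule.smul_mem _ _ (Submodule.subset_span (by simp)))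
      (Submodule.smul_mem _ _ (Submodule.subset_span (by simp)))
  obtain ⟨x, hx⟩ := hBn w hw0
  refine ⟨w, x - B x v' • v - B x v • v', hwv, hwv', ?_, ?_, ?_⟩
  · simp only [map_sub, map_smul, LinearMap.sub_apply, LinearMap.smul_apply, smul_eq_mul, hv0, hv'v]
    ring
  · simp only [map_sub, map_smul, LinearMap.sub_apply, LinearMap.smul_apply, smul_eq_mul, hvv', hv'0]
    ring
  · have hvw : B v w = 0 := by rw [hBs, hwv]
    have hv'w : B v' w = 0 := by rw [hBs, hwv']
    simp only [map_sub, map_smul, LinearMap.sub_apply, LinearMap.smul_apply, smul_eq_mul, hvw, hv'w]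
    rw [hBs x w]
    simpa using hx

/-- **row DSING, core**: `fsg_mul` (`hmul`), `fsg_conj` (`hconj`), `hyp_ex` (`hhyp`) as hypotheses. -/
theorem c3odsing_core [Finite K] [FiniteDimensional K V] (h2 : (2 : F) ≠ 0) (B : V →ₗ[K] V →ₗ[K] K)
    (hBs : ∀ x y, B x y = B y x) (hBn : ∀ x, x ≠ 0 → ∃ y, B x y ≠ 0) (hd : 3 ≤ finrank K V)
    (H : Subgroup (V ≃ₗ[F] V)) (hH : H ≤ Of F B)
    (hmul : ∀ {z w w' : V}, tf F B z z = 0 → tf F B z w = 0 → tf F B z w' = 0 → ∀ x : V,
      fsg F B z w (fsg F B z w' x) = fsg F B z (w + w') x)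
    (hconj : ∀ {k : V ≃ₗ[F] V}, k ∈ Of F B → ∀ z w x : V,
      k (fsg F B z w (k.symm x)) = fsg F B (k z) (k w) x)
    (hhyp : ∀ {u : V}, u ≠ 0 → B u u = 0 → ∃ u' : V, B u' u' = 0 ∧ B u u' = 1)
    (hall : ∀ v' : V, v' ≠ 0 → B v' v' = 0 → LineFull B H v') :
    ∀ v : V, v ≠ 0 → B v v = 0 → ∀ y : V, tf F B v y = 0 → HasF B H v y := by
  intro v hv hv0
  haveI : Finite F := Finite.of_injective (algebraMap F K) (algebraMap F K).injective
  haveI : FiniteDimensional F K := Module.Finite.of_finite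
  haveI : Algebra.IsSeparable F K := inferInstance
  have hfvv : tf F B v v = 0 := by rw [tf_def, hv0, map_zero]
  -- the set RS
  have hb : ∀ y : V, B y v = 0 → tf F B v y = 0 ∧ HasF B H v y := by
    intro y hy
    refine ⟨by rw [tf_def, hBs, hy, map_zero], hall v hv hv0 v (self_mem_Kl F K v) y hy⟩
  have ha : ∀ y₁ y₂ : V, (tf F B v y₁ = 0 ∧ HasF B H v y₁) → (tf F B v y₂ = 0 ∧ HasF B H v y₂) →
      (tf F B v (y₁ + y₂) = 0 ∧ HasF B H v (y₁ + y₂)) := by
    rintro y₁ y₂ ⟨h1, g₁, hg₁, hg₁'⟩ ⟨h2', g₂, hg₂, hg₂'⟩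
    refine ⟨by rw [c3odsing_tf_add_right, h1, h2', add_zero], g₁ * g₂, H.mul_mem hg₁ hg₂, fun x => ?_⟩
    rw [LinearEquiv.mul_apply, hg₂', hg₁', hmul hfvv h1 h2']
  have hc : ∀ (y : V) (k : V ≃ₗ[F] V), k ∈ H → k v = v → (tf F B v y = 0 ∧ HasF B H v y) →
      (tf F B v (k y) = 0 ∧ HasF B H v (k y)) := by
    rintro y k hk hkv ⟨h1, g, hg, hg'⟩
    have hkO : k ∈ Of F B := hH hk
    refine ⟨?_, k * g * k⁻¹, H.mul_mem (H.mul_mem hk hg) (H.inv_mem hk), fun x => ?_⟩
    · have := hkO v y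
      rw [hkv] at this
      rw [this, h1]
    · have h3 : (k * g * k⁻¹) x = k (g (k.symm x)) := rfl
      rw [h3, hg', hconj hkO, hkv]
  -- the partner and the complement
  obtain ⟨v', hv'0, hvv'⟩ := hhyp hv hv0
  have hv'v : B v' v = 1 := by rw [hBs, hvv']
  have hv'ne : v' ≠ 0 := by
    intro h0
    rw [h0, map_zero] at hvv'
    exact zero_ne_one hvv'
  obtain ⟨w, x₂, hwv, hwv', hx₂v, hx₂v', hx₂w⟩ := c3odsing_pair B hBs hBn hd hv0 hv'0 hvv'
  obtain ⟨t, ht⟩ := Algebra.trace_surjective F K (-1 : F)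
  set w' : V := (t / B x₂ w) • x₂ with hw'
  have hw'v : B w' v = 0 := by
    rw [hw', map_smul, LinearMap.smul_apply, hx₂v, smul_zero]
  have hw'v' : B w' v' = 0 := by
    rw [hw', map_smul, LinearMap.smul_apply, hx₂v', smul_zero]
  have hw'w : tf F B w' w = -1 := by
    rw [hw', c3odsing_tf_smul_left, div_mul_cancel₀ _ hx₂w, ht]
  -- every trace-zero multiple of `v'` is in RS
  have hz : ∀ κ : K, Algebra.trace F K κ = 0 → (tf F B v (κ • v') = 0 ∧ HasF B H v (κ • v')) := by
    intro κ hκ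
    obtain ⟨k, hk, hk'⟩ := hall v' hv'ne hv'0 (κ • v') (smul_mem_Kl F K κ v') w hwv'
    have hvz : tf F B v (κ • v') = 0 := by
      rw [c3odsing_tf_smul_right, hvv', mul_one, hκ]
    have hvw : tf F B v w = 0 := by rw [tf_def, hBs, hwv, map_zero]
    have hkv : k v = v := by
      rw [hk']
      unfold fsg
      rw [hvz, hvw]
      simp
    have hw'z : tf F B w' (κ • v') = 0 := by
      rw [c3odsing_tf_smul_right, hw'v', mul_zero, map_zero]
    have hkw' : k w' = w' + κ • v' := by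
      rw [hk']
      unfold fsg
      rw [hw'z, hw'w]
      simp
    have h1 := hc w' k hk hkv (hb w' hw'v)
    have h2' := hb (-w') (by rw [map_neg, LinearMap.neg_apply, hw'v, neg_zero])
    have h3 := ha _ _ h1 h2'
    have h4 : k w' + -w' = κ • v' := by rw [hkw']; abel
    rw [h4] at h3
    exact h3
  -- decomposition of `y`
  intro y hy
  have hκ : Algebra.trace F K (B v y) = 0 := hy
  have h1 := hz (B v y) hκ
  have h2' := hb (y - B v y • v') (by
    rw [map_sub, map_smul, LinearMap.sub_apply, LinearMap.smul_apply, hv'v, smul_eq_mul, mul_one,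
      hBs y v, sub_self])
  have h3 := ha _ _ h2' h1
  have h4 : y - B v y • v' + B v y • v' = y := by abel
  rw [h4] at h3
  exact h3.2

end Cfsg.Agent.Lib.Helper10.C3O
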