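import Mathlib
import Cfsg.Agent.Lib.Helper22.C3L.Defs
import Cfsg.Agent.Lib.Helper10.C3O.Defs
import Cfsg.Agent.Lib.helper2.C3ODSINGcore
import Cfsg.Agent.Lib.helper2.C3OFSG
import Cfsg.Agent.Lib.helper3.C3OHYP

/-!
# Project C3O, row DSING (verbatim): all `F`-Siegel maps `ρ_{v,y}`, `y ∈ v^{⊥_f}`, at the `K`-singular vectors `v`
-/

set_option autoImplicit false
set_option linter.unusedVariables false
set_option linter.unusedSectionVars false

namespace Cfsg.Agent.Lib.Helper10.C3O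

open Module Cfsg.Agent.Lib.Helper22.C3L

variable {F K V : Type*} [Field F] [Field K] [Algebra F K] [AddCommGroup V] [Module F V] [Module K V]
  [IsScalarTower F K V]

theorem d_sing [Finite K] [FiniteDimensional K V] (h2 : (2 : F) ≠ 0) (B : V →ₗ[K] V →ₗ[K] K)
    (hBs : ∀ x y, B x y = B y x) (hBn : ∀ x, x ≠ 0 → ∃ y, B x y ≠ 0) (hd : 3 ≤ finrank K V)
    (H : Subgroup (V ≃ₗ[F] V)) (hH : H ≤ Of F B)
    (hall : ∀ v' : V, v' ≠ 0 → B v' v' = 0 → LineFull B H v') :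
    ∀ v : V, v ≠ 0 → B v v = 0 → ∀ y : V, tf F B v y = 0 → HasF B H v y :=
  c3odsing_core h2 B hBs hBn hd H hH
    (fun hz hzw hzw' x => fsg_mul h2 B hBs hz hzw hzw' x)
    (fun hk z w x => fsg_conj B hk z w x)
    (fun hu hu0 => hyp_ex h2 B hBs hBn hu hu0) hall

end Cfsg.Agent.Lib.Helper10.C3O
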