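import Mathlib
import Cfsg.Agent.Lib.Helper10.LW7.Defs

set_option autoImplicit false

/-! LW7 piece F (helper2): a nontrivial group has fewer fixed points than points. -/

namespace Cfsg.Agent.Lib.helper2.LW7F

open MulAction Equiv
open Cfsg.Agent.Lib.Helper10.LW7

variable {α : Type*} [Fintype α] [DecidableEq α]

theorem card_fixF_lt (Q : Subgroup (Perm α)) (hQ : Q ≠ ⊥) : (fixF Q).card < Fintype.card α := by
  by_contra hlt
  apply hQ
  have hle : (fixF Q).card ≤ Fintype.card α := Finset.card_le_univ _
  have heq : (fixF Q).card = Fintype.card α := le_antisymm hle (not_lt.mp hlt)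
  have huniv : fixF Q = Finset.univ := by
    rw [← Finset.card_eq_iff_eq_univ]; exact heq
  rw [Subgroup.eq_bot_iff_forall]
  intro q hq
  ext a
  have ha : a ∈ fixF Q := by rw [huniv]; exact Finset.mem_univ a
  exact (mem_fixF.mp ha) q hq

end Cfsg.Agent.Lib.helper2.LW7F
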