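import Mathlib
import Cfsg.Agent.Lib.Helper10.LW7.Defs

set_option autoImplicit false
set_option linter.unusedSectionVars false

/-! LW7 piece I (helper2): the induced group is multiply pretransitive. -/

namespace Cfsg.Agent.Lib.helper2.LW7I

open MulAction Equiv
open Cfsg.Agent.Lib.Helper10.LW7

variable {α : Type*} [Fintype α] [DecidableEq α]

theorem induced_isMultiplyPretransitive (G : Subgroup (Perm α)) (Ψ : Finset α) (k : ℕ)
    (h : ∀ a b : Fin k ↪ α, (∀ i, a i ∈ Ψ) → (∀ i, b i ∈ Ψ) →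
      ∃ g ∈ G, (∀ x, x ∈ Ψ → g x ∈ Ψ) ∧ ∀ i, g (a i) = b i) :
    IsMultiplyPretransitive (induced G Ψ) ↥Ψ k := by
  refine ⟨fun a' b' => ?_⟩
  obtain ⟨g, hgG, hgΨ, hg⟩ := h (a'.trans (Function.Embedding.subtype _))
    (b'.trans (Function.Embedding.subtype _)) (fun i => (a' i).2) (fun i => (b' i).2)
  have hn : (Equiv.Perm.subtypePermOfFintype g (p := fun x => x ∈ Ψ) hgΨ) ∈ induced G Ψ :=
    ⟨g, hgG, fun x => rfl⟩
  refine ⟨⟨_, hn⟩, ?_⟩
  ext i
  have := hg i
  simp only [Function.Embedding.trans_apply, Function.Embedding.subtype_apply] at this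
  change ((Equiv.Perm.subtypePermOfFintype g (p := fun x => x ∈ Ψ) hgΨ) (a' i) : α) = (b' i : α)
  rw [Equiv.Perm.subtypePermOfFintype_apply]
  exact this

end Cfsg.Agent.Lib.helper2.LW7I
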