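import Mathlib
import Cfsg.Agent.Lib.Helper10.LW7.Defs

set_option autoImplicit false
set_option linter.unusedSectionVars false

/-! LW7 piece M (helper2): a nontrivial `p`-subgroup of maximal order among those with at least
`k + 1` fixed points. -/

namespace Cfsg.Agent.Lib.helper2.LW7M

open MulAction Equiv
open Cfsg.Agent.Lib.Helper10.LW7

variable {α : Type*} [Fintype α] [DecidableEq α]

theorem exists_max_pgroup (G : Subgroup (Perm α)) (k : ℕ) (Δ₀ : Finset α) (hΔ₀ : Δ₀.card = k + 1)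
    (hne : fixingSubgroup G (Δ₀ : Set α) ≠ ⊥) :
    ∃ (p : ℕ) (Q : Subgroup (Perm α)), p.Prime ∧ Q ≤ G ∧ IsPGroup p Q ∧ Q ≠ ⊥ ∧
      k + 1 ≤ (fixF Q).card ∧
      ∀ Q' : Subgroup (Perm α), Q' ≤ G → IsPGroup p Q' → k + 1 ≤ (fixF Q').card →
        Nat.card Q' ≤ Nat.card Q := by
  -- a nontrivial element of the fixing subgroup
  obtain ⟨g, hg, hg1⟩ : ∃ g ∈ fixingSubgroup G (Δ₀ : Set α), g ≠ 1 := by
    by_contra hcon
    push Not at hcon
    exact hne ((Subgroup.eq_bot_iff_forall _).mpr hcon)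
  have hgfix : ∀ a ∈ Δ₀, ((g : G) : Perm α) a = a := by
    intro a ha
    have := (mem_fixingSubgroup_iff G).mp hg a (by exact_mod_cast ha)
    exact this
  have hg1' : ((g : G) : Perm α) ≠ 1 := by
    intro h
    apply hg1
    apply Subtype.ext
    exact h
  have hord : orderOf ((g : G) : Perm α) ≠ 1 := by
    intro h
    exact hg1' (orderOf_eq_one_iff.mp h)
  have hpos : 0 < orderOf ((g : G) : Perm α) := orderOf_pos _
  have hp : (orderOf ((g : G) : Perm α)).minFac.Prime := Nat.minFac_prime hord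
  have hdvd : (orderOf ((g : G) : Perm α)).minFac ∣ orderOf ((g : G) : Perm α) :=
    Nat.minFac_dvd _
  have hz : orderOf (((g : G) : Perm α) ^ (orderOf ((g : G) : Perm α) /
      (orderOf ((g : G) : Perm α)).minFac)) = (orderOf ((g : G) : Perm α)).minFac :=
    orderOf_pow_orderOf_div hpos.ne' hdvd
  generalize hpdef : (orderOf ((g : G) : Perm α)).minFac = p at hp hdvd hz
  generalize hzdef : ((g : G) : Perm α) ^ (orderOf ((g : G) : Perm α) / p) = z at hz
  have hzG : z ∈ G := by
    rw [← hzdef]; exact G.pow_mem g.2 _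
  have hzfix : ∀ a ∈ Δ₀, z a = a := by
    intro a ha
    rw [← hzdef]
    generalize (orderOf ((g : G) : Perm α) / p) = m
    induction m with
    | zero => simp
    | succ m ih => rw [pow_succ, Perm.mul_apply, hgfix a ha, ih]
  -- the starting candidate
  have hQ0card : Nat.card (Subgroup.zpowers z) = p := by
    rw [Nat.card_zpowers, hz]
  have hQ0p : IsPGroup p (Subgroup.zpowers z) := by
    haveI : Fact p.Prime := ⟨hp⟩
    exact IsPGroup.of_card (n := 1) (by rw [hQ0card, pow_one])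
  have hQ0G : Subgroup.zpowers z ≤ G := by
    rw [Subgroup.zpowers_le]; exact hzG
  have hQ0fix : Δ₀ ⊆ fixF (Subgroup.zpowers z) := by
    intro a ha
    rw [mem_fixF]
    intro q hq
    obtain ⟨n, rfl⟩ := Subgroup.mem_zpowers_iff.mp hq
    have hza : z a = a := hzfix a ha
    have : ∀ n : ℕ, (z ^ n) a = a := by
      intro n
      induction n with
      | zero => simp
      | succ m ih => rw [pow_succ, Perm.mul_apply, hza, ih]
    rcases Int.eq_nat_or_neg n with ⟨m, rfl | rfl⟩
    · rw [zpow_natCast]; exact this m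
    · rw [zpow_neg, zpow_natCast, Perm.inv_eq_iff_eq]; exact (this m).symm
  have hQ0k : k + 1 ≤ (fixF (Subgroup.zpowers z)).card := by
    rw [← hΔ₀]; exact Finset.card_le_card hQ0fix
  -- take a candidate of maximal order
  have hfin : ({Q : Subgroup (Perm α) | Q ≤ G ∧ IsPGroup p Q ∧ k + 1 ≤ (fixF Q).card}).Finite :=
    Set.toFinite _
  obtain ⟨Q, ⟨hQG, hQp, hQk⟩, hQmax⟩ := Set.exists_max_image _ (fun Q : Subgroup (Perm α) =>
    Nat.card Q) hfin ⟨Subgroup.zpowers z, hQ0G, hQ0p, hQ0k⟩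
  refine ⟨p, Q, hp, hQG, hQp, ?_, hQk, ?_⟩
  · intro hbot
    have h1 := hQmax (Subgroup.zpowers z) ⟨hQ0G, hQ0p, hQ0k⟩
    simp only [hQ0card, hbot, Subgroup.card_bot] at h1
    exact absurd h1 (by have := hp.two_le; omega)
  · intro Q' h1 h2 h3
    exact hQmax Q' ⟨h1, h2, h3⟩

end Cfsg.Agent.Lib.helper2.LW7M
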