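import Mathlib
import Cfsg.Agent.Lib.Helper10.LW7.Defs

set_option autoImplicit false
set_option linter.unusedSectionVars false

/-! LW7 piece T (helper2): transport of `Good` from the induced group to the group. -/

namespace Cfsg.Agent.Lib.helper2.LW7T

open MulAction Equiv
open Cfsg.Agent.Lib.Helper10.LW7

variable {α : Type*} [Fintype α] [DecidableEq α]

theorem good_of_induced (G : Subgroup (Perm α)) (Ψ : Finset α) (k : ℕ)
    (h : Good (induced G Ψ) k) : Good G k := by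
  obtain ⟨Δ', hcard, hle⟩ := h
  refine ⟨Δ'.map (Function.Embedding.subtype _), by rw [Finset.card_map]; exact hcard, ?_⟩
  -- the identification of the two subtypes
  have hmem : ∀ x : ↥(Δ'.map (Function.Embedding.subtype _)),
      ∃ (hx : (x : α) ∈ Ψ), (⟨(x : α), hx⟩ : ↥Ψ) ∈ Δ' := by
    intro x
    obtain ⟨y, hy, hyx⟩ := Finset.mem_map.mp x.2
    have hyx' : (y : α) = (x : α) := hyx
    refine ⟨hyx' ▸ y.2, ?_⟩
    have : (⟨(x : α), hyx' ▸ y.2⟩ : ↥Ψ) = y := Subtype.ext hyx'.symm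
    rw [this]; exact hy
  let e : ↥(Δ'.map (Function.Embedding.subtype _)) ≃ ↥Δ' :=
    { toFun := fun x => ⟨⟨(x : α), (hmem x).1⟩, (hmem x).2⟩
      invFun := fun y => ⟨((y : ↥Ψ) : α), Finset.mem_map.mpr ⟨(y : ↥Ψ), y.2, rfl⟩⟩
      left_inv := fun x => rfl
      right_inv := fun y => rfl }
  intro σ hσ
  have hσ' : e.permCongr σ ∈ alternatingGroup ↥Δ' := by
    rw [Equiv.Perm.mem_alternatingGroup] at hσ ⊢
    rw [Equiv.Perm.sign_permCongr]; exact hσ
  obtain ⟨n, ⟨g, hgG, hg⟩, hn⟩ := hle hσ'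
  refine ⟨g, hgG, fun x => ?_⟩
  have h1 := hg ((e x : ↥Δ') : ↥Ψ)
  have h2 := hn (e x)
  have h3 : (((e x : ↥Δ') : ↥Ψ) : α) = (x : α) := rfl
  rw [h3] at h1
  rw [h1, h2]
  have h4 : e.permCongr σ (e x) = e (σ x) := by
    simp [Equiv.permCongr_apply]
  rw [h4]
  rfl

end Cfsg.Agent.Lib.helper2.LW7T
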