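import Mathlib
import Cfsg.Agent.Lib.Helper10.LW7.Defs
import Cfsg.Agent.Lib.helper2.LW7I
import Cfsg.Agent.Lib.helper2.LW7F
import Cfsg.Agent.S4219

set_option autoImplicit false
set_option linter.unusedSectionVars false

/-! LW7 piece W (helper2): Witt's lemma case. -/

namespace Cfsg.Agent.Lib.helper2.LW7W

open MulAction Equiv
open Cfsg.Agent.Lib.Helper10.LW7

variable {α : Type*} [Fintype α] [DecidableEq α]

theorem witt_case (G : Subgroup (Perm α)) {k : ℕ} (hG : IsMultiplyPretransitive G α k)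
    (x : Fin k ↪ α) (p : ℕ) [Fact p.Prime] (P : Sylow p (stabilizer G x))
    (hP1 : (P : Subgroup (stabilizer G x)) ≠ ⊥)
    (hP : k + 1 ≤ (fixF (((P : Subgroup (stabilizer G x)).map (stabilizer G x).subtype).map
      G.subtype)).card) :
    ∃ Ψ : Finset α, k < Ψ.card ∧ Ψ.card < Fintype.card α ∧
      IsMultiplyPretransitive (induced G Ψ) ↥Ψ k := by
  -- abbreviations
  have hmemQ : ∀ q : Perm α,
      q ∈ (((P : Subgroup (stabilizer G x)).map (stabilizer G x).subtype).map G.subtype) ↔
      ∃ (hq : q ∈ G), (⟨q, hq⟩ : G) ∈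
        ((P : Subgroup (stabilizer G x)).map (stabilizer G x).subtype) := by
    intro q
    constructor
    · rintro ⟨m, hm, rfl⟩
      exact ⟨m.2, hm⟩
    · rintro ⟨hq, hm⟩
      exact ⟨⟨q, hq⟩, hm, rfl⟩
  refine ⟨fixF (((P : Subgroup (stabilizer G x)).map (stabilizer G x).subtype).map G.subtype),
    hP, ?_, ?_⟩
  · apply Cfsg.Agent.Lib.helper2.LW7F.card_fixF_lt
    intro hbot
    apply hP1
    rw [Subgroup.eq_bot_iff_forall]
    intro m hm
    have h1 : ((m : G) : Perm α) ∈
        (((P : Subgroup (stabilizer G x)).map (stabilizer G x).subtype).map G.subtype) :=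
      ⟨(m : G), ⟨m, hm, rfl⟩, rfl⟩
    rw [hbot, Subgroup.mem_bot] at h1
    apply Subtype.ext
    apply Subtype.ext
    exact h1
  · apply Cfsg.Agent.Lib.helper2.LW7I.induced_isMultiplyPretransitive
    intro a b ha hb
    have hfp : ∀ c : α, c ∈ fixF (((P : Subgroup (stabilizer G x)).map
        (stabilizer G x).subtype).map G.subtype) →
        c ∈ MulAction.fixedPoints
          ((P : Subgroup (stabilizer G x)).map (stabilizer G x).subtype) α := by
      intro c hc
      rw [MulAction.mem_fixedPoints]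
      intro m
      have := (mem_fixF.mp hc) ((m : G) : Perm α) ⟨(m : G), m.2, rfl⟩
      exact this
    obtain ⟨g, hgN, hg⟩ := Cfsg.Agent.S4219.result (G := ↥G) hG x P a b
      (fun i => hfp _ (ha i)) (fun i => hfp _ (hb i))
    refine ⟨(g : Perm α), g.2, ?_, ?_⟩
    · intro c hc
      rw [mem_fixF] at hc ⊢
      intro q hq
      obtain ⟨hqG, hqP⟩ := (hmemQ q).mp hq
      -- g⁻¹ q g ∈ P'
      have hN := (Subgroup.mem_normalizer_iff'.mp hgN) (g⁻¹ * ⟨q, hqG⟩)
      have h2 : g * (g⁻¹ * ⟨q, hqG⟩) ∈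
          ((P : Subgroup (stabilizer G x)).map (stabilizer G x).subtype) := by
        rw [mul_inv_cancel_left]; exact hqP
      have h3 := hN.mpr h2
      have h4 : (((g⁻¹ * ⟨q, hqG⟩ * g : G) : Perm α)) ∈
          (((P : Subgroup (stabilizer G x)).map (stabilizer G x).subtype).map G.subtype) :=
        ⟨_, h3, rfl⟩
      have h5 := hc _ h4
      have h6 : ((g⁻¹ * ⟨q, hqG⟩ * g : G) : Perm α) = (g : Perm α)⁻¹ * q * (g : Perm α) := rfl
      rw [h6] at h5
      simp only [Perm.mul_apply] at h5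
      rw [Perm.inv_eq_iff_eq] at h5
      exact h5
    · intro i
      have := congrArg (fun f : Fin k ↪ α => f i) hg
      exact this

end Cfsg.Agent.Lib.helper2.LW7W
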