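import Mathlib
import Cfsg.Agent.Lib.Helper13.O5760.Defs
import Cfsg.Agent.Lib.Helper22.BTKEYcore
import Cfsg.Agent.Lib.Helper28.PSLVANISH

/-!
# Project O5760 (S0980), piece TOTAL (core): the class multiplication constant `(s, s, x)`

`s` of order `≤ 2` (so `5`-regular), `x ∈ P ∖ 1`.  The column sum `colsum` at `x` is taken as a hypothesis `hcol`.
-/

set_option autoImplicit false
set_option linter.unusedVariables false
set_option linter.unusedSectionVars false
open scoped ComplexConjugate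
open Classical

namespace Cfsg.Agent.Lib.Helper13.O5760

open Cfsg.Agent.Lib.helper7 Cfsg.Agent.Lib.helper7.BR Cfsg.Agent.Lib.helper2 Cfsg.Agent.Lib.Helper25
  Cfsg.Agent.Lib.Helper29 Cfsg.Agent.Lib.helper15.BH Cfsg.Agent.Lib.helper15.PSL

universe u

variable {G : Type u} [Group G] [Fintype G]

/-- the algebraic identity behind TOTAL -/
theorem o5760total_alg (d z h : ℂ) (hd : d = z + 1) (hz : z ≠ 0) (hd0 : d ≠ 0) :
    1 + (1 + h) * (1 + h) * (-1) / d + h * h / z * 1 = (z - h) * (z - h) / (d * z) := by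
  subst hd
  field_simp
  ring

/-- TOTAL, with the column sum as a hypothesis -/
theorem o5760total_core [Fintype (Cfsg.IrrCharacter G)] {P : Sylow 5 G}
    {X Y : Finset (Cfsg.IrrCharacter G)}
    {a : Cfsg.IrrCharacter G → ℤ} {χ : Cfsg.IrrCharacter G} {d z : ℕ} (hK : Blk P X Y a χ d z)
    (η₀ : Cfsg.IrrCharacter G) (hη₀ : η₀ ∈ Y) (s : G) (hs : s⁻¹ = s) (hsp : ¬ 5 ∣ orderOf s)
    (x : G) (hx : x ∈ (P : Subgroup G)) (hx1 : x ≠ 1)
    (hcol : ∑ ξ ∈ X ∪ Y, (ξ : G → ℂ) x * conj ((ξ : G → ℂ) x) = ((5 : ℕ) : ℂ)) :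
    ∑ ξ : Cfsg.IrrCharacter G, term s s x ξ =
      ((Complex.normSq ((z : ℂ) - (η₀ : G → ℂ) s) / ((d : ℝ) * (z : ℝ)) : ℝ) : ℂ) := by
  have hL := hK.loc
  have hB := hK.pb
  have hZ := hK.cen
  have hsx : 5 ∣ orderOf x := pslt1sum_sing hL x hx hx1
  have hsameAll : ∀ ξ : Cfsg.IrrCharacter G, SameCC (trivIrr G) ξ := by
    intro ξ ζ hζ
    rw [hZ, Subgroup.mem_bot] at hζ
    rw [hζ, trivIrr_apply]
    ring
  have hvan := vanish_of_complete hL (trivIrr G) x hx hx1 (X ∪ Y) (fun ξ _ => hsameAll ξ) hcol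
  -- the value of `a` at the trivial character
  have hatriv : a (trivIrr G) = 1 := by
    have h := hB.valX (trivIrr G) hB.triv_mem x hsx
    rw [trivIrr_apply] at h
    exact_mod_cast h.symm
  have hχX : χ ∈ X := by rw [hK.hX]; simp
  -- h := η₀ s is real
  set h := (η₀ : G → ℂ) s with hh
  have hconj : conj h = h := by rw [hh, ← irr_inv, hs]
  -- χ s = 1 + h
  have hχs : (χ : G → ℂ) s = 1 + h := by
    have hrel := hB.rel η₀ hη₀ s hsp
    rw [hK.hX, Finset.sum_pair (Ne.symm hK.ne), hatriv, hK.ha, trivIrr_apply] at hrel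
    push_cast at hrel
    rw [← hh] at hrel
    linear_combination hrel
  have hχx : (χ : G → ℂ) x = -1 := by
    rw [hB.valX χ hχX x hsx, hK.ha]; push_cast; ring
  have hzpos : (z : ℂ) ≠ 0 := by
    exact_mod_cast (Nat.pos_iff_ne_zero.mp hK.zpos)
  have hdpos : (d : ℂ) ≠ 0 := by
    rw [hK.dz]; exact_mod_cast Nat.succ_ne_zero z
  rw [← Finset.sum_subset (Finset.subset_univ (X ∪ Y))]
  · rw [Finset.sum_union hB.disj]
    -- the X part
    have hXsum : ∑ ξ ∈ X, term s s x ξ = 1 + (1 + h) * (1 + h) * (-1) / (d : ℂ) := by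
      rw [hK.hX, Finset.sum_pair (Ne.symm hK.ne)]
      congr 1
      · unfold term
        simp only [trivIrr_apply]
        simp
      · unfold term
        rw [hχs, hχx, hK.degχ]
        simp
    -- the Y part
    have hYsum : ∑ η ∈ Y, term s s x η = h * h / (z : ℂ) * 1 := by
      have hall : ∀ η ∈ Y, (η : G → ℂ) s = h := fun η hη => hB.agree η hη η₀ hη₀ s hsp
      have h1 : ∀ η ∈ Y, term s s x η = h * h / (z : ℂ) * conj ((η : G → ℂ) x) := by
        intro η hη
        unfold term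
        rw [hall η hη, hK.degY η hη]
        ring
      rw [Finset.sum_congr rfl h1, ← Finset.mul_sum, ← map_sum, hB.sumY x hsx]
      push_cast
      simp
    rw [hXsum, hYsum, o5760total_alg (d : ℂ) (z : ℂ) h (by rw [hK.dz]; push_cast; ring) hzpos hdpos]
    -- the right-hand side
    have hns : ((Complex.normSq ((z : ℂ) - h) : ℝ) : ℂ) = ((z : ℂ) - h) * ((z : ℂ) - h) := by
      rw [← Complex.mul_conj, map_sub, hconj, Complex.conj_natCast]
    push_cast
    rw [hns]
  · intro ξ _ hξn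
    unfold term
    rw [hvan ξ (hsameAll ξ) hξn]
    simp

end Cfsg.Agent.Lib.Helper13.O5760
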