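import Mathlib
import Cfsg.Agent.Lib.Helper13.O5760.Defs
import Cfsg.Agent.Lib.helper2.O5760TOTALcore
import Cfsg.Agent.Lib.Helper1.O5760COL

/-!
# Project O5760 (S0980), piece TOTAL: the class multiplication constant `(s, s, x)` (verbatim Skel statement)
-/

set_option autoImplicit false
set_option linter.unusedVariables false
set_option linter.unusedSectionVars false
open scoped ComplexConjugate
open Classical

namespace Cfsg.Agent.Lib.Helper13.O5760

open Cfsg.Agent.Lib.helper7 Cfsg.Agent.Lib.helper7.BR Cfsg.Agent.Lib.helper2 Cfsg.Agent.Lib.Helper25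
  Cfsg.Agent.Lib.Helper29 Cfsg.Agent.Lib.helper15.BH Cfsg.Agent.Lib.helper15.PSL

universe u

variable {G : Type u} [Group G] [Fintype G]

/-- TOTAL [T] : the class multiplication constant `(s, s, x)`, `s` of order `≤ 2`, `x ∈ P ∖ 1` -/
theorem total [Fintype (Cfsg.IrrCharacter G)] {P : Sylow 5 G} {X Y : Finset (Cfsg.IrrCharacter G)}
    {a : Cfsg.IrrCharacter G → ℤ} {χ : Cfsg.IrrCharacter G} {d z : ℕ} (hK : Blk P X Y a χ d z)
    (η₀ : Cfsg.IrrCharacter G) (hη₀ : η₀ ∈ Y) (s : G) (hs : s⁻¹ = s) (hsp : ¬ 5 ∣ orderOf s)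
    (x : G) (hx : x ∈ (P : Subgroup G)) (hx1 : x ≠ 1) :
    ∑ ξ : Cfsg.IrrCharacter G, term s s x ξ =
      ((Complex.normSq ((z : ℂ) - (η₀ : G → ℂ) s) / ((d : ℝ) * (z : ℝ)) : ℝ) : ℂ) :=
  o5760total_core hK η₀ hη₀ s hs hsp x hx hx1 (colsum hK.loc hK.pb hK.cen x hx hx1)

end Cfsg.Agent.Lib.Helper13.O5760
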