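import Mathlib
import Cfsg.Prelude.Def_Characters
import Cfsg.Prelude.Def_Blocks
import Cfsg.Agent.Lib.Helper25.CliffordCorr
import Cfsg.Agent.Lib.Helper25.ExtraspecialUnique
import Cfsg.Agent.Lib.Helper25.DefectZeroCount
import Cfsg.Agent.Lib.helper7.CharMul

set_option autoImplicit false
open scoped ComplexConjugate commutatorElement

namespace Cfsg.Agent.Lib.helper2

open Cfsg.Agent.Lib.helper7 Cfsg.Agent.Lib.Helper25 Cfsg.Agent.Lib.Helper11

/-- every irreducible character of a normal subgroup has degree dividing the degree of some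
irreducible character of the group -/
theorem cd2_sub_degree_dvd {G : Type*} [Group G] [Finite G] (L : Subgroup G) [hL : L.Normal]
    (θ : Cfsg.IrrCharacter L) :
    ∃ χ : Cfsg.IrrCharacter G, Cfsg.charDegree (θ : L → ℂ) ∣ Cfsg.charDegree (χ : G → ℂ) := by
  classical
  haveI : Fintype G := Fintype.ofFinite G
  haveI : Fintype L := Fintype.ofFinite L
  have hΦ : Cfsg.IsCharacter G (Cfsg.indFun L (θ : L → ℂ)) :=
    isCharacter_indFun L _ (h7_irr_isCharacter θ.2)
  have hΦ1 : Cfsg.indFun L (θ : L → ℂ) 1 ≠ 0 := by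
    rw [h7_indFun_one]
    apply mul_ne_zero
    · exact_mod_cast Subgroup.index_ne_zero_of_finite
    · exact irr_one_ne_zero θ
  obtain ⟨χ, k, hk, hinner⟩ := isCharacter_exists_constituent hΦ hΦ1
  rw [h7_frobenius_reciprocity L _ _ (h7_irr_isClassFunction χ.2)] at hinner
  have hcon : Cfsg.classInner (fun n : L => (χ : G → ℂ) n) (θ : L → ℂ) ≠ 0 := by
    rw [classInner_conj_symm, hinner]
    simp only [Complex.conj_natCast]
    exact_mod_cast hk.ne'
  obtain ⟨e, he, -, hres⟩ := h7_clifford L (χ : G → ℂ) χ.2 (θ : L → ℂ) θ.2 hcon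
  refine ⟨χ, ?_⟩
  have h1 := congrFun hres 1
  simp only [Pi.smul_apply, Finset.sum_apply, smul_eq_mul] at h1
  have h2 : ∀ ψ ∈ Finset.univ.image (fun g : G => cj L (θ : L → ℂ) g), ψ 1 = (θ : L → ℂ) 1 := by
    intro ψ hψ
    obtain ⟨g, -, rfl⟩ := Finset.mem_image.mp hψ
    rw [cj_apply]
    have : (⟨g * ((1 : L) : G) * g⁻¹, hL.conj_mem _ (1 : L).2 g⟩ : L) = 1 := by
      apply Subtype.ext
      simp
    rw [this]
  rw [Finset.sum_congr rfl h2, Finset.sum_const, nsmul_eq_mul] at h1
  have h3 : (χ : G → ℂ) ((1 : L) : G) = (χ : G → ℂ) 1 := rfl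
  rw [h3, ← (charDegree_irr χ).1, ← (charDegree_irr θ).1] at h1
  have h4 : Cfsg.charDegree (χ : G → ℂ) =
      e * ((Finset.univ.image (fun g : G => cj L (θ : L → ℂ) g)).card *
        Cfsg.charDegree (θ : L → ℂ)) := by
    exact_mod_cast h1
  rw [h4]
  exact Dvd.dvd.mul_left (Dvd.intro_left _ rfl) _

/-- a normal subgroup of order prime to `m` is abelian when all degrees are `1` or `m` -/
theorem cd2_normal_abelian {G : Type*} [Group G] [Finite G] (L : Subgroup G) [hL : L.Normal]
    (m : ℕ) (hcd : ∀ χ : Cfsg.IrrCharacter G, Cfsg.charDegree (χ : G → ℂ) = 1 ∨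
      Cfsg.charDegree (χ : G → ℂ) = m) (hcop : (Nat.card L).Coprime m) :
    ∀ a ∈ L, ∀ b ∈ L, a * b = b * a := by
  have hlin : ∀ θ : Cfsg.IrrCharacter L, (θ : L → ℂ) 1 = 1 := by
    intro θ
    obtain ⟨χ, hχ⟩ := cd2_sub_degree_dvd L θ
    have h1 : Cfsg.charDegree (θ : L → ℂ) ∣ Nat.card L := charDegree_dvd_card θ
    have h2 : Cfsg.charDegree (θ : L → ℂ) = 1 := by
      rcases hcd χ with h | h
      · rw [h] at hχ
        exact Nat.dvd_one.mp hχ
      · rw [h] at hχ
        exact Nat.eq_one_of_dvd_coprimes hcop h1 hχ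
    rw [← (charDegree_irr θ).1, h2]
    simp
  intro a ha b hb
  have := xs_comm_of_all_linear hlin ⟨a, ha⟩ ⟨b, hb⟩
  exact congrArg Subtype.val this

/-- if the index of the normal subgroup `N` is a power of `r` and `m` is not, then `G/N` is
abelian -/
theorem cd2_quot_abelian {G : Type*} [Group G] [Finite G] (N : Subgroup G) [hN : N.Normal]
    (m r k q : ℕ) (hr : r.Prime) (hq : q.Prime) (hqr : q ≠ r) (hqm : q ∣ m)
    (hcd : ∀ χ : Cfsg.IrrCharacter G, Cfsg.charDegree (χ : G → ℂ) = 1 ∨
      Cfsg.charDegree (χ : G → ℂ) = m) (hidx : N.index = r ^ k) :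
    commutator G ≤ N := by
  have hsurj := QuotientGroup.mk'_surjective N
  have hlin : ∀ α : Cfsg.IrrCharacter (G ⧸ N), (α : G ⧸ N → ℂ) 1 = 1 := by
    intro α
    have h1 : Cfsg.charDegree (α : G ⧸ N → ℂ) ∣ Nat.card (G ⧸ N) := charDegree_dvd_card α
    rw [← Subgroup.index_eq_card, hidx] at h1
    have h2 : Cfsg.charDegree ((xs_infl (QuotientGroup.mk' N) hsurj α : Cfsg.IrrCharacter G) : G → ℂ) =
        Cfsg.charDegree (α : G ⧸ N → ℂ) := by
      unfold Cfsg.charDegree
      rw [xs_infl_apply, map_one]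
    have h3 : Cfsg.charDegree (α : G ⧸ N → ℂ) = 1 := by
      rcases hcd (xs_infl (QuotientGroup.mk' N) hsurj α) with h | h
      · rw [← h2, h]
      · exfalso
        rw [h2] at h
        rw [h] at h1
        have h4 : q ∣ r ^ k := hqm.trans h1
        have h5 := hq.dvd_of_dvd_pow h4
        exact hqr ((Nat.prime_dvd_prime_iff_eq hq hr).mp h5)
    rw [← (charDegree_irr α).1, h3]
    simp
  have hcomm := xs_comm_of_all_linear hlin
  letI : CommGroup (G ⧸ N) := { (inferInstance : Group (G ⧸ N)) with mul_comm := hcomm }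
  have := Abelianization.commutator_subset_ker (QuotientGroup.mk' N)
  rw [QuotientGroup.ker_mk'] at this
  exact this

/-- index of a finite intersection of normal subgroups divides the product of the indices -/
theorem cd2_inf_index_dvd {G : Type*} [Group G] (s : Finset ℕ) (N : ℕ → Subgroup G)
    (hN : ∀ r ∈ s, (N r).Normal) :
    (s.inf N).Normal ∧ (s.inf N).index ∣ ∏ r ∈ s, (N r).index := by
  classical
  induction s using Finset.induction_on with
  | empty =>
    simp only [Finset.inf_empty, Finset.prod_empty]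
    exact ⟨inferInstance, by simp⟩
  | insert a s ha ih =>
    have hs : ∀ r ∈ s, (N r).Normal := fun r hr => hN r (Finset.mem_insert_of_mem hr)
    obtain ⟨ihn, ihd⟩ := ih hs
    haveI := ihn
    haveI : (N a).Normal := hN a (Finset.mem_insert_self a s)
    rw [Finset.inf_insert, Finset.prod_insert ha]
    refine ⟨inferInstance, ?_⟩
    have h1 : (N a ⊓ s.inf N).relIndex (s.inf N) * (s.inf N).index = (N a ⊓ s.inf N).index :=
      Subgroup.relIndex_mul_index inf_le_right
    rw [← h1, Subgroup.inf_relIndex_right]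
    exact Nat.mul_dvd_mul (Subgroup.relIndex_dvd_index_of_normal (N a) (s.inf N)) ihd

end Cfsg.Agent.Lib.helper2
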