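import Mathlib
import Cfsg.Agent.Lib.helper7.BD.CharDefs
import Cfsg.Agent.Lib.helper2.BDREPS
import Cfsg.Agent.Lib.helper2.CharInt
import Cfsg.Agent.Lib.Helper29.AbFrobGram
import Cfsg.Agent.Lib.Helper25.RelDegC

set_option autoImplicit false
set_option linter.unusedVariables false
set_option linter.unusedSectionVars false
set_option linter.style.haveILetI false

namespace Cfsg.Agent.Lib.helper7.BD

open Cfsg.Agent.Lib.helper7
open scoped ComplexConjugate

universe u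

section cases
variable {G : Type u} [Group G] [Fintype G]

/-- a Sylow subgroup of prime order satisfies the abelian-Frobenius setup -/
theorem h2_afsetup (p : ℕ) [Fact p.Prime] (P : Sylow p G) (hP : Nat.card P = p) :
    Cfsg.Agent.Lib.Helper29.AFSetup p P where
  comm := by
    have hcyc : IsCyclic (P : Subgroup G) := isCyclic_of_prime_card hP
    intro a b
    exact (IsCyclic.commGroup (α := (P : Subgroup G))).mul_comm a b
  frob := by
    intro y hy hy1
    rw [h2_centralizer_singleton_eq p (P : Subgroup G) hP y hy hy1]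
    exact inf_eq_left.mpr (Subgroup.centralizer_le_normalizer _)

/-- a rational algebraic integer is an integer -/
theorem h2_int_of_isIntegral_div (a n : ℤ) (hn : n ≠ 0) (h : IsIntegral ℤ ((a : ℂ) / (n : ℂ))) :
    ∃ z : ℤ, (a : ℂ) / (n : ℂ) = (z : ℂ) := by
  have hq : IsIntegral ℤ ((a : ℚ) / (n : ℚ)) := by
    rw [← isIntegral_algebraMap_iff (algebraMap ℚ ℂ).injective]
    simpa using h
  obtain ⟨z, hz⟩ := IsIntegrallyClosed.isIntegral_iff.mp hq
  refine ⟨z, ?_⟩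
  have h1 : ((z : ℚ) : ℂ) = (((a : ℚ) / (n : ℚ) : ℚ) : ℂ) := by
    rw [← hz]
    simp
  push_cast at h1
  rw [← h1]

/-- when `|N : C| = p - 1` all nontrivial elements of `P` are conjugate -/
theorem h2_all_conj (p : ℕ) [Fact p.Prime] (P : Subgroup G) (hP : Nat.card P = p)
    (he : (Subgroup.centralizer (P : Set G)).relIndex (Subgroup.normalizer (P : Set G)) = p - 1)
    (y₀ y : G) (hy₀ : y₀ ∈ P) (hy₀1 : y₀ ≠ 1) (hy : y ∈ P) (hy1 : y ≠ 1) : IsConj y₀ y := by
  classical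
  have h1 := h2_card_class_in_P p P hP y₀ hy₀ hy₀1
  rw [he] at h1
  set A : Set G := {y | y ∈ P ∧ y ≠ 1} with hA
  set B : Set G := {y | (y ∈ P ∧ y ≠ 1) ∧ IsConj y₀ y} with hB
  have hBA : B ⊆ A := fun z hz => hz.1
  have hAcard : A.ncard = p - 1 := by
    have h2 : A = (P : Set G) \ {1} := by
      ext z
      simp [hA]
    rw [h2, Set.ncard_sdiff_singleton_of_mem (show (1 : G) ∈ (P : Set G) from P.one_mem)]
    have h3 : (P : Set G).ncard = p := by
      rw [← hP]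
      exact (Nat.card_coe_set_eq (P : Set G)).symm
    rw [h3]
  have hBcard : B.ncard = p - 1 := by
    rw [← h1]
    exact (Nat.card_coe_set_eq B).symm
  have hAB : A = B := by
    symm
    apply Set.eq_of_subset_of_ncard_le hBA
    · rw [hAcard, hBcard]
  have : y ∈ B := by
    rw [← hAB]
    exact ⟨hy, hy1⟩
  exact this.2

/-- for `e = p - 1` every irreducible character takes a constant integer value on `P ∖ 1`,
congruent to its degree modulo `p` -/
theorem h2_exists_int_value (p : ℕ) [Fact p.Prime] (P : Sylow p G) (hP : Nat.card P = p)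
    (he : (Subgroup.centralizer ((P : Subgroup G) : Set G)).relIndex
      (Subgroup.normalizer ((P : Subgroup G) : Set G)) = p - 1) (χ : Cfsg.IrrCharacter G) :
    ∃ a : ℤ, (∀ y ∈ (P : Subgroup G), y ≠ 1 → (χ : G → ℂ) y = (a : ℂ)) ∧
      (Cfsg.charDegree (χ : G → ℂ) : ℤ) ≡ a [ZMOD p] := by
  classical
  have hp := (Fact.out : p.Prime)
  have hp2 : 2 ≤ p := hp.two_le
  -- a nontrivial element
  obtain ⟨y₀', hy₀'⟩ := exists_prime_orderOf_dvd_card' (G := (P : Subgroup G)) p (by rw [hP])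
  have hy₀ : (y₀' : G) ∈ (P : Subgroup G) := y₀'.2
  have hy₀1 : (y₀' : G) ≠ 1 := by
    intro h
    have : y₀' = 1 := Subtype.ext h
    rw [this, orderOf_one] at hy₀'
    omega
  set c := (χ : G → ℂ) (y₀' : G) with hc
  have hcl := Cfsg.Agent.Lib.helper2.isCharacter_isClassFunction
    (Cfsg.Agent.Lib.helper2.isCharacter_of_irr χ)
  have hconst : ∀ y ∈ (P : Subgroup G), y ≠ 1 → (χ : G → ℂ) y = c := by
    intro y hy hy1
    obtain ⟨g, hg⟩ := isConj_iff.mp
      (h2_all_conj p (P : Subgroup G) hP he (y₀' : G) y hy₀ hy₀1 hy hy1)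
    rw [← hg]
    exact hcl _ g
  -- the multiplicity of the trivial character
  have hmu := Cfsg.Agent.Lib.Helper29.afMu_spec (P : Subgroup G) χ (1 : ↥(P : Subgroup G) →* ℂˣ)
  have hsum : ∑ w : ↥(P : Subgroup G), (χ : G → ℂ) w *
      conj (((1 : ↥(P : Subgroup G) →* ℂˣ) w : ℂˣ) : ℂ) =
      (χ : G → ℂ) 1 + ((p : ℂ) - 1) * c := by
    have h1 : ∀ w : ↥(P : Subgroup G), (χ : G → ℂ) w *
        conj (((1 : ↥(P : Subgroup G) →* ℂˣ) w : ℂˣ) : ℂ) = (χ : G → ℂ) w := by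
      intro w
      simp
    rw [Finset.sum_congr rfl (fun w _ => h1 w),
      ← Finset.add_sum_erase Finset.univ _ (Finset.mem_univ (1 : ↥(P : Subgroup G)))]
    congr 1
    have h2 : ∀ w ∈ (Finset.univ : Finset ↥(P : Subgroup G)).erase 1, (χ : G → ℂ) w = c := by
      intro w hw
      have hw1 : w ≠ 1 := (Finset.mem_erase.mp hw).1
      exact hconst w w.2 (fun h => hw1 (Subtype.ext h))
    rw [Finset.sum_congr rfl h2, Finset.sum_const, Finset.card_erase_of_mem (Finset.mem_univ _),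
      Finset.card_univ, ← Nat.card_eq_fintype_card, hP, nsmul_eq_mul, Nat.cast_sub (by omega)]
    simp
  rw [hsum, hP] at hmu
  obtain ⟨hd, _⟩ := Cfsg.Agent.Lib.Helper25.charDegree_irr χ
  set d := Cfsg.charDegree (χ : G → ℂ) with hddef
  set m := Cfsg.Agent.Lib.Helper29.afMu (P : Subgroup G) χ (1 : ↥(P : Subgroup G) →* ℂˣ) with hm
  have hpC : (p : ℂ) ≠ 0 := by exact_mod_cast hp.ne_zero
  have hp1C : ((p : ℂ) - 1) ≠ 0 := by
    have : (p : ℂ) ≠ 1 := by exact_mod_cast hp.one_lt.ne'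
    exact sub_ne_zero.mpr this
  have hrel : (p : ℂ) * (m : ℂ) = (d : ℂ) + ((p : ℂ) - 1) * c := by
    rw [hmu, hd]
    field_simp
  have hcval : c = (((p : ℤ) * (m : ℤ) - (d : ℤ) : ℤ) : ℂ) / (((p : ℤ) - 1 : ℤ) : ℂ) := by
    push_cast
    rw [eq_div_iff hp1C]
    linear_combination -hrel
  have hint : IsIntegral ℤ c := Cfsg.Agent.Lib.helper2.irr_integral χ _
  rw [hcval] at hint
  have hn0 : ((p : ℤ) - 1) ≠ 0 := by omega
  obtain ⟨z, hz⟩ := h2_int_of_isIntegral_div _ _ hn0 hint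
  rw [← hcval] at hz
  refine ⟨z, fun y hy hy1 => (hconst y hy hy1).trans hz, ?_⟩
  have hrelZ : (p : ℤ) * (m : ℤ) = (d : ℤ) + ((p : ℤ) - 1) * z := by
    have : (((p : ℤ) * (m : ℤ) : ℤ) : ℂ) = (((d : ℤ) + ((p : ℤ) - 1) * z : ℤ) : ℂ) := by
      push_cast
      rw [← hz]
      exact hrel
    exact_mod_cast this
  rw [Int.modEq_iff_dvd]
  exact ⟨z - m, by linear_combination hrelZ⟩

/-- CASETOP : `e = p - 1` -/
theorem concl_of_e_eq_top (p : ℕ) [Fact p.Prime] (M : Ideal Cfsg.AlgInt) (hM : Cfsg.IsPModular p M)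
    (hodd : p ≠ 2) (P : Sylow p G) (hP : Nat.card P = p)
    (he : (Subgroup.centralizer ((P : Subgroup G) : Set G)).relIndex
      (Subgroup.normalizer ((P : Subgroup G) : Set G)) = p - 1)
    (hk : p ≤ Nat.card (Cfsg.principalBlock M G)) : Concl4441 p M P (p - 1) := by
  classical
  have hp := (Fact.out : p.Prime)
  have hp2 : 2 ≤ p := hp.two_le
  haveI : Fintype (Cfsg.IrrCharacter G) := Fintype.ofFinite _
  have hAF := h2_afsetup p P hP
  -- the integer values
  choose a ha hadeg using fun χ : Cfsg.IrrCharacter G => h2_exists_int_value p P hP he χ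
  -- the principal block as a finset
  set Bf : Finset (Cfsg.IrrCharacter G) :=
    Finset.univ.filter (fun χ => χ ∈ Cfsg.principalBlock M G) with hBfdef
  have hBf : ∀ χ, χ ∈ Bf ↔ χ ∈ Cfsg.principalBlock M G := by
    intro χ
    simp [hBfdef]
  have hBfcard : Nat.card (Cfsg.principalBlock M G) = Bf.card := by
    rw [Nat.card_eq_fintype_card, Fintype.card_subtype]
  -- a nontrivial element of P
  obtain ⟨y₀', hy₀'⟩ := exists_prime_orderOf_dvd_card' (G := (P : Subgroup G)) p (by rw [hP])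
  have hy₀ : (y₀' : G) ∈ (P : Subgroup G) := y₀'.2
  have hy₀1 : (y₀' : G) ≠ 1 := by
    intro h
    have : y₀' = 1 := Subtype.ext h
    rw [this, orderOf_one] at hy₀'
    omega
  set y₀ : G := (y₀' : G) with hy₀def
  -- a χ ≠ 0 on the block
  have hane : ∀ χ ∈ Bf, a χ ≠ 0 := by
    intro χ hχ h0
    have := Cfsg.Agent.Lib.Helper29.af_bt5 hM Bf hBf hAF y₀ hy₀ χ hχ
    rw [ha χ y₀ hy₀ hy₀1, h0] at this
    simp at this
  -- sum of squares
  have hsq : ∑ χ ∈ Bf, (a χ) ^ 2 = (p : ℤ) := by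
    have h3 := Cfsg.Agent.Lib.Helper29.af_bt3 hM Bf hBf hAF y₀ hy₀ hy₀1
    rw [hP] at h3
    have h4 : ∀ χ ∈ Bf, (χ : G → ℂ) y₀ * conj ((χ : G → ℂ) y₀) = (((a χ) ^ 2 : ℤ) : ℂ) := by
      intro χ _
      rw [ha χ y₀ hy₀ hy₀1, map_intCast (starRingEnd ℂ)]
      push_cast
      ring
    rw [Finset.sum_congr rfl h4, ← Int.cast_sum] at h3
    exact_mod_cast h3
  have hge1 : ∀ χ ∈ Bf, 1 ≤ (a χ) ^ 2 := by
    intro χ hχ
    have := hane χ hχ
    have h0 : 0 < (a χ) ^ 2 := by positivity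
    omega
  have hcardle : (Bf.card : ℤ) ≤ p := by
    calc (Bf.card : ℤ) = ∑ χ ∈ Bf, (1 : ℤ) := by simp
      _ ≤ ∑ χ ∈ Bf, (a χ) ^ 2 := Finset.sum_le_sum hge1
      _ = p := hsq
  have hcard : Bf.card = p := by
    have h1 : p ≤ Bf.card := by rw [← hBfcard]; exact hk
    have h2 : Bf.card ≤ p := by exact_mod_cast hcardle
    omega
  have hsq1 : ∀ χ ∈ Bf, (a χ) ^ 2 = 1 := by
    have hsum0 : ∑ χ ∈ Bf, ((a χ) ^ 2 - 1) = 0 := by
      rw [Finset.sum_sub_distrib, hsq]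
      simp [hcard]
    have hnn : ∀ χ ∈ Bf, 0 ≤ (a χ) ^ 2 - 1 := fun χ hχ => by have := hge1 χ hχ; omega
    intro χ hχ
    have := (Finset.sum_eq_zero_iff_of_nonneg hnn).mp hsum0 χ hχ
    omega
  have hpm : ∀ χ ∈ Bf, a χ = 1 ∨ a χ = -1 := by
    intro χ hχ
    have h1 := hsq1 χ hχ
    have h2 : (a χ - 1) * (a χ + 1) = 0 := by ring_nf; linarith
    rcases mul_eq_zero.mp h2 with h | h
    · left; omega
    · right; omega
  -- the trivial character
  set τ : Cfsg.IrrCharacter G := Cfsg.Agent.Lib.Helper25.trivIrr G with hτ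
  have hτB : τ ∈ Cfsg.principalBlock M G :=
    Cfsg.Agent.Lib.helper7.h7_sameBlock_refl hM.2.1.isPrime _
  have hτBf : τ ∈ Bf := (hBf τ).mpr hτB
  have haτ : a τ = 1 := by
    have h1 := ha τ y₀ hy₀ hy₀1
    rw [hτ, Cfsg.Agent.Lib.Helper25.trivIrr_apply] at h1
    have : ((1 : ℤ) : ℂ) = (a τ : ℂ) := by rw [← h1]; simp
    exact_mod_cast this.symm
  refine ⟨Cfsg.principalBlock M G \ {τ}, {τ}, ?_, ?_, ?_, ?_, a, -1, ?_, ?_, ?_, ?_, ?_⟩
  · -- union
    rw [Set.sdiff_union_self]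
    exact (Set.union_eq_left.mpr (Set.singleton_subset_iff.mpr hτB)).symm
  · exact Set.disjoint_sdiff_left
  · -- card X
    rw [Nat.card_coe_set_eq, Set.ncard_sdiff_singleton_of_mem hτB, ← Nat.card_coe_set_eq, hBfcard,
      hcard]
  · rw [Nat.card_coe_set_eq, Set.ncard_singleton, Nat.div_self (by omega)]
  · -- X clauses
    intro χ hχ
    have hχB : χ ∈ Cfsg.principalBlock M G := hχ.1
    have hχBf : χ ∈ Bf := (hBf χ).mpr hχB
    refine ⟨hpm χ hχBf, hadeg χ, ?_⟩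
    intro x hx hx1 y hy hyreg
    have hcomm : x * y = y * x := Subgroup.mem_centralizer_iff.mp hy x hx
    have hpp : Cfsg.IsPPart p (x * y) x :=
      ⟨y, rfl, hcomm, ⟨1, by rw [pow_one]; exact h2_orderOf_of_card_prime p (P : Subgroup G) hP x hx hx1⟩,
        hyreg⟩
    rw [Cfsg.Agent.Lib.Helper29.af_bt4 hM Bf hBf hAF (x * y) x hpp hx hx1 χ hχBf]
    exact ha χ x hx hx1
  · right; rfl
  · -- degree of the trivial character
    intro θ hθ
    rw [Set.mem_singleton_iff] at hθ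
    rw [hθ, hτ, Cfsg.Agent.Lib.Helper25.RelDeg.deg_trivIrr, Int.modEq_iff_dvd]
    refine ⟨-1, ?_⟩
    rw [Nat.cast_sub (by omega)]
    push_cast
    ring
  · intro θ hθ θ' hθ' g _
    rw [Set.mem_singleton_iff] at hθ hθ'
    rw [hθ, hθ']
  · -- the relation
    intro θ hθ g hg
    rw [Set.mem_singleton_iff] at hθ
    rw [hθ, hτ, Cfsg.Agent.Lib.Helper25.trivIrr_apply]
    have h1 := Cfsg.Agent.Lib.Helper29.af_bt1 hM Bf hBf g y₀ hg hy₀ hy₀1
    have h2 : ∀ χ ∈ Bf, (χ : G → ℂ) g * conj ((χ : G → ℂ) y₀) = (a χ : ℂ) * (χ : G → ℂ) g := by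
      intro χ _
      rw [ha χ y₀ hy₀ hy₀1, map_intCast (starRingEnd ℂ), mul_comm]
    rw [Finset.sum_congr rfl h2, ← Finset.add_sum_erase Bf _ hτBf, haτ] at h1
    have h3 : ∑ᶠ χ ∈ Cfsg.principalBlock M G \ {τ}, (a χ : ℂ) * (χ : G → ℂ) g =
        ∑ χ ∈ Bf.erase τ, (a χ : ℂ) * (χ : G → ℂ) g := by
      apply Cfsg.Agent.Lib.Helper29.af_finsum_eq
      intro χ
      rw [Finset.mem_erase, hBf]
      constructor
      · rintro ⟨h, h'⟩
        exact ⟨h', h⟩
      · rintro ⟨h, h'⟩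
        exact ⟨h', h⟩
    rw [h3]
    rw [hτ, Cfsg.Agent.Lib.Helper25.trivIrr_apply] at h1
    push_cast at h1 ⊢
    linear_combination -h1

end cases

end Cfsg.Agent.Lib.helper7.BD
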