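import Mathlib
import Cfsg.Agent.Lib.Helper10.PGM.Defs
import Cfsg.Agent.Lib.Helper10.PGMNat0

set_option autoImplicit false

/-!
# Project PGM (S2263), row AC2a (`ac_two_a`): two orbits, both of multiplicity one.
-/

namespace Cfsg.Agent.Lib.Helper10.PGM

open Matrix Cfsg.Agent.Lib.helper15.UNat

universe u

/-- `2 ≤ p ^ f` -/
theorem pgmac2a_two_le (p f : ℕ) (hp : 2 ≤ p) (hf : 1 ≤ f) : 2 ≤ p ^ f :=
  calc 2 ≤ p := hp
    _ = p ^ 1 := (pow_one p).symm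
    _ ≤ p ^ f := Nat.pow_le_pow_right (by omega) hf

/-- the case of an orbit of size one: `Qn q (d - 1) ≤ Mx` -/
theorem pgmac2a_one (p f d : ℕ) (hp : 2 ≤ p) (hf : 1 ≤ f) (hd : 3 ≤ d) :
    Qn (p ^ f) (d - 1) ≤ Mx p f d := by
  have hq := pgmac2a_two_le p f hp hf
  rcases Nat.even_or_odd d with hev | hodd
  · -- `d` even, `d - 1` odd
    have hne : ¬ Even (d - 1) := by
      rw [Nat.not_even_iff_odd]
      obtain ⟨k, hk⟩ := hev
      exact ⟨k - 1, by omega⟩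
    have hnodd : ¬ Odd d := Nat.not_odd_iff_even.mpr hev
    unfold Qn Mx
    rw [if_neg hne, if_neg hnodd]
    split_ifs with h3
    · exact le_refl _
    · have hq2 : p ^ f = 2 := by omega
      rw [hq2]
      obtain ⟨k, rfl⟩ : ∃ k, d = k + 4 := ⟨d - 4, by
        obtain ⟨j, hj⟩ := hev
        omega⟩
      have e1 : k + 4 - 1 = k + 3 := by omega
      have e2 : k + 4 - 3 = k + 1 := by omega
      rw [e1, e2, pow_succ, pow_succ, pow_succ]
      omega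
  · -- `d` odd, `d - 1` even
    have hev : Even (d - 1) := by
      obtain ⟨k, hk⟩ := hodd
      exact ⟨k, by omega⟩
    have : Qn (p ^ f) (d - 1) = (p ^ f) ^ (d - 1) - 1 := by
      unfold Qn
      rw [if_pos hev]
    rw [this]
    exact Mx_ge p f d hp hf hd

/-- the case of two orbits of size `≥ 2`, `l₁ ≤ l₂`, `d ≥ 5` -/
theorem pgmac2a_big (q d l₁ l₂ : ℕ) (hq : 2 ≤ q) (hd : 5 ≤ d) (h1 : 2 ≤ l₁) (h12 : l₁ ≤ l₂)
    (hsum : l₁ + l₂ = d) :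
    Nat.lcm (Qn q l₁) (Qn q l₂) ≤ q ^ (d - 1) - 1 := by
  have hN4 := lcm_Qn_le q l₁ l₂ hq
  have hl1 : l₁ ≤ d - 3 := by omega
  have hl2 : l₂ ≤ d - 2 := by omega
  have hq1 : 1 ≤ q := by omega
  have hA : Qn q l₁ ≤ q ^ (d - 3) + 1 :=
    le_trans (Qn_le q l₁) (Nat.add_le_add_right (Nat.pow_le_pow_right hq1 hl1) 1)
  have hB : Qn q l₂ * (q ^ l₁) ≤ q ^ d + q ^ (d - 3) := by
    -- `Qn q l₂ ≤ q ^ l₂ + 1`
    have h := Nat.mul_le_mul_right (q ^ l₁) (Qn_le q l₂)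
    have e : (q ^ l₂ + 1) * q ^ l₁ = q ^ d + q ^ l₁ := by
      rw [add_mul, one_mul, ← pow_add, add_comm l₂ l₁, hsum]
    rw [e] at h
    exact le_trans h (Nat.add_le_add_left (Nat.pow_le_pow_right hq1 hl1) _)
  have hC : Qn q l₂ ≤ q ^ (d - 2) + 1 :=
    le_trans (Qn_le q l₂) (Nat.add_le_add_right (Nat.pow_le_pow_right hq1 hl2) 1)
  -- `Qn q l₁ * Qn q l₂ ≤ q^d + q^(d-3) + q^(d-2) + 1`
  have hX : Qn q l₁ * Qn q l₂ ≤ q ^ d + q ^ (d - 3) + q ^ (d - 2) + 1 := by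
    have h := Nat.mul_le_mul_right (Qn q l₂) (Qn_le q l₁)
    have e : (q ^ l₁ + 1) * Qn q l₂ = Qn q l₂ * q ^ l₁ + Qn q l₂ := by ring
    rw [e] at h
    omega
  -- `q^(d-3) + q^(d-2) + 1 < q^(d-1)`
  obtain ⟨k, rfl⟩ : ∃ k, d = k + 5 := ⟨d - 5, by omega⟩
  have e3 : k + 5 - 3 = k + 2 := by omega
  have e2 : k + 5 - 2 = k + 3 := by omega
  have e1 : k + 5 - 1 = k + 4 := by omega
  rw [e3, e2] at hX
  rw [e1]
  have hr : 4 ≤ q ^ (k + 2) := by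
    calc 4 = 2 ^ 2 := by norm_num
      _ ≤ q ^ 2 := Nat.pow_le_pow_left hq 2
      _ ≤ q ^ (k + 2) := Nat.pow_le_pow_right hq1 (by omega)
  have p3 : q ^ (k + 3) = q * q ^ (k + 2) := by ring
  have p4 : q ^ (k + 4) = q * q * q ^ (k + 2) := by ring
  have p5 : q ^ (k + 5) = q * (q * q * q ^ (k + 2)) := by ring
  have hlt : Nat.lcm (Qn q l₁) (Qn q l₂) * (q + 1) < q ^ (k + 4) * (q + 1) := by
    refine lt_of_le_of_lt (le_trans hN4 hX) ?_
    rw [p3, p4, p5]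
    generalize q ^ (k + 2) = r at hr
    nlinarith [Nat.mul_le_mul hq hr, Nat.mul_le_mul hq (Nat.mul_le_mul hq hr)]
  have := Nat.lt_of_mul_lt_mul_right hlt
  omega

/-- AC2a : two orbits, both of multiplicity one -/
theorem ac_two_a (p f d : ℕ) (hp : p.Prime) (hf : 1 ≤ f) (hd : 3 ≤ d)
    (l₁ l₂ : ℕ) (h1 : 1 ≤ l₁) (h3 : 1 ≤ l₂) (hsum : l₁ + l₂ = d) :
    Nat.lcm (Qn (p ^ f) l₁) (Qn (p ^ f) l₂) ≤ Mx p f d := by
  have hp2 := hp.two_le
  have hq := pgmac2a_two_le p f hp2 hf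
  have hq1 : 1 ≤ p ^ f := by omega
  by_cases hl2 : l₂ = 1
  · subst hl2
    have e : l₁ = d - 1 := by omega
    have hdvd : Qn (p ^ f) 1 ∣ Qn (p ^ f) l₁ := by
      have : Qn (p ^ f) 1 = p ^ f + 1 := by
        unfold Qn
        rw [if_neg (by decide), pow_one]
      rw [this]
      exact succ_dvd_Qn _ _ hq1
    rw [Nat.lcm_eq_left hdvd, e]
    exact pgmac2a_one p f d hp2 hf hd
  by_cases hl1 : l₁ = 1
  · subst hl1
    have e : l₂ = d - 1 := by omega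
    have hdvd : Qn (p ^ f) 1 ∣ Qn (p ^ f) l₂ := by
      have : Qn (p ^ f) 1 = p ^ f + 1 := by
        unfold Qn
        rw [if_neg (by decide), pow_one]
      rw [this]
      exact succ_dvd_Qn _ _ hq1
    rw [Nat.lcm_eq_right hdvd, e]
    exact pgmac2a_one p f d hp2 hf hd
  have h1' : 2 ≤ l₁ := by omega
  have h3' : 2 ≤ l₂ := by omega
  by_cases hd4 : d = 4
  · have e1 : l₁ = 2 := by omega
    have e2 : l₂ = 2 := by omega
    subst e1 e2
    rw [Nat.lcm_self]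
    refine le_trans ?_ (Mx_ge p f d hp2 hf hd)
    subst hd4
    have : Qn (p ^ f) 2 = (p ^ f) ^ 2 - 1 := by
      unfold Qn
      rw [if_pos (by decide)]
    rw [this]
    have : (p ^ f) ^ 2 ≤ (p ^ f) ^ (4 - 1) := Nat.pow_le_pow_right hq1 (by norm_num)
    omega
  have hd5 : 5 ≤ d := by omega
  refine le_trans ?_ (Mx_ge p f d hp2 hf hd)
  rcases le_total l₁ l₂ with h | h
  · exact pgmac2a_big (p ^ f) d l₁ l₂ hq hd5 h1' h hsum
  · rw [Nat.lcm_comm]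
    exact pgmac2a_big (p ^ f) d l₂ l₁ hq hd5 h3' h (by omega)

end Cfsg.Agent.Lib.Helper10.PGM
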