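import Mathlib
import Cfsg.Agent.Lib.Helper25.CharQuot
import Cfsg.Agent.Lib.Helper25.CharBound
import Cfsg.Agent.Lib.Helper25.CharNormal
import Cfsg.Agent.Lib.Helper25.CharAbelian
import Cfsg.Agent.Lib.helper7.CharMul
import Cfsg.Agent.Lib.helper7.CharTools
import Cfsg.Agent.Lib.helper7.Induction
import Cfsg.Agent.Lib.helper2.CharInd

set_option autoImplicit false
set_option linter.deprecated false

namespace Cfsg.Agent.Lib.helper2
open Cfsg.Agent.Lib.helper7 Cfsg.Agent.Lib.Helper25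
open scoped ComplexConjugate

/-- restriction of an irreducible character to a supplement of a subgroup of its kernel -/
theorem gk_restrict_irr {G : Type*} [Group G] [Finite G] (K H : Subgroup G)
    (hKH : ∀ g : G, ∃ k ∈ K, ∃ h ∈ H, g = k * h) (χ : Cfsg.IrrCharacter G)
    (hK : ∀ k ∈ K, (χ : G → ℂ) k = (χ : G → ℂ) 1) :
    Cfsg.IsIrrCharacter H (fun h : H => (χ : G → ℂ) h) := by
  obtain ⟨n, ρ, hρ, hχ⟩ := χ.2
  have hρK : ∀ k ∈ K, ρ k = LinearMap.id := by
    intro k hk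
    have h1 : ρ.character k = (Module.finrank ℂ (Fin n → ℂ) : ℂ) := by
      rw [← Representation.char_one ρ, hχ]
      exact hK k hk
    exact (Cfsg.Agent.S0139.result ρ k).1 h1
  let σ : Representation ℂ H (Fin n → ℂ) := ρ.comp H.subtype
  have hσ : ∀ h : H, σ h = ρ (h : G) := fun h => rfl
  let e : Subrepresentation ρ ≃o Subrepresentation σ :=
    { toFun := fun S => ⟨S.toSubmodule, by
        intro h v hv
        rw [hσ]
        exact S.apply_mem_toSubmodule (h : G) hv⟩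
      invFun := fun S => ⟨S.toSubmodule, by
        intro g v hv
        obtain ⟨k, hk, h, hh, rfl⟩ := hKH g
        rw [map_mul, hρK k hk]
        have := S.apply_mem_toSubmodule (⟨h, hh⟩ : H) hv
        rw [hσ] at this
        simpa using this⟩
      left_inv := fun S => rfl
      right_inv := fun S => rfl
      map_rel_iff' := Iff.rfl }
  refine ⟨n, σ, e.isSimpleOrder_iff.mp hρ, ?_⟩
  funext h
  rw [← hχ]
  rfl

theorem gk_char_norm_le {G : Type*} [Group G] [Finite G] {ψ : G → ℂ} (hψ : Cfsg.IsCharacter G ψ)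
    (g : G) : ∃ n : ℕ, ψ 1 = (n : ℂ) ∧ ‖ψ g‖ ≤ (n : ℝ) := by
  obtain ⟨n, ρ, rfl⟩ := hψ
  refine ⟨Module.finrank ℂ (Fin n → ℂ), Representation.char_one ρ, norm_char_le ρ g⟩

theorem gk_eq_of_sum_eq (a b : ℂ) (n k : ℕ) (ha : ‖a‖ ≤ (n : ℝ)) (hb : ‖b‖ ≤ (k : ℝ))
    (h : a + b = (n : ℂ) + (k : ℂ)) : a = (n : ℂ) := by
  have hre : a.re + b.re = (n : ℝ) + (k : ℝ) := by
    have := congrArg Complex.re h
    simpa using this
  have h1 : a.re ≤ ‖a‖ := Complex.re_le_norm a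
  have h2 : b.re ≤ ‖b‖ := Complex.re_le_norm b
  have h3 : a.re = (n : ℝ) := by linarith
  have h4 : ‖a‖ ^ 2 = a.re ^ 2 + a.im ^ 2 := by
    rw [Complex.sq_norm, Complex.normSq_apply]; ring
  have h5 : ‖a‖ ^ 2 ≤ (n : ℝ) ^ 2 := by
    apply pow_le_pow_left₀ (norm_nonneg _) ha
  have h6 : a.im = 0 := by
    rw [h3] at h4
    nlinarith [sq_nonneg a.im]
  apply Complex.ext
  · simpa using h3
  · simpa using h6

/-- value of the permutation character: if it is the full index, all conjugates lie in `H` -/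
theorem gk_perm_full {G : Type*} [Group G] [Fintype G] (H : Subgroup G) (x : G)
    (h : Cfsg.indFun H (fun _ : H => (1 : ℂ)) x = (H.index : ℂ)) :
    ∀ g : G, g⁻¹ * x * g ∈ H := by
  classical
  haveI : Fintype H := Fintype.ofFinite H
  by_contra hcon
  push Not at hcon
  obtain ⟨g₀, hg₀⟩ := hcon
  unfold Cfsg.indFun at h
  have hval : ∀ g : G, Cfsg.extendByZero H (fun _ : H => (1 : ℂ)) (g⁻¹ * x * g) =
      if g⁻¹ * x * g ∈ H then 1 else 0 := by
    intro g
    split_ifs with hg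
    · rw [h7_extendByZero_mem H _ _ hg]
    · rw [h7_extendByZero_not_mem H _ _ hg]
  simp only [hval] at h
  rw [Finset.sum_boole] at h
  set S := Finset.univ.filter (fun g : G => g⁻¹ * x * g ∈ H) with hS
  have hHne : (Nat.card H : ℂ) ≠ 0 := by
    have : 0 < Nat.card H := Nat.card_pos
    exact_mod_cast this.ne'
  have h2 : (S.card : ℂ) = (H.index : ℂ) * (Nat.card H : ℂ) := by
    rw [← h]; field_simp
  have h3 : S.card = H.index * Nat.card H := by exact_mod_cast h2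
  rw [mul_comm, H.card_mul_index, Nat.card_eq_fintype_card, ← Finset.card_univ] at h3
  have h4 : S = Finset.univ := Finset.eq_univ_of_card S h3
  have : g₀ ∈ S := by rw [h4]; exact Finset.mem_univ _
  rw [hS, Finset.mem_filter] at this
  exact hg₀ this.2

theorem gk_core {G : Type*} [Group G] [Finite G] (χ : Cfsg.IrrCharacter G) (K H : Subgroup G)
    [K.Normal]
    (hK : ∀ g : G, g ∈ K ↔ (χ : G → ℂ) g = (χ : G → ℂ) 1)
    (hKH : ∀ g : G, ∃ k ∈ K, ∃ h ∈ H, g = k * h)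
    (hA : ∃ x ∈ H, (χ : G → ℂ) x ≠ 0 ∧ ∃ g : G, g⁻¹ * x * g ∉ H)
    (hB : ∀ L : Subgroup G, L.Normal → L ⊓ H ≤ K → L ≤ K) :
    ∃ ψ : Cfsg.IrrCharacter G, Cfsg.charDegree (χ : G → ℂ) < Cfsg.charDegree (ψ : G → ℂ) ∧
      ∃ L : Subgroup G, (∀ g : G, g ∈ L ↔ (ψ : G → ℂ) g = (ψ : G → ℂ) 1) ∧ L < K := by
  classical
  haveI := Fintype.ofFinite G
  haveI : Fintype H := Fintype.ofFinite H
  haveI : Fintype (Cfsg.IrrCharacter G) := Fintype.ofFinite _
  set θ : H → ℂ := fun h => (χ : G → ℂ) h with hθdef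
  have hθ : Cfsg.IsIrrCharacter H θ := gk_restrict_irr K H hKH χ (fun k hk => (hK k).1 hk)
  have hχclass := isCharacter_isClassFunction (isCharacter_of_irr χ)
  have hΨchar : Cfsg.IsCharacter G (Cfsg.indFun H θ) :=
    isCharacter_indFun H θ (h7_irr_isCharacter hθ)
  have hΨπ : Cfsg.indFun H θ = Cfsg.indFun H (fun _ : H => (1 : ℂ)) * (χ : G → ℂ) := by
    rw [← h7_indFun_mul_restrict H (fun _ => 1) (χ : G → ℂ) hχclass]
    congr 1
    funext h
    simp [hθdef]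
  obtain ⟨m, hm, hexp⟩ := isCharacter_expansion hΨchar
  obtain ⟨hdχ, hdχpos⟩ := charDegree_irr χ
  -- for constituents: restriction splits
  have hsplit : ∀ ψ : Cfsg.IrrCharacter G, m ψ ≠ 0 →
      ∃ Δ : H → ℂ, Cfsg.IsCharacter H Δ ∧ (fun h : H => (ψ : G → ℂ) h) = θ + Δ := by
    intro ψ hψ
    have h1 : Cfsg.classInner θ (fun h : H => (ψ : G → ℂ) h) = (m ψ : ℂ) := by
      rw [← hm ψ, h7_frobenius_reciprocity H θ (ψ : G → ℂ)
        (isCharacter_isClassFunction (isCharacter_of_irr ψ))]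
    have h2 := classInner_symm_of_nat _ _ _ h1
    apply h7_char_split (isCharacter_restrict (isCharacter_of_irr ψ) H) θ hθ
    rw [h2]
    exact_mod_cast hψ
  -- degree comparison
  have hdeg : ∀ ψ : Cfsg.IrrCharacter G, ∀ Δ : H → ℂ, Cfsg.IsCharacter H Δ →
      (fun h : H => (ψ : G → ℂ) h) = θ + Δ →
      ∃ d : ℕ, Δ 1 = (d : ℂ) ∧
        Cfsg.charDegree (ψ : G → ℂ) = Cfsg.charDegree (χ : G → ℂ) + d := by
    intro ψ Δ hΔ hsum
    obtain ⟨d, hd⟩ := isCharacter_one_eq_nat hΔ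
    refine ⟨d, hd, ?_⟩
    have h1 := congrFun hsum 1
    simp only [Pi.add_apply, hθdef, OneMemClass.coe_one] at h1
    rw [hd, ← hdχ, ← (charDegree_irr ψ).1] at h1
    exact_mod_cast h1
  -- existence of a constituent of larger degree
  have hex : ∃ ψ : Cfsg.IrrCharacter G, m ψ ≠ 0 ∧
      Cfsg.charDegree (χ : G → ℂ) < Cfsg.charDegree (ψ : G → ℂ) := by
    by_contra hcon
    push Not at hcon
    have hres : ∀ ψ : Cfsg.IrrCharacter G, m ψ ≠ 0 → ∀ h : H, (ψ : G → ℂ) h = θ h := by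
      intro ψ hψ h
      obtain ⟨Δ, hΔ, hsum⟩ := hsplit ψ hψ
      obtain ⟨d, hd, hdd⟩ := hdeg ψ Δ hΔ hsum
      have hd0 : d = 0 := by
        have := hcon ψ hψ
        omega
      have hΔ0 : Δ = 0 := h7_isCharacter_eq_zero hΔ (by rw [hd, hd0]; simp)
      have := congrFun hsum h
      rw [hΔ0] at this
      simpa using this
    have hsumH : ∀ h : H, Cfsg.indFun H θ h =
        ((∑ ψ : Cfsg.IrrCharacter G, m ψ : ℕ) : ℂ) * θ h := by
      intro h
      rw [hexp]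
      simp only [Finset.sum_apply, Pi.smul_apply, smul_eq_mul]
      push_cast
      rw [Finset.sum_mul]
      apply Finset.sum_congr rfl
      intro ψ _
      by_cases hψ : m ψ = 0
      · rw [hψ]; simp
      · rw [hres ψ hψ h]
    have hθ1 : θ 1 ≠ 0 := by
      have := irr_one_ne_zero (⟨θ, hθ⟩ : Cfsg.IrrCharacter H)
      exact this
    have hM : ((∑ ψ : Cfsg.IrrCharacter G, m ψ : ℕ) : ℂ) = (H.index : ℂ) := by
      have h1 := hsumH 1
      rw [OneMemClass.coe_one, h7_indFun_one] at h1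
      exact (mul_right_cancel₀ hθ1 h1).symm
    obtain ⟨x, hxH, hx0, g, hg⟩ := hA
    have h2 := hsumH ⟨x, hxH⟩
    rw [hM, hΨπ, Pi.mul_apply] at h2
    have h3 : Cfsg.indFun H (fun _ : H => (1 : ℂ)) x = (H.index : ℂ) := by
      have : θ ⟨x, hxH⟩ = (χ : G → ℂ) x := rfl
      rw [this] at h2
      exact mul_right_cancel₀ hx0 h2
    exact hg (gk_perm_full H x h3 g)
  obtain ⟨ψ, hψm, hψdeg⟩ := hex
  refine ⟨ψ, hψdeg, ?_⟩
  obtain ⟨L, hLn, n, σ, hσ, hL, -, -⟩ := quotient_setup ψ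
  refine ⟨L, hL, ?_⟩
  obtain ⟨Δ, hΔ, hsum⟩ := hsplit ψ hψm
  have hLH : L ⊓ H ≤ K := by
    intro g hg
    obtain ⟨hgL, hgH⟩ := hg
    rw [hK]
    have h1 := congrFun hsum ⟨g, hgH⟩
    have h2 := congrFun hsum 1
    simp only [Pi.add_apply, OneMemClass.coe_one] at h1 h2
    obtain ⟨a, ha1, ha⟩ := gk_char_norm_le (h7_irr_isCharacter hθ) (⟨g, hgH⟩ : H)
    obtain ⟨b, hb1, hb⟩ := gk_char_norm_le hΔ (⟨g, hgH⟩ : H)
    have h3 : θ ⟨g, hgH⟩ + Δ ⟨g, hgH⟩ = (a : ℂ) + (b : ℂ) := by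
      rw [← h1, (hL g).1 hgL, h2, ha1, hb1]
    have h4 := gk_eq_of_sum_eq _ _ a b ha hb h3
    have h5 : θ ⟨g, hgH⟩ = θ 1 := by rw [h4, ha1]
    exact h5
  have hLK : L ≤ K := hB L hLn hLH
  apply lt_of_le_of_ne hLK
  intro hEq
  have hirr : Cfsg.IsIrrCharacter H (fun h : H => (ψ : G → ℂ) h) :=
    gk_restrict_irr K H hKH ψ (fun k hk => (hL k).1 (hEq ▸ hk))
  have h1 : Cfsg.classInner θ (fun h : H => (ψ : G → ℂ) h) = (m ψ : ℂ) := by
    rw [← hm ψ, h7_frobenius_reciprocity H θ (ψ : G → ℂ)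
      (isCharacter_isClassFunction (isCharacter_of_irr ψ))]
  have heq : θ = (fun h : H => (ψ : G → ℂ) h) := by
    by_contra hne
    have := h7_irr_inner_ne hθ hirr hne
    rw [h1] at this
    exact hψm (by exact_mod_cast this)
  have h2 := congrFun heq 1
  simp only [hθdef, OneMemClass.coe_one] at h2
  rw [← hdχ, ← (charDegree_irr ψ).1] at h2
  have : Cfsg.charDegree (χ : G → ℂ) = Cfsg.charDegree (ψ : G → ℂ) := by exact_mod_cast h2
  omega

end Cfsg.Agent.Lib.helper2
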