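import Mathlib
import Cfsg.Prelude.Def_Characters
import Cfsg.Agent.Lib.Helper25.CharLinear
import Cfsg.Agent.Lib.helper7.CharMul
import Cfsg.Agent.Lib.helper2.CharNat

set_option autoImplicit false
open Cfsg
open scoped ComplexConjugate

namespace Cfsg.Agent.Lib.helper2

open Cfsg.Agent.Lib.helper7 Cfsg.Agent.Lib.Helper11 Cfsg.Agent.Lib.Helper25

theorem sb_isCharacter_one (P : Type*) [Group P] : Cfsg.IsCharacter P (fun _ => (1 : ℂ)) :=
  Cfsg.Agent.Lib.helper2.isCharacter_of_irr (trivIrr P)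

theorem sb_isCharacter_pow {P : Type*} [Group P] {ψ : P → ℂ} (hψ : Cfsg.IsCharacter P ψ)
    (j : ℕ) : Cfsg.IsCharacter P (fun x => ψ x ^ j) := by
  induction j with
  | zero =>
    have h : (fun x : P => ψ x ^ 0) = fun _ => (1 : ℂ) := by funext x; rw [pow_zero]
    rw [h]; exact sb_isCharacter_one P
  | succ j ih =>
    have h := h7_isCharacter_mul ih hψ
    have h2 : (fun x : P => ψ x ^ (j + 1)) = (fun x => ψ x ^ j) * ψ := by
      funext x; rw [Pi.mul_apply, pow_succ]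
    rw [h2]; exact h

/-- Blichfeldt's divisibility: the order of the group divides the product of the differences
`ψ(1) - t` over the values `t` of an integer valued character `ψ` off the identity -/
theorem sb_blichfeldt {P : Type*} [Group P] [Fintype P] (ψ : P → ℂ) (hψ : Cfsg.IsCharacter P ψ)
    (v : P → ℤ) (hv : ∀ x, ψ x = v x) (T : Finset ℤ) (hT : ∀ x, x ≠ 1 → v x ∈ T) :
    (Nat.card P : ℤ) ∣ ∏ t ∈ T, (v 1 - t) := by
  classical
  set Q : Polynomial ℤ := ∏ t ∈ T, (Polynomial.X - Polynomial.C t) with hQ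
  have heval : ∀ y : ℤ, Q.eval y = ∏ t ∈ T, (y - t) := by
    intro y
    rw [hQ, Polynomial.eval_prod]
    simp
  have hzero : ∀ x, x ≠ 1 → Q.eval (v x) = 0 := by
    intro x hx
    rw [heval]
    exact Finset.prod_eq_zero (hT x hx) (sub_self _)
  have hc : (Nat.card P : ℂ) ≠ 0 := by
    have : 0 < Nat.card P := Nat.card_pos
    exact_mod_cast this.ne'
  have hmom : ∀ j : ℕ, ∃ m : ℕ, ∑ x : P, (v x) ^ j = (Nat.card P : ℤ) * m := by
    intro j
    obtain ⟨m, hm⟩ := classInner_character_nat (sb_isCharacter_pow hψ j) (sb_isCharacter_one P)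
    refine ⟨m, ?_⟩
    unfold Cfsg.classInner at hm
    have h1 : (∑ x : P, ((v x : ℂ)) ^ j) = (Nat.card P : ℂ) * m := by
      rw [← hm, ← mul_assoc, mul_inv_cancel₀ hc, one_mul]
      refine Finset.sum_congr rfl fun x _ => ?_
      show ((v x : ℂ)) ^ j = ψ x ^ j * conj (1 : ℂ)
      rw [hv x]
      simp
    exact_mod_cast h1
  choose m hm using hmom
  have hsum : ∑ x : P, Q.eval (v x) = Q.eval (v 1) := by
    rw [← Finset.add_sum_erase _ _ (Finset.mem_univ (1 : P))]
    rw [Finset.sum_eq_zero (fun x hx => hzero x (Finset.mem_erase.mp hx).1), add_zero]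
  have hsum2 : ∑ x : P, Q.eval (v x) =
      (Nat.card P : ℤ) * ∑ j ∈ Finset.range (Q.natDegree + 1), Q.coeff j * m j := by
    simp only [Polynomial.eval_eq_sum_range]
    rw [Finset.sum_comm, Finset.mul_sum]
    refine Finset.sum_congr rfl fun j _ => ?_
    rw [← Finset.mul_sum, hm j]
    ring
  rw [← heval, ← hsum, hsum2]
  exact dvd_mul_right _ _

/-- the arithmetic behind Schur's bound -/
theorem sb_arith (p : ℕ) [hp : Fact p.Prime] (n a : ℕ) (T : Finset ℤ)
    (h1 : ∀ t ∈ T, (p : ℤ) ∣ (n : ℤ) - t) (h2 : ∀ t ∈ T, t < n)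
    (h3 : ∀ t ∈ T, 0 ≤ ((p : ℤ) - 1) * t + n)
    (hdvd : ((p ^ a : ℕ) : ℤ) ∣ ∏ t ∈ T, ((n : ℤ) - t)) :
    a ≤ ∑ i ∈ Finset.range (n + 1), n / ((p - 1) * p ^ i) := by
  classical
  set m := n / (p - 1) with hm
  have hp2 : 2 ≤ p := hp.out.two_le
  have hp1 : 0 < p - 1 := by omega
  have hpZ : (0 : ℤ) < p := by exact_mod_cast hp.out.pos
  have hj : ∀ t ∈ T, ∃ j : ℕ, 1 ≤ j ∧ j ≤ m ∧ (n : ℤ) - t = ((p * j : ℕ) : ℤ) := by
    intro t ht
    obtain ⟨k, hk⟩ := h1 t ht
    have hpos : 0 < (n : ℤ) - t := by linarith [h2 t ht]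
    have hkpos : 0 < k := by
      rw [hk] at hpos
      by_contra hcon
      have hk0 : k ≤ 0 := not_lt.mp hcon
      nlinarith
    have hkle : ((p : ℤ) - 1) * k ≤ n := by
      have h4 := h3 t ht
      have h5 : ((p : ℤ) - 1) * ((p : ℤ) * k) ≤ (p : ℤ) * n := by
        rw [← hk]; nlinarith
      have h6 : (p : ℤ) * (((p : ℤ) - 1) * k) ≤ (p : ℤ) * n := by linarith [h5, mul_comm ((p:ℤ) - 1) ((p : ℤ) * k)]
      exact le_of_mul_le_mul_left h6 hpZ
    refine ⟨k.toNat, ?_, ?_, ?_⟩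
    · omega
    · rw [hm, Nat.le_div_iff_mul_le hp1]
      have h7 : ((k.toNat * (p - 1) : ℕ) : ℤ) ≤ n := by
        push_cast [Nat.cast_sub (by omega : 1 ≤ p)]
        rw [Int.toNat_of_nonneg hkpos.le]
        linarith [mul_comm ((p : ℤ) - 1) k]
      exact_mod_cast h7
    · push_cast
      rw [Int.toNat_of_nonneg hkpos.le, hk]
  choose! J hJ1 hJm hJeq using hj
  have hJinj : Set.InjOn J (T : Set ℤ) := by
    intro t ht t' ht' h
    have e1 := hJeq t ht
    have e2 := hJeq t' ht'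
    rw [h] at e1
    have : (n : ℤ) - t = (n : ℤ) - t' := by rw [e1, e2]
    linarith
  have hprod : ∏ t ∈ T, ((n : ℤ) - t) = ((∏ j ∈ T.image J, (p * j) : ℕ) : ℤ) := by
    rw [Finset.prod_image hJinj]
    push_cast
    refine Finset.prod_congr rfl fun t ht => ?_
    rw [hJeq t ht]
    push_cast
    rfl
  have hsub : T.image J ⊆ Finset.Ico 1 (m + 1) := by
    intro j hj
    obtain ⟨t, ht, rfl⟩ := Finset.mem_image.mp hj
    exact Finset.mem_Ico.mpr ⟨hJ1 t ht, Nat.lt_succ_of_le (hJm t ht)⟩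
  have hdvd2 : (∏ j ∈ T.image J, (p * j)) ∣ p ^ m * m.factorial := by
    have h4 : ∏ j ∈ Finset.Ico 1 (m + 1), (p * j) = p ^ m * m.factorial := by
      rw [Finset.prod_mul_distrib, Finset.prod_const, Nat.card_Ico, Finset.prod_Ico_id_eq_factorial]
      simp
    rw [← h4]
    exact Finset.prod_dvd_prod_of_subset _ _ _ hsub
  have hdvd3 : p ^ a ∣ p ^ m * m.factorial := by
    rw [hprod] at hdvd
    have : p ^ a ∣ ∏ j ∈ T.image J, (p * j) := by exact_mod_cast hdvd
    exact this.trans hdvd2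
  have hne : p ^ m * m.factorial ≠ 0 :=
    Nat.mul_ne_zero (pow_pos hp.out.pos m).ne' (Nat.factorial_ne_zero m)
  have hle : a ≤ padicValNat p (p ^ m * m.factorial) :=
    (padicValNat_dvd_iff_le hne).mp hdvd3
  have hlog : Nat.log p m < n + 1 := by
    have hmn : m ≤ n := Nat.div_le_self n (p - 1)
    apply Nat.log_lt_of_lt_pow' (Nat.succ_ne_zero n)
    · calc m < n + 1 := by omega
        _ < 2 ^ (n + 1) := Nat.lt_two_pow_self
        _ ≤ p ^ (n + 1) := Nat.pow_le_pow_left hp2 _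
  rw [padicValNat.mul (pow_pos hp.out.pos m).ne' (Nat.factorial_ne_zero m), padicValNat.prime_pow,
    padicValNat_factorial hlog] at hle
  have htarget : ∑ i ∈ Finset.range (n + 1), n / ((p - 1) * p ^ i) =
      m + ∑ i ∈ Finset.Ico 1 (n + 1), m / p ^ i := by
    have h5 : ∀ i, n / ((p - 1) * p ^ i) = m / p ^ i := by
      intro i
      rw [hm, Nat.div_div_eq_div_mul]
    simp only [h5]
    rw [Finset.range_eq_Ico, Finset.sum_eq_sum_Ico_succ_bot (Nat.succ_pos n)]
    simp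
  rw [htarget]
  exact hle

end Cfsg.Agent.Lib.helper2
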