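import Mathlib
import Cfsg.Agent.Lib.Helper10.RES.Defs

/-!
# Project RES : piece H1 (`F1Set.facts`)
-/

set_option autoImplicit false
set_option linter.unusedVariables false
set_option linter.unusedSectionVars false

namespace Cfsg.Agent.Lib.Helper10.RES

variable {Ω : Type*} [Group Ω]

section aux

variable {x y z : Ω}

/-- the elements `x^i y^j c`, `c ∈ ⟨z⟩` -/
def resh1_X (x y z : Ω) : Set Ω :=
  {g | ∃ i j : ℕ, ∃ c ∈ Subgroup.zpowers z, g = x ^ i * y ^ j * c}

theorem resh1_conj (hxz : Commute x z) (m : ℕ) (hxy : x⁻¹ * y * x = y * z ^ m) (i : ℕ) :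
    y * x ^ i = x ^ i * y * (z ^ m) ^ i := by
  induction i with
  | zero => simp
  | succ i ih =>
    have hc : Commute x ((z ^ m) ^ i) := (hxz.pow_right m).pow_right i
    have e : y * x = x * (y * z ^ m) := by rw [← hxy]; group
    calc y * x ^ (i + 1) = (y * x ^ i) * x := by rw [pow_succ]; group
      _ = x ^ i * y * (z ^ m) ^ i * x := by rw [ih]
      _ = x ^ i * y * (x * (z ^ m) ^ i) := by rw [hc.eq]; group
      _ = x ^ i * (y * x) * (z ^ m) ^ i := by group
      _ = x ^ i * (x * (y * z ^ m)) * (z ^ m) ^ i := by rw [e]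
      _ = x ^ (i + 1) * y * (z ^ m) ^ (i + 1) := by rw [pow_succ, pow_succ']; group

theorem resh1_conj2 (hxz : Commute x z) (hyz : Commute y z) (m : ℕ)
    (hxy : x⁻¹ * y * x = y * z ^ m) (i j : ℕ) :
    y ^ j * x ^ i = x ^ i * y ^ j * (z ^ m) ^ (i * j) := by
  induction j with
  | zero => simp
  | succ j ih =>
    have hc : Commute y ((z ^ m) ^ (i * j)) := (hyz.pow_right m).pow_right _
    have hc2 : Commute (y ^ j) ((z ^ m) ^ i) := ((hyz.pow_right m).pow_right i).pow_left j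
    calc y ^ (j + 1) * x ^ i = y * (y ^ j * x ^ i) := by rw [pow_succ']; group
      _ = y * (x ^ i * y ^ j * (z ^ m) ^ (i * j)) := by rw [ih]
      _ = (y * x ^ i) * y ^ j * (z ^ m) ^ (i * j) := by group
      _ = (x ^ i * y * (z ^ m) ^ i) * y ^ j * (z ^ m) ^ (i * j) := by
          rw [resh1_conj hxz m hxy i]
      _ = x ^ i * y * ((z ^ m) ^ i * y ^ j) * (z ^ m) ^ (i * j) := by group
      _ = x ^ i * y * (y ^ j * (z ^ m) ^ i) * (z ^ m) ^ (i * j) := by rw [hc2.eq]
      _ = x ^ i * (y * y ^ j) * ((z ^ m) ^ i * (z ^ m) ^ (i * j)) := by group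
      _ = x ^ i * y ^ (j + 1) * (z ^ m) ^ (i * (j + 1)) := by
          rw [← pow_succ', ← pow_add, mul_add, mul_one, add_comm (i * j) i]

theorem resh1_mulx {g : Ω} (hg : g ∈ resh1_X x y z) : x * g ∈ resh1_X x y z := by
  obtain ⟨i, j, c, hc, rfl⟩ := hg
  refine ⟨i + 1, j, c, hc, ?_⟩
  rw [pow_succ']
  group

theorem resh1_muly (hxz : Commute x z) (hyz : Commute y z) (m : ℕ)
    (hxy : x⁻¹ * y * x = y * z ^ m) {g : Ω} (hg : g ∈ resh1_X x y z) :
    y * g ∈ resh1_X x y z := by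
  obtain ⟨i, j, c, hc, rfl⟩ := hg
  refine ⟨i, j + 1, (z ^ m) ^ i * c, ?_, ?_⟩
  · exact Subgroup.mul_mem _ (Subgroup.pow_mem _ (Subgroup.pow_mem _ (Subgroup.mem_zpowers z) _) _) hc
  · have hc2 : Commute (y ^ j) ((z ^ m) ^ i) := ((hyz.pow_right m).pow_right i).pow_left j
    calc y * (x ^ i * y ^ j * c) = (y * x ^ i) * y ^ j * c := by group
      _ = (x ^ i * y * (z ^ m) ^ i) * y ^ j * c := by rw [resh1_conj hxz m hxy i]
      _ = x ^ i * y * ((z ^ m) ^ i * y ^ j) * c := by group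
      _ = x ^ i * y * (y ^ j * (z ^ m) ^ i) * c := by rw [hc2.eq]
      _ = x ^ i * y ^ (j + 1) * ((z ^ m) ^ i * c) := by rw [pow_succ']; group

theorem resh1_mulz (hxz : Commute x z) (hyz : Commute y z) {g : Ω}
    (hg : g ∈ resh1_X x y z) : z * g ∈ resh1_X x y z := by
  obtain ⟨i, j, c, hc, rfl⟩ := hg
  refine ⟨i, j, z * c, Subgroup.mul_mem _ (Subgroup.mem_zpowers z) hc, ?_⟩
  have h1 : Commute z (x ^ i * y ^ j) := (hxz.symm.pow_right i).mul_right (hyz.symm.pow_right j)
  calc z * (x ^ i * y ^ j * c) = (z * (x ^ i * y ^ j)) * c := by group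
    _ = (x ^ i * y ^ j * z) * c := by rw [h1.eq]
    _ = x ^ i * y ^ j * (z * c) := by group

theorem resh1_mulpow {a : Ω} (h : ∀ g ∈ resh1_X x y z, a * g ∈ resh1_X x y z) (m : ℕ) :
    ∀ g ∈ resh1_X x y z, a ^ m * g ∈ resh1_X x y z := by
  induction m with
  | zero => intro g hg; simpa using hg
  | succ m ih =>
    intro g hg
    rw [pow_succ', mul_assoc]
    exact h _ (ih g hg)

theorem resh1_mulinv {a : Ω} {N : ℕ} (hN : 0 < N) (ha : a ^ N = 1)
    (h : ∀ g ∈ resh1_X x y z, a * g ∈ resh1_X x y z) :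
    ∀ g ∈ resh1_X x y z, a⁻¹ * g ∈ resh1_X x y z := by
  have h1 : a⁻¹ = a ^ (N - 1) := by
    apply inv_eq_of_mul_eq_one_right
    rw [← pow_succ', Nat.sub_add_cancel hN, ha]
  rw [h1]
  exact resh1_mulpow h _

end aux

section H
variable {p n : ℕ} [Fact p.Prime] {S : Subgroup Ω} {x y z : Ω}

theorem resh1_mems (hF : F1Set p n S x y z) : x ∈ S ∧ y ∈ S ∧ z ∈ S := by
  rw [← hF.gen]
  refine ⟨Subgroup.subset_closure ?_, Subgroup.subset_closure ?_, Subgroup.subset_closure ?_⟩ <;>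
    simp

/-- normal form in the family F1 -/
theorem resh1_repr (hF : F1Set p n S x y z) : ∀ g ∈ S, g ∈ resh1_X x y z := by
  have hp : 0 < p := (Fact.out : p.Prime).pos
  have hxz : Commute x z := hF.xz
  have hyz : Commute y z := hF.yz
  have hX := fun g (hg : g ∈ resh1_X x y z) => resh1_mulx (x := x) (y := y) (z := z) hg
  have hY := fun g (hg : g ∈ resh1_X x y z) => resh1_muly hxz hyz _ hF.xy hg
  have hZ := fun g (hg : g ∈ resh1_X x y z) => resh1_mulz hxz hyz hg
  have hX' := resh1_mulinv hp hF.xp hX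
  have hY' := resh1_mulinv hp hF.yp hY
  have hZ' := resh1_mulinv (pow_pos hp _) hF.zp hZ
  intro g hg
  rw [← hF.gen] at hg
  induction hg using Subgroup.closure_induction_left with
  | one => exact ⟨0, 0, 1, Subgroup.one_mem _, by simp⟩
  | mul_left a ha b hb ih =>
    rcases ha with rfl | rfl | rfl
    · exact hX _ ih
    · exact hY _ ih
    · exact hZ _ ih
  | inv_mul_cancel a ha b hb ih =>
    rcases ha with rfl | rfl | rfl
    · exact hX' _ ih
    · exact hY' _ ih
    · exact hZ' _ ih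

theorem resh1_central (hF : F1Set p n S x y z) : ∀ g ∈ S, g * z = z * g := by
  intro g hg
  obtain ⟨i, j, c, hc, rfl⟩ := resh1_repr hF g hg
  have hxz : Commute x z := hF.xz
  have hyz : Commute y z := hF.yz
  obtain ⟨k, rfl⟩ := Subgroup.mem_zpowers_iff.mp hc
  have h1 : Commute (x ^ i * y ^ j * z ^ k) z :=
    ((hxz.pow_left i).mul_left (hyz.pow_left j)).mul_left ((Commute.refl z).zpow_left k)
  exact h1.eq

theorem resh1_card_le (hF : F1Set p n S x y z) : p ^ n ≤ p * (p * orderOf z) := by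
  classical
  have hp : 0 < p := (Fact.out : p.Prime).pos
  obtain ⟨hx, hy, hz⟩ := resh1_mems hF
  have hfinS : Finite S := by
    apply Nat.finite_of_card_ne_zero
    rw [hF.card]
    exact (pow_pos hp n).ne'
  have hzS : Subgroup.zpowers z ≤ S := (Subgroup.zpowers_le).mpr hz
  haveI : Finite (Subgroup.zpowers z) :=
    Finite.of_injective _ (Subgroup.inclusion_injective hzS)
  set f : Fin p × Fin p × Subgroup.zpowers z → S := fun t =>
    ⟨x ^ (t.1 : ℕ) * y ^ (t.2.1 : ℕ) * (t.2.2 : Ω),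
      S.mul_mem (S.mul_mem (S.pow_mem hx _) (S.pow_mem hy _)) (hzS t.2.2.2)⟩ with hf
  have hsurj : Function.Surjective f := by
    intro g
    obtain ⟨i, j, c, hc, hg⟩ := resh1_repr hF g.1 g.2
    refine ⟨(⟨i % p, Nat.mod_lt _ hp⟩, ⟨j % p, Nat.mod_lt _ hp⟩, ⟨c, hc⟩), ?_⟩
    apply Subtype.ext
    simp only [hf]
    rw [hg, ← pow_eq_pow_mod i hF.xp, ← pow_eq_pow_mod j hF.yp]
  have h1 := Nat.card_le_card_of_surjective f hsurj
  rw [hF.card, Nat.card_prod, Nat.card_prod, Nat.card_fin, Nat.card_zpowers] at h1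
  exact h1

theorem resh1_order (hF : F1Set p n S x y z) : orderOf z = p ^ (n - 2) := by
  have hpp : p.Prime := Fact.out
  have h1 : orderOf z ∣ p ^ (n - 2) := orderOf_dvd_of_pow_eq_one hF.zp
  obtain ⟨m, hm, hmz⟩ := (Nat.dvd_prime_pow hpp).mp h1
  have h2 := resh1_card_le hF
  rw [hmz, ← pow_succ', ← pow_succ'] at h2
  have h3 : n ≤ m + 1 + 1 := (Nat.pow_le_pow_iff_right hpp.one_lt).mp h2
  have h4 := hF.hn3
  have h5 : m = n - 2 := by omega
  rw [hmz, h5]

/-- **H1**. `z` is central and of order `p^(n-2)`; a proper subgroup containing `z` is abelian. -/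
theorem F1Set.facts (hF : F1Set p n S x y z) :
    z ∈ S ∧ (∀ g ∈ S, g * z = z * g) ∧ orderOf z = p ^ (n - 2) ∧
      ∀ E : Subgroup Ω, E ≤ S → E ≠ S → z ∈ E → ∀ a ∈ E, ∀ b ∈ E, a * b = b * a := by
  classical
  have hpp : p.Prime := Fact.out
  have hp : 0 < p := hpp.pos
  obtain ⟨hx, hy, hz⟩ := resh1_mems hF
  refine ⟨hz, resh1_central hF, resh1_order hF, ?_⟩
  intro E hES hne hzE a ha b hb
  set Zc : Subgroup Ω := Subgroup.zpowers z with hZc
  have hZE : Zc ≤ E := (Subgroup.zpowers_le).mpr hzE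
  have hZS : Zc ≤ S := hZE.trans hES
  have hfinS : Finite S := by
    apply Nat.finite_of_card_ne_zero
    rw [hF.card]
    exact (pow_pos hp n).ne'
  -- the relative indices
  have h1 : Zc.relIndex E * E.relIndex S = Zc.relIndex S :=
    Subgroup.relIndex_mul_relIndex Zc E S hZE hES
  have h2 : Zc.relIndex S = p ^ 2 := by
    have h3 := Subgroup.card_mul_index (Zc.subgroupOf S)
    rw [Nat.card_congr (Subgroup.subgroupOfEquivOfLe hZS).toEquiv, hF.card, hZc,
      Nat.card_zpowers, resh1_order hF] at h3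
    have h4 : p ^ n = p ^ (n - 2) * p ^ 2 := by
      rw [← pow_add]
      congr 1
      have := hF.hn3
      omega
    rw [h4] at h3
    exact Nat.eq_of_mul_eq_mul_left (pow_pos hp _) h3
  have h5 : E.relIndex S ≠ 1 := by
    intro h
    exact hne (le_antisymm hES (Subgroup.relIndex_eq_one.mp h))
  have h6 : Zc.relIndex E = 1 ∨ Zc.relIndex E = p := by
    have hd : Zc.relIndex E ∣ p ^ 2 := by
      rw [← h2, ← h1]
      exact dvd_mul_right _ _
    obtain ⟨k, hk, hk2⟩ := (Nat.dvd_prime_pow hpp).mp hd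
    interval_cases k
    · left; simpa using hk2
    · right; simpa using hk2
    · exfalso
      rw [hk2, h2] at h1
      apply h5
      have h7 : p ^ 2 * E.relIndex S = p ^ 2 * 1 := by rw [h1, mul_one]
      exact Nat.eq_of_mul_eq_mul_left (pow_pos hp _) h7
  -- the quotient of `E` by `⟨z⟩` is cyclic
  set N : Subgroup E := Zc.subgroupOf E with hN
  have hNc : N ≤ Subgroup.center E := by
    intro c hc
    rw [Subgroup.mem_center_iff]
    intro g
    apply Subtype.ext
    rw [Subgroup.coe_mul, Subgroup.coe_mul]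
    have hc' : (c : Ω) ∈ Zc := Subgroup.mem_subgroupOf.mp hc
    obtain ⟨k, hk⟩ := Subgroup.mem_zpowers_iff.mp hc'
    rw [← hk]
    have h7 : Commute (g : Ω) z := resh1_central hF g.1 (hES g.2)
    exact (h7.zpow_right k).eq
  haveI : N.Normal := by
    constructor
    intro c hc g
    have h7 := (Subgroup.mem_center_iff.mp (hNc hc)) g
    rw [h7, mul_inv_cancel_right]
    exact hc
  have hcard : Nat.card (E ⧸ N) = Zc.relIndex E := (Subgroup.index_eq_card N).symm
  haveI : IsCyclic (E ⧸ N) := by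
    rcases h6 with h6 | h6
    · rw [h6] at hcard
      haveI : Subsingleton (E ⧸ N) := (Nat.card_eq_one_iff_unique.mp hcard).1
      exact isCyclic_of_subsingleton
    · rw [h6] at hcard
      exact isCyclic_of_prime_card hcard
  have h8 := (MonoidHom.isMulCommutative_of_isCyclic_of_ker_le_center (QuotientGroup.mk' N)
    (by rw [QuotientGroup.ker_mk']; exact hNc)).is_comm.comm (⟨a, ha⟩ : E) ⟨b, hb⟩
  exact congrArg Subtype.val h8

end H

end Cfsg.Agent.Lib.Helper10.RES
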