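import Mathlib
import Cfsg.Agent.Lib.Helper10.RES.Defs
import Cfsg.Agent.Lib.Helper11.ClassTwoPow
import Cfsg.Agent.Lib.helper2.RESH1

/-!
# Project RES : piece H2 (`F1Set.exponent`)
-/

set_option autoImplicit false
set_option linter.unusedVariables false
set_option linter.unusedSectionVars false

namespace Cfsg.Agent.Lib.Helper10.RES

open scoped commutatorElement

variable {Ω : Type*} [Group Ω]

section H
variable {p n : ℕ} [Fact p.Prime] {S : Subgroup Ω} {x y z : Ω}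

theorem resh2_pow (hF : F1Set p n S x y z) (hp2 : p ≠ 2) (hn : n = 3) :
    ∀ g ∈ S, g ^ p = 1 := by
  have hpp : p.Prime := Fact.out
  have hxz : Commute x z := hF.xz
  have hyz : Commute y z := hF.yz
  have hzp : z ^ p = 1 := by
    have := hF.zp
    rw [hn] at this
    simpa using this
  intro g hg
  obtain ⟨i, j, c, hc, rfl⟩ := resh1_repr hF g hg
  obtain ⟨k, rfl⟩ := Subgroup.mem_zpowers_iff.mp hc
  set m := p ^ (n - 3) with hm
  have h1 := resh1_conj2 hxz hyz m hF.xy i j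
  have hcomm : ⁅y ^ j, x ^ i⁆ = (z ^ m) ^ (i * j) := by
    rw [commutatorElement_def, h1]
    have hc1 : Commute (y ^ j) ((z ^ m) ^ (i * j)) :=
      ((hyz.pow_right m).pow_right _).pow_left j
    have hc2 : Commute (x ^ i) ((z ^ m) ^ (i * j)) :=
      ((hxz.pow_right m).pow_right _).pow_left i
    calc x ^ i * y ^ j * (z ^ m) ^ (i * j) * (y ^ j)⁻¹ * (x ^ i)⁻¹
        = x ^ i * (y ^ j * (z ^ m) ^ (i * j)) * (y ^ j)⁻¹ * (x ^ i)⁻¹ := by group
      _ = x ^ i * ((z ^ m) ^ (i * j) * y ^ j) * (y ^ j)⁻¹ * (x ^ i)⁻¹ := by rw [hc1.eq]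
      _ = (x ^ i * (z ^ m) ^ (i * j)) * (x ^ i)⁻¹ := by group
      _ = ((z ^ m) ^ (i * j) * x ^ i) * (x ^ i)⁻¹ := by rw [hc2.eq]
      _ = (z ^ m) ^ (i * j) := by group
  have hcx : ⁅y ^ j, x ^ i⁆ * x ^ i = x ^ i * ⁅y ^ j, x ^ i⁆ := by
    rw [hcomm]
    exact (((hxz.pow_right m).pow_right _).pow_left i).eq.symm
  have hcy : ⁅y ^ j, x ^ i⁆ * y ^ j = y ^ j * ⁅y ^ j, x ^ i⁆ := by
    rw [hcomm]
    exact (((hyz.pow_right m).pow_right _).pow_left j).eq.symm
  have hxi : (x ^ i) ^ p = 1 := by rw [← pow_mul, mul_comm, pow_mul, hF.xp, one_pow]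
  have hyj : (y ^ j) ^ p = 1 := by rw [← pow_mul, mul_comm, pow_mul, hF.yp, one_pow]
  have h2 := Cfsg.Agent.Lib.Helper11.mul_pow_prime_eq_one p hpp hp2 (x ^ i) (y ^ j) hcx hcy hxi hyj
  have hc3 : Commute (x ^ i * y ^ j) (z ^ k) :=
    ((hxz.pow_left i).mul_left (hyz.pow_left j)).zpow_right k
  rw [hc3.mul_pow, h2, one_mul, ← zpow_natCast, ← zpow_mul, mul_comm, zpow_mul, zpow_natCast, hzp,
    one_zpow]

/-- **H2**. for `n = 3` the group has exponent `p`. -/
theorem F1Set.exponent (hF : F1Set p n S x y z) (hp2 : p ≠ 2) (hn : n = 3) :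
    Monoid.exponent ↥S = p := by
  have hpp : p.Prime := Fact.out
  have h1 : Monoid.exponent ↥S ∣ p := by
    apply Monoid.exponent_dvd_of_forall_pow_eq_one
    intro g
    apply Subtype.ext
    rw [Subgroup.coe_pow, Subgroup.coe_one]
    exact resh2_pow hF hp2 hn g.1 g.2
  rcases (Nat.dvd_prime hpp).mp h1 with h | h
  · exfalso
    rw [Monoid.exp_eq_one_iff] at h
    have h2 : Nat.card S = 1 := Nat.card_eq_one_iff_unique.mpr ⟨h, ⟨1⟩⟩
    rw [hF.card] at h2
    have h3 : 1 < p ^ n := Nat.one_lt_pow (by omega) hpp.one_lt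
    omega
  · exact h

end H

end Cfsg.Agent.Lib.Helper10.RES
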