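import Mathlib
import Cfsg.Agent.Lib.helper17.SLP.Defs

/-!
# Project SLP, row M1 (helper2): 2×2 matrix identities for `xM`, `hM`, `wM`.
-/

set_option autoImplicit false

namespace Cfsg.Agent.Lib.helper17.SLP

open Polynomial

universe u v

section M

variable {F : Type u} [Field F]

theorem slpm1_coe_xM (t : F) : (xM t : Matrix (Fin 2) (Fin 2) F) = !![1, t; 0, 1] := rfl

theorem slpm1_coe_hM (s : Fˣ) :
    (hM s : Matrix (Fin 2) (Fin 2) F) = !![(s : F), 0; 0, ((s⁻¹ : Fˣ) : F)] := rfl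

theorem slpm1_coe_wM : ((wM : Matrix.SpecialLinearGroup (Fin 2) F) : Matrix (Fin 2) (Fin 2) F) =
    !![0, 1; -1, 0] := rfl

theorem xM_mul (s t : F) : xM s * xM t = xM (s + t) := by
  apply Subtype.ext
  rw [Matrix.SpecialLinearGroup.coe_mul, slpm1_coe_xM, slpm1_coe_xM, slpm1_coe_xM,
    Matrix.mul_fin_two]
  simp [add_comm]

theorem xM_zero : xM (0 : F) = 1 := by
  apply Subtype.ext
  rw [slpm1_coe_xM, Matrix.SpecialLinearGroup.coe_one]
  exact Matrix.one_fin_two.symm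

theorem xM_pow (t : F) (n : ℕ) : xM t ^ n = xM ((n : F) * t) := by
  induction n with
  | zero => simp [xM_zero]
  | succ n ih =>
    rw [pow_succ, ih, xM_mul]
    congr 1
    push_cast
    ring

theorem hM_mul (s t : Fˣ) : hM s * hM t = hM (s * t) := by
  apply Subtype.ext
  rw [Matrix.SpecialLinearGroup.coe_mul, slpm1_coe_hM, slpm1_coe_hM, slpm1_coe_hM,
    Matrix.mul_fin_two]
  simp [mul_comm]

theorem slpm1_hM_one : hM (1 : Fˣ) = 1 := by
  apply Subtype.ext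
  rw [slpm1_coe_hM, Matrix.SpecialLinearGroup.coe_one]
  simp [Matrix.one_fin_two]

theorem slpm1_hM_inv (s : Fˣ) : (hM s)⁻¹ = hM s⁻¹ := by
  rw [inv_eq_iff_mul_eq_one, hM_mul, mul_inv_cancel, slpm1_hM_one]

theorem hM_conj (s : Fˣ) (t : F) : hM s * xM t * (hM s)⁻¹ = xM ((s : F) ^ 2 * t) := by
  rw [slpm1_hM_inv]
  apply Subtype.ext
  rw [Matrix.SpecialLinearGroup.coe_mul, Matrix.SpecialLinearGroup.coe_mul, slpm1_coe_hM,
    slpm1_coe_hM, slpm1_coe_xM, slpm1_coe_xM, Matrix.mul_fin_two, Matrix.mul_fin_two]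
  have hs : (s : F) ≠ 0 := s.ne_zero
  simp only [inv_inv, mul_zero, add_zero, mul_one, zero_mul, zero_add, Units.val_inv_eq_inv_val]
  congr 1
  congr 1
  · field_simp
  · congr 1
    field_simp

theorem slpm1_hM_pow (s : Fˣ) (n : ℕ) : hM s ^ n = hM (s ^ n) := by
  induction n with
  | zero => simp [slpm1_hM_one]
  | succ n ih => rw [pow_succ, ih, hM_mul, pow_succ]

theorem slpm1_hM_zpow (s : Fˣ) (i : ℤ) : hM s ^ i = hM (s ^ i) := by
  cases i with
  | ofNat n => simp [slpm1_hM_pow]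
  | negSucc n => simp only [zpow_negSucc, slpm1_hM_pow, slpm1_hM_inv]

theorem cj_M (s : Fˣ) (t : F) (i : ℤ) : cj (hM s) (xM t) i = xM (((s : F) ^ 2) ^ i * t) := by
  unfold cj
  rw [zpow_neg, slpm1_hM_zpow, hM_conj]
  congr 2
  rw [Units.val_zpow_eq_zpow_val, ← zpow_natCast, ← zpow_natCast, ← zpow_mul, ← zpow_mul, mul_comm]

theorem wM_hM (s : Fˣ) : wM * hM s * wM⁻¹ = (hM s)⁻¹ := by
  rw [slpm1_hM_inv, mul_inv_eq_iff_eq_mul]
  apply Subtype.ext
  rw [Matrix.SpecialLinearGroup.coe_mul, Matrix.SpecialLinearGroup.coe_mul, slpm1_coe_hM,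
    slpm1_coe_hM, slpm1_coe_wM, Matrix.mul_fin_two, Matrix.mul_fin_two]
  simp

theorem wM_sq : (wM : Matrix.SpecialLinearGroup (Fin 2) F) ^ 2 = hM (-1) := by
  rw [pow_two]
  apply Subtype.ext
  rw [Matrix.SpecialLinearGroup.coe_mul, slpm1_coe_hM, slpm1_coe_wM, Matrix.mul_fin_two]
  simp

theorem hM_neg_one_mem_center : (hM (-1) : Matrix.SpecialLinearGroup (Fin 2) F) ∈
    Subgroup.center (Matrix.SpecialLinearGroup (Fin 2) F) := by
  rw [Subgroup.mem_center_iff]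
  intro g
  apply Subtype.ext
  rw [Matrix.SpecialLinearGroup.coe_mul, Matrix.SpecialLinearGroup.coe_mul, slpm1_coe_hM]
  ext i j
  fin_cases i <;> fin_cases j <;> simp [Matrix.mul_apply, Fin.sum_univ_two]

end M

end Cfsg.Agent.Lib.helper17.SLP
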