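import Mathlib
import Cfsg.Agent.Lib.helper7.SPC.Defs

set_option autoImplicit false
set_option linter.unusedVariables false
set_option linter.unusedSectionVars false

/-!
# Project SPC (S2676), row G2 (helper2): `blkH_good`, verbatim from `helper7/SPC/Skel.lean.txt`.
-/

namespace Cfsg.Agent.Lib.helper7.SPC

universe u

open Module Matrix

variable {F : Type u} [Field F]

theorem spcg2_shift_apply (k : ℕ) (i j : Fin k) :
    shiftM k F i j = if i.val = j.val + 1 then 1 else 0 := rfl

theorem spcg2_gram_apply (k : ℕ) (c : F) (a b : Fin k) :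
    gramA k c a b = if a.val + b.val + 1 = k then (-1) ^ a.val * c else 0 := rfl

/-- powers of the shift matrix -/
theorem spcg2_shift_pow (k j : ℕ) (i l : Fin k) :
    (shiftM k F ^ j) i l = if i.val = l.val + j then 1 else 0 := by
  induction j generalizing i l with
  | zero =>
    rw [pow_zero, Matrix.one_apply, Nat.add_zero]
    simp only [Fin.ext_iff]
  | succ j ih =>
    rw [pow_succ, Matrix.mul_apply]
    by_cases h : l.val + 1 < k
    · rw [Finset.sum_eq_single (⟨l.val + 1, h⟩ : Fin k)]
      · rw [ih, spcg2_shift_apply, if_pos rfl, mul_one]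
        have e : (i.val = (⟨l.val + 1, h⟩ : Fin k).val + j) ↔ (i.val = l.val + (j + 1)) := by
          show i.val = l.val + 1 + j ↔ _
          omega
        simp only [e]
      · intro c _ hc
        have hne : ¬ c.val = l.val + 1 := fun e => hc (Fin.ext e)
        rw [spcg2_shift_apply, if_neg hne, mul_zero]
      · intro h'
        exact absurd (Finset.mem_univ _) h'
    · rw [Finset.sum_eq_zero, if_neg]
      · have := i.2
        omega
      · intro c _
        have hne : ¬ c.val = l.val + 1 := by
          have := c.2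
          omega
        rw [spcg2_shift_apply, if_neg hne, mul_zero]

/-- the shift matrix is nilpotent -/
theorem spcg2_shift_nil (k : ℕ) : shiftM k F ^ k = 0 := by
  ext i l
  rw [spcg2_shift_pow, if_neg, Matrix.zero_apply]
  have := i.2
  omega

/-- the entrywise skewness of the shift for the anti-diagonal Gram matrix -/
theorem spcg2_shift_gram (k : ℕ) :
    (shiftM k F)ᵀ * gramA k (1 : F) = -(gramA k (1 : F) * shiftM k F) := by
  ext a b
  rw [Matrix.mul_apply, Matrix.neg_apply, Matrix.mul_apply]
  simp only [Matrix.transpose_apply, spcg2_shift_apply, spcg2_gram_apply, mul_one]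
  by_cases h : a.val + b.val + 2 = k
  · have ha : a.val + 1 < k := by omega
    have hb : b.val + 1 < k := by omega
    rw [Finset.sum_eq_single (⟨a.val + 1, ha⟩ : Fin k), Finset.sum_eq_single (⟨b.val + 1, hb⟩ : Fin k)]
    · have e1 : (⟨a.val + 1, ha⟩ : Fin k).val + b.val + 1 = k := by
        show a.val + 1 + b.val + 1 = k
        omega
      have e2 : a.val + (⟨b.val + 1, hb⟩ : Fin k).val + 1 = k := by
        show a.val + (b.val + 1) + 1 = k
        omega
      rw [if_pos rfl, if_pos e1, if_pos e2, if_pos rfl, one_mul, mul_one]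
      show (-1 : F) ^ (a.val + 1) = _
      rw [pow_succ]
      ring
    · intro c _ hc
      have hne : ¬ c.val = b.val + 1 := fun e => hc (Fin.ext e)
      rw [if_neg hne, mul_zero]
    · intro h'
      exact absurd (Finset.mem_univ _) h'
    · intro c _ hc
      have hne : ¬ c.val = a.val + 1 := fun e => hc (Fin.ext e)
      rw [if_neg hne, zero_mul]
    · intro h'
      exact absurd (Finset.mem_univ _) h'
  · rw [Finset.sum_eq_zero, Finset.sum_eq_zero, neg_zero]
    · intro c _
      by_cases h1 : c.val = b.val + 1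
      · by_cases h2 : a.val + c.val + 1 = k
        · exfalso
          omega
        · rw [if_neg h2, zero_mul]
      · rw [if_neg h1, mul_zero]
    · intro c _
      by_cases h1 : c.val = a.val + 1
      · by_cases h2 : c.val + b.val + 1 = k
        · exfalso
          omega
        · rw [if_neg h2, mul_zero]
      · rw [if_neg h1, zero_mul]

/-- the Gram matrix of `blkH` is antisymmetric -/
theorem spcg2_gramH_transpose (k : ℕ) : (gramH k F)ᵀ = -gramH k F := by
  unfold gramH
  rw [Matrix.fromBlocks_transpose, Matrix.fromBlocks_neg]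
  simp

/-- the block form of the skewness -/
theorem spcg2_skew_matrix (k : ℕ) :
    (Matrix.fromBlocks (shiftM k F) 0 0 (shiftM k F))ᵀ * gramH k F =
      -(gramH k F * Matrix.fromBlocks (shiftM k F) 0 0 (shiftM k F)) := by
  have hE := spcg2_shift_gram (F := F) k
  have hE' := congrArg Matrix.transpose hE
  rw [Matrix.transpose_mul, Matrix.transpose_transpose, Matrix.transpose_neg, Matrix.transpose_mul] at hE'
  unfold gramH
  rw [Matrix.fromBlocks_transpose, Matrix.fromBlocks_multiply, Matrix.fromBlocks_multiply, Matrix.fromBlocks_neg]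
  simp only [Matrix.transpose_zero, Matrix.mul_zero, Matrix.zero_mul, add_zero, zero_add, neg_zero,
    Matrix.mul_neg, Matrix.neg_mul, neg_neg]
  rw [hE, hE']

/-- powers of a block diagonal matrix -/
theorem spcg2_block_pow (k j : ℕ) :
    (Matrix.fromBlocks (shiftM k F) 0 0 (shiftM k F)) ^ j =
      Matrix.fromBlocks (shiftM k F ^ j) 0 0 (shiftM k F ^ j) := by
  induction j with
  | zero =>
    rw [pow_zero, pow_zero, Matrix.fromBlocks_one]
  | succ j ih =>
    rw [pow_succ, ih, Matrix.fromBlocks_multiply, pow_succ]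
    simp

theorem spcg2_neg_one_pow_ne (a : ℕ) : ((-1 : F) ^ a) ≠ 0 := pow_ne_zero _ (neg_ne_zero.mpr one_ne_zero)

/-- alternating -/
theorem spcg2_alt (h2 : (2 : F) ≠ 0) (k : ℕ) (x : Fin k ⊕ Fin k → F) :
    Matrix.toLinearMap₂' F (gramH k F) x x = 0 := by
  rw [Matrix.toLinearMap₂'_apply']
  have h1 : x ⬝ᵥ (gramH k F *ᵥ x) = -(x ⬝ᵥ (gramH k F *ᵥ x)) := by
    conv_lhs => rw [Matrix.dotProduct_mulVec, ← Matrix.mulVec_transpose, spcg2_gramH_transpose,
      Matrix.neg_mulVec, neg_dotProduct, dotProduct_comm]
  have h3 : (2 : F) * (x ⬝ᵥ (gramH k F *ᵥ x)) = 0 := by linear_combination h1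
  rcases mul_eq_zero.mp h3 with h | h
  · exact absurd h h2
  · exact h

/-- nondegenerate -/
theorem spcg2_nd (k : ℕ) (x : Fin k ⊕ Fin k → F)
    (hx : ∀ y : Fin k ⊕ Fin k → F, Matrix.toLinearMap₂' F (gramH k F) x y = 0) : x = 0 := by
  have hx' : ∀ j : Fin k ⊕ Fin k, ∑ i, x i * gramH k F i j = 0 := by
    intro j
    have h1 := hx (Pi.single j 1)
    rw [Matrix.toLinearMap₂'_apply', Matrix.mulVec_single_one] at h1
    exact h1
  funext i
  rcases i with a | b
  · have hb : k - 1 - a.val < k := by
      have := a.2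
      omega
    have h1 := hx' (Sum.inr ⟨k - 1 - a.val, hb⟩)
    rw [Fintype.sum_sum_type] at h1
    simp only [gramH, Matrix.fromBlocks_apply₁₂, Matrix.fromBlocks_apply₂₂, Matrix.zero_apply, mul_zero,
      Finset.sum_const_zero, add_zero] at h1
    rw [Finset.sum_eq_single a] at h1
    · rw [spcg2_gram_apply, if_pos (by
        show a.val + (k - 1 - a.val) + 1 = k
        have := a.2
        omega), mul_one] at h1
      rcases mul_eq_zero.mp h1 with h | h
      · exact h
      · exact absurd h (spcg2_neg_one_pow_ne _)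
    · intro c _ hc
      rw [spcg2_gram_apply, if_neg, mul_zero]
      intro e
      apply hc
      apply Fin.ext
      have e' : c.val + (k - 1 - a.val) + 1 = k := e
      have := a.2
      omega
    · intro h'
      exact absurd (Finset.mem_univ _) h'
  · have ha : k - 1 - b.val < k := by
      have := b.2
      omega
    have h1 := hx' (Sum.inl ⟨k - 1 - b.val, ha⟩)
    rw [Fintype.sum_sum_type] at h1
    simp only [gramH, Matrix.fromBlocks_apply₁₁, Matrix.fromBlocks_apply₂₁, Matrix.zero_apply, mul_zero,
      Finset.sum_const_zero, zero_add, Matrix.neg_apply, Matrix.transpose_apply] at h1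
    rw [Finset.sum_eq_single b] at h1
    · rw [spcg2_gram_apply, if_pos (by
        show (k - 1 - b.val) + b.val + 1 = k
        have := b.2
        omega), mul_one] at h1
      rcases mul_eq_zero.mp h1 with h | h
      · exact h
      · exact absurd (neg_eq_zero.mp h) (spcg2_neg_one_pow_ne _)
    · intro c _ hc
      rw [spcg2_gram_apply, if_neg, neg_zero, mul_zero]
      intro e
      apply hc
      apply Fin.ext
      have e' : (k - 1 - b.val) + c.val + 1 = k := e
      have := b.2
      omega
    · intro h'
      exact absurd (Finset.mem_univ _) h'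

/-- skew -/
theorem spcg2_skew (k : ℕ) (x y : Fin k ⊕ Fin k → F) :
    Matrix.toLinearMap₂' F (gramH k F)
        (Matrix.toLin' (Matrix.fromBlocks (shiftM k F) 0 0 (shiftM k F)) x) y =
      -Matrix.toLinearMap₂' F (gramH k F) x
        (Matrix.toLin' (Matrix.fromBlocks (shiftM k F) 0 0 (shiftM k F)) y) := by
  rw [Matrix.toLinearMap₂'_apply', Matrix.toLinearMap₂'_apply', Matrix.toLin'_apply, Matrix.toLin'_apply,
    ← Matrix.vecMul_transpose, ← Matrix.dotProduct_mulVec, Matrix.mulVec_mulVec, spcg2_skew_matrix,
    Matrix.neg_mulVec, dotProduct_neg, Matrix.mulVec_mulVec]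

/-- nilpotent -/
theorem spcg2_nil (k : ℕ) :
    (Matrix.toLin' (Matrix.fromBlocks (shiftM k F) 0 0 (shiftM k F))) ^ k = 0 := by
  rw [← Matrix.toLin'_pow, spcg2_block_pow, spcg2_shift_nil, Matrix.fromBlocks_zero, map_zero]

/-- G2 -/
theorem blkH_good (h2 : (2 : F) ≠ 0) (k : ℕ) : (blkH k F).Good :=
  ⟨spcg2_alt h2 k, spcg2_nd k, spcg2_skew k, ⟨k, spcg2_nil k⟩⟩

end Cfsg.Agent.Lib.helper7.SPC
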