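import Mathlib
import Cfsg.Prelude.Def_LieExceptional

set_option autoImplicit false
set_option linter.unusedSectionVars false

namespace Cfsg.Agent.Lib.helper2

open Finset

section
variable {G Ω : Type*} [Group G] [Fintype G] [DecidableEq G] [MulAction G Ω] [Fintype Ω]
  [DecidableEq Ω]

/-- number of fixed points of `g` on `Ω` -/
def fixCard (Ω : Type*) [MulAction G Ω] [Fintype Ω] [DecidableEq Ω] (g : G) : ℕ :=
  (Finset.univ.filter (fun c : Ω => g • c = c)).card

/-- order of the point stabilizer, as a filter card -/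
def stabCard (G : Type*) [Group G] [Fintype G] [MulAction G Ω] (c : Ω) : ℕ :=
  (Finset.univ.filter (fun g : G => g • c = c)).card

/-- order of the two-point stabilizer, as a filter card -/
def stab2Card (G : Type*) [Group G] [Fintype G] [MulAction G Ω] (c d : Ω) : ℕ :=
  (Finset.univ.filter (fun g : G => g • c = c ∧ g • d = d)).card

theorem fixCard_one : fixCard Ω (1 : G) = Fintype.card Ω := by
  unfold fixCard
  simp

theorem fixCard_conj (t g : G) : fixCard Ω (t * g * t⁻¹) = fixCard Ω g := by
  unfold fixCard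
  symm
  apply Finset.card_bij (fun c _ => t • c)
  · intro c hc
    simp only [mem_filter, mem_univ, true_and] at hc ⊢
    rw [mul_smul, mul_smul, inv_smul_smul, hc]
  · intro c _ d _ h
    exact smul_left_cancel t h
  · intro d hd
    simp only [mem_filter, mem_univ, true_and] at hd ⊢
    refine ⟨t⁻¹ • d, ?_, smul_inv_smul t d⟩
    rw [mul_smul, mul_smul] at hd
    have := congrArg (fun x => t⁻¹ • x) hd
    simpa using this

theorem sum_fixCard : ∑ g : G, fixCard Ω g = ∑ c : Ω, stabCard G c := by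
  unfold fixCard stabCard
  exact Finset.sum_card_bipartiteAbove_eq_sum_card_bipartiteBelow (s := Finset.univ)
    (t := Finset.univ) (fun (g : G) (c : Ω) => g • c = c)

theorem sum_fixCard_sq : ∑ g : G, fixCard Ω g ^ 2 =
    ∑ p : Ω × Ω, (Finset.univ.filter (fun g : G => g • p.1 = p.1 ∧ g • p.2 = p.2)).card := by
  have h1 : ∀ g : G, fixCard Ω g ^ 2 =
      (Finset.univ.filter (fun p : Ω × Ω => g • p.1 = p.1 ∧ g • p.2 = p.2)).card := by
    intro g
    unfold fixCard
    rw [sq, ← Finset.card_product]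
    congr 1
    ext p
    simp [Finset.mem_product]
  simp only [h1]
  exact Finset.sum_card_bipartiteAbove_eq_sum_card_bipartiteBelow (s := Finset.univ)
    (t := Finset.univ) (fun (g : G) (p : Ω × Ω) => g • p.1 = p.1 ∧ g • p.2 = p.2)

theorem stabCard_eq_of_smul (t : G) (a : Ω) : stabCard G (t • a) = stabCard G a := by
  unfold stabCard
  symm
  apply Finset.card_bij (fun g _ => t * g * t⁻¹)
  · intro g hg
    simp only [mem_filter, mem_univ, true_and] at hg ⊢
    rw [mul_smul, mul_smul, inv_smul_smul, hg]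
  · intro g _ h _ hgh
    simpa using hgh
  · intro g hg
    simp only [mem_filter, mem_univ, true_and] at hg ⊢
    refine ⟨t⁻¹ * g * t, ?_, by group⟩
    rw [mul_smul, mul_smul, hg, inv_smul_smul]

theorem stab2Card_eq_of_smul (t : G) (a b : Ω) :
    stab2Card G (t • a) (t • b) = stab2Card G a b := by
  unfold stab2Card
  symm
  apply Finset.card_bij (fun g _ => t * g * t⁻¹)
  · intro g hg
    simp only [mem_filter, mem_univ, true_and] at hg ⊢
    rw [mul_smul, mul_smul, inv_smul_smul, hg.1, mul_smul, mul_smul, inv_smul_smul, hg.2]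
    exact ⟨rfl, rfl⟩
  · intro g _ h _ hgh
    simpa using hgh
  · intro g hg
    simp only [mem_filter, mem_univ, true_and] at hg ⊢
    refine ⟨t⁻¹ * g * t, ?_, by group⟩
    rw [mul_smul, mul_smul, hg.1, inv_smul_smul, mul_smul, mul_smul, hg.2, inv_smul_smul]
    exact ⟨rfl, rfl⟩

theorem card_eq_mul_stabCard (htr : ∀ c d : Ω, ∃ g : G, g • c = d) (a : Ω) :
    Fintype.card G = Fintype.card Ω * stabCard G a := by
  rw [← Finset.card_univ (α := G),
    Finset.card_eq_sum_card_fiberwise (f := fun g : G => g • a) (t := Finset.univ)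
      (fun g _ => Finset.mem_univ _)]
  rw [Finset.sum_const_nat (m := stabCard G a), Finset.card_univ]
  intro d _
  obtain ⟨t, ht⟩ := htr a d
  unfold stabCard
  apply Finset.card_bij (fun g _ => t⁻¹ * g)
  · intro g hg
    simp only [mem_filter, mem_univ, true_and] at hg ⊢
    rw [mul_smul, hg, ← ht, inv_smul_smul]
  · intro g _ h _ hgh
    simpa using hgh
  · intro g hg
    simp only [mem_filter, mem_univ, true_and] at hg ⊢
    refine ⟨t * g, ?_, by group⟩
    rw [mul_smul, hg, ht]

theorem stabCard_eq_mul_stab2Card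
    (h2t : ∀ {a b c d : Ω}, a ≠ b → c ≠ d → ∃ g : G, g • a = c ∧ g • b = d) (a c : Ω)
    (hc : c ≠ a) :
    stabCard G a = (Fintype.card Ω - 1) * stab2Card G a c := by
  unfold stabCard stab2Card
  have hmaps : ∀ s ∈ (Finset.univ.filter (fun s : G => s • a = a)),
      (fun s : G => s • c) s ∈ (Finset.univ.erase a : Finset Ω) := by
    intro s hs
    simp only [mem_filter, mem_univ, true_and] at hs
    simp only [mem_erase, mem_univ, and_true]
    intro h
    apply hc
    have : s • c = s • a := by rw [h, hs]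
    exact smul_left_cancel s this
  rw [Finset.card_eq_sum_card_fiberwise hmaps]
  rw [Finset.sum_const_nat (m := (Finset.univ.filter (fun g : G => g • a = a ∧ g • c = c)).card),
    Finset.card_erase_of_mem (Finset.mem_univ a), Finset.card_univ]
  intro d hd
  have hd' : d ≠ a := Finset.ne_of_mem_erase hd
  obtain ⟨t, hta, htc⟩ := h2t (Ne.symm hc) (Ne.symm hd')
  apply Finset.card_bij (fun g _ => t⁻¹ * g)
  · intro s hs
    simp only [mem_filter, mem_univ, true_and] at hs ⊢
    have hta' : t⁻¹ • a = a := by rw [inv_smul_eq_iff, hta]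
    refine ⟨by rw [mul_smul, hs.1, hta'], ?_⟩
    rw [mul_smul, hs.2, inv_smul_eq_iff, htc]
  · intro g _ h _ hgh
    simpa using hgh
  · intro s hs
    simp only [mem_filter, mem_univ, true_and] at hs ⊢
    refine ⟨t * s, ⟨?_, ?_⟩, by group⟩
    · rw [mul_smul, hs.1, hta]
    · rw [mul_smul, hs.2, htc]

theorem two_trans_sums
    (h2t : ∀ {a b c d : Ω}, a ≠ b → c ≠ d → ∃ g : G, g • a = c ∧ g • b = d)
    (a b : Ω) (hab : a ≠ b) :
    Fintype.card G = Fintype.card Ω * ((Fintype.card Ω - 1) * stab2Card G a b) ∧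
    ∑ g : G, fixCard Ω g = Fintype.card G ∧
    ∑ g : G, fixCard Ω g ^ 2 = 2 * Fintype.card G := by
  have htr : ∀ c d : Ω, ∃ g : G, g • c = d := by
    intro c d
    by_cases hcd : c = d
    · exact ⟨1, by rw [one_smul, hcd]⟩
    · by_cases hca : c = a
      · have hda : d ≠ a := fun h => hcd (by rw [hca, h])
        obtain ⟨g, hg, -⟩ := h2t (a := c) (b := d) (c := d) (d := a) hcd hda
        exact ⟨g, hg⟩
      · by_cases hda : d = a
        · obtain ⟨g, hg, -⟩ := h2t (a := c) (b := a) (c := d) (d := c) hca (by rw [hda]; exact Ne.symm hca)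
          exact ⟨g, hg⟩
        · obtain ⟨g, hg, -⟩ := h2t (a := c) (b := a) (c := d) (d := a) hca hda
          exact ⟨g, hg⟩
  have hP : ∀ c : Ω, stabCard G c = stabCard G a := by
    intro c
    obtain ⟨t, ht⟩ := htr a c
    rw [← ht, stabCard_eq_of_smul]
  have hE : ∀ c d : Ω, c ≠ d → stab2Card G c d = stab2Card G a b := by
    intro c d hcd
    obtain ⟨t, hta, htb⟩ := h2t hab hcd
    rw [← hta, ← htb, stab2Card_eq_of_smul]
  have hPE : stabCard G a = (Fintype.card Ω - 1) * stab2Card G a b :=
    stabCard_eq_mul_stab2Card h2t a b (Ne.symm hab)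
  have hG := card_eq_mul_stabCard htr a
  refine ⟨by rw [hG, hPE], ?_, ?_⟩
  · rw [sum_fixCard]
    simp only [hP]
    rw [Finset.sum_const, Finset.card_univ, smul_eq_mul, ← hG]
  · rw [sum_fixCard_sq, Fintype.sum_prod_type]
    have h1 : ∀ c : Ω, ∑ d : Ω,
        (Finset.univ.filter (fun g : G => g • (c, d).1 = (c, d).1 ∧ g • (c, d).2 = (c, d).2)).card =
        2 * stabCard G a := by
      intro c
      rw [← Finset.add_sum_erase Finset.univ _ (Finset.mem_univ c)]
      have h2 : (Finset.univ.filter (fun g : G => g • (c, c).1 = (c, c).1 ∧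
          g • (c, c).2 = (c, c).2)).card = stabCard G a := by
        rw [← hP c]
        unfold stabCard
        congr 1
        ext g
        simp
      have h3 : ∀ d ∈ Finset.univ.erase c, (Finset.univ.filter (fun g : G =>
          g • (c, d).1 = (c, d).1 ∧ g • (c, d).2 = (c, d).2)).card = stab2Card G a b := by
        intro d hd
        rw [← hE c d (Ne.symm (Finset.ne_of_mem_erase hd))]
        rfl
      rw [h2, Finset.sum_congr rfl h3, Finset.sum_const, Finset.card_erase_of_mem (Finset.mem_univ c),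
        Finset.card_univ, smul_eq_mul, ← hPE]
      ring
    simp only [h1]
    rw [Finset.sum_const, Finset.card_univ, smul_eq_mul, hG]
    ring

theorem sum_comp_fixCard (h3 : ∀ g : G, g ≠ 1 → fixCard Ω g ≤ 2) (φ : ℕ → ℕ) :
    ∑ g : G, φ (fixCard Ω g) = φ (Fintype.card Ω) +
      ∑ k ∈ Finset.range 3, (Finset.univ.filter (fun g : G => g ≠ 1 ∧ fixCard Ω g = k)).card * φ k := by
  rw [← Finset.add_sum_erase Finset.univ _ (Finset.mem_univ (1 : G)), fixCard_one]
  congr 1
  have hmaps : ∀ g ∈ (Finset.univ.erase (1 : G)), fixCard Ω g ∈ Finset.range 3 := by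
    intro g hg
    have := h3 g (Finset.ne_of_mem_erase hg)
    rw [Finset.mem_range]
    omega
  rw [← Finset.sum_fiberwise_of_maps_to hmaps]
  refine Finset.sum_congr rfl fun k _ => ?_
  have h1 : (Finset.univ.erase (1 : G)).filter (fun g => fixCard Ω g = k) =
      Finset.univ.filter (fun g : G => g ≠ 1 ∧ fixCard Ω g = k) := by
    ext g
    simp [Finset.mem_erase]
  rw [h1, Finset.sum_congr rfl (g := fun _ => φ k), Finset.sum_const, smul_eq_mul]
  intro g hg
  rw [(Finset.mem_filter.mp hg).2.2]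

theorem zass_counts (h3 : ∀ g : G, g ≠ 1 → fixCard Ω g ≤ 2)
    (hs1 : ∑ g : G, fixCard Ω g = Fintype.card G)
    (hs2 : ∑ g : G, fixCard Ω g ^ 2 = 2 * Fintype.card G)
    (f : ℕ → ℕ) (hf : ∀ k, f k = (Finset.univ.filter (fun g : G => g ≠ 1 ∧ fixCard Ω g = k)).card) :
    Fintype.card Ω + f 1 + 2 * f 2 = Fintype.card G ∧
    Fintype.card Ω ^ 2 + f 1 + 4 * f 2 = 2 * Fintype.card G ∧
    1 + f 0 + f 1 + f 2 = Fintype.card G := by
  have e1 := sum_comp_fixCard (Ω := Ω) h3 (fun k => k)
  have e2 := sum_comp_fixCard (Ω := Ω) h3 (fun k => k ^ 2)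
  have e3 := sum_comp_fixCard (Ω := Ω) h3 (fun _ => 1)
  simp only [Finset.sum_range_succ, Finset.sum_range_zero, ← hf] at e1 e2 e3
  rw [hs1] at e1
  rw [hs2] at e2
  rw [Finset.sum_const, Finset.card_univ, smul_eq_mul] at e3
  refine ⟨by omega, by omega, by omega⟩

end

end Cfsg.Agent.Lib.helper2
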