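import Mathlib
import Cfsg.Prelude.Def_Characters
import Cfsg.Prelude.Def_LieExceptional
import Cfsg.Agent.Lib.helper2.Zass
import Cfsg.Agent.Lib.helper2.CharInd
import Cfsg.Agent.Lib.helper7.CharTools
import Cfsg.Agent.Lib.Helper25.CharLinear
import Cfsg.Agent.Lib.Helper1.FocalHall

set_option autoImplicit false
set_option linter.unusedSectionVars false
open scoped ComplexConjugate commutatorElement

namespace Cfsg.Agent.Lib.helper2

open Cfsg.Agent.Lib.helper7 Cfsg.Agent.Lib.Helper25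

theorem isIrr_of_isCharacter_one {G : Type*} [Group G] {μ : G → ℂ} (h : Cfsg.IsCharacter G μ)
    (h1 : μ 1 = 1) : Cfsg.IsIrrCharacter G μ := by
  obtain ⟨n, ρ, rfl⟩ := h
  have hn : n = 1 := by
    rw [Representation.char_one] at h1
    simp only [Module.finrank_fintype_fun_eq_card, Fintype.card_fin] at h1
    exact_mod_cast h1
  exact ⟨n, ρ, isIrreducible_of_finrank_eq_one ρ (by simp [hn]), rfl⟩

section
variable {G : Type*} [Group G] [Finite G] (P : Subgroup G) (μ : P → ℂ)
  (hμ : Cfsg.IsCharacter P μ) (h1 : μ 1 = 1)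

include hμ h1

theorem lin_one : Cfsg.extendByZero P μ 1 = 1 := by
  rw [h7_extendByZero_mem P μ 1 P.one_mem]
  exact h1

theorem lin_mul {x y : G} (hx : x ∈ P) (hy : y ∈ P) :
    Cfsg.extendByZero P μ (x * y) = Cfsg.extendByZero P μ x * Cfsg.extendByZero P μ y := by
  rw [h7_extendByZero_mem P μ _ (P.mul_mem hx hy), h7_extendByZero_mem P μ _ hx,
    h7_extendByZero_mem P μ _ hy]
  exact irr_linear_mul (⟨μ, isIrr_of_isCharacter_one hμ h1⟩ : Cfsg.IrrCharacter P) h1 ⟨x, hx⟩ ⟨y, hy⟩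

theorem lin_conj {p x : G} (hp : p ∈ P) (hx : x ∈ P) :
    Cfsg.extendByZero P μ (p * x * p⁻¹) = Cfsg.extendByZero P μ x := by
  rw [h7_extendByZero_mem P μ _ (P.mul_mem (P.mul_mem hp hx) (P.inv_mem hp)),
    h7_extendByZero_mem P μ _ hx]
  exact isCharacter_isClassFunction hμ ⟨x, hx⟩ ⟨p, hp⟩

theorem lin_norm {x : G} (hx : x ∈ P) :
    Cfsg.extendByZero P μ x * conj (Cfsg.extendByZero P μ x) = 1 := by
  rw [h7_extendByZero_mem P μ _ hx]
  exact irr_linear_mul_conj (⟨μ, isIrr_of_isCharacter_one hμ h1⟩ : Cfsg.IrrCharacter P) h1 ⟨x, hx⟩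

theorem lin_inv {x : G} (hx : x ∈ P) :
    Cfsg.extendByZero P μ x⁻¹ * Cfsg.extendByZero P μ x = 1 := by
  rw [← lin_mul P μ hμ h1 (P.inv_mem hx) hx, inv_mul_cancel]
  exact lin_one P μ hμ h1

end

/-- Norm of an induced function as an averaged double sum. -/
theorem indFun_norm_formula {G : Type*} [Group G] [Fintype G] (H : Subgroup G) [Fintype H]
    (φ : H → ℂ) :
    Cfsg.classInner (Cfsg.indFun H φ) (Cfsg.indFun H φ) =
      ((Nat.card H : ℂ)⁻¹) ^ 2 * ∑ g : G, ∑ x : H,
        φ x * conj (Cfsg.extendByZero H φ (g⁻¹ * (x : G) * g)) := by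
  rw [h7_frobenius_reciprocity H φ _ (h7_indFun_isClassFunction H φ)]
  unfold Cfsg.classInner Cfsg.indFun
  rw [Finset.sum_comm]
  simp only [map_mul, map_inv₀, Complex.conj_natCast, map_sum, Finset.mul_sum]
  refine Finset.sum_congr rfl fun x _ => ?_
  refine Finset.sum_congr rfl fun g _ => ?_
  ring

/-- The "twisted" sum over a subgroup vanishes when the twist is nontrivial. -/
theorem sum_twist_eq_zero {P : Type*} [Group P] [Fintype P] (F : P → ℂ) (x₀ : P) (c : ℂ)
    (hc : c ≠ 1) (hF : ∀ x : P, F (x₀ * x) = c * F x) : ∑ x : P, F x = 0 := by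
  have h1 : ∑ x : P, F x = ∑ x : P, F (x₀ * x) :=
    (Equiv.sum_comp (Equiv.mulLeft x₀) F).symm
  simp only [hF, ← Finset.mul_sum] at h1
  have h2 : (1 - c) * ∑ x : P, F x = 0 := by linear_combination h1
  rcases mul_eq_zero.mp h2 with h | h
  · exact absurd (by linear_combination -h) hc
  · exact h

section
variable {G Ω : Type*} [Group G] [Fintype G] [MulAction G Ω] [Fintype Ω] [DecidableEq Ω]

/-- The focal-subgroup argument: a linear function on the two-point stabilizer `D` invariant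
under the setwise stabilizer is trivial when `G` is perfect and `D` is a Hall subgroup. -/
theorem zass_focal
    (h3 : ∀ g : G, ∀ a b c : Ω, a ≠ b → b ≠ c → a ≠ c → g • a = a → g • b = b → g • c = c → g = 1)
    (hperf : commutator G = ⊤) (a c : Ω) (hac : a ≠ c) (D : Subgroup G)
    (hD : ∀ x : G, x ∈ D ↔ x • a = a ∧ x • c = c)
    (hcop : Nat.Coprime D.index (Nat.card D)) (ν : G → ℂ) (hν1 : ν 1 = 1)
    (hνmul : ∀ x ∈ D, ∀ y ∈ D, ν (x * y) = ν x * ν y)
    (hcl : ∀ u ∈ D, ∀ x ∈ D, ν (u * x * u⁻¹) = ν x)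
    (t : G) (hta : t • a = c) (htc : t • c = a) (ht : ∀ x ∈ D, ν (t * x * t⁻¹) = ν x) :
    ∀ x ∈ D, ν x = 1 := by
  have hfoc : D.focalSubgroup = D := by
    rw [Cfsg.Agent.Lib.Helper1.focal_eq_commutator_inf D ?_, hperf, top_inf_eq]
    refine Nat.Coprime.coprime_dvd_right ?_ hcop
    exact Subgroup.relIndex_dvd_card _ _
  -- general invariance under the setwise stabilizer
  have hinv : ∀ u : G, ((u • a = a ∧ u • c = c) ∨ (u • a = c ∧ u • c = a)) →
      ∀ x ∈ D, ν (u * x * u⁻¹) = ν x := by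
    rintro u (hu | hu) x hx
    · exact hcl u ((hD u).mpr hu) x hx
    · have hd' : t⁻¹ * u ∈ D := by
        rw [hD]
        constructor
        · rw [mul_smul, hu.1, inv_smul_eq_iff, hta]
        · rw [mul_smul, hu.2, inv_smul_eq_iff, htc]
      have h1 : u * x * u⁻¹ = t * ((t⁻¹ * u) * x * (t⁻¹ * u)⁻¹) * t⁻¹ := by group
      rw [h1, ht _ (D.mul_mem (D.mul_mem hd' hx) (D.inv_mem hd')), hcl _ hd' x hx]
  have key : ∀ z ∈ Subgroup.closure {g | g ∈ D ∧ ∃ x ∈ D, ∃ u : G, g = ⁅x, u⁆},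
      z ∈ D ∧ ν z = 1 := by
    intro z hz
    induction hz using Subgroup.closure_induction with
    | mem g hg =>
      obtain ⟨hgD, y, hyD, u, rfl⟩ := hg
      refine ⟨hgD, ?_⟩
      by_cases hy1 : y = 1
      · rw [hy1]
        simp [commutatorElement_def, hν1]
      · rw [commutatorElement_def] at hgD ⊢
        have hw : u * y⁻¹ * u⁻¹ ∈ D := by
          have : u * y⁻¹ * u⁻¹ = y⁻¹ * (y * u * y⁻¹ * u⁻¹) := by group
          rw [this]
          exact D.mul_mem (D.inv_mem hyD) hgD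
        have hyinv : y⁻¹ ≠ 1 := by
          intro h
          exact hy1 (inv_eq_one.mp h)
        have hyD' := (hD _).mp (D.inv_mem hyD)
        have hfix : ∀ ω : Ω, y⁻¹ • ω = ω → ω = a ∨ ω = c := by
          intro ω hω
          by_contra hcon
          push Not at hcon
          exact hyinv (h3 y⁻¹ a c ω hac (Ne.symm hcon.2) (Ne.symm hcon.1) hyD'.1 hyD'.2 hω)
        have hwD := (hD _).mp hw
        have h1 : y⁻¹ • (u⁻¹ • a) = u⁻¹ • a := by
          have := hwD.1
          rw [mul_smul, mul_smul] at this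
          have h' := congrArg (fun ω => u⁻¹ • ω) this
          simpa using h'
        have h2 : y⁻¹ • (u⁻¹ • c) = u⁻¹ • c := by
          have := hwD.2
          rw [mul_smul, mul_smul] at this
          have h' := congrArg (fun ω => u⁻¹ • ω) this
          simpa using h'
        have hne : u⁻¹ • a ≠ u⁻¹ • c := fun h => hac (smul_left_cancel _ h)
        have hu : (u • a = a ∧ u • c = c) ∨ (u • a = c ∧ u • c = a) := by
          rcases hfix _ h1 with ha | ha <;> rcases hfix _ h2 with hc | hc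
          · exact absurd (ha.trans hc.symm) hne
          · left
            rw [inv_smul_eq_iff] at ha hc
            exact ⟨ha.symm, hc.symm⟩
          · right
            rw [inv_smul_eq_iff] at ha hc
            exact ⟨hc.symm, ha.symm⟩
          · exact absurd (ha.trans hc.symm) hne
        have h4 : y * u * y⁻¹ * u⁻¹ = y * (u * y⁻¹ * u⁻¹) := by group
        rw [h4, hνmul y hyD _ hw, hinv u hu y⁻¹ (D.inv_mem hyD), ← hνmul y hyD _ (D.inv_mem hyD),
          mul_inv_cancel, hν1]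
    | one => exact ⟨D.one_mem, hν1⟩
    | mul y z _ _ ihy ihz =>
      refine ⟨D.mul_mem ihy.1 ihz.1, ?_⟩
      rw [hνmul y ihy.1 z ihz.1, ihy.2, ihz.2, mul_one]
    | inv y _ ihy =>
      refine ⟨D.inv_mem ihy.1, ?_⟩
      have := hνmul y ihy.1 y⁻¹ (D.inv_mem ihy.1)
      rw [mul_inv_cancel, hν1, ihy.2, one_mul] at this
      exact this.symm
  intro x hx
  have hx' : x ∈ D.focalSubgroup := by rw [hfoc]; exact hx
  rw [Subgroup.focalSubgroup_def] at hx'
  exact (key x hx').2

end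

section
variable {G Ω : Type*} [Group G] [Fintype G] [MulAction G Ω] [Fintype Ω] [DecidableEq Ω]

/-- The two-point stabilizer of odd order is a Hall subgroup. -/
theorem zass_coprime
    (h3 : ∀ g : G, ∀ a b c : Ω, a ≠ b → b ≠ c → a ≠ c → g • a = a → g • b = b → g • c = c → g = 1)
    (a c : Ω) (hac : a ≠ c) (D : Subgroup G)
    (hD : ∀ x : G, x ∈ D ↔ x • a = a ∧ x • c = c) (hodd : Odd (Nat.card D))
    (hidx : D.index = Fintype.card Ω * (Fintype.card Ω - 1)) :
    Nat.Coprime D.index (Nat.card D) := by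
  apply Nat.Coprime.symm
  apply Nat.coprime_of_dvd
  intro q hq hqD hqidx
  haveI : Fact q.Prime := ⟨hq⟩
  obtain ⟨d, hd⟩ := exists_prime_orderOf_dvd_card' q hqD
  have hd1 : (d : G) ≠ 1 := by
    intro h
    have : d = 1 := Subtype.ext h
    rw [this, orderOf_one] at hd
    exact hq.one_lt.ne hd
  have hdD := (hD _).mp d.2
  have hdord : orderOf (d : G) = q := by rw [Subgroup.orderOf_coe, hd]
  have hZ : IsPGroup q (Subgroup.zpowers (d : G)) := by
    apply IsPGroup.of_card (n := 1)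
    rw [Nat.card_zpowers, hdord, pow_one]
  have hmod := hZ.card_modEq_card_fixedPoints Ω
  have hfp : MulAction.fixedPoints (Subgroup.zpowers (d : G)) Ω = {a, c} := by
    ext ω
    rw [MulAction.mem_fixedPoints]
    constructor
    · intro h
      have hω : (d : G) • ω = ω := h ⟨(d : G), Subgroup.mem_zpowers _⟩
      by_contra hcon
      simp only [Set.mem_insert_iff, Set.mem_singleton_iff, not_or] at hcon
      exact hd1 (h3 _ a c ω hac (Ne.symm hcon.2) (Ne.symm hcon.1) hdD.1 hdD.2 hω)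
    · intro h z
      obtain ⟨z, k, rfl⟩ := z
      have hz : ((d : G) ^ k) ∈ D := D.zpow_mem d.2 k
      have := (hD _).mp hz
      simp only [Set.mem_insert_iff, Set.mem_singleton_iff] at h
      rcases h with rfl | rfl
      · exact this.1
      · exact this.2
  have hcard2 : Nat.card (MulAction.fixedPoints (Subgroup.zpowers (d : G)) Ω) = 2 := by
    rw [hfp, Nat.card_coe_set_eq, Set.ncard_pair hac]
  rw [hcard2, Nat.card_eq_fintype_card] at hmod
  -- q ∣ n (n-1) and n ≡ 2 mod q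
  rw [hidx] at hqidx
  have hq2 : q ≠ 2 := by
    rintro rfl
    obtain ⟨k, hk⟩ := hodd
    omega
  have hn2 : 2 ≤ Fintype.card Ω := by
    have : ({a, c} : Finset Ω).card ≤ Fintype.card Ω := Finset.card_le_univ _
    rw [Finset.card_pair hac] at this
    exact this
  have hsub : q ∣ Fintype.card Ω - 2 := (Nat.modEq_iff_dvd' hn2).mp hmod.symm
  rcases (Nat.Prime.dvd_mul hq).mp hqidx with h | h
  · have : q ∣ 2 := by
      have h' := Nat.dvd_sub h hsub
      have e : Fintype.card Ω - (Fintype.card Ω - 2) = 2 := by omega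
      rwa [e] at h'
    exact hq2 ((Nat.prime_dvd_prime_iff_eq hq Nat.prime_two).mp this)
  · have : q ∣ 1 := by
      have h' := Nat.dvd_sub h hsub
      have e : Fintype.card Ω - 1 - (Fintype.card Ω - 2) = 1 := by omega
      rwa [e] at h'
    exact hq.one_lt.ne' (Nat.dvd_one.mp this)

end

section
variable {G Ω : Type*} [Group G] [Fintype G] [MulAction G Ω] [Fintype Ω] [DecidableEq Ω]

/-- The regular normal-type subgroup `H` of the point stabilizer is transitive on the other points. -/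
theorem zass_H_trans (a : Ω) (H : Subgroup G) (hHa : H ≤ MulAction.stabilizer G a)
    (hHcard : Nat.card H + 1 = Fintype.card Ω)
    (hHfix : ∀ u ∈ H, u ≠ 1 → ∀ c : Ω, u • c = c → c = a) (c ω : Ω) (hc : c ≠ a) (hω : ω ≠ a) :
    ∃ h ∈ H, h • c = ω := by
  classical
  haveI : Fintype H := Fintype.ofFinite H
  have hmem : ∀ h : H, (h : G) • c ≠ a := by
    intro h hh
    have ha : (h : G) • a = a := MulAction.mem_stabilizer_iff.mp (hHa h.2)
    apply hc
    have : (h : G) • c = (h : G) • a := by rw [hh, ha]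
    exact smul_left_cancel _ this
  let f : H → {ω : Ω // ω ≠ a} := fun h => ⟨(h : G) • c, hmem h⟩
  have hinj : Function.Injective f := by
    intro h₁ h₂ h12
    have h1 : (h₁ : G) • c = (h₂ : G) • c := congrArg Subtype.val h12
    have h2 : ((h₂ : G)⁻¹ * (h₁ : G)) • c = c := by
      rw [mul_smul, h1, inv_smul_smul]
    by_contra hne
    have h3 : (h₂ : G)⁻¹ * (h₁ : G) ≠ 1 := by
      intro h
      apply hne
      apply Subtype.ext
      have : (h₁ : G) = (h₂ : G) * ((h₂ : G)⁻¹ * (h₁ : G)) := by group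
      rw [this, h, mul_one]
    exact hc (hHfix _ (H.mul_mem (H.inv_mem h₂.2) h₁.2) h3 c h2)
  have hcard : Fintype.card H = Fintype.card {ω : Ω // ω ≠ a} := by
    rw [Fintype.card_subtype_compl, Fintype.card_subtype_eq, ← Nat.card_eq_fintype_card]
    omega
  have hbij := (Fintype.bijective_iff_injective_and_card f).mpr ⟨hinj, hcard⟩
  obtain ⟨h, hh⟩ := hbij.2 ⟨ω, hω⟩
  exact ⟨h, h.2, congrArg Subtype.val hh⟩

end

section
variable {G Ω : Type*} [Group G] [Fintype G] [MulAction G Ω] [Fintype Ω] [DecidableEq Ω]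

theorem zass_offdiag_zero
    (h2t : ∀ {a b c d : Ω}, a ≠ b → c ≠ d → ∃ g : G, g • a = c ∧ g • b = d)
    (h3 : ∀ g : G, ∀ a b c : Ω, a ≠ b → b ≠ c → a ≠ c → g • a = a → g • b = b → g • c = c → g = 1)
    (hperf : commutator G = ⊤) (a b : Ω) (hab : a ≠ b)
    (hodd : Odd (stab2Card G a b))
    (H : Subgroup G) (hHa : H ≤ MulAction.stabilizer G a)
    (hHcard : Nat.card H + 1 = Fintype.card Ω)
    (hHfix : ∀ u ∈ H, u ≠ 1 → ∀ c : Ω, u • c = c → c = a)
    (μ : MulAction.stabilizer G a → ℂ) (hμ : Cfsg.IsCharacter (MulAction.stabilizer G a) μ)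
    (hμ1 : μ 1 = 1)
    (hμH : ∀ u : MulAction.stabilizer G a, (u : G) ∈ H → μ u = 1) (hμne : μ ≠ fun _ => 1)
    [Fintype (MulAction.stabilizer G a)]
    (g : G) (hg : g ∉ MulAction.stabilizer G a) :
    ∑ x : MulAction.stabilizer G a,
      μ x * conj (Cfsg.extendByZero (MulAction.stabilizer G a) μ (g⁻¹ * (x : G) * g)) = 0 := by
  classical
  by_contra hS
  obtain ⟨P, hP⟩ : ∃ P : Subgroup G, P = MulAction.stabilizer G a := ⟨_, rfl⟩
  obtain ⟨μ', hμ'⟩ : ∃ μ' : G → ℂ, μ' = Cfsg.extendByZero (MulAction.stabilizer G a) μ := ⟨_, rfl⟩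
  have hmemP : ∀ x : G, x ∈ MulAction.stabilizer G a ↔ x • a = a := fun x =>
    MulAction.mem_stabilizer_iff
  have l_one : μ' 1 = 1 := by rw [hμ']; exact lin_one _ μ hμ hμ1
  have l_mul : ∀ {x y : G}, x • a = a → y • a = a → μ' (x * y) = μ' x * μ' y := by
    intro x y hx hy
    rw [hμ']
    exact lin_mul _ μ hμ hμ1 ((hmemP x).mpr hx) ((hmemP y).mpr hy)
  have l_conj : ∀ {p x : G}, p • a = a → x • a = a → μ' (p * x * p⁻¹) = μ' x := by
    intro p x hp hx
    rw [hμ']
    exact lin_conj _ μ hμ hμ1 ((hmemP p).mpr hp) ((hmemP x).mpr hx)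
  have l_norm : ∀ {x : G}, x • a = a → μ' x * conj (μ' x) = 1 := by
    intro x hx
    rw [hμ']
    exact lin_norm _ μ hμ hμ1 ((hmemP x).mpr hx)
  have l_zero : ∀ {x : G}, x • a ≠ a → μ' x = 0 := by
    intro x hx
    rw [hμ']
    exact h7_extendByZero_not_mem _ μ x (fun h => hx ((hmemP x).mp h))
  have l_coe : ∀ x : MulAction.stabilizer G a, μ' (x : G) = μ x := by
    intro x
    rw [hμ']
    exact h7_extendByZero_coe _ μ x
  have l_H : ∀ u ∈ H, μ' u = 1 := by
    intro u hu
    have := l_coe ⟨u, hHa hu⟩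
    rw [this]
    exact hμH ⟨u, hHa hu⟩ hu
  rw [← hμ'] at hS
  -- c = g • a
  obtain ⟨c, hc⟩ : ∃ c : Ω, c = g • a := ⟨_, rfl⟩
  have hca : c ≠ a := by
    intro h
    apply hg
    rw [hmemP, ← hc, h]
  have hac : a ≠ c := Ne.symm hca
  -- twist: all constants are 1
  have htw : ∀ x₀ : G, x₀ • a = a → x₀ • c = c → μ' x₀ * conj (μ' (g⁻¹ * x₀ * g)) = 1 := by
    intro x₀ hx₀a hx₀c
    by_contra hne
    apply hS
    have hgx₀ : (g⁻¹ * x₀ * g) • a = a := by
      rw [mul_smul, mul_smul, ← hc, hx₀c, hc, inv_smul_smul]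
    apply sum_twist_eq_zero _ (⟨x₀, (hmemP x₀).mpr hx₀a⟩ : MulAction.stabilizer G a) _ hne
    intro x
    have hxa : (x : G) • a = a := (hmemP _).mp x.2
    have e1 : g⁻¹ * ((⟨x₀, (hmemP x₀).mpr hx₀a⟩ * x : MulAction.stabilizer G a) : G) * g =
        (g⁻¹ * x₀ * g) * (g⁻¹ * (x : G) * g) := by
      simp only [Subgroup.coe_mul]
      group
    rw [e1, ← l_coe, ← l_coe]
    simp only [Subgroup.coe_mul]
    rw [l_mul hx₀a hxa]
    by_cases hgx : (g⁻¹ * (x : G) * g) • a = a
    · rw [l_mul hgx₀ hgx, map_mul]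
      ring
    · have h0 : μ' (g⁻¹ * (x : G) * g) = 0 := l_zero hgx
      have h1 : μ' ((g⁻¹ * x₀ * g) * (g⁻¹ * (x : G) * g)) = 0 := by
        apply l_zero
        intro h
        apply hgx
        rw [mul_smul] at h
        have := congrArg (fun ω => (g⁻¹ * x₀ * g)⁻¹ • ω) h
        simp only [inv_smul_smul] at this
        rw [this, inv_smul_eq_iff, hgx₀]
      rw [h0, h1]
      simp
  -- swap element
  obtain ⟨t, hta, htc⟩ := h2t hac hca
  have hq : (g⁻¹ * t) • a = a := by
    rw [mul_smul, hta, hc, inv_smul_smul]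
  obtain ⟨D, hD⟩ : ∃ D : Subgroup G, D = MulAction.stabilizer G a ⊓ MulAction.stabilizer G c :=
    ⟨_, rfl⟩
  have hDmem : ∀ x : G, x ∈ D ↔ x • a = a ∧ x • c = c := by
    intro x
    rw [hD, Subgroup.mem_inf, MulAction.mem_stabilizer_iff, MulAction.mem_stabilizer_iff]
  have htinv : ∀ x ∈ D, μ' (t⁻¹ * x * t⁻¹⁻¹) = μ' x := by
    intro x hx
    obtain ⟨hxa, hxc⟩ := (hDmem x).mp hx
    have h1 := htw x hxa hxc
    have hy : (t⁻¹ * x * t) • a = a := by
      rw [mul_smul, mul_smul, hta, hxc, inv_smul_eq_iff, hta]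
    have e1 : g⁻¹ * x * g = (g⁻¹ * t) * (t⁻¹ * x * t) * (g⁻¹ * t)⁻¹ := by group
    rw [e1, l_conj hq hy] at h1
    rw [inv_inv]
    have h2 := l_norm hy
    have h3 : μ' x = μ' x * (μ' (t⁻¹ * x * t) * conj (μ' (t⁻¹ * x * t))) := by rw [h2, mul_one]
    rw [h3]
    linear_combination (-(μ' (t⁻¹ * x * t))) * h1
  -- card facts
  have hDcard : Nat.card D = stab2Card G a b := by
    obtain ⟨s, hsa, hsb⟩ := h2t hab hac
    rw [← stab2Card_eq_of_smul s a b, hsa, hsb, Nat.card_eq_fintype_card, Fintype.card_subtype]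
    unfold stab2Card
    congr 1
    ext x
    simp [hDmem]
  obtain ⟨hN, -, -⟩ := two_trans_sums (G := G) h2t a b hab
  have hidx : D.index = Fintype.card Ω * (Fintype.card Ω - 1) := by
    have h1 := Subgroup.index_mul_card D
    rw [hDcard, Nat.card_eq_fintype_card (α := G), hN] at h1
    have hpos : 0 < stab2Card G a b := by
      obtain ⟨k, hk⟩ := hodd
      omega
    have h2 : D.index * stab2Card G a b =
        (Fintype.card Ω * (Fintype.card Ω - 1)) * stab2Card G a b := by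
      rw [h1]; ring
    exact Nat.eq_of_mul_eq_mul_right hpos h2
  have hcop := zass_coprime h3 a c hac D hDmem (hDcard ▸ hodd) hidx
  have htriv := zass_focal h3 hperf a c hac D hDmem hcop μ' l_one
    (fun x hx y hy => l_mul ((hDmem x).mp hx).1 ((hDmem y).mp hy).1)
    (fun u hu x hx => l_conj ((hDmem u).mp hu).1 ((hDmem x).mp hx).1)
    t⁻¹ (by rw [inv_smul_eq_iff, htc]) (by rw [inv_smul_eq_iff, hta]) htinv
  -- μ = 1 on P
  apply hμne
  funext p
  have hpa : (p : G) • a = a := (hmemP _).mp p.2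
  have hpc : (p : G) • c ≠ a := by
    intro h
    apply hca
    have : (p : G) • c = (p : G) • a := by rw [h, hpa]
    exact smul_left_cancel _ this
  obtain ⟨h, hh, hhc⟩ := zass_H_trans a H hHa hHcard hHfix c ((p : G) • c) hca hpc
  have hha : h • a = a := (hmemP _).mp (hHa hh)
  have hd : h⁻¹ * (p : G) ∈ D := by
    rw [hDmem]
    constructor
    · rw [mul_smul, hpa, inv_smul_eq_iff, hha]
    · rw [mul_smul, ← hhc, inv_smul_smul]
  have e1 : (p : G) = h * (h⁻¹ * (p : G)) := by group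
  rw [← l_coe, e1, l_mul hha ((hDmem _).mp hd).1, l_H h hh, htriv _ hd, mul_one]

end

end Cfsg.Agent.Lib.helper2
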