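import Mathlib
import Cfsg.Agent.Lib.Helper10.TEM.Defs

/-!
# Project TEM (designer helper10), row N2 (`exists_not_fix`), verbatim.  helper2.
-/

set_option autoImplicit false

namespace Cfsg.Agent.Lib.Helper10.TEM

open Cfsg.Lie Cfsg.Lie.ChevalleyDatum Matrix
open Cfsg.Agent.Lib.helper8

universe u

variable {K : Type u} [Field K] {q : ℕ} {f : K ≃+* K} {M H : Subgroup (GG K)}

-- ROW N2  [S]  `h8frob_fix_card` (ChevTwU6): the fixed field has `q < q ^ 2` elements.
theorem exists_not_fix [Fintype K] (hq : IsPrimePow q) (hK : Fintype.card K = q ^ 2) :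
    ∃ θ : K, θ ^ q ≠ θ := by
  classical
  by_contra hcon
  push_neg at hcon
  have hq1 : 1 < q := hq.one_lt
  have hP : (Polynomial.X ^ q - Polynomial.X : Polynomial K) ≠ 0 :=
    FiniteField.X_pow_card_sub_X_ne_zero K hq1
  have hdeg : (Polynomial.X ^ q - Polynomial.X : Polynomial K).natDegree = q :=
    FiniteField.X_pow_card_sub_X_natDegree_eq K hq1
  have hsub : (Finset.univ : Finset K) ⊆ (Polynomial.X ^ q - Polynomial.X : Polynomial K).roots.toFinset := by
    intro θ _
    rw [Multiset.mem_toFinset, Polynomial.mem_roots hP, Polynomial.IsRoot, Polynomial.eval_sub,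
      Polynomial.eval_pow, Polynomial.eval_X, hcon θ, sub_self]
  have h1 : Fintype.card K ≤ (Polynomial.X ^ q - Polynomial.X : Polynomial K).roots.toFinset.card := by
    rw [← Finset.card_univ]
    exact Finset.card_le_card hsub
  have h2 : (Polynomial.X ^ q - Polynomial.X : Polynomial K).roots.toFinset.card ≤ q := by
    calc (Polynomial.X ^ q - Polynomial.X : Polynomial K).roots.toFinset.card
        ≤ Multiset.card (Polynomial.X ^ q - Polynomial.X : Polynomial K).roots := Multiset.toFinset_card_le _
      _ ≤ (Polynomial.X ^ q - Polynomial.X : Polynomial K).natDegree := Polynomial.card_roots' _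
      _ = q := hdeg
  rw [hK] at h1
  have h3 : q ^ 2 ≤ q := le_trans h1 h2
  nlinarith

end Cfsg.Agent.Lib.Helper10.TEM
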