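import Mathlib
import Cfsg.Prelude.Def_GeometricClasses
import Cfsg.Agent.Lib.Helper27.ASC.Defs
import Cfsg.Agent.Lib.Lead.ASCU.Defs

/-!
# Project UX (leader: helper2) : the composite-dimension unitary rows `SU_4, SU_6, SU_8, SU_9, SU_10, SU_12`
(S5784, S5802, S5820, S5832, S5841, S5865) on top of the FROZEN statement of S5663 (project ASU, helper19).

Shared vocabulary: `SUg n F q = GU n F q ⊓ specialLinear` (from `Cfsg.Agent.Lib.Lead.ASCU`), the hypothesis `ASUStmt`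
(= the frozen text of S5663 in dimension `n`), and the refined conclusion `UXConcl` for a maximal subgroup.
-/

set_option autoImplicit false

namespace Cfsg.Agent.Lib.helper2.UX

open Cfsg Cfsg.Geo Cfsg.Agent.Lib.Helper27.ASC Cfsg.Agent.Lib.Lead.ASCU
open scoped MatrixGroups Matrix

/-- The frozen statement of S5663 in dimension `n` over `F`, `|F| = q²` (its hypotheses `hF`, `hn`, `hex` are
supplied by the rows). -/
def ASUStmt (n : ℕ) (F : Type*) [Field F] [Fintype F] (q : ℕ) : Prop :=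
  ∀ H : Subgroup (GL (Fin n) F), H ≤ GU n F q ⊓ specialLinear (Fin n) F →
    H ⊔ (scalars (Fin n) F ⊓ (GU n F q ⊓ specialLinear (Fin n) F)) ≠ GU n F q ⊓ specialLinear (Fin n) F →
    (∃ M : Subgroup (GL (Fin n) F), InUnitaryClass n F q M ∧ H ≤ M) ∨ InUnitaryResidualClass H

/-- The refined conclusion for a maximal subgroup `H` of `SU_n(q)`: `H` is the intersection of `SU_n(q)` with a member
of one of the classes of `InUnitaryClass` (same data, same order as there), or residual. -/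
def UXConcl (n : ℕ) (F : Type*) [Field F] [Fintype F] (q : ℕ) (H : Subgroup (GL (Fin n) F)) : Prop :=
  (∃ W : Submodule F (Fin n → F), W ≠ ⊥ ∧ IsTotallySingularFor (hermForm n F q) W ∧
      H = subspaceStabilizer W ⊓ SUg n F q) ∨
  (∃ W : Submodule F (Fin n → F), W ≠ ⊥ ∧ IsNondegenerateOn (hermForm n F q) W ∧ 2 * Module.finrank F W < n ∧
      H = subspaceStabilizer W ⊓ SUg n F q) ∨
  (∃ (t k : ℕ) (D : Fin t → Submodule F (Fin n → F)), IsNondegenerateMDecomposition (hermForm n F q) k D ∧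
      H = decompositionStabilizer D ⊓ SUg n F q) ∨
  (∃ (k : ℕ) (D : Fin 2 → Submodule F (Fin n → F)), 2 * k = n ∧ IsMDecomposition k D ∧
      (∀ i, IsTotallySingularFor (hermForm n F q) (D i)) ∧ H = decompositionStabilizer D ⊓ SUg n F q) ∨
  (∃ (F₀ : Subfield F) (r : ℕ) (P : GL (Fin n) F), r.Prime ∧ Odd r ∧ Fintype.card F = Nat.card F₀ ^ r ∧
      IsFormRationalStructure (hermForm n F q) F₀ 1 P ∧ H = subfieldSubgroup F₀ P ⊓ SUg n F q) ∨
  (∃ (F₀ : Subfield F) (P : GL (Fin n) F), Odd q ∧ Fintype.card F = Nat.card F₀ ^ 2 ∧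
      IsFormRationalStructure (hermForm n F q) F₀ 1 P ∧ H = subfieldSubgroup F₀ P ⊓ SUg n F q) ∨
  (∃ (F₀ : Subfield F) (P : GL (Fin n) F) (ζ : F), Even n ∧ Fintype.card F = Nat.card F₀ ^ 2 ∧ ζ ≠ 0 ∧
      ζ + ζ ^ q = 0 ∧ IsFormRationalStructure (hermForm n F q) F₀ ζ P ∧
      (∀ u : Fin n → F, (∀ i, u i ∈ F₀) →
        hermForm n F q ((P : Matrix (Fin n) (Fin n) F) *ᵥ u) ((P : Matrix (Fin n) (Fin n) F) *ᵥ u) = 0) ∧
      H = subfieldSubgroup F₀ P ⊓ SUg n F q) ∨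
  (∃ (r : ℕ) (R : Subgroup (GL (Fin n) F)) (p e k : ℕ), IsSymplecticTypeGroup r R ∧
      ActsAbsolutelyIrreducibly (matrixSet R) ∧ R ≤ similarityGroup (hermForm n F q) ∧ r ≠ p ∧
      IsMinimalFieldFor (Nat.card (Subgroup.center R)) p e F ∧
      ((Odd r ∧ Nat.card (Subgroup.center R) = r ∧ 1 ≤ k ∧ Nat.card R = r ^ (1 + 2 * k)) ∨
       (r = 2 ∧ e = 2 ∧ Nat.card (Subgroup.center R) = 4 ∧ Nat.card R = 2 ^ (2 + 2 * k))) ∧
      H = subgroupNormalizer R ⊓ SUg n F q) ∨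
  (∃ (r : ℕ) (K : Subalgebra F (Matrix (Fin n) (Fin n) F)), r.Prime ∧ Odd r ∧ IsFieldSubalgebra r K ∧
      IsAdjointClosedFor (hermForm n F q) K ∧ H = subalgebraNormalizer K ⊓ SUg n F q) ∨
  (∃ (n₁ n₂ : ℕ) (e : Fin n ≃ Fin n₁ × Fin n₂) (P : GL (Fin n) F)
      (f₁ : (Fin n₁ → F) → (Fin n₁ → F) → F) (f₂ : (Fin n₂ → F) → (Fin n₂ → F) → F),
      2 ≤ n₁ ∧ n₁ < n₂ ∧ IsUnitaryFormPow q f₁ ∧ IsUnitaryFormPow q f₂ ∧
      IsTensorFormStructure (fun x : F => x ^ q) (hermForm n F q) f₁ f₂ e P ∧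
      H = tensorProductSubgroup n₁ n₂ e P ⊓ SUg n F q) ∨
  (∃ (k t : ℕ) (e : Fin n ≃ (Fin t → Fin k)) (P : GL (Fin n) F) (f₁ : (Fin k → F) → (Fin k → F) → F),
      3 ≤ k ∧ 2 ≤ t ∧ ¬ (q = 2 ∧ k = 3) ∧ IsUnitaryFormPow q f₁ ∧
      IsTensorPowerFormStructure (fun x : F => x ^ q) (hermForm n F q) f₁ e P ∧
      H = tensorWreathSubgroup k t e P ⊓ SUg n F q) ∨
  InUnitaryResidualClass H

/-- `H` is not maximal in `S`: some subgroup lies strictly between (the shape of the landed rows S5656 / S5671). -/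
def NotMax {G : Type*} [Group G] (S H : Subgroup G) : Prop :=
  ∃ K : Subgroup G, H < K ∧ K < S

theorem not_isMaximalIn_of_notMax {G : Type*} [Group G] {S H : Subgroup G} (h : NotMax S H) :
    ¬ IsMaximalIn S H := by
  rintro ⟨-, hmax⟩
  obtain ⟨K, hHK, hKS⟩ := h
  rcases hmax K hHK.le hKS.le with h1 | h1
  · exact absurd h1 (ne_of_gt hHK)
  · exact absurd h1 (ne_of_lt hKS)

end Cfsg.Agent.Lib.helper2.UX
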