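import Mathlib
import Cfsg.Prelude.Def_Involutions
import Cfsg.Agent.Lib.helper6.AbCent.Defs
import Cfsg.Agent.Lib.Helper22.TiHallE

set_option autoImplicit false

namespace Cfsg.Agent.Lib.helper2.AbCent
open Cfsg.Agent.Lib.helper6.AbCent
open scoped Pointwise

universe u
variable {G : Type u} [Group G] [Finite G]

theorem two_pow_of_mem_sylow (P : Sylow 2 G) {x : G} (hx : x ∈ P) : ∃ n : ℕ, orderOf x = 2 ^ n := by
  obtain ⟨k, hk⟩ := P.isPGroup' ⟨x, hx⟩
  have h1 : x ^ (2 ^ k) = 1 := by
    have := congrArg Subtype.val hk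
    simpa using this
  have h2 : orderOf x ∣ 2 ^ k := orderOf_dvd_of_pow_eq_one h1
  obtain ⟨j, _, hj⟩ := (Nat.dvd_prime_pow Nat.prime_two).1 h2
  exact ⟨j, hj⟩

theorem exists_pow_invol {x : G} (hx : ∃ n : ℕ, orderOf x = 2 ^ n) (hx1 : x ≠ 1) :
    ∃ m : ℕ, orderOf (x ^ m) = 2 := by
  obtain ⟨n, hn⟩ := hx
  have hn0 : n ≠ 0 := by
    rintro rfl
    rw [pow_zero, orderOf_eq_one_iff] at hn
    exact hx1 hn
  obtain ⟨k, rfl⟩ := Nat.exists_eq_succ_of_ne_zero hn0
  refine ⟨2 ^ k, ?_⟩
  rw [orderOf_pow' x (by positivity), hn]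
  have : Nat.gcd (2 ^ (k + 1)) (2 ^ k) = 2 ^ k :=
    Nat.gcd_eq_right (pow_dvd_pow 2 (Nat.le_succ k))
  rw [this, pow_succ, Nat.mul_div_cancel_left _ (by positivity)]

theorem exists_invol_of_even (H : Subgroup G) (h : Even (Nat.card H)) :
    ∃ t : G, t ∈ H ∧ orderOf t = 2 := by
  haveI : Fact (Nat.Prime 2) := ⟨Nat.prime_two⟩
  obtain ⟨t, ht⟩ := exists_prime_orderOf_dvd_card' (G := H) 2 (even_iff_two_dvd.mp h)
  exact ⟨t, t.2, by rw [← ht, Subgroup.orderOf_coe]⟩

theorem odd_card_of_no_invol (H : Subgroup G) (h : ∀ t : G, t ∈ H → orderOf t ≠ 2) :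
    Odd (Nat.card H) := by
  rw [← Nat.not_even_iff_odd]
  intro he
  obtain ⟨t, ht, h2⟩ := exists_invol_of_even H he
  exact h t ht h2

theorem exists_invol_sylow (P : Sylow 2 G) (hP : (P : Subgroup G) ≠ ⊥) :
    ∃ t : G, t ∈ P ∧ orderOf t = 2 := by
  obtain ⟨x, hx, hx1⟩ : ∃ x ∈ (P : Subgroup G), x ≠ 1 := by
    by_contra hne
    push Not at hne
    exact hP ((Subgroup.eq_bot_iff_forall _).mpr hne)
  obtain ⟨m, hm⟩ := exists_pow_invol (two_pow_of_mem_sylow P hx) hx1
  exact ⟨x ^ m, (P : Subgroup G).pow_mem hx m, hm⟩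

theorem AC.subgroup (h : AC G) (H : Subgroup G) : AC ↥H := by
  intro t ht x y hx hy
  have ht' : orderOf (t : G) = 2 := by rw [Subgroup.orderOf_coe, ht]
  have hx' : (x : G) * t = t * x := by
    have := congrArg Subtype.val hx
    simpa using this
  have hy' : (y : G) * t = t * y := by
    have := congrArg Subtype.val hy
    simpa using this
  exact Subtype.ext (h t ht' x y hx' hy')

theorem sylow_ne_bot_of_not_cyclic (P : Sylow 2 G) (h : ¬ IsCyclic ↥(P : Subgroup G)) :
    (P : Subgroup G) ≠ ⊥ := by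
  intro hb
  apply h
  haveI : Subsingleton ↥(P : Subgroup G) := by
    rw [hb]; infer_instance
  infer_instance

theorem sylow_comm (h : AC G) (P : Sylow 2 G) : ∀ x ∈ P, ∀ y ∈ P, x * y = y * x := by
  intro x hx y hy
  by_cases hP : Nontrivial ↥(P : Subgroup G)
  · haveI := hP
    haveI : Fact (Nat.Prime 2) := ⟨Nat.prime_two⟩
    haveI : Nontrivial (Subgroup.center ↥(P : Subgroup G)) := P.isPGroup'.center_nontrivial
    obtain ⟨z, hz1⟩ := exists_ne (1 : Subgroup.center ↥(P : Subgroup G))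
    have hzP : ((z : ↥(P : Subgroup G)) : G) ∈ P := (z : ↥(P : Subgroup G)).2
    have hz1' : ((z : ↥(P : Subgroup G)) : G) ≠ 1 := by
      intro h1
      apply hz1
      apply Subtype.ext
      apply Subtype.ext
      simpa using h1
    obtain ⟨m, hm⟩ := exists_pow_invol (two_pow_of_mem_sylow P hzP) hz1'
    have hcomm : ∀ w ∈ P, w * ((z : ↥(P : Subgroup G)) : G) ^ m =
        ((z : ↥(P : Subgroup G)) : G) ^ m * w := by
      intro w hw
      have h1 : (⟨w, hw⟩ : ↥(P : Subgroup G)) * (z : ↥(P : Subgroup G)) =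
          (z : ↥(P : Subgroup G)) * ⟨w, hw⟩ := by
        have := Subgroup.mem_center_iff.mp z.2 ⟨w, hw⟩
        exact this
      have h2 : w * ((z : ↥(P : Subgroup G)) : G) = ((z : ↥(P : Subgroup G)) : G) * w := by
        have := congrArg Subtype.val h1
        simpa using this
      have h3 : Commute w ((z : ↥(P : Subgroup G)) : G) := h2
      exact (h3.pow_right m).eq
    exact h _ hm x y (hcomm x hx) (hcomm y hy)
  · rw [not_nontrivial_iff_subsingleton] at hP
    have h1 : (⟨x, hx⟩ : ↥(P : Subgroup G)) = ⟨y, hy⟩ := Subsingleton.elim _ _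
    have : x = y := congrArg Subtype.val h1
    rw [this]

theorem sylow_le_CC (h : AC G) (P : Sylow 2 G) : (P : Subgroup G) ≤ CC P := by
  intro x hx
  rw [Subgroup.mem_centralizer_iff]
  intro y hy
  exact sylow_comm h P y hy x hx

theorem cent_invol (h : AC G) (P : Sylow 2 G) {t : G} (ht : orderOf t = 2) (htP : t ∈ P) :
    Subgroup.centralizer ({t} : Set G) = CC P := by
  apply le_antisymm
  · intro x hx
    rw [Subgroup.mem_centralizer_iff] at hx ⊢
    intro y hy
    have hxt : x * t = t * x := (hx t rfl).symm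
    have hyt : y * t = t * y := sylow_comm h P y hy t htP
    exact h t ht y x hyt hxt
  · intro x hx
    rw [Subgroup.mem_centralizer_iff] at hx ⊢
    intro y hy
    rw [Set.mem_singleton_iff] at hy
    subst hy
    exact hx y htP

theorem mem_sylow_of_normalizes (P : Sylow 2 G) {x : G} (hx : ∃ n : ℕ, orderOf x = 2 ^ n)
    (hxN : x ∈ NN P) : x ∈ P := by
  obtain ⟨n, hn⟩ := hx
  have hp : IsPGroup 2 ↥(Subgroup.zpowers x) := by
    apply IsPGroup.of_card (n := n)
    rw [Nat.card_zpowers, hn]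
  have h1 := hp.inf_normalizer_sylow P
  have h2 : x ∈ Subgroup.zpowers x ⊓ Subgroup.normalizer ((P : Subgroup G) : Set G) :=
    ⟨Subgroup.mem_zpowers x, hxN⟩
  exact (h1.le h2).2

theorem sylow_le_of_le_normalizer (P Q : Sylow 2 G) (h : (P : Subgroup G) ≤ NN Q) : P = Q := by
  have h1 := P.isPGroup'.inf_normalizer_sylow Q
  have h2 : (P : Subgroup G) ≤ Q := by
    intro x hx
    have : x ∈ (P : Subgroup G) ⊓ Subgroup.normalizer ((Q : Subgroup G) : Set G) := ⟨hx, h hx⟩
    exact (h1.le this).2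
  exact Sylow.ext (P.is_maximal' Q.isPGroup' h2).symm

theorem sylow_TI (h : AC G) (P Q : Sylow 2 G) {x : G} (hx1 : x ≠ 1) (hxP : x ∈ P) (hxQ : x ∈ Q) :
    P = Q := by
  obtain ⟨m, hm⟩ := exists_pow_invol (two_pow_of_mem_sylow P hxP) hx1
  have htP : x ^ m ∈ P := (P : Subgroup G).pow_mem hxP m
  have htQ : x ^ m ∈ Q := (Q : Subgroup G).pow_mem hxQ m
  have h1 := cent_invol h P hm htP
  have h2 := cent_invol h Q hm htQ
  apply sylow_le_of_le_normalizer
  calc (P : Subgroup G) ≤ CC P := sylow_le_CC h P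
    _ = CC Q := by rw [← h1, h2]
    _ ≤ NN Q := Subgroup.centralizer_le_normalizer _

theorem odd_inf_normalizer (h : AC G) (P Q : Sylow 2 G) (hPQ : P ≠ Q) :
    Odd (Nat.card ↥(NN P ⊓ NN Q)) := by
  apply odd_card_of_no_invol
  intro t ht h2
  have htP : t ∈ P := mem_sylow_of_normalizes P ⟨1, by rw [h2, pow_one]⟩ ht.1
  have htQ : t ∈ Q := mem_sylow_of_normalizes Q ⟨1, by rw [h2, pow_one]⟩ ht.2
  have ht1 : t ≠ 1 := by
    intro h1
    rw [h1, orderOf_one] at h2
    norm_num at h2
  exact hPQ (sylow_TI h P Q ht1 htP htQ)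

theorem NN_smul (P : Sylow 2 G) (g : G) :
    NN (g • P) = (NN P).map (MulAut.conj g).toMonoidHom := by
  unfold NN
  rw [Subgroup.map_equiv_normalizer_eq, Sylow.coe_subgroup_smul, Subgroup.pointwise_smul_def]
  rfl

theorem even_card_sylow (P : Sylow 2 G) (hP : (P : Subgroup G) ≠ ⊥) :
    Even (Nat.card ↥(P : Subgroup G)) := by
  obtain ⟨t, ht, h2⟩ := exists_invol_sylow P hP
  have h3 : orderOf (⟨t, ht⟩ : ↥(P : Subgroup G)) = 2 := by
    rw [← Subgroup.orderOf_coe]; exact h2
  have h4 := orderOf_dvd_natCard (⟨t, ht⟩ : ↥(P : Subgroup G))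
  rw [h3] at h4
  exact even_iff_two_dvd.mpr h4

theorem even_card_of_sylow_le (P : Sylow 2 G) (hP : (P : Subgroup G) ≠ ⊥) (H : Subgroup G)
    (hPH : (P : Subgroup G) ≤ H) : Even (Nat.card ↥H) := by
  have h1 := even_card_sylow P hP
  have h2 : Nat.card ↥(P : Subgroup G) ∣ Nat.card ↥H := Subgroup.card_dvd_of_le hPH
  exact (even_iff_two_dvd.mpr (dvd_trans (even_iff_two_dvd.mp h1) h2))

theorem stronglyEmbedded (hS : Setup G) (P : Sylow 2 G) : Cfsg.IsStronglyEmbedded (NN P) := by
  have hP : (P : Subgroup G) ≠ ⊥ := sylow_ne_bot_of_not_cyclic P (hS.nc P)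
  refine ⟨?_, even_card_of_sylow_le P hP _ Subgroup.le_normalizer, ?_⟩
  · intro htop
    exact hS.nn P (Subgroup.normalizer_eq_top_iff.mp htop)
  · intro g hg
    rw [← NN_smul]
    apply odd_inf_normalizer hS.ac
    intro heq
    exact hg (Sylow.smul_eq_iff_mem_normalizer.mp heq.symm)

theorem three_le_nI (hS : Setup G) (P : Sylow 2 G) : 3 ≤ nI (P : Subgroup G) := by
  classical
  by_contra hlt
  rw [not_le] at hlt
  have hcomm := sylow_comm hS.ac P
  letI : CommGroup ↥(P : Subgroup G) :=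
    { (inferInstance : Group ↥(P : Subgroup G)) with
      mul_comm := fun a b => Subtype.ext (hcomm a a.2 b b.2) }
  let K : Subgroup ↥(P : Subgroup G) := (powMonoidHom 2 : ↥(P : Subgroup G) →* ↥(P : Subgroup G)).ker
  have hKmem : ∀ x : ↥(P : Subgroup G), x ∈ K ↔ x ^ 2 = 1 := by
    intro x
    simp [K, MonoidHom.mem_ker]
  have hcardK : ∃ r : ℕ, Nat.card K = 2 ^ r := by
    haveI : Fact (Nat.Prime 2) := ⟨Nat.prime_two⟩
    have hK : IsPGroup 2 K := P.isPGroup'.to_subgroup K
    exact (IsPGroup.iff_card).mp hK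
  obtain ⟨r, hr⟩ := hcardK
  have hbij : Nat.card K = nI (P : Subgroup G) + 1 := by
    unfold nI
    have e : {x : K // x ≠ 1} ≃ {t : G // t ∈ (P : Subgroup G) ∧ orderOf t = 2} :=
      { toFun := fun x => ⟨((x.1 : K) : ↥(P : Subgroup G)), ((x.1 : K) : ↥(P : Subgroup G)).2, by
          have h1 : ((x.1 : K) : ↥(P : Subgroup G)) ^ 2 = 1 := (hKmem _).mp x.1.2
          have h2 : (((x.1 : K) : ↥(P : Subgroup G)) : G) ^ 2 = 1 := by
            have := congrArg Subtype.val h1
            simpa using this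
          apply orderOf_eq_prime h2
          intro h3
          apply x.2
          apply Subtype.ext
          apply Subtype.ext
          simpa using h3⟩
        invFun := fun t => ⟨⟨⟨t.1, t.2.1⟩, by
          rw [hKmem]
          apply Subtype.ext
          have := pow_orderOf_eq_one t.1
          rw [t.2.2] at this
          simpa using this⟩, by
          intro h1
          have h2 : t.1 = 1 := by
            have := congrArg (fun z : K => ((z : ↥(P : Subgroup G)) : G)) h1
            simpa using this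
          have h3 := t.2.2
          rw [h2, orderOf_one] at h3
          norm_num at h3⟩
        left_inv := fun x => by
          apply Subtype.ext
          apply Subtype.ext
          apply Subtype.ext
          rfl
        right_inv := fun t => by
          apply Subtype.ext
          rfl }
    rw [← Nat.card_congr e]
    have h1 : Nat.card {x : K // x ≠ 1} = Nat.card K - 1 := by
      have := Nat.card_congr (Equiv.Set.sumCompl ({1} : Set K)).symm
      rw [Nat.card_sum] at this
      have h2 : Nat.card ({1} : Set K) = 1 := by simp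
      rw [h2] at this
      have h3 : Nat.card (({1} : Set K)ᶜ : Set K) = Nat.card {x : K // x ≠ 1} := by
        apply Nat.card_congr
        exact Equiv.subtypeEquivRight (fun x => by simp)
      omega
    have hpos : 0 < Nat.card K := Nat.card_pos
    omega
  have hr1 : r ≤ 1 := by
    by_contra hr2
    rw [not_le] at hr2
    have : 2 ^ 2 ≤ 2 ^ r := Nat.pow_le_pow_right (by norm_num) hr2
    omega
  apply hS.nc P
  apply Cfsg.Agent.Lib.Helper22.TiHallE.isCyclic_of_comm_unique_involution P.isPGroup'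
  · intro a b
    exact mul_comm a b
  · intro x y hx hy
    have hxK : x ∈ K := (hKmem x).mpr (by
      have := pow_orderOf_eq_one x
      rw [hx] at this
      exact this)
    have hyK : y ∈ K := (hKmem y).mpr (by
      have := pow_orderOf_eq_one y
      rw [hy] at this
      exact this)
    have hx1 : x ≠ 1 := by
      intro h1; rw [h1, orderOf_one] at hx; norm_num at hx
    have hy1 : y ≠ 1 := by
      intro h1; rw [h1, orderOf_one] at hy; norm_num at hy
    have hK2 : Nat.card K ≤ 2 := by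
      rw [hr]
      calc 2 ^ r ≤ 2 ^ 1 := Nat.pow_le_pow_right (by norm_num) hr1
        _ = 2 := by norm_num
    by_contra hxy
    have h3 : 3 ≤ Nat.card K := by
      have hinj : Function.Injective (fun i : Fin 3 => (![(1 : K), ⟨x, hxK⟩, ⟨y, hyK⟩] i)) := by
        intro i j hij
        fin_cases i <;> fin_cases j <;> simp at hij <;> first
          | rfl
          | (exfalso; first
              | exact hx1 (by simpa using (congrArg Subtype.val hij).symm)
              | exact hx1 (by simpa using (congrArg Subtype.val hij))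
              | exact hy1 (by simpa using (congrArg Subtype.val hij).symm)
              | exact hy1 (by simpa using (congrArg Subtype.val hij))
              | exact hxy (by simpa using (congrArg Subtype.val hij))
              | exact hxy (by simpa using (congrArg Subtype.val hij).symm))
      have := Nat.card_le_card_of_injective _ hinj
      simpa using this
    omega

theorem exists_smul_mem (P : Sylow 2 G) (H : Subgroup G) (hPH : (P : Subgroup G) ≤ H) {t : G}
    (htH : t ∈ H) (ht : ∃ n : ℕ, orderOf t = 2 ^ n) : ∃ h ∈ H, t ∈ h • P := by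
  haveI : Fact (Nat.Prime 2) := ⟨Nat.prime_two⟩
  obtain ⟨n, hn⟩ := ht
  have hp : IsPGroup 2 ↥(Subgroup.zpowers (⟨t, htH⟩ : H)) := by
    apply IsPGroup.of_card (n := n)
    rw [Nat.card_zpowers, ← hn, ← Subgroup.orderOf_coe]
  obtain ⟨T, hT⟩ := hp.exists_le_sylow
  obtain ⟨h, hh⟩ := MulAction.exists_smul_eq H (P.subtype hPH) T
  refine ⟨h.1, h.2, ?_⟩
  have h1 : (⟨t, htH⟩ : H) ∈ T := hT (Subgroup.mem_zpowers _)
  rw [← hh, Sylow.smul_subtype] at h1
  have h2 : (⟨t, htH⟩ : H) ∈ (((h • P).subtype _ : Sylow 2 H) : Subgroup H) := h1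
  rw [Sylow.coe_subtype, Subgroup.mem_subgroupOf] at h2
  exact h2

theorem mem_smul_sylow {g x : G} {P : Sylow 2 G} : x ∈ g • P ↔ g⁻¹ * x * g ∈ P := by
  have h1 : x ∈ ((g • P : Sylow 2 G) : Subgroup G) ↔ x ∈ MulAut.conj g • (P : Subgroup G) := by
    rw [Sylow.coe_subgroup_smul]
  change x ∈ ((g • P : Sylow 2 G) : Subgroup G) ↔ _
  rw [h1, Subgroup.mem_pointwise_smul_iff_inv_smul_mem, MulAut.smul_def, ← map_inv,
    MulAut.conj_apply, inv_inv]
  rfl

theorem NN_smul_le (P : Sylow 2 G) (H : Subgroup G) (hPH : NN P ≤ H) {h : G} (hh : h ∈ H) :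
    NN (h • P) ≤ H := by
  rw [NN_smul]
  rintro _ ⟨n, hn, rfl⟩
  simp only [MulEquiv.coe_toMonoidHom, MulAut.conj_apply]
  exact H.mul_mem (H.mul_mem hh (hPH hn)) (H.inv_mem hh)

/-- a proper subgroup containing the normalizer of a Sylow 2-subgroup is strongly embedded -/
theorem stronglyEmbedded_of_le (hS : Setup G) (P : Sylow 2 G) (H : Subgroup G) (hPH : NN P ≤ H)
    (hH : H ≠ ⊤) : Cfsg.IsStronglyEmbedded H := by
  have hP : (P : Subgroup G) ≠ ⊥ := sylow_ne_bot_of_not_cyclic P (hS.nc P)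
  have hPH' : (P : Subgroup G) ≤ H := le_trans Subgroup.le_normalizer hPH
  refine ⟨hH, even_card_of_sylow_le P hP H hPH', ?_⟩
  intro g hg
  apply odd_card_of_no_invol
  rintro t ⟨htH, htg⟩ h2
  obtain ⟨s, hsH, rfl⟩ := htg
  simp only [MulEquiv.coe_toMonoidHom, MulAut.conj_apply] at htH h2
  have hs2 : orderOf s = 2 := by
    have : orderOf (g * s * g⁻¹) = orderOf s := by
      have := orderOf_injective (MulAut.conj g).toMonoidHom (MulAut.conj g).injective s
      simpa using this
    rw [← this, h2]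
  obtain ⟨h1, hh1, ht1⟩ := exists_smul_mem P H hPH' htH ⟨1, by rw [h2, pow_one]⟩
  obtain ⟨h2', hh2, hs1⟩ := exists_smul_mem P H hPH' hsH ⟨1, by rw [hs2, pow_one]⟩
  have ht2 : g * s * g⁻¹ ∈ (g * h2') • P := by
    rw [mul_smul]
    rw [mem_smul_sylow]
    have : g⁻¹ * (g * s * g⁻¹) * g = s := by group
    rw [this]
    exact hs1
  have hne : g * s * g⁻¹ ≠ 1 := by
    intro h1'
    rw [h1', orderOf_one] at h2
    norm_num at h2
  have heq := sylow_TI hS.ac _ _ hne ht1 ht2
  have h3 : (h1⁻¹ * (g * h2')) • P = P := by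
    rw [mul_smul, ← heq, smul_smul, inv_mul_cancel, one_smul]
  have h4 : h1⁻¹ * (g * h2') ∈ H := hPH (Sylow.smul_eq_iff_mem_normalizer.mp h3)
  apply hg
  have : g = h1 * (h1⁻¹ * (g * h2')) * h2'⁻¹ := by group
  rw [this]
  exact H.mul_mem (H.mul_mem hh1 h4) (H.inv_mem hh2)

/-- there is an involution outside any proper subgroup containing a Sylow normalizer -/
theorem exists_invol_not_mem (hS : Setup G) (P : Sylow 2 G) (H : Subgroup G) (hPH : NN P ≤ H)
    (hH : H ≠ ⊤) : ∃ u : G, orderOf u = 2 ∧ u ∉ H := by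
  by_contra hall
  push Not at hall
  have hP : (P : Subgroup G) ≠ ⊥ := sylow_ne_bot_of_not_cyclic P (hS.nc P)
  have hPH' : (P : Subgroup G) ≤ H := le_trans Subgroup.le_normalizer hPH
  obtain ⟨t, htP, ht2⟩ := exists_invol_sylow P hP
  obtain ⟨g, hg⟩ : ∃ g : G, g ∉ H := by
    by_contra hne
    push Not at hne
    exact hH (eq_top_iff.mpr (fun x _ => hne x))
  have hse := stronglyEmbedded_of_le hS P H hPH hH
  have hodd := hse.2.2 g hg
  have ho : orderOf (g * t * g⁻¹) = 2 := by
    have := orderOf_injective (MulAut.conj g).toMonoidHom (MulAut.conj g).injective t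
    simp only [MulEquiv.coe_toMonoidHom, MulAut.conj_apply] at this
    rw [this, ht2]
  have hmem : g * t * g⁻¹ ∈ H ⊓ H.map (MulAut.conj g).toMonoidHom :=
    ⟨hall _ ho, ⟨t, hPH' htP, by simp⟩⟩
  have hdvd : orderOf (⟨g * t * g⁻¹, hmem⟩ : ↥(H ⊓ H.map (MulAut.conj g).toMonoidHom)) ∣
      Nat.card ↥(H ⊓ H.map (MulAut.conj g).toMonoidHom) := orderOf_dvd_natCard _
  rw [← Subgroup.orderOf_coe] at hdvd
  simp only at hdvd
  rw [ho] at hdvd
  exact (Nat.not_even_iff_odd.mpr hodd) (even_iff_two_dvd.mpr hdvd)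

/-- product of two involutions in different Sylows has odd order -/
theorem odd_orderOf_mul (h : AC G) (P : Sylow 2 G) {t i : G} (ht : orderOf t = 2) (htP : t ∈ P)
    (hi : orderOf i = 2) (hiP : i ∉ NN P) : Odd (orderOf (t * i)) := by
  rw [← Nat.not_even_iff_odd]
  rintro ⟨m, hm⟩
  have ht2 : t * t = 1 := by
    have := pow_orderOf_eq_one t
    rw [ht, pow_two] at this
    exact this
  have hi2 : i * i = 1 := by
    have := pow_orderOf_eq_one i
    rw [hi, pow_two] at this
    exact this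
  have htinv : t⁻¹ = t := inv_eq_of_mul_eq_one_left ht2
  have hiinv : i⁻¹ = i := inv_eq_of_mul_eq_one_left hi2
  have hpos : 0 < orderOf (t * i) := orderOf_pos _
  have hm0 : m ≠ 0 := by omega
  set z := (t * i) ^ m with hz
  have hz2 : z ^ 2 = 1 := by
    rw [hz, ← pow_mul, show m * 2 = orderOf (t * i) by omega]
    exact pow_orderOf_eq_one _
  have hz1 : z ≠ 1 := by
    intro h1
    have := orderOf_dvd_of_pow_eq_one h1
    have := Nat.le_of_dvd (Nat.pos_of_ne_zero hm0) this
    omega
  have hzo : orderOf z = 2 := orderOf_eq_prime hz2 hz1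
  have hzinv : z⁻¹ = z := by
    apply inv_eq_of_mul_eq_one_left
    rw [← pow_two]; exact hz2
  have hconj_t : t * (t * i) * t⁻¹ = (t * i)⁻¹ := by
    rw [mul_inv_rev, htinv, hiinv]
    rw [← mul_assoc, ht2, one_mul]
  have hconj_i : i * (t * i) * i⁻¹ = (t * i)⁻¹ := by
    rw [mul_inv_rev, htinv, hiinv]
    rw [mul_assoc, mul_assoc, hi2, mul_one]
  have hzt : t * z * t⁻¹ = z := by
    have h1 : t * z * t⁻¹ = (t * (t * i) * t⁻¹) ^ m := by
      rw [hz, conj_pow]
    rw [h1, hconj_t, inv_pow, ← hz, hzinv]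
  have hzi : i * z * i⁻¹ = z := by
    have h1 : i * z * i⁻¹ = (i * (t * i) * i⁻¹) ^ m := by
      rw [hz, conj_pow]
    rw [h1, hconj_i, inv_pow, ← hz, hzinv]
  have hzt' : z * t = t * z := by
    have := congrArg (· * t) hzt
    simp only [inv_mul_cancel_right] at this
    exact this.symm
  have hzC : z ∈ CC P := by
    rw [← cent_invol h P ht htP, Subgroup.mem_centralizer_iff]
    intro y hy
    rw [Set.mem_singleton_iff] at hy
    subst hy
    exact hzt'.symm
  have hzP : z ∈ P := mem_sylow_of_normalizes P ⟨1, by rw [hzo, pow_one]⟩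
    (Subgroup.centralizer_le_normalizer _ hzC)
  have hiC : i ∈ CC P := by
    rw [← cent_invol h P hzo hzP, Subgroup.mem_centralizer_iff]
    intro y hy
    rw [Set.mem_singleton_iff] at hy
    subst hy
    have := congrArg (· * i) hzi
    simp only [inv_mul_cancel_right] at this
    exact this.symm
  exact hiP (Subgroup.centralizer_le_normalizer _ hiC)

end Cfsg.Agent.Lib.helper2.AbCent
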