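import Mathlib
import Cfsg.Agent.Lib.helper2.AbCentB
import Cfsg.Agent.Lib.Helper20.CocyclicGen

set_option autoImplicit false

namespace Cfsg.Agent.Lib.helper2.AbCent
open Cfsg.Agent.Lib.helper6.AbCent
open scoped Pointwise

universe u
variable {G : Type u} [Group G] [Finite G]

theorem CC_comm (hS : Setup G) (P : Sylow 2 G) : ∀ a ∈ CC P, ∀ b ∈ CC P, a * b = b * a := by
  intro a ha b hb
  have hP : (P : Subgroup G) ≠ ⊥ := sylow_ne_bot_of_not_cyclic P (hS.nc P)
  obtain ⟨t, htP, ht2⟩ := exists_invol_sylow P hP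
  rw [Subgroup.mem_centralizer_iff] at ha hb
  exact hS.ac t ht2 a b (ha t htP).symm (hb t htP).symm

theorem odd_lcm {a b : ℕ} (ha : Odd a) (hb : Odd b) : Odd (Nat.lcm a b) := by
  rw [← Nat.not_even_iff_odd, even_iff_two_dvd] at ha hb ⊢
  intro h
  have h1 : 2 ∣ a * b := dvd_trans h (Nat.lcm_dvd_mul a b)
  rcases (Nat.Prime.dvd_mul Nat.prime_two).mp h1 with h2 | h2
  · exact ha h2
  · exact hb h2

theorem odd_of_dvd_odd {a b : ℕ} (h : a ∣ b) (hb : Odd b) : Odd a := by
  rw [← Nat.not_even_iff_odd, even_iff_two_dvd] at hb ⊢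
  intro h2
  exact hb (dvd_trans h2 h)

/-- the odd-order elements of `C(P)` as a subgroup -/
def oddCC (hS : Setup G) (P : Sylow 2 G) : Subgroup G where
  carrier := {x | x ∈ CC P ∧ Odd (orderOf x)}
  one_mem' := ⟨(CC P).one_mem, by rw [orderOf_one]; exact odd_one⟩
  mul_mem' := by
    rintro a b ⟨ha, hao⟩ ⟨hb, hbo⟩
    refine ⟨(CC P).mul_mem ha hb, ?_⟩
    have hc : Commute a b := CC_comm hS P a ha b hb
    exact odd_of_dvd_odd hc.orderOf_mul_dvd_lcm (odd_lcm hao hbo)
  inv_mem' := by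
    rintro a ⟨ha, hao⟩
    exact ⟨(CC P).inv_mem ha, by rw [orderOf_inv]; exact hao⟩

theorem mem_KK (hS : Setup G) (P : Sylow 2 G) {x : G} :
    x ∈ KK P ↔ x ∈ CC P ∧ Odd (orderOf x) := by
  constructor
  · intro hx
    have h1 : KK P ≤ oddCC hS P := by
      unfold KK
      rw [Subgroup.closure_le]
      intro y hy
      exact hy
    exact h1 hx
  · intro hx
    exact Subgroup.subset_closure hx

theorem odd_card_KK (hS : Setup G) (P : Sylow 2 G) : Odd (Nat.card ↥(KK P)) := by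
  apply odd_card_of_no_invol
  intro t ht h2
  have := ((mem_KK hS P).mp ht).2
  rw [h2] at this
  exact (by decide : ¬ Odd 2) this

theorem mem_CC_smul {g x : G} {P : Sylow 2 G} : x ∈ CC (g • P) ↔ g⁻¹ * x * g ∈ CC P := by
  unfold CC
  rw [Subgroup.mem_centralizer_iff, Subgroup.mem_centralizer_iff]
  constructor
  · intro h z hz
    have h1 : g * z * g⁻¹ ∈ ((g • P : Sylow 2 G) : Subgroup G) := by
      change g * z * g⁻¹ ∈ g • P
      rw [mem_smul_sylow]
      have : g⁻¹ * (g * z * g⁻¹) * g = z := by group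
      rw [this]
      exact hz
    have h2 := h _ h1
    calc z * (g⁻¹ * x * g) = g⁻¹ * ((g * z * g⁻¹) * x) * g := by group
      _ = g⁻¹ * (x * (g * z * g⁻¹)) * g := by rw [h2]
      _ = g⁻¹ * x * g * z := by group
  · intro h y hy
    have hy' : y ∈ g • P := hy
    rw [mem_smul_sylow] at hy'
    have h2 := h _ hy'
    calc y * x = g * ((g⁻¹ * y * g) * (g⁻¹ * x * g)) * g⁻¹ := by group
      _ = g * ((g⁻¹ * x * g) * (g⁻¹ * y * g)) * g⁻¹ := by rw [h2]
      _ = x * y := by group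

theorem KK_smul (P : Sylow 2 G) (g : G) : KK (g • P) = (KK P).map (MulAut.conj g).toMonoidHom := by
  unfold KK
  rw [MonoidHom.map_closure]
  congr 1
  ext x
  simp only [Set.mem_setOf_eq, Set.mem_image, MulEquiv.coe_toMonoidHom, MulAut.conj_apply]
  constructor
  · rintro ⟨hx, hxo⟩
    refine ⟨g⁻¹ * x * g, ⟨mem_CC_smul.mp hx, ?_⟩, by group⟩
    have := orderOf_injective (MulAut.conj g⁻¹).toMonoidHom (MulAut.conj g⁻¹).injective x
    simp only [MulEquiv.coe_toMonoidHom, MulAut.conj_apply, inv_inv] at this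
    rw [this]
    exact hxo
  · rintro ⟨y, ⟨hy, hyo⟩, rfl⟩
    refine ⟨mem_CC_smul.mpr ?_, ?_⟩
    · have : g⁻¹ * (g * y * g⁻¹) * g = y := by group
      rw [this]
      exact hy
    · have := orderOf_injective (MulAut.conj g).toMonoidHom (MulAut.conj g).injective y
      simp only [MulEquiv.coe_toMonoidHom, MulAut.conj_apply] at this
      rw [this]
      exact hyo

theorem NN_le_normalizer_KK (P : Sylow 2 G) : NN P ≤ Subgroup.normalizer ((KK P : Subgroup G) : Set G) := by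
  intro n hn
  have h1 : n • P = P := Sylow.smul_eq_iff_mem_normalizer.mpr hn
  have h2 : KK P = (KK P).map (MulAut.conj n).toMonoidHom := by
    conv_lhs => rw [← h1]
    exact KK_smul P n
  rw [Subgroup.mem_normalizer_iff]
  intro h
  constructor
  · intro hh
    rw [h2]
    exact ⟨h, hh, by simp⟩
  · intro hh
    rw [h2] at hh
    obtain ⟨k, hk, hkh⟩ := hh
    simp only [MulEquiv.coe_toMonoidHom, MulAut.conj_apply] at hkh
    have : k = h := by
      have := congrArg (fun z => n⁻¹ * z * n) hkh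
      have e1 : n⁻¹ * (n * k * n⁻¹) * n = k := by group
      have e2 : n⁻¹ * (n * h * n⁻¹) * n = h := by group
      rw [e1, e2] at this
      exact this
    rw [← this]
    exact hk

theorem mem_CC_decomp (hS : Setup G) (P : Sylow 2 G) {c : G} (hc : c ∈ CC P) :
    ∃ x ∈ P, ∃ k ∈ KK P, c = x * k := by
  have ho : orderOf c ≠ 0 := (orderOf_pos c).ne'
  obtain ⟨k, m, hm, hkm⟩ := Nat.exists_eq_two_pow_mul_odd ho
  have hcop : Nat.Coprime (2 ^ k) m := by
    apply Nat.Coprime.pow_left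
    exact Nat.coprime_two_left.mpr hm
  have hb := Nat.gcd_eq_gcd_ab (2 ^ k) m
  rw [hcop.gcd_eq_one] at hb
  set A := Nat.gcdA (2 ^ k) m
  set B := Nat.gcdB (2 ^ k) m
  have hco : c ^ ((2 ^ k * m : ℕ) : ℤ) = 1 := by
    rw [zpow_natCast, ← hkm]
    exact pow_orderOf_eq_one c
  refine ⟨c ^ ((m : ℤ) * B), ?_, c ^ (((2 ^ k : ℕ) : ℤ) * A), ?_, ?_⟩
  · apply mem_sylow_of_normalizes P
    · have h1 : (c ^ ((m : ℤ) * B)) ^ (2 ^ k) = 1 := by
        rw [← zpow_natCast, ← zpow_mul]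
        have : (m : ℤ) * B * ((2 ^ k : ℕ) : ℤ) = ((2 ^ k * m : ℕ) : ℤ) * B := by
          push_cast; ring
        rw [this, zpow_mul, hco, one_zpow]
      obtain ⟨j, _, hj⟩ := (Nat.dvd_prime_pow Nat.prime_two).1 (orderOf_dvd_of_pow_eq_one h1)
      exact ⟨j, hj⟩
    · exact Subgroup.centralizer_le_normalizer _ ((CC P).zpow_mem hc _)
  · rw [mem_KK hS P]
    refine ⟨(CC P).zpow_mem hc _, ?_⟩
    have h1 : (c ^ (((2 ^ k : ℕ) : ℤ) * A)) ^ m = 1 := by
      rw [← zpow_natCast, ← zpow_mul]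
      have : ((2 ^ k : ℕ) : ℤ) * A * (m : ℤ) = ((2 ^ k * m : ℕ) : ℤ) * A := by
        push_cast; ring
      rw [this, zpow_mul, hco, one_zpow]
    exact odd_of_dvd_odd (orderOf_dvd_of_pow_eq_one h1) hm
  · rw [← zpow_add]
    have : (m : ℤ) * B + ((2 ^ k : ℕ) : ℤ) * A = 1 := by
      have hb' : (1 : ℤ) = ((2 ^ k : ℕ) : ℤ) * A + (m : ℤ) * B := by
        rw [← hb]; simp
      rw [hb']; ring
    rw [this, zpow_one]

theorem KK_le_CC (P : Sylow 2 G) : KK P ≤ CC P := by
  unfold KK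
  rw [Subgroup.closure_le]
  intro x hx
  exact hx.1

theorem CC_eq_sup (hS : Setup G) (P : Sylow 2 G) : CC P = (P : Subgroup G) ⊔ KK P := by
  apply le_antisymm
  · intro c hc
    obtain ⟨x, hx, k, hk, rfl⟩ := mem_CC_decomp hS P hc
    exact Subgroup.mul_mem_sup hx hk
  · exact sup_le (sylow_le_CC hS.ac P) (KK_le_CC P)

theorem clean_iff_KK (hS : Setup G) (P : Sylow 2 G) : Clean G ↔ KK P = ⊥ := by
  have hP : (P : Subgroup G) ≠ ⊥ := sylow_ne_bot_of_not_cyclic P (hS.nc P)
  constructor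
  · intro hc
    rw [Subgroup.eq_bot_iff_forall]
    intro x hx
    obtain ⟨hxC, hxo⟩ := (mem_KK hS P).mp hx
    obtain ⟨t, htP, ht2⟩ := exists_invol_sylow P hP
    rw [Subgroup.mem_centralizer_iff] at hxC
    obtain ⟨n, hn⟩ := hc t x ht2 (hxC t htP).symm
    rw [hn] at hxo
    have hn0 : n = 0 := by
      by_contra h0
      have : Even (2 ^ n) := (Nat.even_pow' h0).mpr even_two
      exact (Nat.not_even_iff_odd.mpr hxo) this
    rw [hn0, pow_zero, orderOf_eq_one_iff] at hn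
    exact hn
  · intro hK t x ht2 hxt
    haveI : Fact (Nat.Prime 2) := ⟨Nat.prime_two⟩
    have hp : IsPGroup 2 ↥(Subgroup.zpowers t) := by
      apply IsPGroup.of_card (n := 1)
      rw [Nat.card_zpowers, ht2, pow_one]
    obtain ⟨Q, hQ⟩ := hp.exists_le_sylow
    obtain ⟨g, rfl⟩ := MulAction.exists_smul_eq G P Q
    have htQ : t ∈ g • P := hQ (Subgroup.mem_zpowers t)
    have hxC : x ∈ CC (g • P) := by
      rw [← cent_invol hS.ac (g • P) ht2 htQ, Subgroup.mem_centralizer_iff]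
      intro y hy
      rw [Set.mem_singleton_iff] at hy
      subst hy
      exact hxt.symm
    obtain ⟨y, hy, k, hk, rfl⟩ := mem_CC_decomp hS (g • P) hxC
    rw [KK_smul, hK, Subgroup.map_bot, Subgroup.mem_bot] at hk
    rw [hk, mul_one]
    exact two_pow_of_mem_sylow (g • P) hy

/-- odd-order subgroups normalized by a Sylow 2-subgroup centralize it -/
theorem odd_le_CC (hS : Setup G) (P : Sylow 2 G) (X : Subgroup G) (hodd : Odd (Nat.card X))
    (hPX : (P : Subgroup G) ≤ Subgroup.normalizer (X : Set G)) : X ≤ KK P := by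
  haveI : Fact (Nat.Prime 2) := ⟨Nat.prime_two⟩
  haveI : IsMulCommutative ↥(P : Subgroup G) :=
    ⟨⟨fun a b => Subtype.ext (sylow_comm hS.ac P a a.2 b b.2)⟩⟩
  apply Cfsg.Agent.Lib.Helper20.gen_by_centralizers_mod (P : Subgroup G) ⊥ X bot_le bot_le ?_ hPX ?_
    (KK P) ?_
  · rintro ⟨a, ha, hcyc⟩
    rw [bot_sup_eq] at hcyc
    apply hS.nc P
    rw [← hcyc]
    infer_instance
  · obtain ⟨n, hn⟩ := (IsPGroup.iff_card).mp P.isPGroup'
    rw [hn]
    apply Nat.Coprime.pow_left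
    exact Nat.coprime_two_left.mpr hodd
  · intro a ha ha1 y hy
    rw [Subgroup.mem_bot] at ha1
    obtain ⟨m, hm⟩ := exists_pow_invol (two_pow_of_mem_sylow P ha) ha1
    have htP : a ^ m ∈ P := (P : Subgroup G).pow_mem ha m
    rw [mem_KK hS P]
    constructor
    · rw [← cent_invol hS.ac P hm htP, Subgroup.mem_centralizer_iff]
      intro z hz
      rw [Set.mem_singleton_iff] at hz
      subst hz
      have h1 : y ∈ Subgroup.centralizer ({a} : Set G) := hy.2
      rw [Subgroup.mem_centralizer_iff] at h1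
      have h2 : Commute a y := h1 a rfl
      exact (h2.pow_left m).eq
    · have h1 : orderOf (⟨y, hy.1⟩ : X) ∣ Nat.card X := orderOf_dvd_natCard _
      rw [← Subgroup.orderOf_coe] at h1
      exact odd_of_dvd_odd h1 hodd

end Cfsg.Agent.Lib.helper2.AbCent
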