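import Mathlib
import Cfsg.Agent.Lib.Lead.BCG.Defs
import Cfsg.Agent.Lib.helper15.BCGTRANSFER

set_option autoImplicit false
set_option linter.unusedVariables false
set_option linter.unusedSectionVars false

/-!
# Project BCG (S2474), row T2a (`altb_of_sctx`), VERBATIM from `Lead/BCG/Skel.lean.txt`: for a fixed-point-free symplectic isometry `x` of odd order `N`,
`altB A x N : (u, v) ↦ A u ((x - x⁻¹) v)` is a symmetric nondegenerate `x`-invariant form, preserved by the isometries commuting with `x`.
-/

namespace Cfsg.Agent.Lib.Lead.BCG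

open Polynomial Module Matrix Cfsg.Agent.Lib.Helper13.S5955 Cfsg.Agent.Lib.helper15.S5972
  Cfsg.Agent.Lib.Helper18.ONE Cfsg.Agent.Lib.Lead.BCS

/-- membership in `fixS` -/
theorem bcgt2a_mem_fix {F : Type*} [Field F] {V : Type*} [AddCommGroup V] [Module F V]
    (x : Module.End F V) (v : V) (hv : x v = v) : v ∈ fixS x := by
  unfold fixS
  rw [LinearMap.mem_ker, map_sub, aeval_X, map_one, LinearMap.sub_apply, hv, Module.End.one_apply, sub_self]

/-- `x - x ^ (N - 1)` is injective when `N` is odd, `x ^ N = 1`, and `x` has no fixed vector -/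
theorem bcgt2a_inj {F : Type*} [Field F] {V : Type*} [AddCommGroup V] [Module F V]
    {N : ℕ} (hNo : Odd N) (x : Module.End F V) (hpow : x ^ N = 1) (hfix : fixS x = ⊥) :
    Function.Injective (x - x ^ (N - 1)) := by
  have hN0 : 0 < N := hNo.pos
  rw [← LinearMap.ker_eq_bot, LinearMap.ker_eq_bot']
  intro v hv
  rw [LinearMap.sub_apply, sub_eq_zero] at hv
  -- `x (x v) = v`
  have h2 : x (x v) = v := by
    rw [hv, bcgtr_inv x N hN0 hpow]
  -- `(x ^ (2 k)) v = v`
  have hk : ∀ k : ℕ, (x ^ (2 * k)) v = v := by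
    intro k
    induction k with
    | zero => simp
    | succ k ih =>
      have : 2 * (k + 1) = 2 * k + 1 + 1 := by ring
      rw [this, pow_succ, pow_succ, Module.End.mul_apply, Module.End.mul_apply, h2, ih]
  obtain ⟨k, rfl⟩ := hNo
  have h3 : (x ^ (2 * k + 1)) v = v := by rw [hpow, Module.End.one_apply]
  rw [pow_succ, Module.End.mul_apply] at h3
  have h4 : x v = v := by
    -- from `(x^(2k)) (x v) = v` and `(x^(2k)) (x v) = x v` (apply `hk` to `x v`)
    have hk' : (x ^ (2 * k)) (x v) = x v := by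
      have hc : (x ^ (2 * k)) (x v) = x ((x ^ (2 * k)) v) := by
        rw [← Module.End.mul_apply, ← Module.End.mul_apply, ← pow_succ, ← pow_succ']
      rw [hc, hk]
    rw [← hk', h3]
  have h6 := bcgt2a_mem_fix x v h4
  rw [hfix] at h6
  exact (Submodule.mem_bot F).mp h6

/-- T2a [M] -/
theorem altb_of_sctx {F : Type*} [Field F] {V : Type*} [AddCommGroup V] [Module F V]
    [FiniteDimensional F V] {N : ℕ} (hNo : Odd N) {A : LinearMap.BilinForm F V}
    {x : Module.End F V} (h : SCtx N A x) (hfix : fixS x = ⊥) :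
    OCtx N (altB A x N) x ∧
      ∀ g : Module.End F V, (∀ u v, A (g u) (g v) = A u v) → Commute g x →
        ∀ u v, altB A x N (g u) (g v) = altB A x N u v := by
  have hN0 : 0 < N := hNo.pos
  have hinj := bcgt2a_inj hNo x h.pow hfix
  have hsurj : Function.Surjective (x - x ^ (N - 1)) := LinearMap.surjective_of_injective hinj
  refine ⟨⟨?_, ?_, ?_, h.pow⟩, ?_⟩
  · exact bcgtr_symm_of_alt A x N hN0 h.pow h.pres h.alt
  · intro u hu
    apply h.nd
    intro w
    obtain ⟨v, rfl⟩ := hsurj w
    have := hu v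
    rw [altB_apply, ← LinearMap.sub_apply] at this
    exact this
  · exact bcgtr_inv_pres A x N h.pres
  · intro g hg hc u v
    exact bcgtr_pres A g x hc N hg u v

end Cfsg.Agent.Lib.Lead.BCG
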