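import Mathlib
import Cfsg.Agent.Lib.helper14.CTE.Defs
import Cfsg.Agent.Lib.helper8.CTEAPI

/-!
# Project CTE (leader: helper14), piece LIFT : `lift_inv`, `lift_comm`, `lift_central`

Lifting involutions through `π : SL3 F →* G` with central kernel: the centre of `SL3 F` has exponent 3.
-/

set_option autoImplicit false
set_option linter.unusedVariables false

namespace Cfsg.Agent.Lib.helper14.CTE

open Matrix

universe u v w

variable {F : Type u} [Field F] {G : Type v} [Group G] {ι : Type w}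

/-- an element with `k ^ 2 = 1` and `k ^ 3 = 1` is trivial -/
theorem ctelift_two_three {H : Type*} [Group H] (k : H) (h2 : k * k = 1) (h3 : k ^ 3 = 1) : k = 1 := by
  have : k ^ 3 = k * k * k := by rw [pow_succ, pow_two]
  rw [this, h2, one_mul] at h3
  exact h3

/-- if `u = k * w` with `k` central of order dividing 3 and `u`, `w` involutions, then `k = 1` -/
theorem ctelift_key (k u w : SL3 F) (hk : k ∈ Subgroup.center (SL3 F)) (hu : u * u = 1)
    (hw : w * w = 1) (h : u = k * w) : k = 1 := by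
  apply ctelift_two_three k _ (api_center_cube k hk)
  have hkw : w * k = k * w := (Subgroup.mem_center_iff.mp hk w)
  have : u * u = k * k * (w * w) := by
    rw [h]
    calc k * w * (k * w) = k * (w * k) * w := by simp only [mul_assoc]
      _ = k * k * (w * w) := by rw [hkw]; simp only [mul_assoc]
  rw [hu, hw, mul_one] at this
  exact this.symm

/-- LIFT: an involution `a` of `π(SL3 F)`, central in the subgroup `A`, has a lift `t` with `t² = 1`, and every
lift of an element of `A` commutes with `t`.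
(take `g` with `π g = a`, `t = g ^ 3`; `g² ∈ ker π ≤` centre, which has exponent 3.) -/
theorem lift_inv (π : SL3 F →* G) (hker : π.ker ≤ Subgroup.center (SL3 F))
    (A : Subgroup G) (a : G) (ha : a ∈ π.range) (hcent : ∀ g ∈ A, a * g = g * a) (ha2 : a * a = 1) :
    ∃ t : SL3 F, t * t = 1 ∧ π t = a ∧ ∀ g : SL3 F, π g ∈ A → g * t = t * g := by
  obtain ⟨g₀, rfl⟩ := ha
  have hg2 : g₀ * g₀ ∈ Subgroup.center (SL3 F) := by
    apply hker
    rw [MonoidHom.mem_ker, map_mul, ha2]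
  have h6 : (g₀ * g₀) ^ 3 = 1 := api_center_cube _ hg2
  have ht2 : g₀ ^ 3 * g₀ ^ 3 = 1 := by
    rw [← h6, ← pow_two, ← pow_mul, ← pow_two, ← pow_mul]
  have hπt : π (g₀ ^ 3) = π g₀ := by
    rw [map_pow, pow_succ, pow_two, ha2, one_mul]
  refine ⟨g₀ ^ 3, ht2, hπt, ?_⟩
  intro g hg
  -- `c = g t g⁻¹ t⁻¹` is in the kernel
  set t := g₀ ^ 3 with ht
  have hc : g * t * g⁻¹ * t⁻¹ ∈ Subgroup.center (SL3 F) := by
    apply hker
    rw [MonoidHom.mem_ker, map_mul, map_mul, map_mul, map_inv, map_inv, hπt]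
    have := hcent (π g) hg
    calc π g * π g₀ * (π g)⁻¹ * (π g₀)⁻¹ = (π g₀ * π g) * (π g)⁻¹ * (π g₀)⁻¹ := by rw [this]
      _ = 1 := by group
  have hu : (g * t * g⁻¹) * (g * t * g⁻¹) = 1 := by
    calc (g * t * g⁻¹) * (g * t * g⁻¹) = g * (t * t) * g⁻¹ := by group
      _ = 1 := by rw [ht2]; group
  have hk := ctelift_key (g * t * g⁻¹ * t⁻¹) (g * t * g⁻¹) t hc hu ht2 (by group)
  calc g * t = (g * t * g⁻¹ * t⁻¹) * t * g := by group
    _ = t * g := by rw [hk, one_mul]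

/-- LIFTC: involutions of `SL3 F` whose images commute, commute. -/
theorem lift_comm (π : SL3 F →* G) (hker : π.ker ≤ Subgroup.center (SL3 F))
    (t₁ t₂ : SL3 F) (h1 : t₁ * t₁ = 1) (h2 : t₂ * t₂ = 1) (hc : π t₁ * π t₂ = π t₂ * π t₁) :
    t₁ * t₂ = t₂ * t₁ := by
  have hcen : t₁ * t₂ * t₁⁻¹ * t₂⁻¹ ∈ Subgroup.center (SL3 F) := by
    apply hker
    rw [MonoidHom.mem_ker, map_mul, map_mul, map_mul, map_inv, map_inv, hc]
    group
  have hu : (t₁ * t₂ * t₁⁻¹) * (t₁ * t₂ * t₁⁻¹) = 1 := by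
    calc (t₁ * t₂ * t₁⁻¹) * (t₁ * t₂ * t₁⁻¹) = t₁ * (t₂ * t₂) * t₁⁻¹ := by group
      _ = 1 := by rw [h2]; group
  have hk := ctelift_key (t₁ * t₂ * t₁⁻¹ * t₂⁻¹) (t₁ * t₂ * t₁⁻¹) t₂ hcen hu h2 (by group)
  calc t₁ * t₂ = (t₁ * t₂ * t₁⁻¹ * t₂⁻¹) * t₂ * t₁ := by group
    _ = t₂ * t₁ := by rw [hk, one_mul]

/-- LIFTU: a central involution of `SL3 F` is trivial. -/
theorem lift_central (t : SL3 F) (h1 : t * t = 1) (hc : ∀ g : SL3 F, g * t = t * g) : t = 1 :=
  ctelift_two_three t h1 (api_center_cube t (Subgroup.mem_center_iff.mpr hc))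

end Cfsg.Agent.Lib.helper14.CTE
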