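import Mathlib
import Cfsg.Agent.Lib.helper14.CTE.Defs
import Cfsg.Agent.Lib.helper8.CTEAPI

/-!
# Project CTE (leader: helper14), piece PLIFT : `lift_p`

An element `x` of `π(SL3 F)` with `x ^ p = 1` (`p` the characteristic) has a lift `g` with `g ^ p = 1`:
for `p = 3` the centre of `SL3 F` is trivial, for `p ≠ 3` take `g₀ ^ (3 j)` with `3 j ≡ 1 mod p`.
-/

set_option autoImplicit false
set_option linter.unusedVariables false

namespace Cfsg.Agent.Lib.helper14.CTE

open Matrix

universe u v w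

variable {F : Type u} [Field F] {G : Type v} [Group G] {ι : Type w}

/-- in characteristic 3 the centre of `SL3 F` is trivial -/
theorem cteplift_center_char3 [CharP F 3] (k : SL3 F) (h : k ∈ Subgroup.center (SL3 F)) : k = 1 := by
  obtain ⟨r, hr, hk⟩ := Matrix.SpecialLinearGroup.mem_center_iff.mp h
  simp only [Fintype.card_fin] at hr
  have : Fact (Nat.Prime 3) := ⟨Nat.prime_three⟩
  have h1 : (r - 1) ^ 3 = 0 := by
    rw [sub_pow_char (p := 3) r 1, hr, one_pow, sub_self]
  have h2 : r = 1 := by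
    have := pow_eq_zero_iff (n := 3) (by norm_num) |>.mp h1
    exact sub_eq_zero.mp this
  apply Subtype.ext
  rw [← hk, h2]
  simp

/-- PLIFT: an element `x` of `π(SL3 F)` with `x ^ p = 1` has a lift `g` with `g ^ p = 1`
(`p = 3`: the centre is trivial; `p ≠ 3`: `g ^ (3 j)` with `3 j ≡ 1 mod p`). -/
theorem lift_p (p : ℕ) [Fact p.Prime] [CharP F p] (π : SL3 F →* G)
    (hker : π.ker ≤ Subgroup.center (SL3 F)) (x : G) (hx : x ∈ π.range) (hxp : x ^ p = 1) :
    ∃ g : SL3 F, π g = x ∧ g ^ p = 1 := by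
  obtain ⟨g₀, rfl⟩ := hx
  have hp : p.Prime := Fact.out
  have hcen : g₀ ^ p ∈ Subgroup.center (SL3 F) := by
    apply hker
    rw [MonoidHom.mem_ker, map_pow, hxp]
  by_cases h3 : p = 3
  · subst h3
    exact ⟨g₀, rfl, cteplift_center_char3 _ hcen⟩
  · -- `3 j ≡ 1 mod p`
    have hcop : Nat.Coprime 3 p := by
      rw [Nat.coprime_primes Nat.prime_three hp]
      exact fun h => h3 h.symm
    have h3p : (g₀ ^ p) ^ 3 = 1 := api_center_cube _ hcen
    obtain ⟨j, -, hj⟩ := Nat.exists_mul_mod_eq_one_of_coprime hcop hp.one_lt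
    refine ⟨g₀ ^ (3 * j), ?_, ?_⟩
    · -- `π g₀ ^ (3 j) = π g₀`
      rw [map_pow]
      have h1 : 3 * j = p * (3 * j / p) + 1 := by
        have := Nat.div_add_mod (3 * j) p
        omega
      rw [h1, pow_succ, pow_mul, hxp, one_pow, one_mul]
    · have h2 : (g₀ ^ (3 * j)) ^ p = ((g₀ ^ p) ^ 3) ^ j := by
        rw [← pow_mul, ← pow_mul, ← pow_mul]
        congr 1
        ring
      rw [h2, h3p, one_pow]

end Cfsg.Agent.Lib.helper14.CTE
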