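import Mathlib
import Cfsg.Agent.Lib.helper23.P4S.Defs

set_option autoImplicit false

/-!
# Project P4S (S3466), row U4 (`root_data`), core: the statements of U4a (`data_swap`) and U4b (`data_fix`) are hypotheses;
U3 (`frob_y`) is proved here under the name `p4su4_frob`.
-/

namespace Cfsg.Agent.Lib.helper23.P4S

open Matrix Polynomial

/-- U3, own copy: the `q`-Frobenius fixes or swaps the two roots of `Y^2 - a Y + (b - 2)`. -/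
theorem p4su4_frob {K : Type*} [Field K] (p : ℕ) [Fact p.Prime] [CharP K p] (f : ℕ) (a b y1 y2 : K)
    (ha : a ^ p ^ f = a) (hb : b ^ p ^ f = b) (h1 : y1 + y2 = a) (h2 : y1 * y2 = b - 2) :
    (y1 ^ p ^ f = y1 ∧ y2 ^ p ^ f = y2) ∨ (y1 ^ p ^ f = y2 ∧ y2 ^ p ^ f = y1) := by
  have hφ : ∀ x : K, iterateFrobenius K p f x = x ^ p ^ f := fun x => iterateFrobenius_def p f x
  have h0 : y1 * y1 - a * y1 + (b - 2) = 0 := by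
    rw [← h1, ← h2]; ring
  have key : iterateFrobenius K p f (y1 * y1 - a * y1 + (b - 2)) = 0 := by rw [h0, map_zero]
  rw [map_add, map_sub, map_sub, map_mul, map_mul, map_ofNat, hφ, hφ, hφ, ha, hb] at key
  have hprod : (y1 ^ p ^ f - y1) * (y1 ^ p ^ f - y2) = 0 := by
    have : (y1 ^ p ^ f - y1) * (y1 ^ p ^ f - y2) =
        y1 ^ p ^ f * y1 ^ p ^ f - (y1 + y2) * y1 ^ p ^ f + y1 * y2 := by ring
    rw [this, h1, h2]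
    exact key
  have hy2 : y2 ^ p ^ f = a - y1 ^ p ^ f := by
    have : y2 = a - y1 := by rw [← h1]; ring
    rw [this, ← hφ, map_sub, hφ, hφ, ha]
  rcases mul_eq_zero.mp hprod with h | h
  · left
    have e : y1 ^ p ^ f = y1 := sub_eq_zero.mp h
    refine ⟨e, ?_⟩
    rw [hy2, e, ← h1]; ring
  · right
    have e : y1 ^ p ^ f = y2 := sub_eq_zero.mp h
    refine ⟨e, ?_⟩
    rw [hy2, e, ← h1]; ring

/-- U4, core: `hU4a`, `hU4b` are the statements of `data_swap`, `data_fix` for this `K`, `p`, `f`. -/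
theorem p4su4_core {K : Type*} [Field K] [DecidableEq K] (p : ℕ) [Fact p.Prime] [CharP K p] (f : ℕ) (hf : 1 ≤ f)
    (hU4a : ∀ (l1 l2 : K), l1 ≠ 0 → l2 ≠ 0 → l1 + l1⁻¹ ≠ l2 + l2⁻¹ →
      (l1 + l1⁻¹) ^ p ^ f = l2 + l2⁻¹ → (l2 + l2⁻¹) ^ p ^ f = l1 + l1⁻¹ →
      ∃ (N : ℕ) (c : K), 0 < N ∧ (c = 1 ∨ c = -1) ∧
        (∀ ν ∈ ({l1, l1⁻¹, l2, l2⁻¹} : Multiset K), ν ^ N = c) ∧
        ({l1, l1⁻¹, l2, l2⁻¹} : Multiset K).Nodup ∧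
        (N = ((p ^ f) ^ 2 + 1) / Nat.gcd 2 (p ^ f - 1) ∨ N = ((p ^ f) ^ 2 - 1) / Nat.gcd 2 (p ^ f - 1)))
    (hU4b : ∀ (l1 l2 : K), l1 ≠ 0 → l2 ≠ 0 →
      (l1 + l1⁻¹) ^ p ^ f = l1 + l1⁻¹ → (l2 + l2⁻¹) ^ p ^ f = l2 + l2⁻¹ →
      ∃ (N e : ℕ) (c : K), 0 < N ∧ (c = 1 ∨ c = -1) ∧
        (∀ ν ∈ ({l1, l1⁻¹, l2, l2⁻¹} : Multiset K), ν ^ N = c) ∧
        (∀ ν : K, ({l1, l1⁻¹, l2, l2⁻¹} : Multiset K).count ν ≤ p ^ e) ∧ InT4 p (p ^ f) (N * p ^ e))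
    (a b l1 l2 : K) (hl1 : l1 ≠ 0) (hl2 : l2 ≠ 0) (ha : a ^ p ^ f = a) (hb : b ^ p ^ f = b)
    (h1 : (l1 + l1⁻¹) + (l2 + l2⁻¹) = a) (h2 : (l1 + l1⁻¹) * (l2 + l2⁻¹) = b - 2) :
    ∃ (N e : ℕ) (c : K), 0 < N ∧ (c = 1 ∨ c = -1) ∧
      (∀ ν ∈ ({l1, l1⁻¹, l2, l2⁻¹} : Multiset K), ν ^ N = c) ∧
      (∀ ν : K, ({l1, l1⁻¹, l2, l2⁻¹} : Multiset K).count ν ≤ p ^ e) ∧ InT4 p (p ^ f) (N * p ^ e) := by
  rcases p4su4_frob p f a b (l1 + l1⁻¹) (l2 + l2⁻¹) ha hb h1 h2 with ⟨h11, h22⟩ | ⟨h12, h21⟩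
  · exact hU4b l1 l2 hl1 hl2 h11 h22
  · by_cases hne : l1 + l1⁻¹ = l2 + l2⁻¹
    · refine hU4b l1 l2 hl1 hl2 ?_ ?_
      · rw [h12, hne]
      · rw [h21, hne]
    · obtain ⟨N, c, hN, hc, hpow, hnd, hNN⟩ := hU4a l1 l2 hl1 hl2 hne h12 h21
      refine ⟨N, 0, c, hN, hc, hpow, ?_, ?_⟩
      · intro ν
        rw [pow_zero]
        exact Multiset.nodup_iff_count_le_one.mp hnd ν
      · rw [pow_zero, mul_one]
        rcases hNN with h | h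
        · left; rw [h]
        · right; left; rw [h]

end Cfsg.Agent.Lib.helper23.P4S
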