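import Mathlib
import Cfsg.Agent.Lib.Helper19.S5954.Defs

set_option autoImplicit false
set_option linter.unusedVariables false
set_option linter.unusedSectionVars false

/-!
# Project S5954, part T, row TSQRT (`n1_sqrt`) and row TQODD-like extra: in `F = F_{q²}`, `q` odd, every `z` with `z ^ (q + 1) = 1`
is a square `μ * μ` with `μ ^ (q + 1) = ± 1` (Euler's criterion).
-/

namespace Cfsg.Agent.Lib.Helper19.S5954

open Polynomial Module Cfsg.Agent.Lib.Helper13.S5955

variable {F : Type*} [Field F] {V : Type*} [AddCommGroup V] [Module F V]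

/-- extra: the characteristic is not two. -/
theorem s5954tsqrt_char (h2 : (2 : F) ≠ 0) : ringChar F ≠ 2 := by
  intro hc
  apply h2
  have := ringChar.Nat.cast_ringChar (R := F)
  rw [hc] at this
  exact_mod_cast this

/-- extra: `q` is odd (the statement of TQODD). -/
theorem s5954tsqrt_q_odd [Fintype F] {q : ℕ} (hq : Fintype.card F = q ^ 2) (h2 : (2 : F) ≠ 0) : Odd q := by
  have hc := s5954tsqrt_char h2
  have h1 : ¬ Fintype.card F % 2 = 0 := fun h => hc (FiniteField.even_card_iff_char_two.mpr h)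
  rw [hq] at h1
  rcases Nat.even_or_odd q with he | ho
  · exfalso
    apply h1
    have : Even (q ^ 2) := (Nat.even_pow.mpr ⟨he, by norm_num⟩)
    exact Nat.even_iff.mp this
  · exact ho

/-- TSQRT -/
theorem n1_sqrt [Fintype F] {q : ℕ} (hq : Fintype.card F = q ^ 2) (h2 : (2 : F) ≠ 0) (z : F) (hz : z ^ (q + 1) = 1) :
    ∃ μ : F, μ * μ = z ∧ (μ ^ (q + 1) = 1 ∨ μ ^ (q + 1) = -1) := by
  have hc := s5954tsqrt_char h2
  obtain ⟨k, hk⟩ := s5954tsqrt_q_odd hq h2
  have hz0 : z ≠ 0 := by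
    intro h0
    rw [h0, zero_pow (Nat.succ_ne_zero q)] at hz
    exact zero_ne_one hz
  have hcard : Fintype.card F / 2 = (q + 1) * k := by
    rw [hq, hk]
    have : (2 * k + 1) ^ 2 = 2 * ((2 * k + 1 + 1) * k) + 1 := by ring
    rw [this]
    omega
  have hsq : IsSquare z := by
    rw [FiniteField.isSquare_iff hc hz0, hcard, pow_mul, hz, one_pow]
  obtain ⟨μ, hμ⟩ := hsq
  refine ⟨μ, hμ.symm, ?_⟩
  apply mul_self_eq_one_iff.mp
  rw [← mul_pow, ← hμ, hz]

end Cfsg.Agent.Lib.Helper19.S5954
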