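import Mathlib
import Cfsg.Prelude.Def_Classical
import Cfsg.Agent.Lib.Helper19.SO8.Defs
import Cfsg.Agent.S0246

set_option autoImplicit false
set_option linter.unusedVariables false

/-!
# Project SO8 (S3589), row A1 (helper2): `psp_range`, verbatim from `Helper19/SO8/Skel.lean.txt`.
In characteristic 2 the centre of `Sp_{2m}` is trivial, so `PSp m F` and `Sp_{2m}(F)` have the same element orders.
-/

namespace Cfsg.Agent.Lib.Helper19.SO8

open Polynomial

/-- the centre of `Sp_{2m}(F)` is trivial in characteristic 2 -/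
theorem so8a1_center {F : Type*} [Field F] [CharP F 2] (m : ℕ) (hm : 1 ≤ m) :
    Subgroup.center (Matrix.symplecticGroup (Fin m) F) = ⊥ := by
  rw [eq_bot_iff]
  intro g hg
  rw [Subgroup.mem_bot]
  rcases Cfsg.Agent.S0246.center_cases hm g hg with h | h
  · exact h
  · rw [h]
    apply Subtype.ext
    rw [Cfsg.Agent.S0246.negOne_coe]
    ext i j
    rw [Matrix.neg_apply, CharTwo.neg_eq]
    rfl

/-- the quotient map is injective -/
theorem so8a1_inj {F : Type*} [Field F] [CharP F 2] (m : ℕ) (hm : 1 ≤ m) :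
    Function.Injective (QuotientGroup.mk' (Subgroup.center (Matrix.symplecticGroup (Fin m) F))) := by
  rw [← MonoidHom.ker_eq_bot_iff, QuotientGroup.ker_mk', so8a1_center m hm]

/-- A1 -/
theorem psp_range {F : Type*} [Field F] [CharP F 2] (m : ℕ) (hm : 1 ≤ m) :
    Set.range (orderOf : Cfsg.PSp m F → ℕ) =
      Set.range (orderOf : Matrix.symplecticGroup (Fin m) F → ℕ) := by
  have hord : ∀ g : Matrix.symplecticGroup (Fin m) F,
      orderOf (QuotientGroup.mk' (Subgroup.center (Matrix.symplecticGroup (Fin m) F)) g) = orderOf g :=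
    fun g => orderOf_injective _ (so8a1_inj m hm) g
  ext n
  constructor
  · rintro ⟨x, rfl⟩
    obtain ⟨g, rfl⟩ := QuotientGroup.mk'_surjective (Subgroup.center (Matrix.symplecticGroup (Fin m) F)) x
    exact ⟨g, (hord g).symm⟩
  · rintro ⟨g, rfl⟩
    exact ⟨QuotientGroup.mk' (Subgroup.center (Matrix.symplecticGroup (Fin m) F)) g, hord g⟩

end Cfsg.Agent.Lib.Helper19.SO8
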