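import Mathlib
import Cfsg.Agent.Lib.Helper28.CD3.Defs
import Cfsg.Agent.Lib.Helper25.CliffordCorr

/-!
# Project CD3, piece FROB1: an irreducible character of a normal subgroup whose stabilizer is the
subgroup itself induces irreducibly.
-/

set_option autoImplicit false
open scoped commutatorElement

namespace Cfsg.Agent.Lib.Helper28.CD3

universe u

section frob
variable {G : Type u} [Group G] [Finite G]

/-- the degree of a character with natural value at `1` -/
theorem cd3frob1_charDegree_of_nat {H : Type*} [Group H] (χ : H → ℂ) (n : ℕ) (h : χ 1 = (n : ℂ)) :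
    Cfsg.charDegree χ = n := by
  unfold Cfsg.charDegree
  rw [h]
  simp

-- piece FROB1
theorem ind_irr_of_stab (N : Subgroup G) [N.Normal] (ψ : Cfsg.IrrCharacter N)
    (hstab : ∀ g : G, cjf N (ψ : N → ℂ) g = (ψ : N → ℂ) → g ∈ N) :
    N.index * Cfsg.charDegree (ψ : N → ℂ) ∈ Cfsg.charDegrees G := by
  classical
  haveI : Fintype G := Fintype.ofFinite _
  haveI : Fintype N := Fintype.ofFinite _
  have hcl : Cfsg.IsClassFunction N (ψ : N → ℂ) :=
    Cfsg.Agent.Lib.helper7.h7_irr_isClassFunction ψ.2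
  have hT : ∀ g : G, g ∈ N ↔ ∀ n n' : N, (n' : G) = g * (n : G) * g⁻¹ →
      (ψ : N → ℂ) n' = (ψ : N → ℂ) n := by
    intro g
    constructor
    · intro hg n n' hn'
      have h1 : n' = (⟨g, hg⟩ : N) * n * (⟨g, hg⟩ : N)⁻¹ := by
        apply Subtype.ext
        rw [hn']
        rfl
      rw [h1]
      exact hcl n ⟨g, hg⟩
    · intro h
      apply hstab
      funext n
      unfold cjf
      exact h n _ rfl
  have hψ : Cfsg.classInner (fun n : N => (ψ : N → ℂ) ⟨(n : G), le_refl N n.2⟩) (ψ : N → ℂ) ≠ 0 := by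
    have h1 := Cfsg.Agent.Lib.Helper25.irr_classInner ψ ψ
    rw [if_pos rfl] at h1
    have h2 : (fun n : N => (ψ : N → ℂ) ⟨(n : G), le_refl N n.2⟩) = (ψ : N → ℂ) := by
      funext n
      rfl
    rw [h2, h1]
    exact one_ne_zero
  obtain ⟨hirr, -⟩ := Cfsg.Agent.Lib.Helper25.cc_ind_irr N N (le_refl N) ψ hT ψ hψ
  obtain ⟨d, hd⟩ := Cfsg.Agent.Lib.helper2.isCharacter_one_eq_nat
    (Cfsg.Agent.Lib.helper7.h7_irr_isCharacter ψ.2)
  refine ⟨⟨_, hirr⟩, ?_⟩
  show Cfsg.charDegree (Cfsg.indFun N (ψ : N → ℂ)) = N.index * Cfsg.charDegree (ψ : N → ℂ)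
  rw [cd3frob1_charDegree_of_nat (ψ : N → ℂ) d hd]
  apply cd3frob1_charDegree_of_nat
  rw [Cfsg.Agent.Lib.helper7.h7_indFun_one, hd]
  push_cast
  rfl

end frob

end Cfsg.Agent.Lib.Helper28.CD3
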