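import Mathlib
import Cfsg.Agent.Lib.helper15.St2
import Cfsg.Agent.Lib.helper7.StA
import Cfsg.Agent.Lib.helper7.StC
import Cfsg.Agent.Lib.helper7.StE
import Cfsg.Agent.Lib.helper3.STC.Defs
import Cfsg.Agent.Lib.helper3.STC.Defs2
import Cfsg.Agent.Lib.Helper24.STCI1
import Cfsg.Agent.Lib.Helper24.STCB1

/-!
# STC row X1: the subgroups `XQ` (ports of helper7's `Sys.x_mem_XQ`, `Sys.XQ_mono`, `Sys.XQ_le`,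
`Sys.XQ_gens_inv`, `Sys.XQ_cj_mem`, `Sys.IsMon.cj_mem_XQ`) and the symmetric description
`x_mem_XQ'`.  (helper2)
-/

set_option autoImplicit false

namespace Cfsg.Agent.Lib.helper3.STC

open Cfsg.Agent.Lib.helper15.St2 Cfsg.Agent.Lib.helper7.St

namespace SysC

variable {K : Type*} [Field K] {ι : Type*} {G : Type*} [Group G] (S : SysC K ι G)

section X

/-- X1 [S]  verbatim ports of `Sys.x_mem_XQ`, `Sys.XQ_mono`, `Sys.XQ_le`, `Sys.XQ_gens_inv`, `Sys.XQ_cj_mem`, `Sys.IsMon.cj_mem_XQ`. -/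
theorem x_mem_XQ {Q : ι ⊕ ι → ι ⊕ ι → Prop} {a b : ι ⊕ ι} (hab : a ≠ b) (hQ : Q a b) (t : K) :
    S.x a b t ∈ S.XQ Q :=
  Subgroup.subset_closure ⟨a, b, t, hab, hQ, rfl⟩

theorem XQ_mono {Q Q' : ι ⊕ ι → ι ⊕ ι → Prop} (h : ∀ a b, a ≠ b → Q a b → Q' a b) :
    S.XQ Q ≤ S.XQ Q' := by
  apply Subgroup.closure_mono
  rintro _ ⟨a, b, t, hab, hQ, rfl⟩
  exact ⟨a, b, t, hab, h a b hab hQ, rfl⟩

theorem XQ_le {Q : ι ⊕ ι → ι ⊕ ι → Prop} {H : Subgroup G}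
    (h : ∀ a b t, a ≠ b → Q a b → S.x a b t ∈ H) : S.XQ Q ≤ H := by
  apply (Subgroup.closure_le _).2
  rintro _ ⟨a, b, t, hab, hQ, rfl⟩
  exact h a b t hab hQ

theorem XQ_gens_inv (Q : ι ⊕ ι → ι ⊕ ι → Prop) :
    ∀ s ∈ {g | ∃ a b t, a ≠ b ∧ Q a b ∧ g = S.x a b t},
      s⁻¹ ∈ {g | ∃ a b t, a ≠ b ∧ Q a b ∧ g = S.x a b t} := by
  rintro _ ⟨a, b, t, hab, hQ, rfl⟩
  exact ⟨a, b, -t, hab, hQ, (S.x_neg a b t).symm⟩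

theorem XQ_cj_mem {Q Q' : ι ⊕ ι → ι ⊕ ι → Prop}
    (h : ∀ a b t, a ≠ b → Q a b → ∀ q ∈ S.XQ Q', cj (S.x a b t) q ∈ S.XQ Q') :
    ∀ z ∈ S.XQ Q, ∀ q ∈ S.XQ Q', cj z q ∈ S.XQ Q' := by
  apply cj_closure_mem (S.XQ_gens_inv Q)
  rintro _ ⟨a, b, t, hab, hQ, rfl⟩ q hq
  exact h a b t hab hQ q hq

theorem IsMon.cj_mem_XQ {g : G} {σ : Equiv.Perm (ι ⊕ ι)} {d : ι ⊕ ι → K} (hg : S.IsMon g σ d)
    {Q Q' : ι ⊕ ι → ι ⊕ ι → Prop} (hQ : ∀ k l, k ≠ l → Q k l → Q' (σ k) (σ l)) :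
    ∀ z ∈ S.XQ Q, cj g z ∈ S.XQ Q' := by
  apply cj_mem_of_gens
  rintro _ ⟨k, l, t, hkl, hQkl, rfl⟩
  rw [hg.2 k l hkl]
  exact S.x_mem_XQ (σ.injective.ne hkl) (hQ k l hkl hQkl) _

/-- the symmetric description of a generator: `x a b t ∈ XQ Q` as soon as `Q (ng b) (ng a)` -/
theorem x_mem_XQ' {Q : ι ⊕ ι → ι ⊕ ι → Prop} {a b : ι ⊕ ι} (hab : a ≠ b) (hQ : Q (ng b) (ng a)) (t : K) :
    S.x a b t ∈ S.XQ Q := by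
  rw [S.sym a b hab t]
  exact S.x_mem_XQ (fun h => hab (ng_inj.mp h).symm) hQ _

end X

end SysC

end Cfsg.Agent.Lib.helper3.STC
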