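import Mathlib
import Cfsg.Agent.Lib.helper3.STC.Defs
import Cfsg.Agent.Lib.helper3.STC.Defs2
import Cfsg.Agent.Lib.helper2.STCX1

/-!
# STC row N3: monomial elements fixing `o` (and `ng o`) normalise `Yg o`, `Ag o`, `Lg o`
(ports of helper7's `Sys.IsMon.cj_mem_Yg`, `.cj_mem_Ag`, `.cj_mem_Lg`).  (helper2)
-/

set_option autoImplicit false

namespace Cfsg.Agent.Lib.helper3.STC

open Cfsg.Agent.Lib.helper15.St2 Cfsg.Agent.Lib.helper7.St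

namespace SysC

variable {K : Type*} [Field K] {ι : Type*} {G : Type*} [Group G] (S : SysC K ι G)

section N
variable (o : ι ⊕ ι)

/-- N3 [S]  monomial elements fixing `o` (and `ng o`) normalise the subgroups (model `Sys.IsMon.cj_mem_Yg`, `.cj_mem_Ag`, `.cj_mem_Lg`). -/
theorem IsMon.cj_mem_Yg {g : G} {σ : Equiv.Perm (ι ⊕ ι)} {d : ι ⊕ ι → K} (hg : S.IsMon g σ d)
    (hσ : σ o = o) : ∀ y ∈ S.Yg o, cj g y ∈ S.Yg o := by
  apply SysC.IsMon.cj_mem_XQ S hg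
  rintro k l - rfl
  exact hσ

theorem IsMon.cj_mem_Ag {g : G} {σ : Equiv.Perm (ι ⊕ ι)} {d : ι ⊕ ι → K} (hg : S.IsMon g σ d)
    (hσ : σ o = o) : ∀ y ∈ S.Ag o, cj g y ∈ S.Ag o := by
  apply SysC.IsMon.cj_mem_XQ S hg
  rintro k l - rfl
  exact hσ

theorem IsMon.cj_mem_Lg {g : G} {σ : Equiv.Perm (ι ⊕ ι)} {d : ι ⊕ ι → K} (hg : S.IsMon g σ d)
    (hσ : σ o = o) (hσ' : σ (ng o) = ng o) : ∀ y ∈ S.Lg o, cj g y ∈ S.Lg o := by
  apply SysC.IsMon.cj_mem_XQ S hg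
  rintro k l - ⟨⟨hk, hk'⟩, ⟨hl, hl'⟩⟩
  have key : ∀ m : ι ⊕ ι, m ≠ o → m ≠ ng o → σ m ≠ o ∧ σ m ≠ ng o := by
    intro m hm hm'
    refine ⟨fun h => hm (σ.injective (h.trans hσ.symm)), fun h => hm' (σ.injective (h.trans hσ'.symm))⟩
  exact ⟨key k hk hk', key l hl hl'⟩

end N

end SysC

end Cfsg.Agent.Lib.helper3.STC
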