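import Mathlib
import Cfsg.Agent.Lib.helper23.TD4V.Defs

/-!
# Project TD4V (S2462), row JC core (helper2): the four commutation rules with the statements of J2
(`X_comm`, `hh_comm`) as hypotheses.
-/

set_option autoImplicit false

namespace Cfsg.Agent.Lib.helper23.TD4V

open Cfsg.Lie Cfsg.Lie.ChevalleyDatum Matrix
open Cfsg.Agent.Lib.helper8 Cfsg.Agent.Lib.helper8.TD4
open Cfsg.Agent.Lib.helper23.P4V

universe u v

section J

variable {K : Type u} [Field K]

theorem td4vjc_terms :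
    chevD4.commTerms 18 0 = [] ∧ chevD4.commTerms 13 0 = [] ∧ chevD4.commTerms 12 0 = [] ∧
    chevD4.commTerms 5 0 = [] ∧ chevD4.commTerms 10 0 = [] ∧ chevD4.commTerms 11 0 = [] ∧
    chevD4.commTerms 18 23 = [] ∧ chevD4.commTerms 13 23 = [] ∧ chevD4.commTerms 12 23 = [] := by
  decide

theorem td4vjc_core
    (hX : ∀ (r s : ℕ) (_ : r < 24) (_ : s < 24) (_ : chevD4.commTerms r s = []) (_ : r + s ≠ 23)
      (t u : K), X r t * X s u = X s u * X r t)
    (hH : ∀ (r s : ℕ) (_ : r < 24) (_ : s < 24) (_ : chevD4.commTerms r s = [])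
      (_ : chevD4.commTerms (23 - r) s = []) (_ : r + s ≠ 23) (_ : r ≠ s) (c u : K),
      hh r c * X s u = X s u * hh r c) :
    (∀ s1 s2 s3 c : K, XA s1 s2 s3 * X 0 c = X 0 c * XA s1 s2 s3) ∧
    (∀ s1 s2 s3 c : K, XmA s1 s2 s3 * X 0 c = X 0 c * XmA s1 s2 s3) ∧
    (∀ d1 d2 d3 c : K, hJ3 d1 d2 d3 * X 0 c = X 0 c * hJ3 d1 d2 d3) ∧
    (∀ s1 s2 s3 c : K, XA s1 s2 s3 * X 23 c = X 23 c * XA s1 s2 s3) := by
  obtain ⟨t18, t13, t12, t5, t10, t11, u18, u13, u12⟩ := td4vjc_terms
  refine ⟨?_, ?_, ?_, ?_⟩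
  · intro s1 s2 s3 c
    have c18 : Commute (X 18 s1) (X 0 c) := hX 18 0 (by decide) (by decide) t18 (by decide) s1 c
    have c13 : Commute (X 13 s2) (X 0 c) := hX 13 0 (by decide) (by decide) t13 (by decide) s2 c
    have c12 : Commute (X 12 s3) (X 0 c) := hX 12 0 (by decide) (by decide) t12 (by decide) s3 c
    exact ((c18.mul_left c13).mul_left c12)
  · intro s1 s2 s3 c
    have c5 : Commute (X 5 s1) (X 0 c) := hX 5 0 (by decide) (by decide) t5 (by decide) s1 c
    have c10 : Commute (X 10 s2) (X 0 c) := hX 10 0 (by decide) (by decide) t10 (by decide) s2 c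
    have c11 : Commute (X 11 s3) (X 0 c) := hX 11 0 (by decide) (by decide) t11 (by decide) s3 c
    exact ((c5.mul_left c10).mul_left c11)
  · intro d1 d2 d3 c
    have c18 : Commute (hh 18 d1) (X 0 c) :=
      hH 18 0 (by decide) (by decide) t18 t5 (by decide) (by decide) d1 c
    have c13 : Commute (hh 13 d2) (X 0 c) :=
      hH 13 0 (by decide) (by decide) t13 t10 (by decide) (by decide) d2 c
    have c12 : Commute (hh 12 d3) (X 0 c) :=
      hH 12 0 (by decide) (by decide) t12 t11 (by decide) (by decide) d3 c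
    exact ((c18.mul_left c13).mul_left c12)
  · intro s1 s2 s3 c
    have c18 : Commute (X 18 s1) (X 23 c) := hX 18 23 (by decide) (by decide) u18 (by decide) s1 c
    have c13 : Commute (X 13 s2) (X 23 c) := hX 13 23 (by decide) (by decide) u13 (by decide) s2 c
    have c12 : Commute (X 12 s3) (X 23 c) := hX 12 23 (by decide) (by decide) u12 (by decide) s3 c
    exact ((c18.mul_left c13).mul_left c12)

end J

end Cfsg.Agent.Lib.helper23.TD4V
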