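import Mathlib
import Cfsg.Prelude.Def_AxialAlgebras
import Cfsg.Agent.Lib.Helper24.SAK.Defs
import Cfsg.Agent.Lib.Helper11.SAKA4

/-!
# Project SAK, row A1 (helper2): a Majorana involution is an involution (`saka4_invol` of helper11
under the Skel name).
-/

set_option autoImplicit false

namespace Cfsg.Agent.Lib.Helper24.SAK

open Cfsg.Axial

variable {V : Type*} [AddCommGroup V] [Module ℝ V]

theorem mu_invol {mul : V →ₗ[ℝ] V →ₗ[ℝ] V} {B : LinearMap.BilinForm ℝ V} {μ : V ≃ₗ[ℝ] V} {a : V}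
    (h : IsMajoranaPair mul B μ a) (v : V) : μ (μ v) = v :=
  saka4_invol h v

end Cfsg.Agent.Lib.Helper24.SAK
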