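import Cfsg.Agent.Lib.helper2.SAPGL4core
import Cfsg.Agent.Lib.Helper29.SAPBASE1
import Cfsg.Agent.Lib.Helper29.SAPBASE2

/-!
# SAP row GL4 (`glue_beta'_act`), verbatim (on the landed BASE1, BASE2 of helper29).  (helper2)
-/

namespace Cfsg.Agent.Lib.helper7.SAP

open Equiv

universe u

section glue
variable {p k l : ℕ} {G : Type u} [Group G]

/-- GL4 [S-M] (BASE1, BASE2) -/
theorem glue_beta'_act [Fact p.Prime] (H : GlueHyp p k l G) (x : ZMod p) :
    (H.a ^ l * H.β * (H.a ^ l)⁻¹) * zo H.a H.z x * (H.a ^ l * H.β * (H.a ^ l)⁻¹)⁻¹ =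
      (zo H.a H.z ((l : ZMod p) + (H.r : ZMod p) * (x - (l : ZMod p))))⁻¹ := by
  haveI : NeZero p := ⟨(Fact.out : p.Prime).ne_zero⟩
  exact sapgl4_core H (fun i y => zo_conj_a_pow H.a H.z H.ha i y)
    (fun y => zo_conj_β H.toBaseHyp y) x

end glue

end Cfsg.Agent.Lib.helper7.SAP
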