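import Mathlib
import Cfsg.Agent.Lib.helper17.SLP.Defs
import Cfsg.Agent.Lib.helper2.SLPM1

/-!
# Project SLP, row M2 (helper2): `pw` in `SL₂(F)` is `xM (aeval …)`.
-/

set_option autoImplicit false

namespace Cfsg.Agent.Lib.helper17.SLP

open Polynomial

universe u v

section M

variable {F : Type u} [Field F]

/-- an ordered product of `xM`'s is `xM` of the sum. -/
theorem slpm2_prod_xM (g : ℕ → F) (n : ℕ) :
    ((List.range n).map fun j => xM (g j)).prod = xM (∑ j ∈ Finset.range n, g j) := by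
  induction n with
  | zero => simp [xM_zero]
  | succ n ih =>
    rw [List.range_succ, List.map_append, List.prod_append, ih, Finset.sum_range_succ]
    simp [xM_mul]

theorem pw_M (p : ℕ) [Fact p.Prime] [Algebra (ZMod p) F] (s : Fˣ) (l : ℤ) (f : (ZMod p)[X]) :
    pw p (hM s) (xM (1 : F)) l f = xM (aeval (((s : F) ^ 2) ^ l) f) := by
  unfold pw
  have h1 : ∀ j : ℕ, cj (hM s) (xM (1 : F)) (l * (j : ℤ)) ^ (f.coeff j).val =
      xM (algebraMap (ZMod p) F (f.coeff j) * (((s : F) ^ 2) ^ l) ^ j) := by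
    intro j
    rw [cj_M, xM_pow, mul_one, zpow_mul, zpow_natCast]
    congr 2
    rw [← map_natCast (algebraMap (ZMod p) F), ZMod.natCast_zmod_val]
  simp only [h1]
  rw [slpm2_prod_xM, Polynomial.aeval_eq_sum_range]
  congr 1
  apply Finset.sum_congr rfl
  intro j _
  rw [Algebra.smul_def]

end M

end Cfsg.Agent.Lib.helper17.SLP
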