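import Mathlib

/-!
Project SQD = S4625 (designer helper14, skeleton part O by helper24), row OG1 (helper2):
`transvection_comm`, `exists_transvection_unit` (Mathlib only).
-/

set_option autoImplicit false

namespace Cfsg.Agent.Lib.helper14.SQD

open Matrix

universe u v

section OG

/-- OG1 [M]. -/
theorem transvection_comm {n : Type v} [Fintype n] [DecidableEq n] {R : Type u} [CommRing R] (i j l : n)
    (hij : i ≠ j) (hil : i ≠ l) (hlj : l ≠ j) (t : R) (x y z : GL n R)
    (hx : (x : Matrix n n R) = Matrix.transvection i l t) (hy : (y : Matrix n n R) = Matrix.transvection l j 1)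
    (hz : (z : Matrix n n R) = Matrix.transvection i j t) : x * y * x⁻¹ * y⁻¹ = z := by
  rw [mul_inv_eq_iff_eq_mul, mul_inv_eq_iff_eq_mul]
  apply Units.ext
  rw [Units.val_mul, Units.val_mul, Units.val_mul, hx, hy, hz]
  unfold Matrix.transvection
  have h1 : (Matrix.single i j t : Matrix n n R) * Matrix.single l j 1 = 0 :=
    Matrix.single_mul_single_of_ne t i j l hlj.symm 1
  have h2 : (Matrix.single i j t : Matrix n n R) * Matrix.single i l t = 0 :=
    Matrix.single_mul_single_of_ne t i j i hij.symm t
  have h3 : (Matrix.single l j 1 : Matrix n n R) * Matrix.single i l t = 0 :=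
    Matrix.single_mul_single_of_ne 1 l j i hij.symm t
  simp only [Matrix.mul_add, Matrix.add_mul, Matrix.mul_one, Matrix.one_mul,
    Matrix.single_mul_single_same, h1, h2, h3, mul_one, add_zero, Matrix.zero_mul]
  abel

/-- OG1b [E]. -/
theorem exists_transvection_unit {n : Type v} [Fintype n] [DecidableEq n] {R : Type u} [CommRing R] (i j : n)
    (hij : i ≠ j) (t : R) : ∃ x : GL n R, (x : Matrix n n R) = Matrix.transvection i j t := by
  refine ⟨⟨Matrix.transvection i j t, Matrix.transvection i j (-t), ?_, ?_⟩, rfl⟩
  · rw [Matrix.transvection_mul_transvection_same i j hij, add_neg_cancel, Matrix.transvection_zero]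
  · rw [Matrix.transvection_mul_transvection_same i j hij, neg_add_cancel, Matrix.transvection_zero]

end OG

end Cfsg.Agent.Lib.helper14.SQD
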