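import Mathlib
import Cfsg.Agent.Lib.helper15.St2
import Cfsg.Agent.Lib.helper7.StA
import Cfsg.Agent.Lib.helper7.StC
import Cfsg.Agent.Lib.helper7.StE
import Cfsg.Agent.Lib.helper3.STC.Defs
import Cfsg.Agent.Lib.helper3.STC.Defs2
import Cfsg.Agent.Lib.helper3.STC.Defs3
import Cfsg.Agent.Lib.Helper24.STCB1
import Cfsg.Agent.Lib.Helper24.STCW13
import Cfsg.Agent.Lib.helper23.STCX2
import Cfsg.Agent.Lib.Helper26.STCN1
import Cfsg.Agent.Lib.helper2.STCN3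

/-!
# STC row F13: `ww_klong` (`k = ng o`): `w o (ng o) 1 * w o j 1 = w o j 1 * w j (ng j) c`.  (helper2)

Self-contained on the landed rows B1, W13, X2, N1, N3 (own-name copy `stcf13_NP_w` of F2 `NP_w`).
-/

set_option autoImplicit false

namespace Cfsg.Agent.Lib.helper3.STC

open Cfsg.Agent.Lib.helper15.St2 Cfsg.Agent.Lib.helper7.St

namespace SysC

variable {K : Type*} [Field K] {ι : Type*} {G : Type*} [Group G] (S : SysC K ι G)

section F
variable [DecidableEq ι] (o : ι ⊕ ι)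

/-- own-name copy of F2 `NP_w`: a Weyl element of the Levi factor lies in `Phat o` and normalises `Yg o`. -/
theorem stcf13_NP_w (hW : S.HW) {a b : ι ⊕ ι} (hab : a ≠ b) (ha : a ≠ o) (ha' : a ≠ ng o) (hb : b ≠ o)
    (hb' : b ≠ ng o) {u : K} (hu : u ≠ 0) : S.NP o (S.w a b u) := by
  refine ⟨S.Pg_le_Phat o (S.Lg_le_Pg o (S.w_mem_Lg o hab ha ha' hb hb' u)), ?_⟩
  refine SysC.IsMon.cj_mem_Yg S o (hW a b hab u hu) ?_
  refine wpm_of_ne ha.symm hb.symm ?_ ?_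
  · intro e
    exact ha' (by rw [e, stcx2_ng_ng])
  · intro e
    exact hb' (by rw [e, stcx2_ng_ng])

/-- `cj g⁻¹ x = g⁻¹ * x * g`, in the form used below. -/
theorem stcf13_mul_eq (g x : G) : x * g = g * cj g⁻¹ x := by
  unfold cj
  group

/-- F13 [M]  `k = ng o`: `n = w j (ng j) c` (`IsMon.cj_w` for `w o j (-1)`: `o ↦ j`, `ng o ↦ ng j`). -/
theorem ww_klong (hW : S.HW) {j : ι ⊕ ι} (hj : j ≠ o) (hj' : j ≠ ng o) :
    ∃ n, S.NP o n ∧ S.w o (ng o) 1 * S.w o j 1 = S.w o j 1 * n := by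
  have hoj : o ≠ j := hj.symm
  have hmon := hW o j hoj (-1) (by simp)
  have hono : o ≠ ng o := (stcx2_ng_ne_self o).symm
  have h1 := SysC.IsMon.cj_w S hmon hono 1 one_ne_zero
  rw [wpm_left hoj, wpm_ng hoj, wpm_left hoj] at h1
  refine ⟨cj (S.w o j 1)⁻¹ (S.w o (ng o) 1), ?_, stcf13_mul_eq _ _⟩
  rw [← S.w_neg o j 1, h1]
  have hjn : j ≠ ng j := (stcx2_ng_ne_self j).symm
  have hc : dwc o j (-1 : K) o * (dwc o j (-1 : K) (ng o))⁻¹ * 1 ≠ 0 :=
    mul_ne_zero (mul_ne_zero (hmon.1 o) (inv_ne_zero (hmon.1 (ng o)))) one_ne_zero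
  refine S.stcf13_NP_w o hW hjn hj hj' ?_ ?_ hc
  · intro e
    exact hj' (by rw [← e, stcx2_ng_ng])
  · intro e
    exact hj (stcx2_ng_inj e)

end F

end SysC

end Cfsg.Agent.Lib.helper3.STC
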