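import Mathlib
import Cfsg.Agent.Lib.helper3.STC.Defs
import Cfsg.Agent.Lib.helper3.STC.Defs2

/-!
# STC row X3 (`isMon_w`, `isMon_h`, `dwc_ne_zero`, `dhc_left`): unified Weyl / torus data.  (helper2)
Defs only (no other STC row is cited).
-/

set_option autoImplicit false

namespace Cfsg.Agent.Lib.helper3.STC

open Cfsg.Agent.Lib.helper15.St2

/-- the sign of a signed index is non-zero -/
theorem stcx3_sg_ne_zero {K : Type*} [Field K] {ι : Type*} (a : ι ⊕ ι) : (sg a : K) ≠ 0 := by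
  cases a with
  | inl i => exact one_ne_zero
  | inr i => exact neg_ne_zero.mpr one_ne_zero

/-- `b ≠ ng a → a ≠ ng b` -/
theorem stcx3_ne_ng {ι : Type*} {a b : ι ⊕ ι} (h : ¬ b = ng a) : a ≠ ng b := by
  intro hab
  apply h
  rw [hab]
  unfold ng
  rw [Sum.swap_swap]

namespace SysC

variable {K : Type*} [Field K] {ι : Type*} {G : Type*} [Group G] (S : SysC K ι G)

section X

variable [DecidableEq ι]

/-- X3 [S]  unified statements (cases `b = ng a`). -/
theorem isMon_w {a b : ι ⊕ ι} (hab : a ≠ b) (u : K) (hu : u ≠ 0)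
    (hs : a ≠ ng b → S.IsMon (S.w a b u) (sws a b) (dws a b u))
    (hl : S.IsMon (S.w a (ng a) u) (Equiv.swap a (ng a)) (dwl a u)) :
    S.IsMon (S.w a b u) (wpm a b) (dwc a b u) := by
  by_cases h : b = ng a
  · subst h
    unfold wpm dwc
    rw [if_pos rfl, if_pos rfl]
    exact hl
  · unfold wpm dwc
    rw [if_neg h, if_neg h]
    exact hs (stcx3_ne_ng h)

theorem isMon_h {a b : ι ⊕ ι} (hab : a ≠ b) (u : K) (hu : u ≠ 0)
    (hs : a ≠ ng b → S.IsMon (S.h a b u) 1 (dhs a b u))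
    (hl : S.IsMon (S.h a (ng a) u) 1 (dhl a u)) :
    S.IsMon (S.h a b u) 1 (dhc a b u) := by
  by_cases h : b = ng a
  · subst h
    unfold dhc
    rw [if_pos rfl]
    exact hl
  · unfold dhc
    rw [if_neg h]
    exact hs (stcx3_ne_ng h)

theorem dwc_ne_zero {a b : ι ⊕ ι} (u : K) (hu : u ≠ 0) (k : ι ⊕ ι) : dwc a b u k ≠ 0 := by
  have hu' : u⁻¹ ≠ 0 := inv_ne_zero hu
  have ha : (sg a : K) ≠ 0 := stcx3_sg_ne_zero a
  have hb : (sg b : K) ≠ 0 := stcx3_sg_ne_zero b
  unfold dwc
  by_cases h : b = ng a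
  · rw [if_pos h]
    unfold dwl
    by_cases h1 : k = a
    · rw [if_pos h1]; exact neg_ne_zero.mpr hu'
    · rw [if_neg h1]
      by_cases h2 : k = ng a
      · rw [if_pos h2]; exact hu
      · rw [if_neg h2]; exact one_ne_zero
  · rw [if_neg h]
    unfold dws
    by_cases h1 : k = a
    · rw [if_pos h1]; exact neg_ne_zero.mpr hu'
    · rw [if_neg h1]
      by_cases h2 : k = b
      · rw [if_pos h2]; exact hu
      · rw [if_neg h2]
        by_cases h3 : k = ng b
        · rw [if_pos h3]; exact mul_ne_zero (mul_ne_zero ha hb) hu'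
        · rw [if_neg h3]
          by_cases h4 : k = ng a
          · rw [if_pos h4]; exact neg_ne_zero.mpr (mul_ne_zero (mul_ne_zero ha hb) hu)
          · rw [if_neg h4]; exact one_ne_zero

theorem dhc_left {a b : ι ⊕ ι} (hab : a ≠ b) (u : K) : dhc a b u a = u := by
  unfold dhc
  by_cases h : b = ng a
  · rw [if_pos h]
    unfold dhl
    rw [if_pos rfl]
  · rw [if_neg h]
    unfold dhs
    rw [if_pos (Or.inl rfl)]

end X

end SysC

end Cfsg.Agent.Lib.helper3.STC
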