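import Mathlib
import Cfsg.Agent.Lib.helper15.St2
import Cfsg.Agent.Lib.helper7.StA
import Cfsg.Agent.Lib.helper7.StC
import Cfsg.Agent.Lib.helper7.StE
import Cfsg.Agent.Lib.helper3.STC.Defs
import Cfsg.Agent.Lib.helper3.STC.Defs2
import Cfsg.Agent.Lib.helper3.STC.Defs3
import Cfsg.Agent.Lib.Helper24.STCW14
import Cfsg.Agent.Lib.Helper29.STCH3
import Cfsg.Agent.Lib.helper2.STCX3

/-!
# STC row K1: `HW` and `HH` hold for every system of type `C` (X3 + W14 + W15 + H3).  (helper2)
-/

set_option autoImplicit false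

namespace Cfsg.Agent.Lib.helper3.STC

open Cfsg.Agent.Lib.helper15.St2 Cfsg.Agent.Lib.helper7.St Matrix

namespace SysC

/-- K1 [S]  `HW`, `HH` hold: X3 `isMon_w`, `isMon_h` with W14 `isMon_ws`, W15 `isMon_wl`, H3 `isMon_hs`, `isMon_hl`. -/
theorem hW_all {K : Type*} [Field K] {ι : Type*} [DecidableEq ι] {G : Type*} [Group G] (S : SysC K ι G) : S.HW := by
  intro a b hab u hu
  exact S.isMon_w hab u hu (fun h => S.isMon_ws hab h u hu) (S.isMon_wl a u hu)

theorem hH_all {K : Type*} [Field K] [Finite K] {ι : Type*} [DecidableEq ι] {G : Type*} [Group G] (S : SysC K ι G) : S.HH := by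
  intro a b hab u hu
  exact S.isMon_h hab u hu
    (fun h => S.isMon_hs hab h u hu (fun v hv => S.isMon_ws hab h v hv))
    (S.isMon_hl a u hu (fun v hv => S.isMon_wl a v hv))

end SysC

end Cfsg.Agent.Lib.helper3.STC
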