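import Mathlib
import Cfsg.Agent.Lib.helper7.BR.Defs
import Cfsg.Agent.Lib.Helper13.B43.Defs
import Cfsg.Agent.Lib.helper23.B43A1
import Cfsg.Agent.Lib.helper23.B43A2
import Cfsg.Agent.Lib.helper2.B43COREcore

/-!
# Project B43, piece CORE : the arithmetic core (wrapper of `b43core_main` with A1, A2 of helper23)
-/

set_option autoImplicit false
set_option linter.unusedVariables false
set_option linter.unusedSectionVars false

namespace Cfsg.Agent.Lib.Helper13.B43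

open Classical
open Cfsg.Agent.Lib.Helper25
open Cfsg.Agent.Lib.helper7.BR

universe u

variable {G : Type u} [Group G] [Fintype G] {p : ℕ} [Fact p.Prime]

/-- CORE : the arithmetic core. (A1, A2 for the members of `X`. `ε = 1`: the cofactor `c'` of `z` is `≡ 1`, so `c' = 1`
(`z = q (1 + n p)`, excluded by `hsq`) or `c' = 1 + n p` by A1, i.e. `z = q`; the degree equation gives
`b = c n`, `c (n + 1) + 1 = q`. `ε = -1`: the cofactor of `z` is `≡ -1`, so it is `p - 1` by A2: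
`z t = 1 + n p`; `z + q = v p`; the degree equation gives `v = b - c n`, and `n + 1 = v t`,
`v (1 + c t) + 1 = q`. Here `c`, `b` are the numbers of `i ≠ triv` with `a i = 1`, `-1`.) -/
theorem arith_core2 {ι : Type*} (X : Finset ι) (triv : ι) (htriv : triv ∈ X) (a : ι → ℤ) (d : ι → ℕ)
    (p q n t z : ℕ) (ε : ℤ) (hp : p.Prime) (hqt : q * t = p - 1) (hq : 2 ≤ q) (ht : 2 ≤ t)
    (hn : 1 ≤ n) (hn2 : 2 * n ≤ p + 2)
    (hcard : X.card = q)
    (ha : ∀ i ∈ X, a i = 1 ∨ a i = -1) (hatriv : a triv = 1) (hdtriv : d triv = 1)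
    (hdvd : ∀ i ∈ X, d i ∣ q * (1 + n * p))
    (hcong : ∀ i ∈ X, (p : ℤ) ∣ (d i : ℤ) - a i)
    (hge : ∀ i ∈ X, i ≠ triv → 2 ≤ d i)
    (hε : ε = 1 ∨ ε = -1) (hz1 : 1 ≤ z) (hzdvd : z ∣ q * (1 + n * p))
    (hzcong : (p : ℤ) ∣ (z : ℤ) - ε * (q : ℤ))
    (hdeg : ε * (z : ℤ) = ∑ i ∈ X, a i * (d i : ℤ))
    (hsq : ∑ i ∈ X, (d i) ^ 2 + t * z ^ 2 ≤ p * q * (1 + n * p)) :
    (∀ i ∈ X, i ≠ triv → (a i = 1 ∧ d i = 1 + n * p) ∨ (a i = -1 ∧ d i + 1 = p)) ∧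
    ((ε = 1 ∧ z = q ∧ (X.filter (fun i => i ≠ triv ∧ a i = 1)).card * (n + 1) + 1 = q) ∨
     (ε = -1 ∧ ∃ v : ℕ, 1 ≤ v ∧ z + q = v * p ∧ n + 1 = v * t ∧
        v * (1 + (X.filter (fun i => i ≠ triv ∧ a i = 1)).card * t) + 1 = q)) :=
  b43core_main (fun p q t n d hp hqt hq hn hn2 hd h1 h2 => ac2_plus p q t n d hp hqt hq hn hn2 hd h1 h2)
    (fun p q t n d hp hqt hq ht hn hn2 hd h1 => ac2_minus p q t n d hp hqt hq ht hn hn2 hd h1)
    X triv htriv a d p q n t z ε hp hqt hq ht hn hn2 hcard ha hatriv hdtriv hdvd hcong hge hε hz1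
    hzdvd hzcong hdeg hsq

end Cfsg.Agent.Lib.Helper13.B43
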