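import Mathlib
import Cfsg.Agent.Lib.Helper27.STU.Defs
import Cfsg.Agent.Lib.Helper27.STU.Defs2

/-!
# STU row V1: the `3 × 3` matrix identities of the long Weyl element (`WM_eq`, `WM_mul_XpM`, `WM_mul_XmM`).  (helper2)
-/

set_option autoImplicit false

namespace Cfsg.Agent.Lib.Helper27.STU

open Cfsg.Agent.Lib.helper15.St2 Cfsg.Agent.Lib.helper3.STC

namespace SysU

variable {F : Type*} [Field F] [StarRing F] {od : Prop}

theorem stuv1_star_c_ne {ξ : Lam F od} (hc : ξ.c ≠ 0) : star ξ.c ≠ 0 :=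
  fun h => hc (by simpa using congrArg star h)

/-- V1 [S-M]  the matrix of the Weyl element in the rank one model. -/
theorem WM_eq {ξ : Lam F od} (hc : ξ.c ≠ 0) :
    XpM ξ * XmM (Lam.mu ξ) * XpM (Lam.nu ξ) = !![0, 0, ξ.c; 0, -(star ξ.c / ξ.c), 0; (star ξ.c)⁻¹, 0, 0] := by
  have hc' := stuv1_star_c_ne hc
  have h1 := ξ.h
  ext i j
  fin_cases i <;> fin_cases j <;>
    simp [XpM, XmM, Matrix.mul_apply, Fin.sum_univ_three, star_div₀, star_neg] <;>
    field_simp <;>
    first
      | ring1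
      | linear_combination h1
      | linear_combination ξ.v * h1
      | linear_combination ξ.c * h1
      | linear_combination (-star ξ.v) * h1
      | linear_combination (star ξ.v) * h1
      | linear_combination (-ξ.v) * h1
      | linear_combination (-1 : F) * h1
      | linear_combination (star ξ.c) * h1
      | linear_combination (-star ξ.c) * h1
      | linear_combination (-ξ.c) * h1
      | linear_combination (ξ.v * star ξ.c) * h1
      | linear_combination (-(ξ.v * star ξ.c)) * h1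
      | linear_combination (star ξ.v * star ξ.c) * h1
      | linear_combination (-(star ξ.v * star ξ.c)) * h1
      | linear_combination (star ξ.v * ξ.c) * h1
      | linear_combination (-(star ξ.v * ξ.c)) * h1
      | linear_combination (ξ.v * ξ.c) * h1
      | linear_combination (-(ξ.v * ξ.c)) * h1

/-- the matrix identities behind V2 (same method) -/
theorem WM_mul_XpM {ξ : Lam F od} (hc : ξ.c ≠ 0) (η : Lam F od) :
    (!![0, 0, ξ.c; 0, -(star ξ.c / ξ.c), 0; (star ξ.c)⁻¹, 0, 0] : Matrix (Fin 3) (Fin 3) F) * XpM η =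
      XmM (Lam.act (-(ξ.c / (star ξ.c) ^ 2)) η) * !![0, 0, ξ.c; 0, -(star ξ.c / ξ.c), 0; (star ξ.c)⁻¹, 0, 0] := by
  have hc' := stuv1_star_c_ne hc
  ext i j
  fin_cases i <;> fin_cases j <;>
    simp [XpM, XmM, Matrix.mul_apply, Fin.sum_univ_three, star_div₀, star_neg, star_pow] <;>
    field_simp

theorem WM_mul_XmM {ξ : Lam F od} (hc : ξ.c ≠ 0) (η : Lam F od) :
    (!![0, 0, ξ.c; 0, -(star ξ.c / ξ.c), 0; (star ξ.c)⁻¹, 0, 0] : Matrix (Fin 3) (Fin 3) F) * XmM η =
      XpM (Lam.act (-(ξ.c ^ 2 / star ξ.c)) η) * !![0, 0, ξ.c; 0, -(star ξ.c / ξ.c), 0; (star ξ.c)⁻¹, 0, 0] := by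
  have hc' := stuv1_star_c_ne hc
  ext i j
  fin_cases i <;> fin_cases j <;>
    simp [XpM, XmM, Matrix.mul_apply, Fin.sum_univ_three, star_div₀, star_neg, star_pow] <;>
    field_simp

end SysU

end Cfsg.Agent.Lib.Helper27.STU
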