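import Mathlib
import Cfsg.Agent.Lib.Helper24.STCI1
import Cfsg.Agent.Lib.Helper27.STU.Defs
import Cfsg.Agent.Lib.Helper27.STU.Defs2
import Cfsg.Agent.Lib.helper2.STUV1

/-!
# STU rows V2 (`cj_wl_a`, `cj_wl_na`) and V3 (`wl_congr`, `wl_inv`, `wl_swap`): the long Weyl element in rank one, through `S.r1`.  (helper2)
-/

set_option autoImplicit false

namespace Cfsg.Agent.Lib.Helper27.STU

open Cfsg.Agent.Lib.helper15.St2 Cfsg.Agent.Lib.helper3.STC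

namespace SysU

section model

variable {F : Type*} [Field F] [StarRing F] {od : Prop}

/-- the monomial matrix of the long Weyl element with parameter `c` -/
def stuv3_WM (c : F) : Matrix (Fin 3) (Fin 3) F := !![0, 0, c; 0, -(star c / c), 0; (star c)⁻¹, 0, 0]

/-- the Weyl element of the rank one model -/
def stuv3_W (ξ : Lam F od) : ↥(SUm F od) := XpU ξ * XmU (Lam.mu ξ) * XpU (Lam.nu ξ)

/-- the Weyl element of the rank one model, with the two root subgroups exchanged -/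
def stuv3_W' (ξ : Lam F od) : ↥(SUm F od) := XmU ξ * XpU (Lam.mu ξ) * XmU (Lam.nu ξ)

theorem stuv3_coe_XpU (ξ : Lam F od) :
    (((XpU ξ : ↥(SUm F od)) : Matrix.SpecialLinearGroup (Fin 3) F) : Matrix (Fin 3) (Fin 3) F) = XpM ξ := rfl

theorem stuv3_coe_XmU (ξ : Lam F od) :
    (((XmU ξ : ↥(SUm F od)) : Matrix.SpecialLinearGroup (Fin 3) F) : Matrix (Fin 3) (Fin 3) F) = XmM ξ := rfl

theorem stuv3_coe_mul (x y : ↥(SUm F od)) :
    (((x * y : ↥(SUm F od)) : Matrix.SpecialLinearGroup (Fin 3) F) : Matrix (Fin 3) (Fin 3) F) =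
      ((x : Matrix.SpecialLinearGroup (Fin 3) F) : Matrix (Fin 3) (Fin 3) F) *
        ((y : Matrix.SpecialLinearGroup (Fin 3) F) : Matrix (Fin 3) (Fin 3) F) := rfl

theorem stuv3_ext {x y : ↥(SUm F od)}
    (h : ((x : Matrix.SpecialLinearGroup (Fin 3) F) : Matrix (Fin 3) (Fin 3) F) =
      ((y : Matrix.SpecialLinearGroup (Fin 3) F) : Matrix (Fin 3) (Fin 3) F)) : x = y :=
  Subtype.ext (Subtype.ext h)

theorem stuv3_coe_W {ξ : Lam F od} (hc : ξ.c ≠ 0) :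
    (((stuv3_W ξ : ↥(SUm F od)) : Matrix.SpecialLinearGroup (Fin 3) F) : Matrix (Fin 3) (Fin 3) F) = stuv3_WM ξ.c := by
  unfold stuv3_W stuv3_WM
  rw [stuv3_coe_mul, stuv3_coe_mul, stuv3_coe_XpU, stuv3_coe_XmU, stuv3_coe_XpU, WM_eq hc]

/-- the second matrix identity of V3 -/
theorem stuv3_WM_eq' {ξ : Lam F od} (hc : ξ.c ≠ 0) :
    XmM ξ * XpM (Lam.mu ξ) * XmM (Lam.nu ξ) = !![0, 0, (star ξ.c)⁻¹; 0, -(star ξ.c / ξ.c), 0; ξ.c, 0, 0] := by
  have hc' := stuv1_star_c_ne hc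
  have h1 := ξ.h
  ext i j
  fin_cases i <;> fin_cases j <;>
    simp [XpM, XmM, Matrix.mul_apply, Fin.sum_univ_three, star_div₀, star_neg] <;>
    field_simp <;>
    first
      | ring1
      | linear_combination h1
      | linear_combination ξ.v * h1
      | linear_combination ξ.c * h1
      | linear_combination (-star ξ.v) * h1
      | linear_combination (star ξ.v) * h1
      | linear_combination (-ξ.v) * h1
      | linear_combination (-1 : F) * h1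
      | linear_combination (star ξ.c) * h1
      | linear_combination (-star ξ.c) * h1
      | linear_combination (-ξ.c) * h1
      | linear_combination (ξ.v * star ξ.c) * h1
      | linear_combination (-(ξ.v * star ξ.c)) * h1
      | linear_combination (star ξ.v * star ξ.c) * h1
      | linear_combination (-(star ξ.v * star ξ.c)) * h1
      | linear_combination (star ξ.v * ξ.c) * h1
      | linear_combination (-(star ξ.v * ξ.c)) * h1
      | linear_combination (ξ.v * ξ.c) * h1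
      | linear_combination (-(ξ.v * ξ.c)) * h1

theorem stuv3_coe_W' {ξ : Lam F od} (hc : ξ.c ≠ 0) :
    (((stuv3_W' ξ : ↥(SUm F od)) : Matrix.SpecialLinearGroup (Fin 3) F) : Matrix (Fin 3) (Fin 3) F) =
      stuv3_WM (Lam.mu ξ).c := by
  have hc' := stuv1_star_c_ne hc
  unfold stuv3_W' stuv3_WM
  rw [stuv3_coe_mul, stuv3_coe_mul, stuv3_coe_XmU, stuv3_coe_XpU, stuv3_coe_XmU, stuv3_WM_eq' hc]
  ext i j
  fin_cases i <;> fin_cases j <;> simp [star_inv₀] <;> field_simp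

theorem stuv3_WM_mul_star {c : F} (hc : c ≠ 0) (hc' : star c ≠ 0) : stuv3_WM c * stuv3_WM (star c) = 1 := by
  unfold stuv3_WM
  ext i j
  fin_cases i <;> fin_cases j <;> simp [Matrix.mul_apply, Fin.sum_univ_three, Matrix.one_apply] <;> field_simp

end model

variable {F : Type*} [Field F] [StarRing F] {od : Prop} {ι : Type*} {G : Type*} [Group G] (S : SysU F od ι G)

/-- `wl a ξ` is the image of the model Weyl element under the rank one homomorphism -/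
theorem stuv3_wl_eq {a : ι ⊕ ι} {ρ : ↥(SUm F od) →* G}
    (hρ : ∀ ξ, ρ (XpU ξ) = S.xl a ξ ∧ ρ (XmU ξ) = S.xl (ng a) ξ) (ξ : Lam F od) :
    S.wl a ξ = ρ (stuv3_W ξ) := by
  unfold wl stuv3_W
  rw [map_mul, map_mul, (hρ ξ).1, (hρ _).2, (hρ _).1]

theorem stuv3_wl_ng_eq {a : ι ⊕ ι} {ρ : ↥(SUm F od) →* G}
    (hρ : ∀ ξ, ρ (XpU ξ) = S.xl a ξ ∧ ρ (XmU ξ) = S.xl (ng a) ξ) (ξ : Lam F od) :
    S.wl (ng a) ξ = ρ (stuv3_W' ξ) := by
  unfold wl stuv3_W'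
  rw [map_mul, map_mul, (hρ ξ).2, (hρ _).1, (hρ _).2, ng_ng]

/-- V3 [S-M]  the Weyl element depends only on `ξ.c`. -/
theorem wl_congr {a : ι ⊕ ι} {ξ ξ' : Lam F od} (hc : ξ.c ≠ 0) (h : ξ'.c = ξ.c) : S.wl a ξ' = S.wl a ξ := by
  obtain ⟨ρ, hρ⟩ := S.r1 a
  rw [S.stuv3_wl_eq hρ, S.stuv3_wl_eq hρ]
  congr 1
  apply stuv3_ext
  rw [stuv3_coe_W hc, stuv3_coe_W (by rw [h]; exact hc), h]

theorem wl_inv {a : ι ⊕ ι} {ξ : Lam F od} (hc : ξ.c ≠ 0) : (S.wl a ξ)⁻¹ = S.wl a ξ⁻¹ := by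
  obtain ⟨ρ, hρ⟩ := S.r1 a
  have hc' := stuv1_star_c_ne hc
  rw [inv_eq_iff_mul_eq_one, S.stuv3_wl_eq hρ, S.stuv3_wl_eq hρ, ← map_mul]
  have : stuv3_W ξ * stuv3_W ξ⁻¹ = (1 : ↥(SUm F od)) := by
    apply stuv3_ext
    rw [stuv3_coe_mul, stuv3_coe_W hc, stuv3_coe_W (by rw [Lam.inv_c]; exact hc'), Lam.inv_c,
      stuv3_WM_mul_star hc hc']
    rfl
  rw [this, map_one]

theorem wl_swap {a : ι ⊕ ι} {ξ : Lam F od} (hc : ξ.c ≠ 0) : S.wl (ng a) ξ = S.wl a (Lam.mu ξ) := by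
  obtain ⟨ρ, hρ⟩ := S.r1 a
  have hc' := stuv1_star_c_ne hc
  have hmu : (Lam.mu ξ).c ≠ 0 := by
    rw [Lam.mu_c]
    exact inv_ne_zero hc'
  rw [S.stuv3_wl_ng_eq hρ, S.stuv3_wl_eq hρ]
  congr 1
  apply stuv3_ext
  rw [stuv3_coe_W' hc, stuv3_coe_W hmu]

/-- V2 [S-M]  the long Weyl element on its own root subgroups. -/
theorem cj_wl_a {a : ι ⊕ ι} {ξ : Lam F od} (hc : ξ.c ≠ 0) (η : Lam F od) :
    cj (S.wl a ξ) (S.xl a η) = S.xl (ng a) (Lam.act (-(ξ.c / (star ξ.c) ^ 2)) η) := by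
  obtain ⟨ρ, hρ⟩ := S.r1 a
  have key : stuv3_W ξ * XpU η = XmU (Lam.act (-(ξ.c / (star ξ.c) ^ 2)) η) * stuv3_W ξ := by
    apply stuv3_ext
    rw [stuv3_coe_mul, stuv3_coe_mul, stuv3_coe_W hc, stuv3_coe_XpU, stuv3_coe_XmU]
    exact WM_mul_XpM hc η
  have h2 := congrArg ρ key
  rw [map_mul, map_mul, ← S.stuv3_wl_eq hρ, (hρ _).1, (hρ _).2] at h2
  unfold cj
  rw [h2, mul_inv_cancel_right]

theorem cj_wl_na {a : ι ⊕ ι} {ξ : Lam F od} (hc : ξ.c ≠ 0) (η : Lam F od) :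
    cj (S.wl a ξ) (S.xl (ng a) η) = S.xl a (Lam.act (-(ξ.c ^ 2 / star ξ.c)) η) := by
  obtain ⟨ρ, hρ⟩ := S.r1 a
  have key : stuv3_W ξ * XmU η = XpU (Lam.act (-(ξ.c ^ 2 / star ξ.c)) η) * stuv3_W ξ := by
    apply stuv3_ext
    rw [stuv3_coe_mul, stuv3_coe_mul, stuv3_coe_W hc, stuv3_coe_XpU, stuv3_coe_XmU]
    exact WM_mul_XmM hc η
  have h2 := congrArg ρ key
  rw [map_mul, map_mul, ← S.stuv3_wl_eq hρ, (hρ _).1, (hρ _).2] at h2
  unfold cj
  rw [h2, mul_inv_cancel_right]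

end SysU

end Cfsg.Agent.Lib.Helper27.STU
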