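import Mathlib
import Cfsg.Agent.Lib.Helper24.STCI1
import Cfsg.Agent.Lib.Helper27.STU.Defs
import Cfsg.Agent.Lib.Helper27.STU.Defs2
import Cfsg.Agent.Lib.helper2.STUV3

/-!
# STU row V6 (`cj_wl_al`), CORE: hypothesis = the statement of V5 `cj_wl_nal`.  (helper2)
-/

set_option autoImplicit false

namespace Cfsg.Agent.Lib.Helper27.STU

open Cfsg.Agent.Lib.helper15.St2 Cfsg.Agent.Lib.helper3.STC

namespace SysU

variable {F : Type*} [Field F] [StarRing F] {od : Prop} {ι : Type*} {G : Type*} [Group G] (S : SysU F od ι G)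

/-- `wl a ξ = wl (ng a) (mu ξ)` -/
theorem stuv6_wl_eq_ng {a : ι ⊕ ι} {ξ : Lam F od} (hc : ξ.c ≠ 0) : S.wl a ξ = S.wl (ng a) (Lam.mu ξ) := by
  have hc' := stuv1_star_c_ne hc
  have hmu : (Lam.mu ξ).c ≠ 0 := by
    rw [Lam.mu_c]
    exact inv_ne_zero hc'
  rw [S.wl_swap hmu]
  refine (S.wl_congr hc ?_).symm
  rw [Lam.mu_c, Lam.mu_c, star_inv₀, star_star, inv_inv]

/-- V6 core: hypothesis = the statement of V5 `cj_wl_nal`. -/
theorem stuv6_core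
    (hV5 : ∀ {a l : ι ⊕ ι}, l ≠ a → l ≠ ng a → ∀ {ξ : Lam F od}, ξ.c ≠ 0 → ∀ t : F,
      cj (S.wl a ξ) (S.xs (ng a) l t) = S.xs a l (ξ.c * t))
    {a l : ι ⊕ ι} (hla : l ≠ a) (hla' : l ≠ ng a) {ξ : Lam F od} (hc : ξ.c ≠ 0) (t : F) :
    cj (S.wl a ξ) (S.xs a l t) = S.xs (ng a) l ((star ξ.c)⁻¹ * t) := by
  have hc' := stuv1_star_c_ne hc
  have hmu : (Lam.mu ξ).c ≠ 0 := by
    rw [Lam.mu_c]
    exact inv_ne_zero hc'
  have h := hV5 (a := ng a) (l := l) hla' (by rw [ng_ng]; exact hla) hmu t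
  rw [ng_ng, Lam.mu_c] at h
  rw [S.stuv6_wl_eq_ng hc, h]

end SysU

end Cfsg.Agent.Lib.Helper27.STU
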