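import Mathlib
import Cfsg.Agent.Lib.Helper24.SU3M.Defs
import Cfsg.Agent.Lib.helper7.CeA

/-!
# Project SU3M, row G4 (`central_lift`): lifts of central elements are central when `Γ` is perfect.  helper2.
-/

set_option autoImplicit false

namespace Cfsg.Agent.Lib.Helper24.SU3M

open Cfsg.Agent.Lib.Helper19.U3P Cfsg.Agent.Lib.Helper25.SU3P Cfsg.Agent.Lib.helper14.SU3J Cfsg.Agent.Lib.helper7.Ce Matrix Polynomial

universe u

section G

variable {Γ G : Type*} [Group Γ] [Group G] {π : Γ →* G}

/-- G4 -/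
theorem central_lift (h : IsCE π) (hΓ : commutator Γ = ⊤) {x : Γ} (hx : π x ∈ Subgroup.center G) : x ∈ Subgroup.center Γ := by
  have hc : ∀ g : Γ, cm g x ∈ Subgroup.center Γ := fun g => by
    apply h.cen
    rw [MonoidHom.mem_ker, map_cm, cm_eq_one_iff]
    exact Subgroup.mem_center_iff.mp hx (π g)
  let φ : Γ →* Subgroup.center Γ := MonoidHom.mk' (fun g => ⟨cm g x, hc g⟩) (by
    intro a b
    apply Subtype.ext
    show cm (a * b) x = cm a x * cm b x
    have hb := Subgroup.mem_center_iff.mp (hc b)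
    rw [cm_mul_left, hb a, mul_inv_cancel_right, hb (cm a x)])
  have hker : commutator Γ ≤ φ.ker := by
    rw [commutator_eq_closure, Subgroup.closure_le]
    rintro y ⟨a, b, rfl⟩
    have hab : φ a * φ b = φ b * φ a := by
      apply Subtype.ext
      exact (Subgroup.mem_center_iff.mp (φ b).2 (φ a).1)
    rw [SetLike.mem_coe, MonoidHom.mem_ker, commutatorElement_def, map_mul, map_mul, map_mul, map_inv,
      map_inv, hab, mul_inv_cancel_right, mul_inv_cancel]
  rw [Subgroup.mem_center_iff]
  intro g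
  have hg : g ∈ φ.ker := hker (by rw [hΓ]; exact Subgroup.mem_top g)
  rw [MonoidHom.mem_ker] at hg
  have hg' : cm g x = 1 := congrArg Subtype.val hg
  exact cm_eq_one_iff.mp hg'

end G

end Cfsg.Agent.Lib.Helper24.SU3M
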