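import Mathlib
import Cfsg.Agent.Lib.Helper25.Hall4.Defs
import Cfsg.Agent.Lib.Helper25.Hall4.Tools

set_option autoImplicit false
set_option linter.unusedSectionVars false
set_option linter.unusedVariables false

/-! Hall4 piece O1 (helper2): `FixT` for one type-1 configuration gives `FixT`. -/

namespace Cfsg.Agent.Lib.helper2.Hall4

open MulAction Cfsg.Agent.Lib.helper4 Cfsg.Agent.Lib.Helper22.LW Cfsg.Agent.Lib.Helper25.Hall4

variable {K β : Type*} [Group K] [Finite K] [MulAction K β] [Fintype β] [DecidableEq β] {h : ℕ}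

/-- an involution with three distinct fixed points has no other fixed point -/
theorem fset_eq_of_three (H : Hyp K β h) {x : K} (hx : x * x = 1) {a c d e : β}
    (ha : x • a ≠ a) (hc : x • c = c) (hd : x • d = d) (he : x • e = e)
    (hcd : c ≠ d) (hce : c ≠ e) (hde : d ≠ e) {y : β} (hy : x • y = y) :
    y = c ∨ y = d ∨ y = e := by
  have h3 : (Fset x : Finset β).card ≤ 3 := fix_le_three H hx ha
  have hsub : ({c, d, e} : Finset β) ⊆ Fset x := by
    intro z hz
    simp only [Finset.mem_insert, Finset.mem_singleton] at hz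
    rw [mem_Fset]
    rcases hz with rfl | rfl | rfl
    · exact hc
    · exact hd
    · exact he
  have hcard : ({c, d, e} : Finset β).card = 3 := by
    rw [Finset.card_insert_of_notMem, Finset.card_insert_of_notMem, Finset.card_singleton]
    · simpa using hde
    · simp only [Finset.mem_insert, Finset.mem_singleton, not_or]
      exact ⟨hcd, hce⟩
  have heq : ({c, d, e} : Finset β) = Fset x :=
    Finset.eq_of_subset_of_card_le hsub (by rw [hcard]; exact h3)
  have : y ∈ ({c, d, e} : Finset β) := by rw [heq, mem_Fset]; exact hy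
  simpa using this

theorem fixT_of_exists (H : Hyp K β h) (hn8 : 8 ≤ Fintype.card β) (hod : Odd (Fintype.card β))
    (hex : ∃ (x : K) (a b c d e : β), x * x = 1 ∧ [a, b, c, d, e].Nodup ∧ x • a = b ∧ x • c = c ∧
      x • d = d ∧ x • e = e ∧ ∀ k ∈ L4 (K := K) a b c d, k • e = e) : FixT K β := by
  obtain ⟨x, a, b, c, d, e, hx, hnd, hxa, hxc, hxd, hxe, hfix⟩ := hex
  intro x' a' b' c' d' e' hx' hnd' hxa' hxc' hxd' hxe' k hk
  simp only [List.nodup_cons, List.mem_cons, List.not_mem_nil, or_false, not_or,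
    List.nodup_nil, and_true, not_false_eq_true] at hnd hnd'
  obtain ⟨⟨hab, hac, had, hae⟩, ⟨hbc, hbd, hbe⟩, ⟨hcd, hce⟩, hde⟩ := hnd
  obtain ⟨⟨hab', hac', had', hae'⟩, ⟨hbc', hbd', hbe'⟩, ⟨hcd', hce'⟩, hde'⟩ := hnd'
  have hxa_ne : x • a ≠ a := by rw [hxa]; exact fun h => hab h.symm
  have hxa_ne' : x' • a' ≠ a' := by rw [hxa']; exact fun h => hab' h.symm
  obtain ⟨g, hg⟩ := all_conj H hn8 hx hx' hxa_ne hxa_ne'
  -- action of x' on g-images
  have hx'g : ∀ y : β, x' • (g • y) = g • (x • y) := by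
    intro y
    rw [hg, mul_smul, mul_smul, inv_smul_smul]
  obtain ⟨c₀, hc₀x, hc₀a, hc₀c, hc₀d⟩ := A_trans H hx'
    (a₀ := g • a) (p₁ := g • c) (p₂ := g • d) (a := a') (p := c') (q := d')
    (by rw [hx'g]; exact fun h => hxa_ne (smul_left_cancel _ h))
    (by rw [hx'g, hxc]) (by rw [hx'g, hxd])
    (fun h => hcd (smul_left_cancel _ h)) hxa_ne' hxc' hxd' hcd'
  have hc₀x' : ∀ y : β, x' • (c₀ • y) = c₀ • (x' • y) := by
    intro y
    rw [← mul_smul, ← mul_smul, hc₀x]
  -- γ = c₀ * g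
  have hγa : (c₀ * g) • a = a' := by rw [mul_smul, hc₀a]
  have hγc : (c₀ * g) • c = c' := by rw [mul_smul, hc₀c]
  have hγd : (c₀ * g) • d = d' := by rw [mul_smul, hc₀d]
  have hγx : ∀ y : β, x' • ((c₀ * g) • y) = (c₀ * g) • (x • y) := by
    intro y
    rw [mul_smul, hc₀x', hx'g, mul_smul]
  have hγb : (c₀ * g) • b = b' := by
    rw [← hxa, ← hγx, hγa, hxa']
  have hγe : (c₀ * g) • e = e' := by
    have h1 : x' • ((c₀ * g) • e) = (c₀ * g) • e := by rw [hγx, hxe]
    rcases fset_eq_of_three H hx' hxa_ne' hxc' hxd' hxe' hcd' hce' hde' h1 with h2 | h2 | h2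
    · exfalso
      rw [← hγc] at h2
      exact hce (smul_left_cancel _ h2).symm
    · exfalso
      rw [← hγd] at h2
      exact hde (smul_left_cancel _ h2).symm
    · exact h2
  -- conjugate k back
  obtain ⟨hka, hkb, hkc, hkd⟩ := mem_L4.mp hk
  have hmem : (c₀ * g)⁻¹ * k * (c₀ * g) ∈ L4 (K := K) a b c d := by
    rw [mem_L4]
    refine ⟨?_, ?_, ?_, ?_⟩
    · rw [mul_smul, mul_smul, hγa, hka, ← hγa, inv_smul_smul]
    · rw [mul_smul, mul_smul, hγb, hkb, ← hγb, inv_smul_smul]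
    · rw [mul_smul, mul_smul, hγc, hkc, ← hγc, inv_smul_smul]
    · rw [mul_smul, mul_smul, hγd, hkd, ← hγd, inv_smul_smul]
  have h1 := hfix _ hmem
  rw [mul_smul, mul_smul, hγe, inv_smul_eq_iff, hγe] at h1
  exact h1

end Cfsg.Agent.Lib.helper2.Hall4
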