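import Mathlib
import Cfsg.Agent.Lib.helper17.SLP.Defs
import Cfsg.Agent.Lib.helper17.SLPP2
import Cfsg.Agent.Lib.helper2.SLPM1
import Cfsg.Agent.Lib.helper2.SLPM2

/-!
# Project SLP, row XR core (helper2): `ascheme_R` with the statements of B5 (`exists_x_R`) and
F2 (`exists_kl`) as hypotheses.
-/

set_option autoImplicit false

namespace Cfsg.Agent.Lib.helper17.SLP

open Polynomial

universe u v

theorem slpxr_core {F : Type u} [Field F] [Fintype F] (p : ℕ) [Fact p.Prime] [Algebra (ZMod p) F]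
    (ζ : Fˣ)
    (hF2 : ∃ k l : ℕ, ((ζ : F) ^ 2) ^ k = ((ζ : F) ^ 2) ^ l + 1 ∧
      Function.Surjective (fun f : (ZMod p)[X] => aeval (((ζ : F) ^ 2) ^ l) f))
    (hB5 : ∀ (G : Type) [Group G] (u h : G) (k l : ℤ) (lam mu : F) (_ : lam ≠ 0)
      (_ : mu = lam ^ l) (_ : lam ^ k = mu + 1) (fl : (ZMod p)[X]) (_ : aeval mu fl = lam)
      (_ : Function.Surjective (fun f : (ZMod p)[X] => aeval mu f))
      (_ : u ^ p = 1) (_ : Commute u (cj h u l)) (_ : cj h u k = cj h u l * u)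
      (_ : pw p h u l (minpoly (ZMod p) mu) = 1) (_ : cj h u 1 = pw p h u l fl),
      ∃ x : F → G, (∀ s t, x (s + t) = x s * x t) ∧ (∀ t, h * x t * h⁻¹ = x (lam * t)) ∧ x 1 = u ∧
        ∀ f : (ZMod p)[X], x (aeval mu f) = pw p h u l f) :
    ∃ (A : List (FreeGroup (Fin 3))) (az : FreeGroup (Fin 3)), A.length ≤ 5 ∧
      (∀ r ∈ A, ev (xM (1 : F)) (hM ζ) wM r = 1) ∧ ev (xM (1 : F)) (hM ζ) wM az = xM (ζ : F) ∧
      ∀ (G : Type) [Group G] (u h w : G), (∀ r ∈ A, ev u h w r = 1) →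
        ∃ x : F → G, (∀ s t, x (s + t) = x s * x t) ∧
          (∀ t, h * x t * h⁻¹ = x ((ζ : F) ^ 2 * t)) ∧ x 1 = u ∧ x (ζ : F) = ev u h w az := by
  obtain ⟨k, l, hk, hsurj⟩ := hF2
  set lam : F := (ζ : F) ^ 2 with hlam_def
  set mu : F := lam ^ l with hmu_def
  have hlam0 : lam ≠ 0 := pow_ne_zero 2 ζ.ne_zero
  obtain ⟨fl, hfl⟩ := hsurj lam
  obtain ⟨fz, hfz⟩ := hsurj (ζ : F)
  simp only at hfl hfz
  have hpF : (p : F) = 0 := by
    rw [← map_natCast (algebraMap (ZMod p) F), ZMod.natCast_self, map_zero]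
  have hmuz : lam ^ (l : ℤ) = mu := zpow_natCast lam l
  have hkz : lam ^ (k : ℤ) = mu + 1 := by rw [zpow_natCast]; exact hk
  refine ⟨wordsR p k l (minpoly (ZMod p) mu) fl, pw p gH gU l fz, ?_, ?_, ?_, ?_⟩
  · simp [wordsR]
  · rw [ev_wordsR]
    refine ⟨?_, ?_, ?_, ?_, ?_⟩
    · rw [xM_pow, hpF, zero_mul, xM_zero]
    · rw [cm_eq_one_iff, cj_M]
      unfold Commute SemiconjBy
      rw [xM_mul, xM_mul, add_comm]
    · rw [cj_M, cj_M, xM_mul, mul_one, mul_one]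
      change xM (lam ^ (k : ℤ)) = xM (lam ^ (l : ℤ) + 1)
      rw [hkz, hmuz]
    · rw [pw_M]
      change xM (aeval (lam ^ (l : ℤ)) (minpoly (ZMod p) mu)) = 1
      rw [hmuz, minpoly.aeval, xM_zero]
    · rw [cj_M, pw_M, mul_one]
      change xM (lam ^ (1 : ℤ)) = xM (aeval (lam ^ (l : ℤ)) fl)
      rw [hmuz, hfl, zpow_one]
  · rw [map_pw, ev_gH, ev_gU, pw_M]
    change xM (aeval (lam ^ (l : ℤ)) fz) = xM (ζ : F)
    rw [hmuz, hfz]
  · intro G _ u h w hrel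
    rw [ev_wordsR] at hrel
    obtain ⟨a1, a2, a3, a4, a5⟩ := hrel
    rw [cm_eq_one_iff] at a2
    obtain ⟨x, hadd, hconj, hx1, hxf⟩ := hB5 G u h (k : ℤ) (l : ℤ) lam mu hlam0 hmuz.symm hkz fl hfl
      hsurj a1 a2 a3 a4 a5
    refine ⟨x, hadd, hconj, hx1, ?_⟩
    rw [map_pw, ev_gH, ev_gU, ← hxf, hfz]

end Cfsg.Agent.Lib.helper17.SLP
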