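import Mathlib
import Cfsg.Agent.Lib.helper17.SLP.Defs
import Cfsg.Agent.Lib.helper2.SLPXRcore
import Cfsg.Agent.Lib.helper8.SLPB5
import Cfsg.Agent.Lib.Helper29.SLPF2

/-!
# Project SLP, row XR (helper2): `ascheme_R`, verbatim.
-/

set_option autoImplicit false

namespace Cfsg.Agent.Lib.helper17.SLP

open Polynomial

universe u v

theorem ascheme_R {F : Type u} [Field F] [Fintype F] (p : ℕ) [Fact p.Prime] [CharP F p] (hp : p ≠ 2)
    (hq : 9 < Fintype.card F) (ζ : Fˣ) (hζ : ∀ y : Fˣ, y ∈ Subgroup.zpowers ζ) :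
    ∃ (A : List (FreeGroup (Fin 3))) (az : FreeGroup (Fin 3)), A.length ≤ 5 ∧
      (∀ r ∈ A, ev (xM (1 : F)) (hM ζ) wM r = 1) ∧ ev (xM (1 : F)) (hM ζ) wM az = xM (ζ : F) ∧
      ∀ (G : Type) [Group G] (u h w : G), (∀ r ∈ A, ev u h w r = 1) →
        ∃ x : F → G, (∀ s t, x (s + t) = x s * x t) ∧
          (∀ t, h * x t * h⁻¹ = x ((ζ : F) ^ 2 * t)) ∧ x 1 = u ∧ x (ζ : F) = ev u h w az := by
  letI := ZMod.algebra F p
  exact slpxr_core p ζ (exists_kl p hp hq ζ hζ)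
    (fun G _ u h k l lam mu hlam hmu hk fl hfl hsurj a1 a2 a3 a4 a5 =>
      exists_x_R p u h k l lam mu hlam hmu hk fl hfl hsurj a1 a2 a3 a4 a5)

end Cfsg.Agent.Lib.helper17.SLP
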