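import Mathlib
import Cfsg.Agent.Lib.helper17.SLP.Defs
import Cfsg.Agent.Lib.helper3.SP4.Defs
import Cfsg.Agent.Lib.Helper22.SU4.Defs
import Cfsg.Agent.Lib.Helper27.STU.Defs
import Cfsg.Agent.Lib.Helper27.STU.Defs3
import Cfsg.Agent.Lib.Helper19.SU5.Defs

/-!
# Project SU5, row C5 (`commU`), CORE: the statements of C1 (`comm_bcU`), C2 (`comm_cd_adU`), C3 (`cm_bdU`), C4 (`cm_abU`) for the given data enter as hypotheses;
the `xDU` clause of T0 is proved here (`su5c5_xDU`).  helper2.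
-/

set_option autoImplicit false

namespace Cfsg.Agent.Lib.Helper19.SU5

open Cfsg.Agent.Lib.helper17.SLP Cfsg.Agent.Lib.helper3.SP4 Cfsg.Agent.Lib.Helper22.SU4
open Cfsg.Agent.Lib.Helper27.STU (Lam XpM XmM XpS XmS SUm XpU XmU)

universe u v

section C

variable {F : Type u} {K : Type u} [Field F] [Field K] [StarRing F] {D : Tw F K}
  {G : Type v} [Group G]

/-- the `xDU` clause of T0 `phiL_basicU` -/
theorem su5c5_xDU (P : RO D) (φa : Matrix.SpecialLinearGroup (Fin 2) F →* G) (φb : ↥(SUm F True) →* G) (u : K) :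
    xDU P φa φb u = ydU φa φb (Lam.tr ((P.ζ : F) * D.ι u)) := by
  unfold xDU xdT ydU yb rx phiL
  rw [MonoidHom.comp_apply, P.ιL_x]

/-- C5 core -/
theorem su5c5_core (P : RO D) (φa : Matrix.SpecialLinearGroup (Fin 2) F →* G) (φb : ↥(SUm F True) →* G)
    (C4 : Comm4T D φa (phiL P φb))
    (hbc : ∀ ξ t, Commute (yb φb ξ) (xcU P φa φb t))
    (hcdad : (∀ t ξ, Commute (xcU P φa φb t) (ydU φa φb ξ)) ∧ ∀ t ξ, Commute (rx φa t) (ydU φa φb ξ))
    (hbd : ∀ ξ η, cm (yb φb ξ) (ydU φa φb η) = xcU P φa φb (-(P.kap)⁻¹ * (star ξ.v * η.v)))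
    (hab : ∀ t ξ, cm (rx φa t) (yb φb ξ) =
      xcU P φa φb (-(P.kap)⁻¹ * (t * star ξ.c)) * ydU φa φb (Lam.act (-t) ξ)) : CommU P φa φb where
  ad := hcdad.2
  cd := hcdad.1
  bc := hbc
  bd := hbd
  ac := by
    intro t s
    have h := C4.ac t s
    rw [P.hσ] at h
    rw [← su5c5_xDU P φa φb]
    exact h
  ab := hab

end C

end Cfsg.Agent.Lib.Helper19.SU5
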