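import Mathlib
import Cfsg.Agent.Lib.helper2.SU5C5core
import Cfsg.Agent.Lib.helper14.SU5C1
import Cfsg.Agent.Lib.helper14.SU5C2

/-!
# Project SU5, row C5 (`commU`), verbatim: wrapper of `su5c5_core` on C1–C4.  helper2.
-/

set_option autoImplicit false

namespace Cfsg.Agent.Lib.Helper19.SU5

open Cfsg.Agent.Lib.helper17.SLP Cfsg.Agent.Lib.helper3.SP4 Cfsg.Agent.Lib.Helper22.SU4
open Cfsg.Agent.Lib.Helper27.STU (Lam XpM XmM XpS XmS SUm XpU XmU)

universe u v

section C

variable {F : Type u} {K : Type u} [Field F] [Field K] [StarRing F] [Fintype F] [Fintype K] {D : Tw F K}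
  {G : Type v} [Group G]

/-- C5 -/
theorem commU (hFK : Fintype.card F = Fintype.card K ^ 2) (P : RO D)
    (φa : Matrix.SpecialLinearGroup (Fin 2) F →* G) (φb : ↥(SUm F True) →* G) (H : HypU P φa φb)
    (R : TorU P φa φb) (W : WactU P φa φb) (C4 : Comm4T D φa (phiL P φb)) : CommU P φa φb := by
  have hbc := comm_bcU hFK P φa φb H R
  have hcdad := comm_cd_adU P φa φb W hbc
  have hbd := cm_bdU hFK P φa φb H R hbc hcdad.1
  have hab := cm_abU hFK P φa φb H R hbc hcdad.1 hbd
  exact su5c5_core P φa φb C4 hbc hcdad hbd hab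

end C

end Cfsg.Agent.Lib.Helper19.SU5
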