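import Cfsg.Agent.Lib.helper15.SUn.Iso
import Cfsg.Agent.Lib.Helper28.UGen2
import Cfsg.Agent.Lib.Helper28.UHerm
import Cfsg.Agent.S0780

set_option autoImplicit false
set_option linter.unusedSectionVars false

namespace Cfsg.Agent.Lib.helper2.SUnP2

open Matrix Cfsg.Agent.Lib.helper15.SUn Cfsg.Agent.Lib.Helper28.UGen

variable {F : Type*} [Field F] [Fintype F] {n : ℕ} {q : ℕ} {σ : F ≃+* F}

/-! ## P2 DDcalc -/
theorem dd_zero (H : Subgroup ↥(Cfsg.SU n F q)) : (0 : Fin n → F) ∈ DD σ H := by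
  refine ⟨herm_zero_left _, fun c _ => ?_⟩
  have h1 : TV σ (0 : Fin n → F) c = 1 := by
    unfold TV
    rw [R_zero_left, smul_zero, add_zero]
  rw [h1]
  exact InH.one

theorem dd_smul (hσ : ∀ x, σ x = x ^ q)
    (hf : Cfsg.Geo.IsUnitaryForm σ (Cfsg.hermForm n F q)) {H : Subgroup ↥(Cfsg.SU n F q)}
    {y : Fin n → F} (hy : y ∈ DD σ H) (k : F) : k • y ∈ DD σ H := by
  obtain ⟨hy0, hyT⟩ := hy
  refine ⟨?_, fun c hc => ?_⟩
  · rw [herm_smul_left, herm_smul_right hσ, hy0, mul_zero, mul_zero]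
  · rw [TV_smul]
    apply hyT
    rw [map_mul, map_mul, hf.involutive, hc]
    ring

theorem inh_conj_TV (hσ : ∀ x, σ x = x ^ q) {H : Subgroup ↥(Cfsg.SU n F q)}
    {M : Matrix (Fin n) (Fin n) F} (hM : InH H M) {y : Fin n → F} {c : F}
    (hT : InH H (TV σ y c)) : InH H (TV σ (M *ᵥ y) c) := by
  obtain ⟨A, hA, rfl⟩ := hM
  have hMi := su_mul_inv A
  have h1 := conj_TV hσ hMi (su_iso A) y c
  rw [← h1]
  exact ((InH.of_mem hA).mul hT).mul (InH.of_mem (H.inv_mem hA))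

theorem dd_inh (hσ : ∀ x, σ x = x ^ q)
    (hf : Cfsg.Geo.IsUnitaryForm σ (Cfsg.hermForm n F q)) {H : Subgroup ↥(Cfsg.SU n F q)}
    {y : Fin n → F} (hy : y ∈ DD σ H) {M : Matrix (Fin n) (Fin n) F} (hM : InH H M) :
    M *ᵥ y ∈ DD σ H := by
  obtain ⟨hy0, hyT⟩ := hy
  refine ⟨?_, fun c hc => inh_conj_TV hσ hM (hyT c hc)⟩
  obtain ⟨A, _, rfl⟩ := hM
  rw [su_iso A, hy0]

theorem dd_move (hσ : ∀ x, σ x = x ^ q)
    (hf : Cfsg.Geo.IsUnitaryForm σ (Cfsg.hermForm n F q)) {H : Subgroup ↥(Cfsg.SU n F q)}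
    {y y' : Fin n → F} (hy : y ∈ DD σ H) (hy' : y' ∈ DD σ H) {c : F} (hc : σ c = -c) :
    y + (c * Cfsg.hermForm n F q y y') • y' ∈ DD σ H := by
  rw [← TV_mulVec hσ y' c y]
  exact dd_inh hσ hf hy (hy'.2 c hc)

theorem inh_inv {H : Subgroup ↥(Cfsg.SU n F q)} {A : ↥(Cfsg.SU n F q)} (hA : A ∈ H) :
    InH H (((A⁻¹ : ↥(Cfsg.SU n F q)) : Matrix.SpecialLinearGroup (Fin n) F) :
      Matrix (Fin n) (Fin n) F) :=
  InH.of_mem (H.inv_mem hA)

theorem dd_inh_inv (hσ : ∀ x, σ x = x ^ q)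
    (hf : Cfsg.Geo.IsUnitaryForm σ (Cfsg.hermForm n F q)) {H : Subgroup ↥(Cfsg.SU n F q)}
    {y : Fin n → F} {M : Matrix (Fin n) (Fin n) F} (hM : InH H M) (hy : M *ᵥ y ∈ DD σ H) :
    y ∈ DD σ H := by
  obtain ⟨A, hA, rfl⟩ := hM
  have h1 := dd_inh hσ hf hy (inh_inv hA)
  rwa [Matrix.mulVec_mulVec, su_inv_mul, Matrix.one_mulVec] at h1

theorem top_of_dd (hF : Fintype.card F = q ^ 2) (hσ : ∀ x, σ x = x ^ q)
    (hf : Cfsg.Geo.IsUnitaryForm σ (Cfsg.hermForm n F q)) (hn : 3 ≤ n) (h32 : ¬ (n = 3 ∧ q = 2))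
    {H : Subgroup ↥(Cfsg.SU n F q)}
    (h : ∀ y : Fin n → F, Cfsg.hermForm n F q y y = 0 → y ∈ DD σ H) : H = ⊤ := by
  rw [eq_top_iff, ← Cfsg.Agent.S0780.result hF n hn h32, Subgroup.closure_le]
  rintro A ⟨v, c, hv, hA⟩
  rw [← TV_eq hσ] at hA
  by_cases hv0 : v = 0
  · have h1 : A = 1 := by
      apply su_ext
      rw [hA, su_coe_one, hv0]
      unfold TV
      rw [R_zero_left, smul_zero, add_zero]
    rw [h1]
    exact H.one_mem
  · obtain ⟨⟨x, hx⟩, _⟩ := hf.nondegenerate v hv0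
    have hiso := su_iso A x x
    rw [hA, TV_mulVec hσ, herm_add_left, herm_add_right hσ, herm_add_right hσ, herm_smul_left,
      herm_smul_left, herm_smul_right hσ, herm_smul_right hσ, hv, hf.herm v x] at hiso
    have hσb : σ (Cfsg.hermForm n F q x v) ≠ 0 := by
      intro h0
      apply hx
      have := congrArg σ h0
      rwa [hf.involutive, map_zero] at this
    have hc : σ c = -c := by
      have h2 : (σ c + c) * (Cfsg.hermForm n F q x v * σ (Cfsg.hermForm n F q x v)) = 0 := by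
        rw [map_mul] at hiso
        linear_combination hiso
      rcases mul_eq_zero.1 h2 with h3 | h3
      · exact eq_neg_of_add_eq_zero_left h3
      · exact absurd h3 (mul_ne_zero hx hσb)
    obtain ⟨B, hB, hBm⟩ := (h v hv).2 c hc
    have : A = B := su_ext (by rw [hA, hBm])
    rw [this]
    exact hB

end Cfsg.Agent.Lib.helper2.SUnP2
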