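import Cfsg.Agent.Lib.helper15.SUn.Iso
import Cfsg.Agent.Lib.Helper28.UGen2
import Cfsg.Agent.Lib.Helper28.UHerm
import Cfsg.Agent.S0780
import Cfsg.Agent.Lib.helper2.SUnP2

set_option autoImplicit false
set_option linter.unusedSectionVars false
set_option linter.unusedVariables false

namespace Cfsg.Agent.Lib.helper2.SUnP5

open Matrix Cfsg.Agent.Lib.helper15.SUn Cfsg.Agent.Lib.Helper28.UGen
open Cfsg.Agent.Lib.Helper28.UForm Cfsg.Agent.Lib.helper2.SUnP2

variable {F : Type*} [Field F] [Fintype F] {n : ℕ} {q : ℕ} {σ : F ≃+* F}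

/-- Step 1: the group generated by the transvections with centre orthogonal to `a` lies in `H`
as soon as all these centres are in `DD`. -/
theorem ra_inh (hσ : ∀ x, σ x = x ^ q)
    (hf : Cfsg.Geo.IsUnitaryForm σ (Cfsg.hermForm n F q)) {H : Subgroup ↥(Cfsg.SU n F q)}
    {m : ℕ} (a : Fin m → Fin n → F)
    (hY : ∀ y : Fin n → F, Cfsg.hermForm n F q y y = 0 → Perp (Cfsg.hermForm n F q) a y →
      y ∈ DD σ H) :
    ∀ r ∈ Ra (Cfsg.hermForm n F q) σ a,
      InH H ((r : Matrix.GeneralLinearGroup (Fin n) F) : Matrix (Fin n) (Fin n) F) := by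
  intro r hr
  unfold Ra at hr
  induction hr using Subgroup.closure_induction with
  | mem g hg =>
    obtain ⟨y, c, hyy, hc, hya, hg⟩ := hg
    have h1 : ((g : Matrix.GeneralLinearGroup (Fin n) F) : Matrix (Fin n) (Fin n) F) =
        TV σ y (-c) := by
      apply mat_ext
      intro x
      rw [hg, TV_mulVec hσ, herm_smul_right hσ, hc]
    rw [h1]
    exact (hY y hyy hya).2 (-c) (by rw [map_neg, hc])
  | one => exact InH.one
  | mul a b _ _ ha hb =>
    rw [Units.val_mul]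
    exact ha.mul hb
  | inv a _ ha =>
    exact ha.of_mul_eq_one (by rw [← Units.val_mul, mul_inv_cancel, Units.val_one])

/-- Step 2. -/
theorem step2 (hσ : ∀ x, σ x = x ^ q)
    (hf : Cfsg.Geo.IsUnitaryForm σ (Cfsg.hermForm n F q)) {H : Subgroup ↥(Cfsg.SU n F q)}
    {m : ℕ} (a : Fin m → Fin n → F) (ha : Nd (Cfsg.hermForm n F q) a) (hm : m + 3 ≤ n)
    {e z0 : Fin n → F}
    (hfix : ∀ r ∈ Ra (Cfsg.hermForm n F q) σ a,
      ((r : Matrix.GeneralLinearGroup (Fin n) F) : Matrix (Fin n) (Fin n) F) *ᵥ e = e)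
    (he : e ∈ DD σ H)
    (hY : ∀ y : Fin n → F, Cfsg.hermForm n F q y y = 0 → Perp (Cfsg.hermForm n F q) a y →
      y ∈ DD σ H)
    (hz0 : z0 ≠ 0) (hz0i : Cfsg.hermForm n F q z0 z0 = 0)
    (hz0a : Perp (Cfsg.hermForm n F q) a z0) (hz : z0 + e ∈ DD σ H) :
    ∀ z : Fin n → F, Cfsg.hermForm n F q z z = 0 → Perp (Cfsg.hermForm n F q) a z →
      ∀ k : F, z + k • e ∈ DD σ H := by
  intro z hzz hza k
  by_cases hz0' : z = 0
  · rw [hz0', zero_add]
    exact dd_smul hσ hf he k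
  by_cases hk : k = 0
  · rw [hk, zero_smul, add_zero]
    exact hY z hzz hza
  have e1 : k⁻¹ • z ≠ 0 := smul_ne_zero (inv_ne_zero hk) hz0'
  have e2 : Cfsg.hermForm n F q (k⁻¹ • z) (k⁻¹ • z) = 0 := by
    rw [herm_smul_left, herm_smul_right hσ, hzz, mul_zero, mul_zero]
  have e3 : Perp (Cfsg.hermForm n F q) a (k⁻¹ • z) := perp_smul hf a _ _ hza
  obtain ⟨r, hr, hrz⟩ := h1 hf a ha hm z0 (k⁻¹ • z) hz0 e1 hz0i e2 hz0a e3
  have h4 := dd_inh hσ hf hz (ra_inh hσ hf a hY r hr)
  rw [Matrix.mulVec_add, hrz, hfix r hr] at h4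
  have h5 := dd_smul hσ hf h4 k
  rw [smul_add, smul_smul, mul_inv_cancel₀ hk, one_smul] at h5
  exact h5

/-- Step 3. -/
theorem step3 (hσ : ∀ x, σ x = x ^ q)
    (hf : Cfsg.Geo.IsUnitaryForm σ (Cfsg.hermForm n F q)) {H : Subgroup ↥(Cfsg.SU n F q)}
    {e f : Fin n → F} (hee : Cfsg.hermForm n F q e e = 0) (hff : Cfsg.hermForm n F q f f = 0)
    (hef : Cfsg.hermForm n F q e f = 1) (hfe : Cfsg.hermForm n F q f e = 1)
    (he : e ∈ DD σ H) (hfD : f ∈ DD σ H) {z : Fin n → F}
    (hze : Cfsg.hermForm n F q z e = 0) (hzf : Cfsg.hermForm n F q z f = 0)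
    (h2 : ∀ k : F, z + k • e ∈ DD σ H) {x x' : F} (hx : x * σ x' + σ x * x' = 0) :
    z + x • e + x' • f ∈ DD σ H := by
  have hσ0 : ∀ a : F, a ≠ 0 → σ a ≠ 0 := by
    intro a ha h0
    apply ha
    have := congrArg σ h0
    rwa [hf.involutive, map_zero] at this
  by_cases hx0 : x = 0
  · obtain ⟨κ, hκ0, hκ⟩ := exists_K0 hf
    have hw := h2 (x' / κ)
    have hw2 := dd_move hσ hf hw hfD hκ
    rw [herm_add_left, herm_smul_left, hzf, hef, zero_add, mul_one,
      mul_div_cancel₀ _ hκ0] at hw2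
    have hc : σ (-κ⁻¹) = -(-κ⁻¹) := by
      rw [map_neg, map_inv₀, hκ, inv_neg]
    have hw3 := dd_move hσ hf hw2 he hc
    rw [herm_add_left, herm_add_left, herm_smul_left, herm_smul_left, hze, hee, hfe] at hw3
    have h3 : z + (x' / κ) • e + x' • f + (-κ⁻¹ * (0 + x' / κ * 0 + x' * 1)) • e =
        z + x • e + x' • f := by
      rw [hx0, zero_smul, add_zero]
      have : (-κ⁻¹ * (0 + x' / κ * 0 + x' * 1)) = -(x' / κ) := by
        field_simp
        ring
      rw [this]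
      module
    rw [h3] at hw3
    exact hw3
  · have hσx := hσ0 x hx0
    have hc : σ (x' / x) = -(x' / x) := by
      rw [map_div₀]
      field_simp
      linear_combination hx
    have hw := h2 x
    have hw2 := dd_move hσ hf hw hfD hc
    rw [herm_add_left, herm_smul_left, hzf, hef, zero_add, mul_one,
      div_mul_cancel₀ _ hx0] at hw2
    exact hw2

/-! ## P5 LemB -/
theorem lemB (hF : Fintype.card F = q ^ 2) (hσ : ∀ x, σ x = x ^ q)
    (hf : Cfsg.Geo.IsUnitaryForm σ (Cfsg.hermForm n F q)) {H : Subgroup ↥(Cfsg.SU n F q)}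
    {k : ℕ} (a' : Fin k → Fin n → F) (ha' : Nd (Cfsg.hermForm n F q) a') (hk : k + 5 ≤ n)
    {e f z0 : Fin n → F} (hp : HP (Cfsg.hermForm n F q) a' e f)
    (he : e ∈ DD σ H) (hfD : f ∈ DD σ H)
    (hY : ∀ v : Fin n → F, Cfsg.hermForm n F q v v = 0 → Perp (Cfsg.hermForm n F q) a' v →
      Cfsg.hermForm n F q v e = 0 → Cfsg.hermForm n F q v f = 0 → v ∈ DD σ H)
    (hz0 : z0 ≠ 0) (hz0i : Cfsg.hermForm n F q z0 z0 = 0)
    (hz0a : Perp (Cfsg.hermForm n F q) a' z0)
    (hz0e : Cfsg.hermForm n F q z0 e = 0) (hz0f : Cfsg.hermForm n F q z0 f = 0)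
    (hz : z0 + e ∈ DD σ H) :
    ∀ v : Fin n → F, Cfsg.hermForm n F q v v = 0 → Perp (Cfsg.hermForm n F q) a' v →
      v ∈ DD σ H := by
  have hef : Cfsg.hermForm n F q e f = 1 := hp.huv hf
  have hfe : Cfsg.hermForm n F q f e = 1 := hp.hvu
  have hee := hp.hu
  have hff := hp.hv
  have hσ0 : ∀ a : F, a ≠ 0 → σ a ≠ 0 := by
    intro a ha h0
    apply ha
    have := congrArg σ h0
    rwa [hf.involutive, map_zero] at this
  -- the family a = (e, f, a')
  obtain ⟨a, ha_def⟩ : ∃ a : Fin (k + 1 + 1) → Fin n → F, a = Fin.cons e (Fin.cons f a') :=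
    ⟨_, rfl⟩
  have hnd : Nd (Cfsg.hermForm n F q) a := by
    rw [ha_def]
    exact nd_cons2 hf a' ha' e f hp.hua hp.hva hp.hu hp.hv (by rw [hfe]; exact one_ne_zero)
  have hperp : ∀ w : Fin n → F, Perp (Cfsg.hermForm n F q) a w ↔
      Cfsg.hermForm n F q w e = 0 ∧ Cfsg.hermForm n F q w f = 0 ∧
        Perp (Cfsg.hermForm n F q) a' w := by
    intro w
    rw [ha_def, perp_cons, perp_cons]
  have hYa : ∀ y : Fin n → F, Cfsg.hermForm n F q y y = 0 → Perp (Cfsg.hermForm n F q) a y →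
      y ∈ DD σ H := by
    intro y hyy hya
    rw [hperp] at hya
    exact hY y hyy hya.2.2 hya.1 hya.2.1
  have hfix : ∀ r ∈ Ra (Cfsg.hermForm n F q) σ a,
      ((r : Matrix.GeneralLinearGroup (Fin n) F) : Matrix (Fin n) (Fin n) F) *ᵥ e = e := by
    intro r hr
    have h1 := (Ra_le_GA hf a hr).2.2 0
    rw [ha_def] at h1
    simpa using h1
  have hz0a2 : Perp (Cfsg.hermForm n F q) a z0 := by
    rw [hperp]
    exact ⟨hz0e, hz0f, hz0a⟩
  have h2 := step2 hσ hf a hnd (by omega) hfix he hYa hz0 hz0i hz0a2 hz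
  have h3 : ∀ z : Fin n → F, Cfsg.hermForm n F q z z = 0 → Perp (Cfsg.hermForm n F q) a z →
      ∀ x x' : F, x * σ x' + σ x * x' = 0 → z + x • e + x' • f ∈ DD σ H := by
    intro z hzz hza x x' hx
    have hza' := (hperp z).1 hza
    exact step3 hσ hf hee hff hef hfe he hfD hza'.1 hza'.2.1 (h2 z hzz hza) hx
  -- the general vector
  intro v hv hva
  obtain ⟨x, hx⟩ : ∃ x, x = Cfsg.hermForm n F q v f := ⟨_, rfl⟩
  obtain ⟨x', hx'⟩ : ∃ x', x' = Cfsg.hermForm n F q v e := ⟨_, rfl⟩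
  obtain ⟨y, hy⟩ : ∃ y, y = v - (x • e + x' • f) := ⟨_, rfl⟩
  have hv_eq : v = y + x • e + x' • f := by
    rw [hy]
    abel
  have hye : Cfsg.hermForm n F q y e = 0 := by
    rw [hy, herm_sub_left, herm_add_left, herm_smul_left, herm_smul_left, hee, hfe, ← hx']
    ring
  have hyf : Cfsg.hermForm n F q y f = 0 := by
    rw [hy, herm_sub_left, herm_add_left, herm_smul_left, herm_smul_left, hef, hff, ← hx]
    ring
  have hya' : Perp (Cfsg.hermForm n F q) a' y := by
    rw [hy]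
    exact perp_sub hf a' _ _ hva (perp_add hf a' _ _ (perp_smul hf a' _ _ hp.hua)
      (perp_smul hf a' _ _ hp.hva))
  have hya : Perp (Cfsg.hermForm n F q) a y := by
    rw [hperp]
    exact ⟨hye, hyf, hya'⟩
  have hey : Cfsg.hermForm n F q e y = 0 := f_swap_zero hf hye
  have hfy : Cfsg.hermForm n F q f y = 0 := f_swap_zero hf hyf
  have hnorm : Cfsg.hermForm n F q y y + (x * σ x' + σ x * x') = 0 := by
    have h := hv
    rw [hv_eq] at h
    simp only [herm_add_left, herm_smul_left, herm_add_right hσ, herm_smul_right hσ,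
      hee, hff, hef, hfe, hye, hyf, hey, hfy] at h
    linear_combination h
  by_cases hν : Cfsg.hermForm n F q y y = 0
  · rw [hν, zero_add] at hnorm
    rw [hv_eq]
    exact h3 y hν hya x x' hnorm
  · -- the anisotropic case
    obtain ⟨ν, hνdef⟩ : ∃ ν, ν = Cfsg.hermForm n F q y y := ⟨_, rfl⟩
    rw [← hνdef] at hν hnorm
    have hνσ : σ ν = ν := by rw [hνdef]; exact f_self_fixed hf y
    -- an isotropic vector of Y not orthogonal to y
    have hnd3 := nd_cons1 hf a hnd y hya (by rw [← hνdef]; exact hν)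
    obtain ⟨w, hwa, hww⟩ := exists_noniso_perp hf _ hnd3 (by omega)
    rw [perp_cons] at hwa
    obtain ⟨hwy, hwa⟩ := hwa
    have hyw : Cfsg.hermForm n F q y w = 0 := f_swap_zero hf hwy
    have hfixt : σ (-ν / Cfsg.hermForm n F q w w) = -ν / Cfsg.hermForm n F q w w := by
      rw [map_div₀, map_neg, hνσ, f_self_fixed hf]
    obtain ⟨t, ht⟩ := norm_surj hf _ hfixt
    obtain ⟨κ, hκ0, hκ⟩ := exists_K0 hf
    -- the prescribed value μ of B(y, z1)
    obtain ⟨μ, hμdef⟩ : ∃ μ, μ = -(σ x * x') + κ := ⟨_, rfl⟩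
    have hμtr : μ + σ μ = ν := by
      rw [hμdef, map_add, map_neg, map_mul, hf.involutive, hκ]
      linear_combination -hnorm
    have hη : σ μ + x * σ x' ≠ 0 := by
      rw [hμdef, map_add, map_neg, map_mul, hf.involutive, hκ]
      intro h0
      apply hκ0
      linear_combination -h0
    obtain ⟨z1, hz1def⟩ : ∃ z1, z1 = (σ μ / ν) • (y + t • w) := ⟨_, rfl⟩
    have hz1i : Cfsg.hermForm n F q z1 z1 = 0 := by
      have h0 : Cfsg.hermForm n F q (y + t • w) (y + t • w) = 0 := by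
        simp only [herm_add_left, herm_smul_left, herm_add_right hσ, herm_smul_right hσ,
          hyw, hwy, ← hνdef]
        have : t * (σ t * Cfsg.hermForm n F q w w) = -ν := by
          rw [← mul_assoc, ht]
          field_simp
        linear_combination this
      rw [hz1def, herm_smul_left, herm_smul_right hσ, h0, mul_zero, mul_zero]
    have hz1a : Perp (Cfsg.hermForm n F q) a z1 := by
      rw [hz1def]
      exact perp_smul hf a _ _ (perp_add hf a _ _ hya (perp_smul hf a _ _ hwa))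
    have hyz1 : Cfsg.hermForm n F q y z1 = μ := by
      rw [hz1def, herm_smul_right hσ, herm_add_right hσ, herm_smul_right hσ, hyw, ← hνdef,
        map_div₀, hf.involutive, hνσ]
      field_simp
      ring
    have hz1y : Cfsg.hermForm n F q z1 y = σ μ := by
      rw [hf.herm, hyz1]
    obtain ⟨z2, hz2def⟩ : ∃ z2, z2 = y - z1 := ⟨_, rfl⟩
    have hz2i : Cfsg.hermForm n F q z2 z2 = 0 := by
      rw [hz2def, herm_sub_left, herm_sub_right hσ, herm_sub_right hσ, hyz1, hz1y, hz1i,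
        ← hνdef]
      linear_combination -hμtr
    have hz2a : Perp (Cfsg.hermForm n F q) a z2 := by
      rw [hz2def]
      exact perp_sub hf a _ _ hya hz1a
    have hz1z2 : Cfsg.hermForm n F q z1 z2 = σ μ := by
      rw [hz2def, herm_sub_right hσ, hz1y, hz1i, sub_zero]
    -- t1 = z1 + x e, t2 = z2 + x' f
    have ht1 : z1 + x • e + (0 : F) • f ∈ DD σ H :=
      h3 z1 hz1i hz1a x 0 (by rw [map_zero, mul_zero, mul_zero, add_zero])
    have ht2 : z2 + (0 : F) • e + x' • f ∈ DD σ H :=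
      h3 z2 hz2i hz2a 0 x' (by rw [map_zero, zero_mul, zero_mul, add_zero])
    rw [zero_smul, add_zero] at ht1 ht2
    have hz1' := (hperp z1).1 hz1a
    have hz2' := (hperp z2).1 hz2a
    have hη2 : Cfsg.hermForm n F q (z1 + x • e) (z2 + x' • f) = σ μ + x * σ x' := by
      simp only [herm_add_left, herm_smul_left, herm_add_right hσ, herm_smul_right hσ,
        hz1z2, hz1'.2.1, hef, f_swap_zero hf hz2'.1]
      ring
    have hc : σ (σ μ + x * σ x')⁻¹ = -(σ μ + x * σ x')⁻¹ := by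
      rw [map_inv₀, ← inv_neg]
      congr 1
      rw [map_add, map_mul, hf.involutive, hf.involutive]
      linear_combination hμtr + hnorm
    have hfin := dd_move hσ hf ht1 ht2 hc
    rw [hη2, inv_mul_cancel₀ hη, one_smul] at hfin
    have : z1 + x • e + (z2 + x' • f) = v := by
      rw [hv_eq, hz2def]
      abel
    rw [this] at hfin
    exact hfin

end Cfsg.Agent.Lib.helper2.SUnP5
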