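import Cfsg.Agent.Lib.helper15.SUn.Iso
import Cfsg.Agent.Lib.Helper28.UGen2
import Cfsg.Agent.Lib.Helper28.UHerm
import Cfsg.Agent.S0780
import Cfsg.Agent.Lib.helper2.SUnP2

set_option autoImplicit false
set_option linter.unusedSectionVars false
set_option linter.unusedVariables false

namespace Cfsg.Agent.Lib.helper2.SUnP4

open Matrix Cfsg.Agent.Lib.helper15.SUn Cfsg.Agent.Lib.Helper28.UGen
open Cfsg.Agent.Lib.Helper28.UForm Cfsg.Agent.Lib.helper2.SUnP2

variable {F : Type*} [Field F] [Fintype F] {n : ℕ} {q : ℕ} {σ : F ≃+* F}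

/-- The linking coefficient: a common first coordinate for two second coordinates
that are independent over the fixed field. -/
theorem alg_link (hinv : ∀ a, σ (σ a) = a) {ν β β' : F} (hν : σ ν = ν)
    (hδ : β' * σ β - σ β' * β ≠ 0) :
    (ν * (β - β') / (β' * σ β - σ β' * β)) * σ β +
        σ (ν * (β - β') / (β' * σ β - σ β' * β)) * β = -ν ∧
      (ν * (β - β') / (β' * σ β - σ β' * β)) * σ β' +
        σ (ν * (β - β') / (β' * σ β - σ β' * β)) * β' = -ν := by
  have hσδ : σ (β' * σ β - σ β' * β) = -(β' * σ β - σ β' * β) := by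
    rw [map_sub, map_mul, map_mul, hinv, hinv]
    ring
  have hσα : σ (ν * (β - β') / (β' * σ β - σ β' * β)) =
      -(ν * (σ β - σ β') / (β' * σ β - σ β' * β)) := by
    rw [map_div₀, map_mul, map_sub, hν, hσδ, div_neg]
  rw [hσα]
  obtain ⟨D, hD⟩ : ∃ D, D = β' * σ β - σ β' * β := ⟨_, rfl⟩
  rw [← hD] at hδ ⊢
  constructor
  · field_simp
    rw [hD]
    ring
  · field_simp
    rw [hD]
    ring

/-- Gram data of a hyperbolic pair `e, f` and an anisotropic vector `s` orthogonal to both. -/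
structure Tri (q : ℕ) (e f s : Fin n → F) (ν : F) : Prop where
  ee : Cfsg.hermForm n F q e e = 0
  ff : Cfsg.hermForm n F q f f = 0
  ef : Cfsg.hermForm n F q e f = 1
  fe : Cfsg.hermForm n F q f e = 1
  se : Cfsg.hermForm n F q s e = 0
  sf : Cfsg.hermForm n F q s f = 0
  es : Cfsg.hermForm n F q e s = 0
  fs : Cfsg.hermForm n F q f s = 0
  ss : Cfsg.hermForm n F q s s = ν

section tri

variable {e f s : Fin n → F} {ν : F}

theorem Tri.herm_e (T : Tri q e f s ν) (α β : F) :
    Cfsg.hermForm n F q (α • e + β • f + s) e = β := by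
  rw [herm_add_left, herm_add_left, herm_smul_left, herm_smul_left, T.ee, T.fe, T.se]
  ring

theorem Tri.herm_f (T : Tri q e f s ν) (α β : F) :
    Cfsg.hermForm n F q (α • e + β • f + s) f = α := by
  rw [herm_add_left, herm_add_left, herm_smul_left, herm_smul_left, T.ef, T.ff, T.sf]
  ring

theorem Tri.moveE (hσ : ∀ x, σ x = x ^ q)
    (hf : Cfsg.Geo.IsUnitaryForm σ (Cfsg.hermForm n F q)) {H : Subgroup ↥(Cfsg.SU n F q)}
    (T : Tri q e f s ν) (hν : ν ≠ 0) (he : e ∈ DD σ H) {α α' β : F}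
    (hG : α • e + β • f + s ∈ DD σ H) (hP : α * σ β + σ α * β = -ν)
    (hP' : α' * σ β + σ α' * β = -ν) : α' • e + β • f + s ∈ DD σ H := by
  have hβ : β ≠ 0 := by
    intro h0
    rw [h0, map_zero, mul_zero, mul_zero, add_zero] at hP
    exact hν (neg_eq_zero.1 hP.symm)
  have hσβ : σ β ≠ 0 := by
    intro h0
    apply hβ
    have := congrArg σ h0
    rwa [hf.involutive, map_zero] at this
  have hc : σ ((α' - α) / β) = -((α' - α) / β) := by
    rw [map_div₀, map_sub]
    field_simp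
    linear_combination hP' - hP
  have h1 := dd_move hσ hf hG he hc
  rw [T.herm_e, div_mul_cancel₀ _ hβ] at h1
  have h2 : α • e + β • f + s + (α' - α) • e = α' • e + β • f + s := by module
  rwa [h2] at h1

theorem Tri.moveF (hσ : ∀ x, σ x = x ^ q)
    (hf : Cfsg.Geo.IsUnitaryForm σ (Cfsg.hermForm n F q)) {H : Subgroup ↥(Cfsg.SU n F q)}
    (T : Tri q e f s ν) (hν : ν ≠ 0) (hfD : f ∈ DD σ H) {α β β' : F}
    (hG : α • e + β • f + s ∈ DD σ H) (hP : α * σ β + σ α * β = -ν)
    (hP' : α * σ β' + σ α * β' = -ν) : α • e + β' • f + s ∈ DD σ H := by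
  have hα : α ≠ 0 := by
    intro h0
    rw [h0, map_zero, zero_mul, zero_mul, add_zero] at hP
    exact hν (neg_eq_zero.1 hP.symm)
  have hσα : σ α ≠ 0 := by
    intro h0
    apply hα
    have := congrArg σ h0
    rwa [hf.involutive, map_zero] at this
  have hc : σ ((β' - β) / α) = -((β' - β) / α) := by
    rw [map_div₀, map_sub]
    field_simp
    linear_combination hP' - hP
  have h1 := dd_move hσ hf hG hfD hc
  rw [T.herm_f, div_mul_cancel₀ _ hα] at h1
  have h2 : α • e + β • f + s + (β' - β) • f = α • e + β' • f + s := by module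
  rwa [h2] at h1

theorem Tri.link (hσ : ∀ x, σ x = x ^ q)
    (hf : Cfsg.Geo.IsUnitaryForm σ (Cfsg.hermForm n F q)) {H : Subgroup ↥(Cfsg.SU n F q)}
    (T : Tri q e f s ν) (hν : ν ≠ 0) (he : e ∈ DD σ H) (hfD : f ∈ DD σ H) {α α' β β' : F}
    (hG : α • e + β • f + s ∈ DD σ H) (hP : α * σ β + σ α * β = -ν)
    (hP' : α' * σ β' + σ α' * β' = -ν) (hδ : β' * σ β - σ β' * β ≠ 0) :
    α' • e + β' • f + s ∈ DD σ H := by
  have hνσ : σ ν = ν := by rw [← T.ss]; exact f_self_fixed hf s
  obtain ⟨h1, h2⟩ := alg_link hf.involutive hνσ hδ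
  have hG1 := T.moveE hσ hf hν he hG hP h1
  have hG2 := T.moveF hσ hf hν hfD hG1 h1 h2
  exact T.moveE hσ hf hν he hG2 h2 hP'

theorem Tri.all (hσ : ∀ x, σ x = x ^ q)
    (hf : Cfsg.Geo.IsUnitaryForm σ (Cfsg.hermForm n F q)) {H : Subgroup ↥(Cfsg.SU n F q)}
    (T : Tri q e f s ν) (hν : ν ≠ 0) (he : e ∈ DD σ H) (hfD : f ∈ DD σ H) {x x' : F}
    (hG : x • e + x' • f + s ∈ DD σ H) (hP : x * σ x' + σ x * x' = -ν) {α β : F}
    (hP' : α * σ β + σ α * β = -ν) : α • e + β • f + s ∈ DD σ H := by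
  have hνσ : σ ν = ν := by rw [← T.ss]; exact f_self_fixed hf s
  have hx' : x' ≠ 0 := by
    intro h0
    rw [h0, map_zero, mul_zero, mul_zero, add_zero] at hP
    exact hν (neg_eq_zero.1 hP.symm)
  have hβ : β ≠ 0 := by
    intro h0
    rw [h0, map_zero, mul_zero, mul_zero, add_zero] at hP'
    exact hν (neg_eq_zero.1 hP'.symm)
  have hσ0 : ∀ a : F, a ≠ 0 → σ a ≠ 0 := by
    intro a ha h0
    apply ha
    have := congrArg σ h0
    rwa [hf.involutive, map_zero] at this
  by_cases hδ : β * σ x' - σ β * x' = 0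
  · obtain ⟨t, ht⟩ := exists_moved hf
    have hδ1 : (t * x') * σ x' - σ (t * x') * x' ≠ 0 := by
      rw [map_mul]
      have : t * x' * σ x' - σ t * σ x' * x' = (t - σ t) * (x' * σ x') := by ring
      rw [this]
      exact mul_ne_zero (fun h => ht (sub_eq_zero.1 h).symm) (mul_ne_zero hx' (hσ0 _ hx'))
    obtain ⟨_, h2⟩ := alg_link hf.involutive hνσ hδ1
    have hG2 := T.link hσ hf hν he hfD hG hP h2 hδ1
    refine T.link hσ hf hν he hfD hG2 h2 hP' ?_
    rw [map_mul]
    have : β * (σ t * σ x') - σ β * (t * x') = (σ t - t) * (σ β * x') := by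
      linear_combination σ t * hδ
    rw [this]
    exact mul_ne_zero (fun h => ht (sub_eq_zero.1 h)) (mul_ne_zero (hσ0 _ hβ) hx')
  · exact T.link hσ hf hν he hfD hG hP hP' hδ

end tri

/-! ## P4 LemA2 -/
theorem lemA2 (hF : Fintype.card F = q ^ 2) (hσ : ∀ x, σ x = x ^ q)
    (hf : Cfsg.Geo.IsUnitaryForm σ (Cfsg.hermForm n F q)) {H : Subgroup ↥(Cfsg.SU n F q)}
    {k : ℕ} (a' : Fin k → Fin n → F) (ha' : Nd (Cfsg.hermForm n F q) a') (hk : k + 3 = n)
    {e f y : Fin n → F} (hp : HP (Cfsg.hermForm n F q) a' e f)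
    (he : e ∈ DD σ H) (hfD : f ∈ DD σ H) (hy : y ∈ DD σ H)
    (hya : Perp (Cfsg.hermForm n F q) a' y)
    (hs : Cfsg.hermForm n F q
      (y - Cfsg.hermForm n F q y f • e - Cfsg.hermForm n F q y e • f)
      (y - Cfsg.hermForm n F q y f • e - Cfsg.hermForm n F q y e • f) ≠ 0) :
    ∀ v : Fin n → F, Cfsg.hermForm n F q v v = 0 → Perp (Cfsg.hermForm n F q) a' v →
      v ∈ DD σ H := by
  intro v hv hva
  have hef : Cfsg.hermForm n F q e f = 1 := hp.huv hf
  have hfe : Cfsg.hermForm n F q f e = 1 := hp.hvu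
  obtain ⟨s, hs_def⟩ : ∃ s, s = y - Cfsg.hermForm n F q y f • e - Cfsg.hermForm n F q y e • f :=
    ⟨_, rfl⟩
  rw [← hs_def] at hs
  have hse : Cfsg.hermForm n F q s e = 0 := by
    rw [hs_def, herm_sub_left, herm_sub_left, herm_smul_left, herm_smul_left, hp.hu, hfe]
    ring
  have hsf : Cfsg.hermForm n F q s f = 0 := by
    rw [hs_def, herm_sub_left, herm_sub_left, herm_smul_left, herm_smul_left, hp.hv, hef]
    ring
  have hsa : Perp (Cfsg.hermForm n F q) a' s := by
    rw [hs_def]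
    exact perp_sub hf a' _ _ (perp_sub hf a' _ _ hya (perp_smul hf a' _ _ hp.hua))
      (perp_smul hf a' _ _ hp.hva)
  have T : Tri q e f s (Cfsg.hermForm n F q s s) :=
    ⟨hp.hu, hp.hv, hef, hfe, hse, hsf, f_swap_zero hf hse, f_swap_zero hf hsf, rfl⟩
  have hnd2 := nd_cons2 hf a' ha' e f hp.hua hp.hva hp.hu hp.hv (by rw [hfe]; exact one_ne_zero)
  have hnd3 := nd_cons1 hf _ hnd2 s
    (by rw [perp_cons, perp_cons]; exact ⟨hse, hsf, hsa⟩) hs
  -- decomposition of vectors orthogonal to a'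
  have hdec : ∀ w : Fin n → F, Perp (Cfsg.hermForm n F q) a' w →
      w = Cfsg.hermForm n F q w f • e + Cfsg.hermForm n F q w e • f +
        (Cfsg.hermForm n F q w s / Cfsg.hermForm n F q s s) • s := by
    intro w hw
    have h0 : w - (Cfsg.hermForm n F q w f • e + Cfsg.hermForm n F q w e • f +
        (Cfsg.hermForm n F q w s / Cfsg.hermForm n F q s s) • s) = 0 := by
      apply perp_full _ hnd3 (by omega)
      rw [perp_cons, perp_cons, perp_cons]
      refine ⟨?_, ?_, ?_, ?_⟩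
      · rw [herm_sub_left, herm_add_left, herm_add_left, herm_smul_left, herm_smul_left,
          herm_smul_left, T.es, T.fs, div_mul_cancel₀ _ hs]
        ring
      · rw [herm_sub_left, herm_add_left, herm_add_left, herm_smul_left, herm_smul_left,
          herm_smul_left, T.ee, T.fe, T.se]
        ring
      · rw [herm_sub_left, herm_add_left, herm_add_left, herm_smul_left, herm_smul_left,
          herm_smul_left, T.ef, T.ff, T.sf]
        ring
      · exact perp_sub hf a' _ _ hw (perp_add hf a' _ _ (perp_add hf a' _ _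
          (perp_smul hf a' _ _ hp.hua) (perp_smul hf a' _ _ hp.hva)) (perp_smul hf a' _ _ hsa))
    exact sub_eq_zero.1 h0
  -- norm of a general combination
  have hnorm : ∀ α β γ : F, Cfsg.hermForm n F q (α • e + β • f + γ • s) (α • e + β • f + γ • s) =
      α * σ β + σ α * β + γ * σ γ * Cfsg.hermForm n F q s s := by
    intro α β γ
    simp only [herm_add_left, herm_smul_left, herm_add_right hσ, herm_smul_right hσ,
      T.ee, T.ff, T.ef, T.fe, T.se, T.sf, T.es, T.fs]
    ring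
  -- y in coordinates
  have hy_eq : y = Cfsg.hermForm n F q y f • e + Cfsg.hermForm n F q y e • f + s := by
    rw [hs_def]
    module
  have hyP : Cfsg.hermForm n F q y f * σ (Cfsg.hermForm n F q y e) +
      σ (Cfsg.hermForm n F q y f) * Cfsg.hermForm n F q y e = -Cfsg.hermForm n F q s s := by
    have h1 := hy.1
    have h2 := hnorm (Cfsg.hermForm n F q y f) (Cfsg.hermForm n F q y e) 1
    rw [one_smul, ← hy_eq, h1, map_one] at h2
    linear_combination -h2
  have hyG : Cfsg.hermForm n F q y f • e + Cfsg.hermForm n F q y e • f + s ∈ DD σ H := by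
    rw [← hy_eq]
    exact hy
  -- v in coordinates
  have hv_eq := hdec v hva
  obtain ⟨α, hα⟩ : ∃ α, α = Cfsg.hermForm n F q v f := ⟨_, rfl⟩
  obtain ⟨β, hβ⟩ : ∃ β, β = Cfsg.hermForm n F q v e := ⟨_, rfl⟩
  obtain ⟨γ, hγ⟩ : ∃ γ, γ = Cfsg.hermForm n F q v s / Cfsg.hermForm n F q s s := ⟨_, rfl⟩
  rw [← hα, ← hβ, ← hγ] at hv_eq
  have hvn := hnorm α β γ
  rw [← hv_eq, hv] at hvn
  have hσ0 : ∀ a : F, a ≠ 0 → σ a ≠ 0 := by
    intro a ha h0
    apply ha
    have := congrArg σ h0
    rwa [hf.involutive, map_zero] at this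
  by_cases hγ0 : γ = 0
  · rw [hγ0, zero_smul, add_zero] at hv_eq
    rw [hγ0, zero_mul, zero_mul, add_zero] at hvn
    by_cases hβ0 : β = 0
    · rw [hβ0, zero_smul, add_zero] at hv_eq
      rw [hv_eq]
      exact dd_smul hσ hf he α
    · have hc : σ (α / β) = -(α / β) := by
        rw [map_div₀]
        have := hσ0 β hβ0
        field_simp
        linear_combination -hvn
      have h1 := dd_move hσ hf hfD he hc
      rw [hfe, mul_one] at h1
      have h2 := dd_smul hσ hf h1 β
      have h3 : β • (f + (α / β) • e) = α • e + β • f := by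
        rw [smul_add, smul_smul, mul_div_cancel₀ _ hβ0, add_comm]
      rw [h3] at h2
      rw [hv_eq]
      exact h2
  · have hσγ := hσ0 γ hγ0
    have hP' : (α / γ) * σ (β / γ) + σ (α / γ) * (β / γ) = -Cfsg.hermForm n F q s s := by
      rw [map_div₀, map_div₀]
      field_simp
      linear_combination -hvn
    have h1 := T.all hσ hf hs he hfD hyG hyP hP'
    have h2 := dd_smul hσ hf h1 γ
    have h3 : γ • ((α / γ) • e + (β / γ) • f + s) = α • e + β • f + γ • s := by
      rw [smul_add, smul_add, smul_smul, smul_smul, mul_div_cancel₀ _ hγ0, mul_div_cancel₀ _ hγ0]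
    rw [h3] at h2
    rw [hv_eq]
    exact h2

end Cfsg.Agent.Lib.helper2.SUnP4
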