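import Mathlib
import Cfsg.Agent.Lib.Helper28.CD3.Defs
import Cfsg.Agent.S0175

/-!
# Project CD3, piece TAK2: Taketa's theorem with counting: an M-group with at most `k` character
degrees has derived length at most `k`.
-/

set_option autoImplicit false
open scoped commutatorElement

namespace Cfsg.Agent.Lib.Helper28.CD3

universe u

open Cfsg.Agent.Lib.helper2 Cfsg.Agent.Lib.Helper25 Cfsg.Agent.Lib.helper7 Cfsg.Agent.S0175
open scoped ComplexConjugate

/-- the degree of a character with natural value at `1` -/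
theorem cd3tak2_charDegree_of_nat {H : Type*} [Group H] (χ : H → ℂ) (n : ℕ) (h : χ 1 = (n : ℂ)) :
    Cfsg.charDegree χ = n := by
  unfold Cfsg.charDegree
  rw [h]
  simp

/-- the set of character degrees is finite -/
theorem cd3tak2_cd_finite (G : Type u) [Group G] [Finite G] : (Cfsg.charDegrees G).Finite := by
  apply Set.Finite.subset (Set.finite_Iic (Nat.card G))
  rintro d ⟨χ, rfl⟩
  obtain ⟨dχ, _, hdχ, hdvd⟩ := irr_degree_dvd_card χ
  rw [Set.mem_Iic, cd3tak2_charDegree_of_nat _ _ hdχ]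
  exact Nat.le_of_dvd Nat.card_pos hdvd

/-- the key step of Taketa's argument, with the rank of the degree as counter -/
theorem cd3tak2_key {G : Type u} [Group G] [Fintype G]
    (hM : ∀ χ : G → ℂ, Cfsg.IsIrrCharacter G χ →
      ∃ (H : Subgroup G) (lam : H →* ℂˣ), χ = Cfsg.indFun H (fun h => ((lam h : ℂˣ) : ℂ)))
    (i : ℕ) : ∀ χ : Cfsg.IrrCharacter G, ∀ dχ : ℕ, (χ : G → ℂ) 1 = (dχ : ℂ) →
      ({d | d ∈ Cfsg.charDegrees G ∧ d ≤ dχ} : Set ℕ).ncard ≤ i →
      ∀ x ∈ derivedSeries G i, (χ : G → ℂ) x = (χ : G → ℂ) 1 := by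
  classical
  have hfin := cd3tak2_cd_finite G
  have hfinle : ∀ n : ℕ, ({d | d ∈ Cfsg.charDegrees G ∧ d ≤ n} : Set ℕ).Finite := fun n =>
    hfin.subset (fun d hd => hd.1)
  induction i with
  | zero =>
    intro χ dχ hdχ hle x hx
    exfalso
    have h0 : ({d | d ∈ Cfsg.charDegrees G ∧ d ≤ dχ} : Set ℕ).ncard = 0 := Nat.le_zero.mp hle
    rw [Set.ncard_eq_zero (hfinle dχ)] at h0
    have hmem : dχ ∈ ({d | d ∈ Cfsg.charDegrees G ∧ d ≤ dχ} : Set ℕ) :=
      ⟨⟨χ, cd3tak2_charDegree_of_nat _ _ hdχ⟩, le_refl _⟩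
    rw [h0] at hmem
    exact hmem
  | succ n ih =>
    intro χ dχ hdχ hle x hx
    have hpos : dχ ≠ 0 := by
      rintro rfl
      exact irr_one_ne_zero χ (by rw [hdχ]; simp)
    by_cases hlin : dχ = 1
    · have hχ1 : (χ : G → ℂ) 1 = 1 := by rw [hdχ, hlin]; simp
      have hx1 : x ∈ derivedSeries G 1 := derivedSeries_antitone G (Nat.succ_le_succ (Nat.zero_le n)) hx
      rw [derivedSeries_one] at hx1
      rw [irr_linear_commutator χ hχ1 hx1, hχ1]
    have hd2 : 2 ≤ dχ := by omega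
    obtain ⟨H, lam, hχ⟩ := hM (χ : G → ℂ) χ.2
    have : Fintype H := Fintype.ofFinite H
    -- index of H
    have hidx : H.index = dχ := by
      have h1 := h7_indFun_one H (fun h => ((lam h : ℂˣ) : ℂ))
      rw [← hχ, hdχ, map_one, Units.val_one, mul_one] at h1
      exact_mod_cast h1.symm
    -- the permutation character
    set Ψ := Cfsg.indFun H (fun _ => (1 : ℂ)) with hΨ
    have hΨc : Cfsg.IsCharacter G Ψ := isCharacter_indFun H _ (isCharacter_of_irr (trivIrr H))
    have hΨ1 : Ψ 1 = ((dχ : ℕ) : ℂ) := by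
      rw [hΨ, h7_indFun_one, mul_one, hidx]
    have hΨtriv : Cfsg.classInner Ψ (fun _ : G => (1 : ℂ)) = 1 := by
      have hcl : Cfsg.IsClassFunction G (fun _ : G => (1 : ℂ)) := fun _ _ => rfl
      rw [hΨ, h7_frobenius_reciprocity H _ _ hcl]
      exact h7_irr_norm (trivIrr H).2
    -- constituents of Ψ have smaller degree
    have hcons : ∀ μ : Cfsg.IrrCharacter G, Cfsg.classInner Ψ (μ : G → ℂ) ≠ 0 →
        ∀ y ∈ derivedSeries G n, (μ : G → ℂ) y = (μ : G → ℂ) 1 := by
      intro μ hμ y hy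
      obtain ⟨dμ, hdμpos, hdμ, _⟩ := irr_degree_dvd_card μ
      obtain ⟨m, hm⟩ := classInner_character_nat hΨc (isCharacter_of_irr μ)
      have hm0 : m ≠ 0 := by
        rintro rfl
        apply hμ; rw [hm]; simp
      have hle2 := isCharacter_degree_ge hΨc μ m dχ dμ hm hΨ1 hdμ
      have hdμlt : dμ < dχ := by
        by_contra hcon
        have hdμ2 : dμ = dχ := by
          have : 1 ≤ m := Nat.pos_of_ne_zero hm0
          nlinarith
        -- then Ψ = μ
        obtain ⟨Δ, hΔ, hsplit⟩ := h7_char_split hΨc (μ : G → ℂ) μ.2 hμ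
        have hΔ1 : Δ 1 = 0 := by
          have := congrFun hsplit 1
          simp only [Pi.add_apply] at this
          rw [hΨ1, hdμ, hdμ2] at this
          exact (add_eq_left.mp this.symm)
        have hΔ0 := h7_isCharacter_eq_zero hΔ hΔ1
        rw [hΔ0, add_zero] at hsplit
        have hμtriv : (μ : G → ℂ) = fun _ => (1 : ℂ) := by
          by_contra hne
          have h5 : Cfsg.classInner (μ : G → ℂ) (fun _ : G => (1 : ℂ)) = 0 :=
            h7_irr_inner_ne μ.2 (trivIrr G).2 hne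
          rw [← hsplit, hΨtriv] at h5
          exact one_ne_zero h5
        have : (μ : G → ℂ) 1 = 1 := by rw [hμtriv]
        rw [hdμ, hdμ2] at this
        have h2 : dχ = 1 := by exact_mod_cast this
        omega
      -- the rank of `dμ` is smaller
      have hss : ({d | d ∈ Cfsg.charDegrees G ∧ d ≤ dμ} : Set ℕ) ⊂
          ({d | d ∈ Cfsg.charDegrees G ∧ d ≤ dχ} : Set ℕ) := by
        refine ⟨fun d hd => ⟨hd.1, hd.2.trans hdμlt.le⟩, ?_⟩
        intro hsub
        have hmem : dχ ∈ ({d | d ∈ Cfsg.charDegrees G ∧ d ≤ dχ} : Set ℕ) :=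
          ⟨⟨χ, cd3tak2_charDegree_of_nat _ _ hdχ⟩, le_refl _⟩
        have := (hsub hmem).2
        omega
      have hlt := Set.ncard_lt_ncard hss (hfinle dχ)
      exact ih μ dμ hdμ (by omega) y hy
    -- so D_n ≤ H
    have hDH : derivedSeries G n ≤ H := by
      intro y hy
      apply ind_one_ker H y
      have : Fintype (Cfsg.IrrCharacter G) := Fintype.ofFinite _
      obtain ⟨mm, hmm, hexp⟩ := isCharacter_expansion hΨc
      show Ψ y = Ψ 1
      rw [hexp]
      simp only [Finset.sum_apply, Pi.smul_apply, smul_eq_mul]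
      refine Finset.sum_congr rfl fun μ _ => ?_
      by_cases h0 : mm μ = 0
      · rw [h0]; simp
      · have hμ : Cfsg.classInner Ψ (μ : G → ℂ) ≠ 0 := by
          rw [hmm μ]; exact_mod_cast h0
        rw [hcons μ hμ y hy]
    -- lam is trivial on D_{n+1}
    have hNn : (derivedSeries G (n + 1)).Normal := derivedSeries_normal G (n + 1)
    have hNH : derivedSeries G (n + 1) ≤ H := (derivedSeries_antitone G (Nat.le_succ n)).trans hDH
    have hker : derivedSeries G (n + 1) ≤ (lam.ker).map H.subtype := by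
      rw [derivedSeries_succ, Subgroup.commutator_le]
      intro a ha b hb
      refine ⟨⁅(⟨a, hDH ha⟩ : H), ⟨b, hDH hb⟩⁆, ?_, rfl⟩
      show ⁅(⟨a, hDH ha⟩ : H), ⟨b, hDH hb⟩⁆ ∈ lam.ker
      rw [MonoidHom.mem_ker, map_commutatorElement]
      exact commutatorElement_eq_one_iff_commute.mpr (Commute.all _ _)
    have hlam : ∀ y : H, (y : G) ∈ derivedSeries G (n + 1) → lam y = 1 := by
      intro y hy
      obtain ⟨k, hk, hky⟩ := hker hy
      have : k = y := Subtype.ext hky
      rw [← this]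
      exact MonoidHom.mem_ker.mp hk
    rw [hχ]
    exact ind_linear_ker H lam (derivedSeries G (n + 1)) hNH hlam x hx

section partB
variable {G : Type u} [Group G] [Finite G]

-- piece TAK2 (Taketa with counting)
theorem taketa_card {G : Type u} [Group G] [Fintype G]
    (hM : ∀ χ : G → ℂ, Cfsg.IsIrrCharacter G χ →
      ∃ (H : Subgroup G) (lam : H →* ℂˣ), χ = Cfsg.indFun H (fun h => ((lam h : ℂˣ) : ℂ)))
    (k : ℕ) (hk : (Cfsg.charDegrees G).ncard ≤ k) : derivedSeries G k = ⊥ := by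
  classical
  rw [eq_bot_iff]
  intro z hz
  rw [Subgroup.mem_bot]
  by_contra hz1
  obtain ⟨χ, hχ⟩ := Cfsg.Agent.S0184.exists_irr_not_ker z hz1
  obtain ⟨dχ, _, hdχ, hdvd⟩ := irr_degree_dvd_card χ
  have hle : ({d | d ∈ Cfsg.charDegrees G ∧ d ≤ dχ} : Set ℕ).ncard ≤ k :=
    (Set.ncard_le_ncard (fun d hd => hd.1) (cd3tak2_cd_finite G)).trans hk
  exact hχ (cd3tak2_key hM k χ dχ hdχ hle z hz)

end partB

end Cfsg.Agent.Lib.Helper28.CD3
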