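import Mathlib
import Cfsg.Prelude.Def_Characters
import Cfsg.Prelude.Def_CharExt
import Cfsg.Agent.Lib.helper2.GlaubCyc4
import Cfsg.Agent.Lib.helper2.BergerG1
import Cfsg.Agent.Lib.helper2.CharInt
import Cfsg.Agent.S0867

set_option autoImplicit false

namespace Cfsg.Agent.Lib.helper2

open scoped ComplexConjugate
open Cfsg.Agent.Lib.helper7 Cfsg.Agent.Lib.Helper25

/-- the determinantal order is invariant under automorphisms -/
theorem gn_detOrder_comp {G : Type*} [Group G] [Finite G] (α : G ≃* G) {χ : G → ℂ}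
    (hχ : Cfsg.IsIrrCharacter G χ) :
    Cfsg.detOrder (fun g => χ (α g)) = Cfsg.detOrder χ := by
  obtain ⟨n, ρ, hρ, rfl⟩ := hχ
  haveI := hρ
  let σ : Representation ℂ G (Fin n → ℂ) := ρ.comp α.toMonoidHom
  haveI hσ : σ.IsIrreducible :=
    h7_isIrr_of_restrict ρ σ (fun g => α.symm g) (fun g => by
      show ρ (α (α.symm g)) = ρ g
      rw [MulEquiv.apply_symm_apply])
  have h1 : (fun g => ρ.character (α g)) = σ.character := rfl
  have hd : ∀ g, Cfsg.detChar σ.character g = Cfsg.detChar ρ.character (α g) := by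
    intro g
    rw [h7_detChar_eq σ g, h7_detChar_eq ρ (α g)]
    rfl
  unfold Cfsg.detOrder
  rw [h1]
  apply Nat.dvd_antisymm
  · apply orderOf_dvd_of_pow_eq_one
    funext g
    rw [Pi.pow_apply, hd g]
    have := congrFun (pow_orderOf_eq_one (Cfsg.detChar ρ.character)) (α g)
    rw [Pi.pow_apply] at this
    exact this
  · apply orderOf_dvd_of_pow_eq_one
    funext g
    have := congrFun (pow_orderOf_eq_one (Cfsg.detChar σ.character)) (α.symm g)
    rw [Pi.pow_apply, hd, MulEquiv.apply_symm_apply] at this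
    rw [Pi.pow_apply]
    exact this

/-- canonical extension from a normal Sylow subgroup, invariant under automorphisms -/
theorem gn_canon {G : Type*} [Group G] [Finite G] (N : Subgroup G) [hN : N.Normal] (p : ℕ)
    (hp : p.Prime) (hNp : ∃ a : ℕ, Nat.card N = p ^ a) (hidx : ¬ p ∣ N.index) (ϑ : N → ℂ)
    (hϑ : Cfsg.IsIrrCharacter N ϑ)
    (hinv : ∀ (g : G) (n : N), ϑ ⟨g * n * g⁻¹, hN.conj_mem (n : G) n.2 g⟩ = ϑ n) :
    ∃ χ : G → ℂ, Cfsg.IsIrrCharacter G χ ∧ (∀ n : N, χ n = ϑ n) ∧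
      ∀ α : G ≃* G, (∀ n : N, ∃ h : α n ∈ N, ϑ ⟨α n, h⟩ = ϑ n) → ∀ g, χ (α g) = χ g := by
  classical
  haveI : Fintype G := Fintype.ofFinite G
  obtain ⟨a, ha⟩ := hNp
  obtain ⟨d, -, hd1, hd2⟩ := irr_degree_dvd_card (⟨ϑ, hϑ⟩ : Cfsg.IrrCharacter N)
  have hdet := gc_detOrder_dvd hϑ
  have hcopN : Nat.Coprime N.index (Nat.card N) := by
    rw [ha]
    exact Nat.Coprime.pow_right a ((Nat.Prime.coprime_iff_not_dvd hp).mpr hidx).symm
  have hcop : Nat.Coprime N.index (Cfsg.detOrder ϑ * d) :=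
    Nat.Coprime.mul_right (Nat.Coprime.coprime_dvd_right hdet hcopN)
      (Nat.Coprime.coprime_dvd_right hd2 hcopN)
  obtain ⟨χ, ⟨hχirr, hχres, hχdet⟩, huniq⟩ := Cfsg.Agent.S0867.result N ϑ hϑ hinv d hd1 hcop
  refine ⟨χ, hχirr, hχres, ?_⟩
  intro α hα g
  have h1 : Cfsg.IsIrrCharacter G (fun g => χ (α g)) :=
    bg_irr_comp_surjective α.toMonoidHom α.surjective hχirr
  have h2 : ∀ n : N, (fun g => χ (α g)) n = ϑ n := by
    intro n
    obtain ⟨h, hh⟩ := hα n
    show χ (α n) = ϑ n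
    rw [← hh]
    exact hχres ⟨α n, h⟩
  have h3 : Nat.Coprime N.index (Cfsg.detOrder (fun g => χ (α g))) := by
    rw [gn_detOrder_comp α hχirr, hχdet]
    exact Nat.Coprime.coprime_dvd_right hdet hcopN
  exact congrFun (huniq _ h1 h2 h3) g

end Cfsg.Agent.Lib.helper2
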