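import Mathlib
import Cfsg.Agent.Lib.helper8.RSM.Defs

/-!
# Project RSM (helper8, S2113), row C7 (`h0_pow_conj`), verbatim vs `helper8/RSM/Skel.lean.txt`.
Induction on `i` from `RU.h0_conj`; the multiplicativity of `nrm` is proved inline (`rsmc7_nrm_mul`).
-/

set_option autoImplicit false

namespace Cfsg.Agent.Lib.helper8.RSM

universe u v w

variable {G : Type u} [Group G] {K : Type v} [Field K] [Fintype K] {m : ℕ}

/-- extra: `nrm` is multiplicative (any field; part of row A3). -/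
theorem rsmc7_nrm_mul (a b : K) : nrm m (a * b) = nrm m a * nrm m b := by
  unfold nrm
  rw [mul_pow, mul_pow]
  ring

/-- extra: `nrm m 1 = 1`. -/
theorem rsmc7_nrm_one : nrm m (1 : K) = 1 := by
  unfold nrm
  simp

/-- C7 [S-M]. Induction on `i` from `RU.h0_conj`, with A3. -/
theorem h0_pow_conj (RU : ReeU G K m) (i : ℕ) (t u v : K) :
    RU.h0 ^ i * RU.x t u v * (RU.h0 ^ i)⁻¹ =
      RU.x (RU.a0 ^ i * t) (nrm m (RU.a0 ^ i) * u) (RU.a0 ^ i * nrm m (RU.a0 ^ i) * v) := by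
  induction i with
  | zero => simp [rsmc7_nrm_one]
  | succ i ih =>
    have h1 : RU.h0 ^ (i + 1) * RU.x t u v * (RU.h0 ^ (i + 1))⁻¹ =
        RU.h0 * (RU.h0 ^ i * RU.x t u v * (RU.h0 ^ i)⁻¹) * RU.h0⁻¹ := by
      rw [pow_succ']
      group
    rw [h1, ih, RU.h0_conj]
    have h2 : nrm m (RU.a0 ^ (i + 1)) = nrm m RU.a0 * nrm m (RU.a0 ^ i) := by
      rw [pow_succ', rsmc7_nrm_mul]
    rw [h2]
    congr 1 <;> ring

end Cfsg.Agent.Lib.helper8.RSM
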