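import Mathlib
import Cfsg.Prelude.Def_GeometricClasses
import Cfsg.Agent.Lib.Lead.ASCU.Defs

/-!
# Project U5 (leader: lead), piece SYL : `sylow11_conj`

In any subgroup `G` of `GL_5(F_4)` two elements of order `11` generate conjugate subgroups: the order of
`GL_5(4)` is `1023 * 1020 * 1008 * 960 * 768`, which is divisible by `11` exactly once.
-/

set_option autoImplicit false
set_option linter.unusedVariables false

namespace Cfsg.Agent.Lib.Lead.U5

open Cfsg Cfsg.Geo Cfsg.Agent.Lib.Lead.ASCU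
open scoped MatrixGroups Matrix

/-- in a finite group whose order is not divisible by `p ^ 2`, two elements of order `p` generate
conjugate subgroups -/
theorem u5syl_conj_of_sq_not_dvd {H : Type*} [Group H] [Finite H] (p : ℕ) [hp : Fact p.Prime]
    (hp2 : ¬ p ^ 2 ∣ Nat.card H) (x y : H) (hx : orderOf x = p) (hy : orderOf y = p) :
    ∃ g : H, g * x * g⁻¹ ∈ Subgroup.zpowers y := by
  have key : ∀ z : H, orderOf z = p → ∃ P : Sylow p H, (P : Subgroup H) = Subgroup.zpowers z := by
    intro z hz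
    have hcz : Nat.card (Subgroup.zpowers z) = p := by rw [Nat.card_zpowers, hz]
    have hPz : IsPGroup p (Subgroup.zpowers z) := IsPGroup.of_card (n := 1) (by rw [hcz, pow_one])
    obtain ⟨P, hP⟩ := hPz.exists_le_sylow
    refine ⟨P, ?_⟩
    have hcard := P.card_eq_multiplicity
    set k := (Nat.card H).factorization p with hk
    have hk1 : k = 1 := by
      have h1 : p ∣ p ^ k := by
        rw [← hcard]
        conv_lhs => rw [← hcz]
        exact Subgroup.card_dvd_of_le hP
      have h2 : p ^ k ∣ Nat.card H := by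
        rw [← hcard]; exact Subgroup.card_subgroup_dvd_card _
      have hk0 : k ≠ 0 := by
        intro h0
        rw [h0, pow_zero] at h1
        exact hp.out.one_lt.ne' (Nat.dvd_one.mp h1)
      by_contra hne
      have hk2 : 2 ≤ k := by omega
      exact hp2 (dvd_trans (pow_dvd_pow p hk2) h2)
    rw [hk1, pow_one] at hcard
    exact (Subgroup.eq_of_le_of_card_ge hP (by rw [hcard, hcz])).symm
  obtain ⟨P, hP⟩ := key x hx
  obtain ⟨Q, hQ⟩ := key y hy
  obtain ⟨g, hg⟩ := MulAction.exists_smul_eq H P Q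
  refine ⟨g, ?_⟩
  rw [← hQ, ← hg, Sylow.coe_subgroup_smul]
  have hxP : x ∈ (P : Subgroup H) := by rw [hP]; exact Subgroup.mem_zpowers x
  have := Subgroup.smul_mem_pointwise_smul x (MulAut.conj g) (P : Subgroup H) hxP
  rwa [MulAut.smul_def, MulAut.conj_apply] at this

variable {F : Type*} [Field F] [Fintype F]

/-- the order of `GL_5(F_4)` is not divisible by `11 ^ 2` -/
theorem u5syl_card (hF : Fintype.card F = 2 ^ 2) : ¬ 11 ^ 2 ∣ Nat.card (GL (Fin 5) F) := by
  rw [Matrix.card_GL_field, hF, Fin.prod_univ_five]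
  norm_num

/-- SYL : in any subgroup `G` of `GL_5(F_4)` two elements of order `11` generate conjugate subgroups
(`|GL_5(4)| = ∏ (4^5 - 4^i)` has `11`-part `11`, so `⟨c⟩` is a Sylow `11`-subgroup of `G`). -/
theorem sylow11_conj (hF : Fintype.card F = 2 ^ 2) (G : Subgroup (GL (Fin 5) F)) (c c' : GL (Fin 5) F)
    (hc : c ∈ G) (hc' : c' ∈ G) (h : orderOf c = 11) (h' : orderOf c' = 11) :
    ∃ g ∈ G, g * c * g⁻¹ ∈ Subgroup.zpowers c' := by
  have : Fact (Nat.Prime 11) := ⟨by norm_num⟩
  have hG : ¬ 11 ^ 2 ∣ Nat.card G := fun hd =>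
    u5syl_card hF (dvd_trans hd (Subgroup.card_subgroup_dvd_card G))
  obtain ⟨g, hg⟩ := u5syl_conj_of_sq_not_dvd (H := G) 11 hG ⟨c, hc⟩ ⟨c', hc'⟩
    (by rw [Subgroup.orderOf_mk]; exact h) (by rw [Subgroup.orderOf_mk]; exact h')
  refine ⟨g, g.2, ?_⟩
  rw [Subgroup.mem_zpowers_iff] at hg ⊢
  obtain ⟨k, hk⟩ := hg
  refine ⟨k, ?_⟩
  have := congrArg (Subtype.val) hk
  simpa using this

end Cfsg.Agent.Lib.Lead.U5
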