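import Mathlib
import Cfsg.Prelude.Def_GeometricClasses
import Cfsg.Agent.Lib.Helper27.ASC.Defs
import Cfsg.Agent.Lib.Lead.ASCU.Defs
import Cfsg.Agent.Lib.Helper16.U3.Defs
import Cfsg.Agent.Lib.helper2.U5SYL

/-!
# Project U3 (leader: helper16), piece SYL7 : `sylow7_conj`

In any subgroup `G` of `GL_3(F_9)` or `GL_3(F_25)` two elements of order `7` generate conjugate
subgroups: `|GL_3(9)| = 728 * 720 * 648` and `|GL_3(25)| = 15624 * 15600 * 15000` are divisible by `7`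
exactly once.
-/

set_option autoImplicit false
set_option linter.unusedVariables false

namespace Cfsg.Agent.Lib.Helper16.U3

open Cfsg Cfsg.Geo Cfsg.Agent.Lib.Helper27.ASC Cfsg.Agent.Lib.Lead.ASCU
open scoped MatrixGroups Matrix

variable {F : Type*} [Field F] [Fintype F]

/-- the orders of `GL_3(F_9)` and `GL_3(F_25)` are not divisible by `7 ^ 2` -/
theorem u3syl7_card (q : ℕ) (hq : q = 3 ∨ q = 5) (hF : Fintype.card F = q ^ 2) :
    ¬ 7 ^ 2 ∣ Nat.card (GL (Fin 3) F) := by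
  rw [Matrix.card_GL_field, hF, Fin.prod_univ_three]
  rcases hq with rfl | rfl <;> norm_num

/-- SYL7 -/
theorem sylow7_conj (q : ℕ) (hq : q = 3 ∨ q = 5) (hF : Fintype.card F = q ^ 2) (G : Subgroup (GL (Fin 3) F))
    (c c' : GL (Fin 3) F) (hc : c ∈ G) (hc' : c' ∈ G) (h : orderOf c = 7) (h' : orderOf c' = 7) :
    ∃ g ∈ G, g * c * g⁻¹ ∈ Subgroup.zpowers c' := by
  have : Fact (Nat.Prime 7) := ⟨by norm_num⟩
  have hG : ¬ 7 ^ 2 ∣ Nat.card G := fun hd =>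
    u3syl7_card q hq hF (dvd_trans hd (Subgroup.card_subgroup_dvd_card G))
  obtain ⟨g, hg⟩ := Cfsg.Agent.Lib.Lead.U5.u5syl_conj_of_sq_not_dvd (H := G) 7 hG ⟨c, hc⟩ ⟨c', hc'⟩
    (by rw [Subgroup.orderOf_mk]; exact h) (by rw [Subgroup.orderOf_mk]; exact h')
  refine ⟨g, g.2, ?_⟩
  rw [Subgroup.mem_zpowers_iff] at hg ⊢
  obtain ⟨k, hk⟩ := hg
  refine ⟨k, ?_⟩
  have := congrArg (Subtype.val) hk
  simpa using this

end Cfsg.Agent.Lib.Helper16.U3
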