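import Mathlib
import Cfsg.Prelude.Def_GeometricClasses
import Cfsg.Agent.Lib.Helper27.ASC.Defs
import Cfsg.Agent.Lib.Lead.ASCU.Defs
import Cfsg.Agent.Lib.Helper16.U3.Defs
import Cfsg.Agent.Lib.helper23.ASCUUADJ
import Cfsg.Agent.Lib.Helper22.ASCONORMS
import Cfsg.Agent.Lib.Helper21.ASCES5core

/-!
# Project U3 (leader: helper16), piece TOR3 : `torus_of_field3` (verbatim vs `Helper16/U3/Skel`)

Generic version (`u3tor3_generic`, any degree `n`, any `q`, any prime `ℓ ∣ q ^ n + 1` prime to `q ^ 2 - 1`)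
of helper20's `U5TOR`: a field `K ≤ M_n(F_{q²})` of degree `n` closed under adjoints for the standard
hermitian form contains an element `c` of order `ℓ` of `SU_n(q)`, and the normaliser of `K` normalises `⟨c⟩`.
The adjoint is the conjugate transpose; on the field `K` it is an involutory automorphism `τ ≠ 1`, hence
`τ x = x ^ (q ^ n)`, so `τ c * c = c ^ (q ^ n + 1) = 1`.
-/

set_option autoImplicit false
set_option linter.unusedVariables false
set_option linter.unusedSectionVars false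
set_option linter.style.haveILetI false

namespace Cfsg.Agent.Lib.Helper16.U3

open Cfsg Cfsg.Geo Cfsg.Agent.Lib.Helper27.ASC Cfsg.Agent.Lib.Lead.ASCU
open scoped MatrixGroups Matrix

variable {F : Type*} [Field F] [Fintype F] {n : ℕ} [NeZero n]

theorem u3tor3_isField (K : Subalgebra F (Matrix (Fin n) (Fin n) F))
    (hK : IsFieldSubalgebra n K) : IsField K where
  exists_pair_ne := by
    refine ⟨0, 1, ?_⟩
    intro h
    have h1 : ((0 : K) : Matrix (Fin n) (Fin n) F) = ((1 : K) : Matrix (Fin n) (Fin n) F) :=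
      congrArg Subtype.val h
    have h2 := congrFun (congrFun h1 0) 0
    simp at h2
  mul_comm := fun x y => Subtype.ext (hK.comm x x.2 y y.2)
  mul_inv_cancel := by
    intro a ha
    obtain ⟨y, hy, h⟩ := hK.inv a a.2 (by intro h0; exact ha (Subtype.ext h0))
    exact ⟨⟨y, hy⟩, Subtype.ext h⟩

theorem u3tor3_card_K (q : ℕ) (hq : Fintype.card F = q ^ 2)
    (K : Subalgebra F (Matrix (Fin n) (Fin n) F))
    (hK : IsFieldSubalgebra n K) : Nat.card K = (q ^ n) ^ 2 := by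
  classical
  haveI : Fintype K := Fintype.ofFinite _
  rw [Nat.card_eq_fintype_card, Module.card_eq_pow_finrank (K := F) (V := K), hq, hK.finrank_eq,
    ← pow_mul, ← pow_mul, mul_comm]

/-- `K` is closed under the conjugate transpose -/
theorem u3tor3_star_mem (q : ℕ) (σ : F ≃+* F) (hσ : ∀ a, σ a = a ^ q) (hσ2 : ∀ a, σ (σ a) = a)
    (K : Subalgebra F (Matrix (Fin n) (Fin n) F))
    (hadj : IsAdjointClosedFor (hermForm n F q) K) (k : Matrix (Fin n) (Fin n) F) (hk : k ∈ K) :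
    k.transpose.map σ ∈ K := by
  obtain ⟨k', hk', h⟩ := hadj k hk
  have : k' = k.transpose.map σ := by
    apply ascuuadj_sep q σ hσ
    intro u v
    rw [← h u v, ascuuadj_adj q σ hσ hσ2]
  rw [← this]
  exact hk'

theorem u3tor3_star_star (σ : F ≃+* F) (hσ2 : ∀ a, σ (σ a) = a) (k : Matrix (Fin n) (Fin n) F) :
    ((k.transpose.map σ).transpose.map σ) = k := by
  ext i j
  simp [hσ2]

theorem u3tor3_star_mul (σ : F ≃+* F) (A B : Matrix (Fin n) (Fin n) F) :
    ((A * B).transpose.map σ) = (B.transpose.map σ) * (A.transpose.map σ) := by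
  rw [Matrix.transpose_mul]
  exact Matrix.map_mul (f := (σ : F →+* F))

/-- the adjoint as a ring automorphism of `K` -/
noncomputable def u3tor3Sig (q : ℕ) (σ : F ≃+* F) (hσ : ∀ a, σ a = a ^ q) (hσ2 : ∀ a, σ (σ a) = a)
    (K : Subalgebra F (Matrix (Fin n) (Fin n) F)) (hK : IsFieldSubalgebra n K)
    (hadj : IsAdjointClosedFor (hermForm n F q) K) : K ≃+* K where
  toFun k := ⟨(k : Matrix (Fin n) (Fin n) F).transpose.map σ, u3tor3_star_mem q σ hσ hσ2 K hadj k k.2⟩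
  invFun k := ⟨(k : Matrix (Fin n) (Fin n) F).transpose.map σ, u3tor3_star_mem q σ hσ hσ2 K hadj k k.2⟩
  left_inv k := Subtype.ext (u3tor3_star_star σ hσ2 (k : Matrix (Fin n) (Fin n) F))
  right_inv k := Subtype.ext (u3tor3_star_star σ hσ2 (k : Matrix (Fin n) (Fin n) F))
  map_mul' a b := by
    apply Subtype.ext
    show ((a : Matrix (Fin n) (Fin n) F) * (b : Matrix (Fin n) (Fin n) F)).transpose.map σ = _
    rw [u3tor3_star_mul]
    exact hK.comm _ (u3tor3_star_mem q σ hσ hσ2 K hadj b b.2) _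
      (u3tor3_star_mem q σ hσ hσ2 K hadj a a.2)
  map_add' a b := by
    apply Subtype.ext
    show ((a : Matrix (Fin n) (Fin n) F) + (b : Matrix (Fin n) (Fin n) F)).transpose.map σ = _
    rw [Matrix.transpose_add, Matrix.map_add]
    · rfl
    · intro x y; exact map_add σ x y

theorem u3tor3Sig_apply (q : ℕ) (σ : F ≃+* F) (hσ : ∀ a, σ a = a ^ q) (hσ2 : ∀ a, σ (σ a) = a)
    (K : Subalgebra F (Matrix (Fin n) (Fin n) F)) (hK : IsFieldSubalgebra n K)
    (hadj : IsAdjointClosedFor (hermForm n F q) K) (k : K) :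
    ((u3tor3Sig q σ hσ hσ2 K hK hadj k : K) : Matrix (Fin n) (Fin n) F) =
      (k : Matrix (Fin n) (Fin n) F).transpose.map σ := rfl

theorem u3tor3Sig_invol (q : ℕ) (σ : F ≃+* F) (hσ : ∀ a, σ a = a ^ q) (hσ2 : ∀ a, σ (σ a) = a)
    (K : Subalgebra F (Matrix (Fin n) (Fin n) F)) (hK : IsFieldSubalgebra n K)
    (hadj : IsAdjointClosedFor (hermForm n F q) K) (k : K) :
    u3tor3Sig q σ hσ hσ2 K hK hadj (u3tor3Sig q σ hσ hσ2 K hK hadj k) = k :=
  Subtype.ext (u3tor3_star_star σ hσ2 (k : Matrix (Fin n) (Fin n) F))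

theorem u3tor3Sig_ne (q : ℕ) (σ : F ≃+* F) (hσ : ∀ a, σ a = a ^ q) (hσ2 : ∀ a, σ (σ a) = a)
    (hne : σ ≠ RingEquiv.refl F)
    (K : Subalgebra F (Matrix (Fin n) (Fin n) F)) (hK : IsFieldSubalgebra n K)
    (hadj : IsAdjointClosedFor (hermForm n F q) K) :
    u3tor3Sig q σ hσ hσ2 K hK hadj ≠ RingEquiv.refl K := by
  intro h
  apply hne
  apply RingEquiv.ext
  intro ω
  have h1 := congrArg (fun e : K ≃+* K => ((e (algebraMap F K ω) : K) : Matrix (Fin n) (Fin n) F)) h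
  simp only [RingEquiv.refl_apply] at h1
  rw [u3tor3Sig_apply] at h1
  have h2 := congrFun (congrFun h1 0) 0
  have h3 : ((algebraMap F K ω : K) : Matrix (Fin n) (Fin n) F) = algebraMap F _ ω := rfl
  rw [h3] at h2
  simp only [Matrix.map_apply, Matrix.transpose_apply, Matrix.algebraMap_matrix_apply, if_true] at h2
  simpa using h2

theorem u3tor3_conj_pow {R : Type*} [Monoid R] (a b x : R) (hab : a * b = 1) (hba : b * a = 1)
    (m : ℕ) : (a * x * b) ^ m = a * x ^ m * b := by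
  induction m with
  | zero => simp [hab]
  | succ m ih =>
    rw [pow_succ, ih, pow_succ]
    calc a * x ^ m * b * (a * x * b) = a * x ^ m * ((b * a) * x) * b := by simp only [mul_assoc]
      _ = a * (x ^ m * x) * b := by rw [hba, one_mul]; simp only [mul_assoc]

/-- generic torus lemma: degree `n`, field of order `q ^ 2`, prime `ℓ ∣ q ^ n + 1` prime to `q ^ 2 - 1` -/
theorem u3tor3_generic (q ℓ : ℕ) (hℓ : ℓ.Prime) (hF : Fintype.card F = q ^ 2)
    (hdvd : ℓ ∣ q ^ n + 1) (hcop : Nat.Coprime ℓ (q ^ 2 - 1))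
    (K : Subalgebra F (Matrix (Fin n) (Fin n) F)) (hK : IsFieldSubalgebra n K)
    (hadj : IsAdjointClosedFor (hermForm n F q) K) :
    ∃ c : GL (Fin n) F, c ∈ SUg n F q ∧ orderOf c = ℓ ∧
      ∀ g : GL (Fin n) F, g ∈ subalgebraNormalizer K → g * c * g⁻¹ ∈ Subgroup.zpowers c := by
  classical
  obtain ⟨σ, hσ, hσne, hσ2⟩ := Cfsg.Agent.Lib.Helper27.ASC.asch21es5_sigma (F := F) q hF
  letI : Field K := (u3tor3_isField K hK).toField
  haveI : Fintype K := Fintype.ofFinite _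
  haveI : Fact (Nat.Prime ℓ) := ⟨hℓ⟩
  obtain ⟨τ, hτdef⟩ : ∃ τ : K ≃+* K, τ = u3tor3Sig q σ hσ hσ2 K hK hadj := ⟨_, rfl⟩
  have hτne : τ ≠ RingEquiv.refl K := by rw [hτdef]; exact u3tor3Sig_ne q σ hσ hσ2 hσne K hK hadj
  have hτ2 : ∀ k : K, τ (τ k) = k := by rw [hτdef]; exact u3tor3Sig_invol q σ hσ hσ2 K hK hadj
  have hτval : ∀ k : K, ((τ k : K) : Matrix (Fin n) (Fin n) F) =
      (k : Matrix (Fin n) (Fin n) F).transpose.map σ := by
    intro k; rw [hτdef]; rfl
  have hcardK := u3tor3_card_K q hF K hK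
  have hfix : Nat.card ↥(Cfsg.Agent.Lib.helper23.ASCO.asconormsFix τ) = q ^ n := by
    have h1 := Cfsg.Agent.Lib.helper23.ASCO.asconorms_card τ hτne hτ2
    rw [hcardK] at h1
    exact (Nat.pow_left_injective (by norm_num : 2 ≠ 0) h1).symm
  have hfrob : ∀ x : K, τ x = x ^ (q ^ n) := by
    intro x
    rw [← hfix]
    exact Cfsg.Agent.Lib.helper23.ASCO.asconorms_frob τ hτne hτ2 x
  have hcardU : Nat.card Kˣ = (q ^ n) ^ 2 - 1 := by
    rw [Nat.card_eq_fintype_card, Fintype.card_units, ← Nat.card_eq_fintype_card, hcardK]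
  have hdvdU : ℓ ∣ Nat.card Kˣ := by
    rw [hcardU]
    have h1 : (q ^ n) ^ 2 - 1 = (q ^ n + 1) * (q ^ n - 1) := by
      have := Nat.sq_sub_sq (q ^ n) 1
      rw [one_pow] at this
      exact this
    rw [h1]
    exact dvd_mul_of_dvd_left hdvd _
  obtain ⟨u, hu⟩ := exists_prime_orderOf_dvd_card' (G := Kˣ) ℓ hdvdU
  -- the element `c` of `K`
  obtain ⟨c, hcdef⟩ : ∃ c : K, c = (u : K) := ⟨_, rfl⟩
  have hcℓ : c ^ ℓ = 1 := by
    have h1 : u ^ ℓ = 1 := by rw [← hu]; exact pow_orderOf_eq_one u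
    have h2 := congrArg (fun w : Kˣ => (w : K)) h1
    rw [hcdef]
    simpa using h2
  have hc1 : c ≠ 1 := by
    intro h1
    have h2 : u = 1 := Units.ext (by rw [← hcdef, h1]; rfl)
    rw [h2, orderOf_one] at hu
    exact hℓ.one_lt.ne hu
  have hprim : IsPrimitiveRoot c ℓ := by
    have h1 : orderOf c = ℓ := orderOf_eq_prime hcℓ hc1
    rw [← h1]
    exact IsPrimitiveRoot.orderOf c
  have hcτ : τ c * c = 1 := by
    rw [hfrob]
    obtain ⟨d, hd⟩ := hdvd
    rw [← pow_succ, hd, pow_mul, hcℓ, one_pow]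
  -- the matrix
  obtain ⟨cm, hcm⟩ : ∃ cm : Matrix (Fin n) (Fin n) F, cm = (c : Matrix (Fin n) (Fin n) F) := ⟨_, rfl⟩
  have hcmℓ : cm ^ ℓ = 1 := by
    have := congrArg (fun k : K => (k : Matrix (Fin n) (Fin n) F)) hcℓ
    simp only [SubmonoidClass.coe_pow, OneMemClass.coe_one] at this
    rw [hcm]; exact this
  have hcm1 : cm ≠ 1 := by
    intro h
    apply hc1
    apply Subtype.ext
    rw [← hcm, h]; rfl
  have hstar : (cm.transpose.map σ) * cm = 1 := by
    have := congrArg (fun k : K => (k : Matrix (Fin n) (Fin n) F)) hcτ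
    simp only [MulMemClass.coe_mul, OneMemClass.coe_one] at this
    rw [hτval, ← hcm] at this
    exact this
  -- the unit
  have hℓ1 : ℓ - 1 + 1 = ℓ := Nat.sub_add_cancel hℓ.pos
  obtain ⟨cG, hcG⟩ : ∃ cG : GL (Fin n) F, (cG : Matrix (Fin n) (Fin n) F) = cm := by
    refine ⟨⟨cm, cm ^ (ℓ - 1), ?_, ?_⟩, rfl⟩
    · rw [← pow_succ', hℓ1, hcmℓ]
    · rw [← pow_succ, hℓ1, hcmℓ]
  have hcGℓ : cG ^ ℓ = 1 := by
    apply Units.ext
    rw [Units.val_pow_eq_pow_val, hcG, hcmℓ]; rfl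
  have hcG1 : cG ≠ 1 := by
    intro h
    apply hcm1
    rw [← hcG, h]; rfl
  refine ⟨cG, ?_, orderOf_eq_prime hcGℓ hcG1, ?_⟩
  · -- in SU
    refine Subgroup.mem_inf.mpr ⟨?_, ?_⟩
    · rw [mem_GU_iff]
      intro x y
      rw [hcG, ascuuadj_adj q σ hσ hσ2, Matrix.mulVec_mulVec, hstar, Matrix.one_mulVec]
    · show Matrix.GeneralLinearGroup.det cG = 1
      have hdℓ : (Matrix.GeneralLinearGroup.det cG) ^ ℓ = 1 := by
        rw [← map_pow, hcGℓ, map_one]
      have hdq : (Matrix.GeneralLinearGroup.det cG) ^ (q ^ 2 - 1) = 1 := by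
        have h1 : Fintype.card Fˣ = q ^ 2 - 1 := by rw [Fintype.card_units, hF]
        rw [← h1]
        exact pow_card_eq_one
      have h1 := orderOf_dvd_of_pow_eq_one hdℓ
      have h2 := orderOf_dvd_of_pow_eq_one hdq
      have h3 : orderOf (Matrix.GeneralLinearGroup.det cG) ∣ 1 := by
        rw [← Nat.Coprime.gcd_eq_one hcop]
        exact Nat.dvd_gcd h1 h2
      exact orderOf_eq_one_iff.mp (Nat.dvd_one.mp h3)
  · -- normaliser
    intro g hg
    obtain ⟨gm, hgm⟩ : ∃ gm : Matrix (Fin n) (Fin n) F, gm = (g : Matrix (Fin n) (Fin n) F) :=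
      ⟨_, rfl⟩
    obtain ⟨gi, hgi⟩ : ∃ gi : Matrix (Fin n) (Fin n) F,
        gi = ((g⁻¹ : GL (Fin n) F) : Matrix (Fin n) (Fin n) F) := ⟨_, rfl⟩
    have hgmgi : gm * gi = 1 := by
      rw [hgm, hgi, ← Units.val_mul, mul_inv_cancel, Units.val_one]
    have hgigm : gi * gm = 1 := by
      rw [hgm, hgi, ← Units.val_mul, inv_mul_cancel, Units.val_one]
    have hxK : gm * cm * gi ∈ K := by
      rw [hgm, hgi, hcm]
      exact (hg _).mp c.2
    obtain ⟨x, hx⟩ : ∃ x : K, (x : Matrix (Fin n) (Fin n) F) = gm * cm * gi := ⟨⟨_, hxK⟩, rfl⟩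
    have hxℓ : x ^ ℓ = 1 := by
      apply Subtype.ext
      rw [SubmonoidClass.coe_pow, hx, u3tor3_conj_pow gm gi cm hgmgi hgigm, hcmℓ, mul_one, hgmgi]
      rfl
    obtain ⟨i, hi, hix⟩ := hprim.eq_pow_of_pow_eq_one hxℓ
    have : g * cG * g⁻¹ = cG ^ i := by
      apply Units.ext
      rw [Units.val_mul, Units.val_mul, Units.val_pow_eq_pow_val, hcG, ← hgm, ← hgi, ← hx, ← hix,
        SubmonoidClass.coe_pow, ← hcm]
    rw [this]
    exact Subgroup.pow_mem _ (Subgroup.mem_zpowers cG) i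

omit [NeZero n] in
/-- TOR3 -/
theorem torus_of_field3 (q : ℕ) (hq : q = 3 ∨ q = 5) (hF : Fintype.card F = q ^ 2)
    (K : Subalgebra F (Matrix (Fin 3) (Fin 3) F)) (hK : IsFieldSubalgebra 3 K)
    (hadj : IsAdjointClosedFor (hermForm 3 F q) K) :
    ∃ c : GL (Fin 3) F, c ∈ SUg 3 F q ∧ orderOf c = 7 ∧
      ∀ g : GL (Fin 3) F, g ∈ subalgebraNormalizer K → g * c * g⁻¹ ∈ Subgroup.zpowers c := by
  rcases hq with rfl | rfl
  · exact u3tor3_generic 3 7 (by norm_num) hF (by norm_num) (by norm_num) K hK hadj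
  · exact u3tor3_generic 5 7 (by norm_num) hF (by norm_num) (by norm_num) K hK hadj

end Cfsg.Agent.Lib.Helper16.U3
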