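import Mathlib
import Cfsg.Agent.Lib.Helper16.U82.Defs

/-!
# U82 / E5 (helper2): `u82_comb_exc`

`n = r ∈ {3, 5}`: every non-constant labelling `a : Fin r → ZMod r` of sum `0` is symmetric under some
reflection `j ↦ t - j`.  Proof: `cnt` is a sum of indicators; the finite check is done by `decide`
on `r` separate variables.
-/

set_option autoImplicit false

namespace Cfsg.Agent.Lib.Helper16.U82

open Matrix Cfsg.Agent.Lib.Helper16
open scoped MatrixGroups

theorem u82e5_cnt_eq_sum {n r : ℕ} (a : Fin n → ZMod r) (j : ZMod r) :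
    PGLR.cnt a j = ∑ i, if a i = j then 1 else 0 := by
  unfold PGLR.cnt
  rw [Nat.card_eq_fintype_card, Fintype.card_subtype, Finset.card_filter]

theorem u82e5_key3 : ∀ a0 a1 a2 : ZMod 3, a0 + a1 + a2 = 0 → ¬ (a0 = a1 ∧ a1 = a2) →
    ∃ t : ZMod 3, ∀ j : ZMod 3,
      ((if a0 = j then 1 else 0) + (if a1 = j then 1 else 0) + (if a2 = j then 1 else 0) : ℕ) =
      (if a0 = t - j then 1 else 0) + (if a1 = t - j then 1 else 0) +
        (if a2 = t - j then 1 else 0) := by
  decide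

set_option maxRecDepth 100000 in
theorem u82e5_key5 : ∀ a0 a1 a2 a3 a4 : ZMod 5, a0 + a1 + a2 + a3 + a4 = 0 →
    ¬ (a0 = a1 ∧ a1 = a2 ∧ a2 = a3 ∧ a3 = a4) →
    ∃ t : ZMod 5, ∀ j : ZMod 5,
      ((if a0 = j then 1 else 0) + (if a1 = j then 1 else 0) + (if a2 = j then 1 else 0) +
        (if a3 = j then 1 else 0) + (if a4 = j then 1 else 0) : ℕ) =
      (if a0 = t - j then 1 else 0) + (if a1 = t - j then 1 else 0) +
        (if a2 = t - j then 1 else 0) + (if a3 = t - j then 1 else 0) +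
        (if a4 = t - j then 1 else 0) := by
  decide +kernel

theorem u82e5_const_cnt {n r : ℕ} (a : Fin n → ZMod r) (c : ZMod r) (h : ∀ i, a i = c) :
    PGLR.cnt a c = n := by
  rw [u82e5_cnt_eq_sum]
  simp [h]

/-- E5 COMBEXC [M]: `n = r ∈ {3, 5}`: every non-constant labelling of sum `0` is symmetric. -/
theorem u82_comb_exc (r : ℕ) [NeZero r] (hr : r = 3 ∨ r = 5) (a : Fin r → ZMod r)
    (hs : ∑ i, a i = 0) (hns : ∀ j, PGLR.cnt a j ≠ r) :
    ∃ t : ZMod r, ∀ j, PGLR.cnt a j = PGLR.cnt a (t - j) := by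
  rcases hr with rfl | rfl
  · rw [Fin.sum_univ_three] at hs
    have hne : ¬ (a 0 = a 1 ∧ a 1 = a 2) := by
      rintro ⟨h1, h2⟩
      apply hns (a 0)
      apply u82e5_const_cnt
      intro i
      fin_cases i
      · rfl
      · exact h1.symm
      · exact (h1.trans h2).symm
    obtain ⟨t, ht⟩ := u82e5_key3 (a 0) (a 1) (a 2) hs hne
    refine ⟨t, fun j => ?_⟩
    rw [u82e5_cnt_eq_sum, u82e5_cnt_eq_sum, Fin.sum_univ_three, Fin.sum_univ_three]
    exact ht j
  · rw [Fin.sum_univ_five] at hs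
    have hne : ¬ (a 0 = a 1 ∧ a 1 = a 2 ∧ a 2 = a 3 ∧ a 3 = a 4) := by
      rintro ⟨h1, h2, h3, h4⟩
      apply hns (a 0)
      apply u82e5_const_cnt
      intro i
      fin_cases i
      · rfl
      · exact h1.symm
      · exact (h1.trans h2).symm
      · exact (h1.trans (h2.trans h3)).symm
      · exact (h1.trans (h2.trans (h3.trans h4))).symm
    obtain ⟨t, ht⟩ := u82e5_key5 (a 0) (a 1) (a 2) (a 3) (a 4) hs hne
    refine ⟨t, fun j => ?_⟩
    rw [u82e5_cnt_eq_sum, u82e5_cnt_eq_sum, Fin.sum_univ_five, Fin.sum_univ_five]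
    exact ht j

end Cfsg.Agent.Lib.Helper16.U82
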