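import Mathlib
import Cfsg.Agent.Lib.Helper18.SDM.Defs3
import Cfsg.Agent.Lib.Helper20.SDMB0
import Cfsg.Agent.Lib.Helper20.SDMB1

/-!
# Project SDM (S2549), row U1 (helper2): `isUniQ_one`, `isUniQ_mul`, `isUniQ_inv`, `isUniQ_conj`, verbatim from `Helper18/SDM/Skel2.lean.txt`.
Route: the diagonal coefficient `d_i(b) = (b x_i).1 i` and the induced map `w ↦ (b (0,w)).2` are multiplicative on `B`.
-/

set_option autoImplicit false
set_option linter.unusedSectionVars false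
set_option linter.unusedVariables false

namespace Cfsg.Agent.Lib.Helper18.QBN

open Cfsg.Agent.Lib.helper14.UBN QuadraticMap

universe u v

variable {F : Type u} [Field F] {W : Type v} [AddCommGroup W] [Module F W] {n : ℕ}

/-- `b x_i = d_i(b) x_i` modulo `V_{rk i}` -/
theorem sdmu1_xv {Q₀ : QuadraticForm F W} (b : GQ n Q₀) (hb : IsUpQ b) (i : Fin n) (hi : rk i < n / 2) :
    le b (xv W i) - (le b (xv W i)).1 i • xv W i ∈ Vfl F n W (rk i) := by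
  have h1 : le b (xv W i) ∈ Vfl F n W (rk i + 1) := (isUpQ_iff b).mp hb i hi
  have h2 : (le b (xv W i)).1 i • xv W i ∈ Vfl F n W (rk i + 1) :=
    Submodule.smul_mem _ _ (xv_mem_Vfl i _ (Nat.lt_succ_self _))
  apply mem_Vfl_of_succ (Submodule.sub_mem _ h1 h2)
  intro i' hi'
  have e : i' = i := rk_injective hi'
  rw [e, Prod.fst_sub, Pi.sub_apply, Prod.smul_fst, Pi.smul_apply, xv_fst, if_pos rfl, smul_eq_mul, mul_one,
    sub_self]

/-- the upper coordinates of `b (0, w)` vanish -/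
theorem sdmu1_wv_coord (hn : Even n) {Q₀ : QuadraticForm F W} (b : GQ n Q₀) (hb : b ∈ BQ n Q₀) (w : W)
    (i : Fin n) (hi : n / 2 ≤ rk i) : (le b (wv F n w)).1 i = 0 := by
  have h1 : (le b (wv F n w)).1 i = polar (frQ n Q₀) (le b (wv F n w)) (xv W (rv i)) := by
    rw [polar_xv hn, rv_rv]
  have h2 : xv W (rv i) = le b (le b⁻¹ (xv W (rv i))) := (le_inv_apply b _).symm
  rw [h1, h2, le_polar]
  have hrk : rk (rv i) < n / 2 := by
    have h3 := rk_add_rv i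
    have h4 := rk_lt i
    obtain ⟨k, hk⟩ := hn
    omega
  have h5 : le b⁻¹ (xv W (rv i)) ∈ Vfl F n W (n / 2) :=
    hb.2 (n / 2) le_rfl _ (xv_mem_Vfl (rv i) _ hrk)
  rw [mem_Vfl] at h5
  rw [frQ_polar hn, wv_snd, h5.1, polar_zero_right, add_zero]
  apply Finset.sum_eq_zero
  intro j _
  rw [wv_fst, zero_mul]

/-- `b (0, w) = (0, w')` modulo `V_{n/2}` -/
theorem sdmu1_wv (hn : Even n) {Q₀ : QuadraticForm F W} (b : GQ n Q₀) (hb : b ∈ BQ n Q₀) (w : W) :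
    le b (wv F n w) - wv F n (le b (wv F n w)).2 ∈ Vfl F n W (n / 2) := by
  rw [mem_Vfl]
  refine ⟨?_, fun i hi => ?_⟩
  · rw [Prod.snd_sub, wv_snd, sub_self]
  · rw [Prod.fst_sub, Pi.sub_apply, wv_fst, sub_zero]
    exact sdmu1_wv_coord hn b hb w i hi

/-- multiplicativity of the diagonal coefficients on `B` -/
theorem sdmu1_diag_mul {Q₀ : QuadraticForm F W} (g h : GQ n Q₀) (hg : IsUpQ g) (hh : IsUpQ h) (i : Fin n)
    (hi : rk i < n / 2) :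
    (le (g * h) (xv W i)).1 i = (le g (xv W i)).1 i * (le h (xv W i)).1 i := by
  have hz := sdmu1_xv h hh i hi
  have h1 : le h (xv W i) = (le h (xv W i)).1 i • xv W i +
      (le h (xv W i) - (le h (xv W i)).1 i • xv W i) := by abel
  have h2 := hg (rk i) (le_of_lt hi) _ hz
  rw [mem_Vfl] at h2
  rw [le_mul, h1, map_add, map_smul, Prod.fst_add, Pi.add_apply, Prod.smul_fst, Pi.smul_apply, h2.2 i le_rfl,
    add_zero, smul_eq_mul, ← h1, mul_comm]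

/-- multiplicativity of the induced maps of `W` on `B` -/
theorem sdmu1_w_mul (hn : Even n) {Q₀ : QuadraticForm F W} (g h : GQ n Q₀) (hg : IsUpQ g) (hh : h ∈ BQ n Q₀)
    (w : W) : (le (g * h) (wv F n w)).2 = (le g (wv F n (le h (wv F n w)).2)).2 := by
  have hz := sdmu1_wv hn h hh w
  have h1 : le h (wv F n w) = wv F n (le h (wv F n w)).2 +
      (le h (wv F n w) - wv F n (le h (wv F n w)).2) := by abel
  have h2 := hg (n / 2) le_rfl _ hz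
  rw [mem_Vfl] at h2
  rw [le_mul, h1, map_add, Prod.snd_add, h2.1, add_zero, ← h1]

/-- [ROW U1] -/
theorem isUniQ_one {Q₀ : QuadraticForm F W} : IsUniQ (1 : GQ n Q₀) := by
  refine ⟨fun i _ => ?_, fun w => ?_⟩
  · rw [le_one, xv_fst, if_pos rfl]
  · rw [le_one, wv_snd]

/-- [ROW U1] (`h x_i = x_i + z`, `z ∈ V_{rk i}` (`mem_Vfl_of_succ`); `h (0,w) = (0,w) + z`, `z ∈ V_m` (`BQ_W`)) -/
theorem isUniQ_mul (hn : Even n) {Q₀ : QuadraticForm F W} (g h : GQ n Q₀) (hg : g ∈ BQ n Q₀)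
    (hh : h ∈ BQ n Q₀) (hg1 : IsUniQ g) (hh1 : IsUniQ h) : IsUniQ (g * h) := by
  refine ⟨fun i hi => ?_, fun w => ?_⟩
  · rw [sdmu1_diag_mul g h hg.1 hh.1 i hi, hg1.1 i hi, hh1.1 i hi, mul_one]
  · rw [sdmu1_w_mul hn g h hg.1 hh w, hh1.2 w, hg1.2 w]

/-- [ROW U1] -/
theorem isUniQ_inv (hn : Even n) {Q₀ : QuadraticForm F W} (g : GQ n Q₀) (hg : g ∈ BQ n Q₀)
    (hg1 : IsUniQ g) : IsUniQ g⁻¹ := by
  have hgi : g⁻¹ ∈ BQ n Q₀ := (BQ n Q₀).inv_mem hg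
  refine ⟨fun i hi => ?_, fun w => ?_⟩
  · have h1 := sdmu1_diag_mul g g⁻¹ hg.1 hgi.1 i hi
    rw [mul_inv_cancel, (isUniQ_one (Q₀ := Q₀)).1 i hi, hg1.1 i hi, one_mul] at h1
    exact h1.symm
  · have h1 := sdmu1_w_mul hn g g⁻¹ hg.1 hgi w
    rw [mul_inv_cancel, (isUniQ_one (Q₀ := Q₀)).2 w, hg1.2] at h1
    exact h1.symm

/-- [ROW U1] -/
theorem isUniQ_conj (hn : Even n) {Q₀ : QuadraticForm F W} (b g : GQ n Q₀) (hb : b ∈ BQ n Q₀)
    (hg : g ∈ BQ n Q₀) (hg1 : IsUniQ g) : IsUniQ (b * g * b⁻¹) := by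
  have hbi : b⁻¹ ∈ BQ n Q₀ := (BQ n Q₀).inv_mem hb
  have hgb : g * b⁻¹ ∈ BQ n Q₀ := (BQ n Q₀).mul_mem hg hbi
  refine ⟨fun i hi => ?_, fun w => ?_⟩
  · rw [mul_assoc, sdmu1_diag_mul b (g * b⁻¹) hb.1 hgb.1 i hi, sdmu1_diag_mul g b⁻¹ hg.1 hbi.1 i hi,
      hg1.1 i hi, one_mul, ← sdmu1_diag_mul b b⁻¹ hb.1 hbi.1 i hi, mul_inv_cancel]
    exact (isUniQ_one (Q₀ := Q₀)).1 i hi
  · rw [mul_assoc, sdmu1_w_mul hn b (g * b⁻¹) hb.1 hgb w, sdmu1_w_mul hn g b⁻¹ hg.1 hbi w, hg1.2,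
      ← sdmu1_w_mul hn b b⁻¹ hb.1 hbi w, mul_inv_cancel]
    exact (isUniQ_one (Q₀ := Q₀)).2 w

end Cfsg.Agent.Lib.Helper18.QBN
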