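import Mathlib
import Cfsg.Agent.Lib.Helper18.SDM.Defs3
import Cfsg.Agent.Lib.helper2.SDMU1
import Cfsg.Agent.Lib.Helper10.SDMR0c

/-!
# Project SDM (S2549), row U2 (helper2): `SgSet_isUniQ`, `Uk_subset_SgSet`, `UQ_le_BQ`, `UQ_isUniQ`, verbatim from `Helper18/SDM/Skel2.lean.txt`.
`SgSet ⊆ B` is taken from R0c `sgX_mem_BQ` (private copy `sdmu2_sgset_le` of E3's `SgSet_subset_BQ`).
-/

set_option autoImplicit false
set_option linter.unusedSectionVars false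
set_option linter.unusedVariables false

namespace Cfsg.Agent.Lib.Helper18.QBN

open Cfsg.Agent.Lib.helper14.UBN QuadraticMap

universe u v

variable {F : Type u} [Field F] {W : Type v} [AddCommGroup W] [Module F W] {n : ℕ}

/-- `SgSet ⊆ B` (= E3 `SgSet_subset_BQ`, from R0c) -/
theorem sdmu2_sgset_le (hn : Even n) (Q₀ : QuadraticForm F W) (h : GQ n Q₀) (hh : h ∈ SgSet hn Q₀) :
    h ∈ BQ n Q₀ := by
  obtain ⟨a, y, hy, ha, h1, h2, rfl⟩ := hh
  exact sgX_mem_BQ hn Q₀ a y hy ha h2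

/-- [ROW U2] -/
theorem SgSet_isUniQ (hn : Even n) (Q₀ : QuadraticForm F W) (g : GQ n Q₀) (hg : g ∈ SgSet hn Q₀) :
    IsUniQ g := by
  obtain ⟨a, y, hy, ha, h1, h2, rfl⟩ := hg
  refine ⟨fun i hi => ?_, fun w => ?_⟩
  · rw [sgX_apply]
    have hne : rv a ≠ i := by
      intro e
      have h3 := rk_add_rv a
      rw [e] at h3 ha
      obtain ⟨k, hk⟩ := hn
      omega
    have h4 : (xv W i : QV F n W).1 (rv a) = 0 := by rw [xv_fst, if_neg hne]
    rw [h4, zero_smul, sub_zero, Prod.fst_add, Pi.add_apply, Prod.smul_fst, Pi.smul_apply, xv_fst, if_pos rfl,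
      xv_fst]
    by_cases hia : i = a
    · rw [if_pos hia, hia, polar_comm, polar_xv hn, hy]
      simp
    · rw [if_neg hia]
      simp
  · rw [sgX_apply]
    simp [Prod.snd_add, Prod.snd_sub, Prod.smul_snd]

/-- [ROW U2] -/
theorem Uk_subset_SgSet (hn : Even n) (Q₀ : QuadraticForm F W) (k : Fin (n / 2)) (u : GQ n Q₀)
    (hu : u ∈ Uk hn Q₀ k) : u ∈ SgSet hn Q₀ := by
  obtain ⟨y, hy, rfl⟩ := hu
  have hk := k.2
  have h3 := rk_add_rv (pa k)
  rw [rk_pa] at h3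
  obtain ⟨m, hm⟩ := hn
  refine ⟨pa k, y, Yk_perp ⟨m, hm⟩ k hy, ?_, ?_, ?_, rfl⟩
  · rw [rk_pa]
    omega
  · intro i hi
    rw [rk_pa] at hi
    by_cases hc : pc k = rv (pa k)
    · obtain ⟨w, rfl⟩ := hy.2 hc
      rfl
    · obtain ⟨t, rfl⟩ := hy.1 hc
      rw [Prod.smul_fst, Pi.smul_apply, xv_fst, if_neg, smul_zero]
      intro e
      have h4 := rk_add_rv (pc k)
      rw [← e] at h4
      rcases pc_cases k with ⟨h5, h6⟩ | ⟨_, h5, _⟩
      · omega
      · exact hc h5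
  · intro i hi
    by_cases hc : pc k = rv (pa k)
    · obtain ⟨w, rfl⟩ := hy.2 hc
      rfl
    · obtain ⟨t, rfl⟩ := hy.1 hc
      rw [Prod.smul_fst, Pi.smul_apply, xv_fst, if_neg, smul_zero]
      intro e
      have h4 := rk_add_rv (pc k)
      rw [← e] at h4
      rcases pc_cases k with ⟨h5, h6⟩ | ⟨_, h5, _⟩
      · omega
      · exact hc h5

/-- [ROW U2] -/
theorem UQ_le_BQ (hn : Even n) (Q₀ : QuadraticForm F W) : UQ hn Q₀ ≤ BQ n Q₀ :=
  (Subgroup.closure_le _).mpr (fun h hh => sdmu2_sgset_le hn Q₀ h hh)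

/-- [ROW U2] -/
theorem UQ_isUniQ (hn : Even n) (Q₀ : QuadraticForm F W) (g : GQ n Q₀) (hg : g ∈ UQ hn Q₀) :
    IsUniQ g := by
  unfold UQ at hg
  induction hg using Subgroup.closure_induction with
  | mem x hx => exact SgSet_isUniQ hn Q₀ x hx
  | one => exact isUniQ_one
  | mul x y hx hy ihx ihy => exact isUniQ_mul hn x y (UQ_le_BQ hn Q₀ hx) (UQ_le_BQ hn Q₀ hy) ihx ihy
  | inv x hx ihx => exact isUniQ_inv hn x (UQ_le_BQ hn Q₀ hx) ihx

end Cfsg.Agent.Lib.Helper18.QBN
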