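import Mathlib
import Cfsg.Agent.Lib.Helper18.SDM.Defs
import Cfsg.Agent.Lib.Helper18.SDM.Defs2

/-!
# Project SDM (S2549), row R0a (helper2): the algebra of the Siegel elements `sgX`, verbatim from `Helper18/SDM/Skel.lean.txt`.
-/

set_option autoImplicit false
set_option linter.unusedSectionVars false
set_option linter.unusedVariables false

namespace Cfsg.Agent.Lib.Helper18.QBN

open Cfsg.Agent.Lib.helper14.UBN QuadraticMap

universe u v

variable {F : Type u} [Field F] {W : Type v} [AddCommGroup W] [Module F W] {n : ℕ}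

/-- `sgX` acts as the Siegel map -/
theorem sdmr0a_le (hn : Even n) (Q₀ : QuadraticForm F W) (a : Fin n) (y : QV F n W)
    (hy : y.1 (rv a) = 0) (v : QV F n W) :
    le (sgX hn Q₀ a y hy) v = siegL (frQ n Q₀) (xv W a) y v := rfl

/-- `x_a ⟂ y` -/
theorem sdmr0a_perp (hn : Even n) (Q₀ : QuadraticForm F W) (a : Fin n) (y : QV F n W)
    (hy : y.1 (rv a) = 0) : polar (frQ n Q₀) (xv W a) y = 0 := by
  rw [polar_comm, polar_xv hn, hy]

/-- [ROW R0a] -/
theorem sgX_congr (hn : Even n) (Q₀ : QuadraticForm F W) (a : Fin n) {y y' : QV F n W}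
    (hy : y.1 (rv a) = 0) (hy' : y'.1 (rv a) = 0) (h : y = y') :
    sgX hn Q₀ a y hy = sgX hn Q₀ a y' hy' := by
  subst h
  rfl

/-- [ROW R0a] -/
theorem sgX_zero (hn : Even n) (Q₀ : QuadraticForm F W) (a : Fin n) (h0 : (0 : QV F n W).1 (rv a) = 0) :
    sgX hn Q₀ a 0 h0 = 1 := by
  apply GQ_ext
  intro v
  rw [sdmr0a_le, siegL_zero, le_one]

/-- [ROW R0a] -/
theorem sgX_mul (hn : Even n) (Q₀ : QuadraticForm F W) (a : Fin n) (y y' : QV F n W)
    (hy : y.1 (rv a) = 0) (hy' : y'.1 (rv a) = 0) (hyy : (y + y').1 (rv a) = 0) :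
    sgX hn Q₀ a y hy * sgX hn Q₀ a y' hy' = sgX hn Q₀ a (y + y') hyy := by
  apply GQ_ext
  intro v
  rw [le_mul, sdmr0a_le, sdmr0a_le, sdmr0a_le,
    siegL_comp (frQ n Q₀) (frQ_xv Q₀ hn a) (sdmr0a_perp hn Q₀ a y hy) (sdmr0a_perp hn Q₀ a y' hy')]

/-- [ROW R0a] -/
theorem sgX_inv (hn : Even n) (Q₀ : QuadraticForm F W) (a : Fin n) (y : QV F n W)
    (hy : y.1 (rv a) = 0) (hy' : (-y).1 (rv a) = 0) :
    (sgX hn Q₀ a y hy)⁻¹ = sgX hn Q₀ a (-y) hy' := by
  apply inv_eq_of_mul_eq_one_right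
  have h0 : (y + -y).1 (rv a) = 0 := by rw [add_neg_cancel]; rfl
  rw [sgX_mul hn Q₀ a y (-y) hy hy' h0]
  have h0' : (0 : QV F n W).1 (rv a) = 0 := rfl
  rw [sgX_congr hn Q₀ a h0 h0' (add_neg_cancel y), sgX_zero]

/-- [ROW R0a] `sgX a y` depends on `y` only modulo `x_a` -/
theorem sgX_add_xv (hn : Even n) (Q₀ : QuadraticForm F W) (a : Fin n) (y : QV F n W) (c : F)
    (hy : y.1 (rv a) = 0) (hy' : (y + c • xv W a).1 (rv a) = 0) :
    sgX hn Q₀ a (y + c • xv W a) hy' = sgX hn Q₀ a y hy := by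
  apply GQ_ext
  intro v
  rw [sgX_apply, sgX_apply]
  have h1 : polar (frQ n Q₀) v (y + c • xv W a) = polar (frQ n Q₀) v y + c * v.1 (rv a) := by
    rw [polar_add_right, polar_smul_right, polar_xv hn, smul_eq_mul]
  have h2 : frQ n Q₀ (y + c • xv W a) = frQ n Q₀ y := by
    rw [QuadraticMap.map_add (⇑(frQ n Q₀)) y (c • xv W a), QuadraticMap.map_smul, frQ_xv Q₀ hn a,
      polar_smul_right, polar_xv hn, hy]
    simp
  rw [h1, h2]
  module

/-- [ROW R0a] `sgX a y = 1` only if `y ∈ F x_a` -/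
theorem sgX_eq_one_iff (hn : Even n) (Q₀ : QuadraticForm F W) (a : Fin n) (y : QV F n W)
    (hy : y.1 (rv a) = 0) : sgX hn Q₀ a y hy = 1 ↔ ∃ c : F, y = c • xv W a := by
  constructor
  · intro h
    have h1 : le (sgX hn Q₀ a y hy) (xv W (rv a)) = xv W (rv a) := by rw [h, le_one]
    rw [sgX_apply] at h1
    have h2 : (xv W (rv a) : QV F n W).1 (rv a) = 1 := by rw [xv_fst, if_pos rfl]
    rw [h2, one_smul] at h1
    refine ⟨polar (frQ n Q₀) (xv W (rv a)) y - frQ n Q₀ y, ?_⟩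
    have h3 : polar (frQ n Q₀) (xv W (rv a)) y • xv W a - (y + frQ n Q₀ y • xv W a) = 0 := by
      have h4 := congrArg (fun z => z - xv W (rv a)) h1
      simp only [sub_self] at h4
      rw [← h4]
      abel
    rw [sub_smul]
    have h5 := sub_eq_zero.mp h3
    rw [h5]
    abel
  · rintro ⟨c, hc⟩
    have h0 : (0 : QV F n W).1 (rv a) = 0 := rfl
    have h0' : ((0 : QV F n W) + c • xv W a).1 (rv a) = 0 := by
      rw [zero_add, ← hc]
      exact hy
    rw [sgX_congr hn Q₀ a hy h0' (by rw [zero_add]; exact hc), sgX_add_xv hn Q₀ a 0 c h0 h0', sgX_zero]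

end Cfsg.Agent.Lib.Helper18.QBN
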