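import Mathlib

set_option autoImplicit false

namespace Cfsg.Agent.Lib.helper2

/-- a nontrivial finite solvable group has a nontrivial normal `q`-subgroup for some prime `q` -/
theorem gs_normal_pgroup (H : Type*) [Group H] [Finite H] [Nontrivial H] [hs : Group.IsSolvable H] :
    ∃ q : ℕ, q.Prime ∧ ∃ N : Subgroup H, N.Normal ∧ N ≠ ⊥ ∧ IsPGroup q N := by
  classical
  obtain ⟨n, hn⟩ := hs
  -- minimal n
  have hex : ∃ n, derivedSeries H n = ⊥ := ⟨n, hn⟩
  set k := Nat.find hex with hk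
  have hk1 : derivedSeries H k = ⊥ := Nat.find_spec hex
  have hk0 : k ≠ 0 := by
    intro h0
    rw [h0, derivedSeries_zero] at hk1
    exact top_ne_bot hk1
  obtain ⟨j, hj⟩ : ∃ j, k = j + 1 := Nat.exists_eq_succ_of_ne_zero hk0
  set A := derivedSeries H j with hA
  have hAne : A ≠ ⊥ := by
    intro h
    have := Nat.find_min hex (m := j) (by omega)
    exact this h
  have hAn : A.Normal := derivedSeries_normal H j
  have hAcomm : ∀ a ∈ A, ∀ b ∈ A, a * b = b * a := by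
    have h1 : ⁅A, A⁆ = ⊥ := by
      rw [hA, ← derivedSeries_succ, ← hj]
      exact hk1
    rw [Subgroup.commutator_eq_bot_iff_le_centralizer] at h1
    intro a ha b hb
    have := h1 ha
    rw [Subgroup.mem_centralizer_iff] at this
    exact (this b hb).symm
  -- a prime dividing |A|
  have hcard : Nat.card A ≠ 1 := by
    intro h
    exact hAne (Subgroup.eq_bot_of_card_eq A h)
  obtain ⟨q, hq, hqd⟩ := Nat.exists_prime_and_dvd hcard
  haveI : Fact q.Prime := ⟨hq⟩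
  obtain ⟨a, ha⟩ := exists_prime_orderOf_dvd_card' q hqd
  refine ⟨q, hq, ?_⟩
  let N : Subgroup H :=
    { carrier := {h | h ∈ A ∧ h ^ q = 1}
      mul_mem' := by
        rintro x y ⟨hx, hx'⟩ ⟨hy, hy'⟩
        refine ⟨A.mul_mem hx hy, ?_⟩
        have hc : Commute x y := hAcomm x hx y hy
        rw [hc.mul_pow, hx', hy', one_mul]
      one_mem' := ⟨A.one_mem, one_pow _⟩
      inv_mem' := by
        rintro x ⟨hx, hx'⟩
        exact ⟨A.inv_mem hx, by rw [inv_pow, hx', inv_one]⟩ }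
  have hNmem : ∀ h, h ∈ N ↔ h ∈ A ∧ h ^ q = 1 := fun h => Iff.rfl
  refine ⟨N, ?_, ?_, ?_⟩
  · constructor
    intro x hx g
    rw [hNmem] at hx ⊢
    refine ⟨hAn.conj_mem x hx.1 g, ?_⟩
    rw [conj_pow, hx.2]
    simp
  · intro h
    have hmem : (a : H) ∈ N := by
      rw [hNmem]
      refine ⟨a.2, ?_⟩
      have := pow_orderOf_eq_one a
      rw [ha] at this
      exact_mod_cast congrArg Subtype.val this
    rw [h, Subgroup.mem_bot] at hmem
    have h1 : a = 1 := Subtype.ext hmem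
    rw [h1, orderOf_one] at ha
    exact hq.one_lt.ne' ha.symm
  · intro x
    refine ⟨1, ?_⟩
    apply Subtype.ext
    have := ((hNmem _).mp x.2).2
    simpa using this

/-- a `q`-subgroup that is normal modulo a proper normal subgroup of a solvable group -/
theorem gs_exists_Q (S : Type*) [Group S] [Finite S] [Group.IsSolvable S] (K : Subgroup S)
    [hKn : K.Normal] (hK : K ≠ ⊤) :
    ∃ q : ℕ, q.Prime ∧ ∃ Q : Subgroup S, IsPGroup q Q ∧ ¬ Q ≤ K ∧
      ∀ s : S, ∀ u ∈ Q, ∃ u' ∈ Q, ∃ k ∈ K, s * u * s⁻¹ = u' * k := by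
  classical
  haveI : Nontrivial (S ⧸ K) := by
    rw [← not_subsingleton_iff_nontrivial]
    intro h
    exact hK (QuotientGroup.subsingleton_iff.mp h)
  obtain ⟨q, hq, N, hNn, hNne, hNp⟩ := gs_normal_pgroup (S ⧸ K)
  haveI : Fact q.Prime := ⟨hq⟩
  refine ⟨q, hq, ?_⟩
  set f : S →* S ⧸ K := QuotientGroup.mk' K with hf
  have hfs : Function.Surjective f := QuotientGroup.mk'_surjective K
  obtain ⟨Q', hNQ'⟩ := hNp.exists_le_sylow
  obtain ⟨P, hP⟩ := Sylow.mapSurjective_surjective hfs q Q'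
  have hPmap : (P : Subgroup S).map f = Q' := by
    rw [← Sylow.coe_mapSurjective hfs, hP]
  refine ⟨(P : Subgroup S) ⊓ N.comap f, P.2.to_le inf_le_left, ?_, ?_⟩
  · intro hle
    apply hNne
    rw [eq_bot_iff]
    intro n hn
    have h1 : n ∈ (P : Subgroup S).map f := by rw [hPmap]; exact hNQ' hn
    obtain ⟨x, hx, rfl⟩ := Subgroup.mem_map.mp h1
    have h2 : x ∈ (P : Subgroup S) ⊓ N.comap f := Subgroup.mem_inf.mpr ⟨hx, hn⟩
    have h3 : x ∈ K := hle h2
    rw [Subgroup.mem_bot, hf, QuotientGroup.mk'_apply, QuotientGroup.eq_one_iff]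
    exact h3
  · intro s u hu
    rw [Subgroup.mem_inf] at hu
    have h1 : f (s * u * s⁻¹) ∈ N := by
      rw [map_mul, map_mul, map_inv]
      exact hNn.conj_mem _ hu.2 _
    have h2 : f (s * u * s⁻¹) ∈ (P : Subgroup S).map f := by rw [hPmap]; exact hNQ' h1
    obtain ⟨x, hx, hxe⟩ := Subgroup.mem_map.mp h2
    refine ⟨x, Subgroup.mem_inf.mpr ⟨hx, ?_⟩, x⁻¹ * (s * u * s⁻¹), ?_, by group⟩
    · rw [Subgroup.mem_comap, hxe]
      exact h1
    · rw [← QuotientGroup.eq_one_iff, ← QuotientGroup.mk'_apply, ← hf, map_mul, map_inv, hxe]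
      group

/-- a step subgroup for the solvable induction -/
theorem gs_exists_step {Γ : Type*} [Group Γ] [Finite Γ] (G S : Subgroup Γ)
    (hnorm : ∀ s ∈ S, ∀ g ∈ G, s * g * s⁻¹ ∈ G) (hsolv : Group.IsSolvable S)
    (hncent : ¬ G ≤ Subgroup.centralizer (S : Set Γ)) :
    ∃ q : ℕ, q.Prime ∧ ∃ Q : Subgroup Γ, Q ≤ S ∧ IsPGroup q Q ∧
      ¬ G ≤ Subgroup.centralizer (Q : Set Γ) ∧
      ∀ s ∈ S, ∀ u ∈ Q, ∃ u' ∈ Q, ∀ g ∈ G,
        (s * u * s⁻¹) * g * (s * u * s⁻¹)⁻¹ = u' * g * u'⁻¹ := by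
  classical
  set K : Subgroup S := (Subgroup.centralizer (G : Set Γ)).subgroupOf S with hKdef
  have hKmem : ∀ x : S, x ∈ K ↔ ∀ g ∈ G, g * (x : Γ) = (x : Γ) * g := by
    intro x
    rw [hKdef, Subgroup.mem_subgroupOf, Subgroup.mem_centralizer_iff]
    rfl
  haveI hKn : K.Normal := by
    constructor
    intro k hk s
    rw [hKmem] at hk ⊢
    intro g hg
    have hg' : (s : Γ)⁻¹ * g * (s : Γ) ∈ G := by
      have := hnorm (s : Γ)⁻¹ (S.inv_mem s.2) g hg
      rwa [inv_inv] at this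
    have h1 := hk _ hg'
    simp only [Subgroup.coe_mul, Subgroup.coe_inv]
    calc g * ((s : Γ) * (k : Γ) * (s : Γ)⁻¹)
        = (s : Γ) * (((s : Γ)⁻¹ * g * (s : Γ)) * (k : Γ)) * (s : Γ)⁻¹ := by group
      _ = (s : Γ) * ((k : Γ) * ((s : Γ)⁻¹ * g * (s : Γ))) * (s : Γ)⁻¹ := by rw [h1]
      _ = (s : Γ) * (k : Γ) * (s : Γ)⁻¹ * g := by group
  have hKtop : K ≠ ⊤ := by
    intro h
    apply hncent
    intro g hg
    rw [Subgroup.mem_centralizer_iff]
    intro s hs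
    have : (⟨s, hs⟩ : S) ∈ K := by rw [h]; exact Subgroup.mem_top _
    exact ((hKmem _).mp this g hg).symm
  obtain ⟨q, hq, Q, hQp, hQK, hQn⟩ := gs_exists_Q S K hKtop
  refine ⟨q, hq, Q.map S.subtype, Subgroup.map_subtype_le Q, hQp.map S.subtype, ?_, ?_⟩
  · intro hle
    apply hQK
    intro u hu
    rw [hKmem]
    intro g hg
    have := hle hg
    rw [Subgroup.mem_centralizer_iff] at this
    exact (this (u : Γ) (Subgroup.mem_map.mpr ⟨u, hu, rfl⟩)).symm
  · intro s hs u hu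
    obtain ⟨u₀, hu₀, rfl⟩ := Subgroup.mem_map.mp hu
    obtain ⟨u', hu', k, hk, he⟩ := hQn ⟨s, hs⟩ u₀ hu₀
    refine ⟨(u' : Γ), Subgroup.mem_map.mpr ⟨u', hu', rfl⟩, ?_⟩
    intro g hg
    have he' : s * (S.subtype u₀) * s⁻¹ = (u' : Γ) * (k : Γ) := by
      have := congrArg Subtype.val he
      simpa using this
    rw [he']
    have hkg := (hKmem k).mp hk g hg
    calc (u' : Γ) * (k : Γ) * g * ((u' : Γ) * (k : Γ))⁻¹
        = (u' : Γ) * ((k : Γ) * g) * (k : Γ)⁻¹ * (u' : Γ)⁻¹ := by group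
      _ = (u' : Γ) * (g * (k : Γ)) * (k : Γ)⁻¹ * (u' : Γ)⁻¹ := by rw [hkg]
      _ = (u' : Γ) * g * (u' : Γ)⁻¹ := by group

end Cfsg.Agent.Lib.helper2
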