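import Mathlib
import Cfsg.Prelude.Def_Solvable
import Cfsg.Agent.Lib.helper2.GarrisonA
import Cfsg.Agent.Lib.helper2.GlaubS1
import Cfsg.Agent.Lib.Helper18.SylowIn

set_option autoImplicit false
set_option linter.deprecated false

namespace Cfsg.Agent.Lib.helper2
open Cfsg.Agent.Lib.helper7 Cfsg.Agent.Lib.Helper25 Cfsg.Agent.Lib.Helper18
open scoped ComplexConjugate Pointwise

section
open Subgroup MulAction

set_option backward.isDefEq.respectTransparency false in
theorem gk_frattini {G : Type*} [Group G] [Finite G] (p : ℕ) [Fact p.Prime] (M : Subgroup G)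
    [M.Normal] (Q : Sylow p M) (L : Subgroup G) [hL : L.Normal] (l : G) (hl : l ∈ L) :
    ∃ w ∈ L ⊓ M, w * l ∈ Subgroup.normalizer (((Q : Subgroup M).map M.subtype : Subgroup G) : Set G) := by
  classical
  let N' : Subgroup M := L.subgroupOf M
  haveI : N'.Normal := inferInstance
  let R' : Subgroup M := (Q : Subgroup M) ⊔ N'
  let lQ : Sylow p M := (MulAut.conjNormal l : MulAut M) • Q
  have hQR : Q ≤ R' := le_sup_left
  have hlQR : lQ ≤ R' := by
    intro x hx
    have hx' : x ∈ (MulAut.conjNormal l : MulAut M) • (Q : Subgroup M) := hx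
    rw [Subgroup.mem_pointwise_smul_iff_inv_smul_mem] at hx'
    set y : M := (MulAut.conjNormal l : MulAut M)⁻¹ • x with hy
    have hxy : x = (MulAut.conjNormal l : MulAut M) • y := by rw [hy, smul_inv_smul]
    have hxy' : x = (x * y⁻¹) * y := by group
    rw [hxy']
    apply Subgroup.mul_mem
    · apply Subgroup.mem_sup_right
      show x * y⁻¹ ∈ L.subgroupOf M
      rw [Subgroup.mem_subgroupOf]
      have h1 : ((x * y⁻¹ : M) : G) = l * ((y : G) * l⁻¹ * (y : G)⁻¹) := by
        rw [hxy]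
        simp only [MulAut.smul_def, Subgroup.coe_mul, MulAut.conjNormal_apply, InvMemClass.coe_inv]
        group
      rw [h1]
      exact L.mul_mem hl (hL.conj_mem _ (L.inv_mem hl) _)
    · exact Subgroup.mem_sup_left hx'
  obtain ⟨r, hr⟩ := MulAction.exists_smul_eq R' (lQ.subtype hlQR) (Q.subtype hQR)
  rw [Sylow.smul_subtype] at hr
  have hr' := Sylow.subtype_injective hr
  have hrmem : (r : M) ∈ (Q : Subgroup M) ⊔ N' := r.2
  rw [← SetLike.mem_coe, Subgroup.mul_normal] at hrmem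
  obtain ⟨y, hy, n, hn, hny⟩ := hrmem
  have hr2 : (r : M) • lQ = Q := hr'
  rw [← hny, mul_smul] at hr2
  have hyQ : y • Q = Q := Sylow.smul_eq_iff_mem_normalizer.2 (Subgroup.le_normalizer hy)
  have hn2 : n • lQ = Q := by
    have := congrArg (fun S => y⁻¹ • S) hr2
    simp only [inv_smul_smul] at this
    rw [this]
    rw [inv_smul_eq_iff, hyQ]
  refine ⟨(n : G), ⟨hn, n.2⟩, ?_⟩
  -- now as in Mathlib's Frattini
  have hn3 : n • ((MulAut.conjNormal l : MulAut M) • Q) = Q := hn2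
  rw [Sylow.smul_def, ← mul_smul, ← MulAut.conjNormal_val, ← MulAut.conjNormal.map_mul,
    Sylow.ext_iff, Sylow.pointwise_smul_def, Subgroup.pointwise_smul_def] at hn3
  have hinj : Function.Injective (MulAut.conj ((n : G) * l)).toMonoidHom :=
    (MulAut.conj ((n : G) * l)).injective
  refine fun x ↦ (mem_map_iff_mem hinj).symm.trans ?_
  rw [map_map, ← congr_arg (map M.subtype) hn3, map_map]
  rfl

end

/-- the part of a Sylow subgroup of a normal subgroup lying in the core of its normalizer is normal -/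
theorem gk_Y_normal {G : Type*} [Group G] [Finite G] (p : ℕ) [Fact p.Prime] (M : Subgroup G)
    [hM : M.Normal] (Q : Sylow p M) (g y : G)
    (hy : y ∈ ((Q : Subgroup M).map M.subtype : Subgroup G) ⊓
      (Subgroup.normalizer (((Q : Subgroup M).map M.subtype : Subgroup G) : Set G)).normalCore) :
    g * y * g⁻¹ ∈ ((Q : Subgroup M).map M.subtype : Subgroup G) ⊓
      (Subgroup.normalizer (((Q : Subgroup M).map M.subtype : Subgroup G) : Set G)).normalCore := by
  set Q' : Subgroup G := (Q : Subgroup M).map M.subtype with hQ'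
  set H : Subgroup G := Subgroup.normalizer (Q' : Set G) with hH
  set Y : Subgroup G := Q' ⊓ H.normalCore with hY
  have hSyl : IsSylowIn p Q' M := isSylowIn_of_sylow Q
  have hYp : IsPGroup p Y := hSyl.isPGroup.to_le inf_le_left
  set Z : Subgroup G := conjSub g Y with hZ
  have hZp : IsPGroup p Z := conjSub_isPGroup hYp
  have hZC : Z ≤ H.normalCore := by
    rintro _ ⟨z, hz, rfl⟩
    have : z ∈ H.normalCore := hz.2
    exact (Subgroup.normalCore_normal H).conj_mem z this g
  have hZH : Z ≤ H := hZC.trans (Subgroup.normalCore_le H)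
  have hZM : Z ≤ M := by
    rintro _ ⟨z, hz, rfl⟩
    exact hM.conj_mem z (hSyl.le hz.1) g
  have hsup : IsPGroup p (Z ⊔ Q' : Subgroup G) :=
    hZp.to_sup_of_normal_right' hSyl.isPGroup hZH
  have heq : Z ⊔ Q' = Q' :=
    hSyl.eq_of_le (sup_le hZM hSyl.le) hsup le_sup_right
  have hzmem : g * y * g⁻¹ ∈ Z := conj_mem_conjSub hy
  refine ⟨?_, hZC hzmem⟩
  rw [← heq]
  exact Subgroup.mem_sup_left hzmem

theorem gk_case1 {G : Type*} [Group G] [Finite G] (χ : Cfsg.IrrCharacter G) (K : Subgroup G)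
    [hKn : K.Normal] (hK : ∀ g : G, g ∈ K ↔ (χ : G → ℂ) g = (χ : G → ℂ) 1)
    (hnil : ¬ Group.IsNilpotent K) :
    ∃ ψ : Cfsg.IrrCharacter G, Cfsg.charDegree (χ : G → ℂ) < Cfsg.charDegree (ψ : G → ℂ) ∧
      ∃ L : Subgroup G, (∀ g : G, g ∈ L ↔ (ψ : G → ℂ) g = (ψ : G → ℂ) 1) ∧ L < K := by
  classical
  have htfae := (isNilpotent_of_finite_tfae (G := K)).out 0 3
  rw [htfae] at hnil
  push Not at hnil
  obtain ⟨p, hp, P, hPn⟩ := hnil
  haveI := hp
  set Q' : Subgroup G := (P : Subgroup K).map K.subtype with hQ'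
  set H : Subgroup G := Subgroup.normalizer (Q' : Set G) with hH
  have hQK : Q' ≤ K := by
    rintro _ ⟨y, _, rfl⟩
    exact y.2
  have hQH : Q' ≤ H := Subgroup.le_normalizer
  apply gk_core χ K H hK
  · intro g
    obtain ⟨w, hw, hwg⟩ := gk_frattini p K P ⊤ g (Subgroup.mem_top g)
    refine ⟨w⁻¹, K.inv_mem hw.2, w * g, hwg, by group⟩
  · by_contra hcon
    push Not at hcon
    have hQC : Q' ≤ H.normalCore := by
      intro y hy
      have h1 : (χ : G → ℂ) y ≠ 0 := by
        rw [(hK y).1 (hQK hy)]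
        exact irr_one_ne_zero χ
      intro b
      have := hcon y (hQH hy) h1 b⁻¹
      rwa [inv_inv] at this
    apply hPn
    constructor
    intro n hn k
    have hn' : (n : G) ∈ Q' ⊓ H.normalCore := ⟨⟨n, hn, rfl⟩, hQC ⟨n, hn, rfl⟩⟩
    have h2 := (gk_Y_normal p K P (k : G) (n : G) hn').1
    obtain ⟨m, hm, hmeq⟩ := h2
    have : m = k * n * k⁻¹ := by
      apply Subtype.ext
      rw [← Subgroup.subtype_apply, hmeq]
      simp
    rw [← this]
    exact hm
  · intro L hLn hLH l hl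
    haveI := hLn
    obtain ⟨w, hw, hwl⟩ := gk_frattini p K P L l hl
    have h1 : w * l ∈ L ⊓ H := ⟨L.mul_mem hw.1 hl, hwl⟩
    have h2 : w * l ∈ K := hLH h1
    have : l = w⁻¹ * (w * l) := by group
    rw [this]
    exact K.mul_mem (K.inv_mem hw.2) h2

theorem gk_case2 {G : Type*} [Group G] [Finite G] (χ : Cfsg.IrrCharacter G) (K : Subgroup G)
    [hKn : K.Normal] (hK : ∀ g : G, g ∈ K ↔ (χ : G → ℂ) g = (χ : G → ℂ) 1)
    (hKF : K = Cfsg.fittingSubgroup G) (hsolv : Group.IsSolvable (G ⧸ K)) (hne : K ≠ ⊤) :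
    ∃ ψ : Cfsg.IrrCharacter G, Cfsg.charDegree (χ : G → ℂ) < Cfsg.charDegree (ψ : G → ℂ) ∧
      ∃ L : Subgroup G, (∀ g : G, g ∈ L ↔ (ψ : G → ℂ) g = (ψ : G → ℂ) 1) ∧ L < K := by
  classical
  haveI : Nontrivial (G ⧸ K) := QuotientGroup.nontrivial_iff.2 hne
  obtain ⟨q, hq, Nb, hNbn, hNbne, hNbq⟩ := gs_normal_pgroup (G ⧸ K)
  haveI : Fact q.Prime := ⟨hq⟩
  haveI := hNbn
  set M : Subgroup G := Nb.comap (QuotientGroup.mk' K) with hMdef
  haveI hMn : M.Normal := inferInstance
  have hKM : K ≤ M := by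
    intro k hk
    rw [hMdef, Subgroup.mem_comap]
    have : (QuotientGroup.mk' K) k = 1 := (QuotientGroup.eq_one_iff k).2 hk
    rw [this]
    exact Nb.one_mem
  have hMmap : M.map (QuotientGroup.mk' K) = Nb :=
    Subgroup.map_comap_eq_self_of_surjective (QuotientGroup.mk'_surjective K) Nb
  obtain ⟨a, ha⟩ := IsPGroup.iff_card.mp hNbq
  have hrel : K.relIndex M = q ^ a := by
    have h1 : K = (⊥ : Subgroup (G ⧸ K)).comap (QuotientGroup.mk' K) := by
      ext x
      rw [Subgroup.mem_comap, Subgroup.mem_bot]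
      exact (QuotientGroup.eq_one_iff x).symm
    have h2 := Subgroup.relIndex_comap (⊥ : Subgroup (G ⧸ K)) (QuotientGroup.mk' K) M
    rw [← h1, hMmap, Subgroup.relIndex_bot_left, ha] at h2
    exact h2
  obtain ⟨Q⟩ : Nonempty (Sylow q M) := inferInstance
  set Q' : Subgroup G := (Q : Subgroup M).map M.subtype with hQ'
  set H : Subgroup G := Subgroup.normalizer (Q' : Set G) with hH
  have hSyl : IsSylowIn q Q' M := isSylowIn_of_sylow Q
  have hQH : Q' ≤ H := Subgroup.le_normalizer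
  -- M ≤ K ⊔ Q'
  have hMKQ : M ≤ K ⊔ Q' := by
    rw [← Subgroup.relIndex_eq_one]
    have h1 : (K ⊔ Q').relIndex M ∣ K.relIndex M := Subgroup.relIndex_dvd_of_le_left M le_sup_left
    have h2 : (K ⊔ Q').relIndex M ∣ Q'.relIndex M := Subgroup.relIndex_dvd_of_le_left M le_sup_right
    rw [hrel] at h1
    obtain ⟨b, _, hb⟩ := (Nat.dvd_prime_pow hq).1 h1
    rcases Nat.eq_zero_or_pos b with h0 | h0
    · rw [hb, h0, pow_zero]
    · exfalso
      apply hSyl.not_dvd
      apply dvd_trans _ h2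
      rw [hb]
      exact dvd_pow_self q h0.ne'
  have hQK : ¬ Q' ≤ K := by
    intro h
    apply hNbne
    have h1 : M ≤ K := hMKQ.trans (sup_le le_rfl h)
    rw [← hMmap, eq_bot_iff]
    rintro _ ⟨m, hm, rfl⟩
    rw [Subgroup.mem_bot]
    exact (QuotientGroup.eq_one_iff m).2 (h1 hm)
  have hKH : ∀ g : G, ∃ k ∈ K, ∃ h ∈ H, g = k * h := by
    intro g
    obtain ⟨w, hw, hwg⟩ := gk_frattini q M Q ⊤ g (Subgroup.mem_top g)
    have h1 : w⁻¹ ∈ K ⊔ Q' := hMKQ (M.inv_mem hw.2)
    rw [← SetLike.mem_coe, Subgroup.normal_mul] at h1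
    obtain ⟨k, hk, y, hy, hky⟩ := h1
    refine ⟨k, hk, y * (w * g), H.mul_mem (hQH hy) hwg, ?_⟩
    have hky' : k * y = w⁻¹ := hky
    rw [← mul_assoc, hky']
    group
  apply gk_core χ K H hK hKH
  · by_contra hcon
    push Not at hcon
    -- Y ≤ K
    have hYK : Q' ⊓ H.normalCore ≤ K := by
      have hYn : (Q' ⊓ H.normalCore).Normal :=
        ⟨fun y hy g => gk_Y_normal q M Q g y hy⟩
      have hYp : IsPGroup q (Q' ⊓ H.normalCore : Subgroup G) := hSyl.isPGroup.to_le inf_le_left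
      rw [hKF]
      apply le_sSup
      exact ⟨hYn, hYp.isNilpotent⟩
    have hvan : ∀ x ∈ Q', x ∉ K → (χ : G → ℂ) x = 0 := by
      intro x hx hxK
      by_contra h0
      apply hxK
      apply hYK
      refine ⟨hx, ?_⟩
      intro b
      have := hcon x (hQH hx) h0 b⁻¹
      rwa [inv_inv] at this
    apply hQK
    by_contra hnot
    rw [SetLike.not_le_iff_exists] at hnot
    obtain ⟨y, hyQ, hyK⟩ := hnot
    set θ : Cfsg.IrrCharacter H :=
      ⟨fun h : H => (χ : G → ℂ) h, gk_restrict_irr K H hKH χ (fun k hk => (hK k).1 hk)⟩ with hθ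
    haveI : (Q'.subgroupOf H).Normal := Subgroup.normal_in_normalizer
    haveI : Fintype (Q'.subgroupOf H) := Fintype.ofFinite _
    have hN : ∃ n ∈ Q'.subgroupOf H, (θ : H → ℂ) n ≠ (θ : H → ℂ) 1 := by
      refine ⟨⟨y, hQH hyQ⟩, ?_, ?_⟩
      · rw [Subgroup.mem_subgroupOf]; exact hyQ
      · intro h
        apply hyK
        rw [hK]
        exact h
    have hsum := irr_sum_normal θ (Q'.subgroupOf H) hN 1
    have hterm : ∀ n : Q'.subgroupOf H, (θ : H → ℂ) (1 * (n : H)) =
        if ((n : H) : G) ∈ K then (χ : G → ℂ) 1 else 0 := by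
      intro n
      rw [one_mul]
      split_ifs with hn
      · exact (hK _).1 hn
      · exact hvan _ (Subgroup.mem_subgroupOf.1 n.2) hn
    simp only [hterm] at hsum
    rw [Finset.sum_ite, Finset.sum_const_zero, add_zero, Finset.sum_const, nsmul_eq_mul] at hsum
    have h1 : (χ : G → ℂ) 1 ≠ 0 := irr_one_ne_zero χ
    have h2 : ((Finset.univ.filter
        (fun n : Q'.subgroupOf H => ((n : H) : G) ∈ K)).card : ℂ) ≠ 0 := by
      have : (1 : Q'.subgroupOf H) ∈ Finset.univ.filter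
          (fun n : Q'.subgroupOf H => ((n : H) : G) ∈ K) := by
        rw [Finset.mem_filter]
        exact ⟨Finset.mem_univ _, by simp⟩
      have hpos : 0 < (Finset.univ.filter
        (fun n : Q'.subgroupOf H => ((n : H) : G) ∈ K)).card := Finset.card_pos.2 ⟨1, this⟩
      exact_mod_cast hpos.ne'
    exact (mul_ne_zero h2 h1) hsum
  · intro L hLn hLH
    haveI := hLn
    -- first L ⊓ M ≤ K
    have hL'K : L ⊓ M ≤ K := by
      have hL'n : M ≤ Subgroup.normalizer ((L ⊓ M : Subgroup G) : Set G) := by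
        haveI : (L ⊓ M).Normal := inferInstance
        rw [Subgroup.normalizer_eq_top]
        exact le_top
      have h1 : IsSylowIn q (Q' ⊓ (L ⊓ M)) (L ⊓ M) := hSyl.inf_of_normal inf_le_right hL'n
      have h2 : Q' ⊓ (L ⊓ M) ≤ K ⊓ (L ⊓ M) := by
        intro x hx
        exact ⟨hLH ⟨hx.2.1, hQH hx.1⟩, hx.2⟩
      have h3 := Subgroup.relIndex_mul_relIndex (Q' ⊓ (L ⊓ M)) (K ⊓ (L ⊓ M)) (L ⊓ M) h2 inf_le_right
      have h4 : ¬ q ∣ (K ⊓ (L ⊓ M)).relIndex (L ⊓ M) := by
        intro hd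
        apply h1.not_dvd
        rw [← h3]
        exact Dvd.dvd.mul_left hd _
      rw [Subgroup.inf_relIndex_right] at h4
      have h5 : K.relIndex (L ⊓ M) ∣ K.relIndex M := by
        have h6 := Subgroup.relIndex_sup_right (L ⊓ M) K
        have h7 := Subgroup.relIndex_mul_relIndex K ((L ⊓ M) ⊔ K) M le_sup_right
          (sup_le inf_le_right hKM)
        rw [← h6, ← h7]
        exact Dvd.intro _ rfl
      rw [hrel] at h5
      obtain ⟨b, _, hb⟩ := (Nat.dvd_prime_pow hq).1 h5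
      rcases Nat.eq_zero_or_pos b with h0 | h0
      · rw [h0, pow_zero] at hb
        exact Subgroup.relIndex_eq_one.1 hb
      · exfalso
        apply h4
        rw [hb]
        exact dvd_pow_self q h0.ne'
    intro l hl
    obtain ⟨w, hw, hwl⟩ := gk_frattini q M Q L l hl
    have h1 : w * l ∈ L ⊓ H := ⟨L.mul_mem hw.1 hl, hwl⟩
    have h2 : w * l ∈ K := hLH h1
    have h3 : w ∈ K := hL'K hw
    have : l = w⁻¹ * (w * l) := by group
    rw [this]
    exact K.mul_mem (K.inv_mem h3) h2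

end Cfsg.Agent.Lib.helper2
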