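import Mathlib
import Cfsg.Prelude.Def_Characters
import Cfsg.Prelude.Def_Blocks
import Cfsg.Agent.Lib.Helper25.CliffordCorr
import Cfsg.Agent.Lib.Helper25.ExtraspecialUnique
import Cfsg.Agent.Lib.helper7.CharMul

set_option autoImplicit false
open scoped ComplexConjugate

namespace Cfsg.Agent.Lib.helper2

open Cfsg.Agent.Lib.helper7 Cfsg.Agent.Lib.Helper25

/-- If all irreducible character degrees are `1` or `m`, a subgroup of index `m ≠ 1`
contains the commutator subgroup. -/
theorem cd2_comm_le_of_index {G : Type*} [Group G] [Finite G] (T : Subgroup G) (m : ℕ)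
    (hcd : ∀ χ : Cfsg.IrrCharacter G, Cfsg.charDegree (χ : G → ℂ) = 1 ∨
      Cfsg.charDegree (χ : G → ℂ) = m) (hm1 : m ≠ 1) (hidx : T.index = m) :
    commutator G ≤ T := by
  classical
  haveI : Fintype G := Fintype.ofFinite G
  haveI : Fintype T := Fintype.ofFinite T
  haveI : Fintype (Cfsg.IrrCharacter G) := Fintype.ofFinite _
  set Φ : G → ℂ := Cfsg.indFun T (trivIrr T : T → ℂ) with hΦdef
  have hΦ : Cfsg.IsCharacter G Φ := isCharacter_indFun T _ (h7_irr_isCharacter (trivIrr T).2)
  obtain ⟨mm, hmm, hexp⟩ := isCharacter_expansion hΦ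
  have hΦ1 : Φ 1 = (m : ℂ) := by
    rw [hΦdef, h7_indFun_one, trivIrr_apply, mul_one, hidx]
  -- multiplicity of the trivial character
  have htriv : mm (trivIrr G) = 1 := by
    have h1 := hmm (trivIrr G)
    rw [hΦdef, h7_frobenius_reciprocity T _ _ (h7_irr_isClassFunction (trivIrr G).2)] at h1
    have h2 : (fun h : T => (trivIrr G : G → ℂ) h) = (trivIrr T : T → ℂ) := by
      funext h
      simp
    rw [h2, h7_irr_norm (trivIrr T).2] at h1
    exact_mod_cast h1.symm
  -- degree count
  have hdeg : ∀ χ : Cfsg.IrrCharacter G, (χ : G → ℂ) 1 = (Cfsg.charDegree (χ : G → ℂ) : ℂ) :=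
    fun χ => (charDegree_irr χ).1.symm
  have hsum : m = ∑ χ : Cfsg.IrrCharacter G, mm χ * Cfsg.charDegree (χ : G → ℂ) := by
    have h1 := congrFun hexp 1
    rw [hΦ1] at h1
    simp only [Finset.sum_apply, Pi.smul_apply, smul_eq_mul] at h1
    have h2 : (m : ℂ) = ((∑ χ : Cfsg.IrrCharacter G, mm χ * Cfsg.charDegree (χ : G → ℂ) : ℕ) : ℂ) := by
      rw [h1]
      push_cast
      refine Finset.sum_congr rfl fun χ _ => ?_
      rw [hdeg χ]
    exact_mod_cast h2
  have htrivdeg : Cfsg.charDegree ((trivIrr G : Cfsg.IrrCharacter G) : G → ℂ) = 1 := by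
    have := (charDegree_irr (trivIrr G)).1
    rw [trivIrr_apply] at this
    exact_mod_cast this
  have hlin : ∀ χ : Cfsg.IrrCharacter G, mm χ ≠ 0 → Cfsg.charDegree (χ : G → ℂ) = 1 := by
    intro χ hχ
    rcases hcd χ with h | h
    · exact h
    · exfalso
      have hne : χ ≠ trivIrr G := by
        intro he
        rw [he, htrivdeg] at h
        exact hm1 h.symm
      have h3 : mm (trivIrr G) * Cfsg.charDegree ((trivIrr G : Cfsg.IrrCharacter G) : G → ℂ) +
          mm χ * Cfsg.charDegree (χ : G → ℂ) ≤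
          ∑ χ : Cfsg.IrrCharacter G, mm χ * Cfsg.charDegree (χ : G → ℂ) := by
        have h4 : ({trivIrr G, χ} : Finset (Cfsg.IrrCharacter G)) ⊆ Finset.univ :=
          Finset.subset_univ _
        have h5 := Finset.sum_le_sum_of_subset (f := fun χ : Cfsg.IrrCharacter G =>
          mm χ * Cfsg.charDegree (χ : G → ℂ)) h4
        rw [Finset.sum_pair hne.symm] at h5
        exact h5
      rw [← hsum, htriv, htrivdeg, h] at h3
      have h6 : 1 ≤ mm χ := Nat.one_le_iff_ne_zero.mpr hχ
      nlinarith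
  -- value on commutators
  intro g hg
  have hΦg : Φ g = (m : ℂ) := by
    rw [← hΦ1]
    have h1 := congrFun hexp g
    have h2 := congrFun hexp 1
    rw [h1, h2]
    simp only [Finset.sum_apply, Pi.smul_apply, smul_eq_mul]
    refine Finset.sum_congr rfl fun χ _ => ?_
    by_cases hχ : mm χ = 0
    · rw [hχ]; simp
    · have hd := hlin χ hχ
      have h1' : (χ : G → ℂ) 1 = 1 := by rw [hdeg χ, hd]; simp
      rw [irr_linear_commutator χ h1' hg, h1']
  -- unfold the induced function
  have hval : Φ g = (Nat.card T : ℂ)⁻¹ *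
      ((Finset.univ.filter (fun x : G => x⁻¹ * g * x ∈ T)).card : ℂ) := by
    rw [hΦdef]
    unfold Cfsg.indFun
    congr 1
    rw [Finset.card_filter]
    push_cast
    refine Finset.sum_congr rfl fun x _ => ?_
    by_cases hx : x⁻¹ * g * x ∈ T
    · rw [h7_extendByZero_mem T _ _ hx, trivIrr_apply, if_pos hx]
    · rw [h7_extendByZero_not_mem T _ _ hx, if_neg hx]
  have hcardT : (Nat.card T : ℂ) ≠ 0 := by exact_mod_cast Nat.card_pos.ne'
  have hcount : (Finset.univ.filter (fun x : G => x⁻¹ * g * x ∈ T)).card = Nat.card G := by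
    have h1 : ((Finset.univ.filter (fun x : G => x⁻¹ * g * x ∈ T)).card : ℂ) =
        (m : ℂ) * (Nat.card T : ℂ) := by
      rw [← hΦg, hval]
      field_simp
    have h2 : Nat.card G = m * Nat.card T := by
      rw [← hidx, Subgroup.index_mul_card]
    rw [h2]
    exact_mod_cast h1
  have hall : Finset.univ.filter (fun x : G => x⁻¹ * g * x ∈ T) = Finset.univ := by
    apply Finset.eq_univ_of_card
    rw [hcount, Nat.card_eq_fintype_card]
  have h1 : (1 : G) ∈ Finset.univ.filter (fun x : G => x⁻¹ * g * x ∈ T) := by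
    rw [hall]; exact Finset.mem_univ _
  simpa using (Finset.mem_filter.mp h1).2

end Cfsg.Agent.Lib.helper2
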