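import Mathlib
import Cfsg.Prelude.Def_Characters
import Cfsg.Prelude.Def_Blocks
import Cfsg.Agent.Lib.helper2.Cd2C
import Cfsg.Agent.Lib.helper2.NilpMonomial
import Cfsg.Agent.Lib.Helper25.DefectZeroCount

set_option autoImplicit false
open scoped ComplexConjugate commutatorElement

namespace Cfsg.Agent.Lib.helper2

open Cfsg.Agent.Lib.helper7 Cfsg.Agent.Lib.Helper25

theorem cd2_eq_one_of_all_deg {G : Type*} [Group G] [Finite G] (g : G)
    (h : ∀ χ : Cfsg.IrrCharacter G, (χ : G → ℂ) g = (χ : G → ℂ) 1) : g = 1 := by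
  classical
  haveI := Fintype.ofFinite G
  haveI : Fintype (Cfsg.IrrCharacter G) := Fintype.ofFinite _
  have h1 := irr_regular_indicator g
  have h2 : ∑ χ : Cfsg.IrrCharacter G, (χ : G → ℂ) g * (χ : G → ℂ) 1 =
      ∑ χ : Cfsg.IrrCharacter G, (χ : G → ℂ) 1 * (χ : G → ℂ) 1 := by
    apply Finset.sum_congr rfl
    intro χ _
    rw [h χ]
  have h3 := irr_regular_indicator (1 : G)
  rw [if_pos rfl] at h3
  rw [h2, h3] at h1
  have hne : (Nat.card G : ℂ) ≠ 0 := by exact_mod_cast Nat.card_pos.ne'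
  by_contra hc
  rw [if_neg hc] at h1
  exact hne h1

/-- Taketa's argument for nilpotent groups with two character degrees -/
theorem cd2_taketa {G : Type*} [Group G] [Finite G] [Group.IsNilpotent G] (m : ℕ)
    (hcd : ∀ χ : Cfsg.IrrCharacter G, Cfsg.charDegree (χ : G → ℂ) = 1 ∨
      Cfsg.charDegree (χ : G → ℂ) = m) (hm1 : m ≠ 1) :
    ∀ a ∈ commutator G, ∀ b ∈ commutator G, a * b = b * a := by
  classical
  haveI : Fintype G := Fintype.ofFinite G
  intro a ha b hb
  have hc1 : ⁅a, b⁆ = 1 := by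
    apply cd2_eq_one_of_all_deg
    intro χ
    have hcG : ⁅a, b⁆ ∈ commutator G := by
      rw [commutator_def]
      exact Subgroup.commutator_mem_commutator (Subgroup.mem_top _) (Subgroup.mem_top _)
    rcases hcd χ with h | h
    · have h1 : (χ : G → ℂ) 1 = 1 := by
        rw [← (charDegree_irr χ).1, h]; simp
      rw [irr_linear_commutator χ h1 hcG, h1]
    · obtain ⟨H, lam, hχ⟩ := nilp_monomial_aux (Fintype.card G) le_rfl (χ : G → ℂ) χ.2
      haveI : Fintype H := Fintype.ofFinite H
      have hidx : H.index = m := by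
        have h1 := congrFun hχ 1
        rw [h7_indFun_one, map_one, Units.val_one, mul_one, ← (charDegree_irr χ).1, h] at h1
        exact_mod_cast h1.symm
      have hle := cd2_comm_le_of_index H m hcd hm1 hidx
      haveI hGn : (commutator G).Normal := inferInstance
      have hconj : ∀ x : G, ∀ y ∈ commutator G, x⁻¹ * y * x ∈ H := by
        intro x y hy
        apply hle
        have := hGn.conj_mem y hy x⁻¹
        rwa [inv_inv] at this
      have hterm : ∀ x : G, Cfsg.extendByZero H (fun h => ((lam h : ℂˣ) : ℂ)) (x⁻¹ * ⁅a, b⁆ * x) = 1 := by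
        intro x
        have hax := hconj x a ha
        have hbx := hconj x b hb
        have heq : x⁻¹ * ⁅a, b⁆ * x = ⁅x⁻¹ * a * x, x⁻¹ * b * x⁆ := by
          simp only [commutatorElement_def]; group
        have hmem : x⁻¹ * ⁅a, b⁆ * x ∈ H := by
          rw [heq, commutatorElement_def]
          exact H.mul_mem (H.mul_mem (H.mul_mem hax hbx) (H.inv_mem hax)) (H.inv_mem hbx)
        rw [h7_extendByZero_mem H _ _ hmem]
        have h2 : (⟨x⁻¹ * ⁅a, b⁆ * x, hmem⟩ : H) = ⁅(⟨_, hax⟩ : H), (⟨_, hbx⟩ : H)⁆ := by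
          apply Subtype.ext
          show x⁻¹ * ⁅a, b⁆ * x = _
          rw [heq]
          simp [commutatorElement_def]
        rw [h2, commutatorElement_def, map_mul, map_mul, map_mul, map_inv, map_inv]
        have : lam ⟨_, hax⟩ * lam ⟨_, hbx⟩ * (lam ⟨_, hax⟩)⁻¹ * (lam ⟨_, hbx⟩)⁻¹ = 1 := by
          rw [mul_comm (lam ⟨_, hax⟩), mul_assoc (lam ⟨_, hbx⟩), mul_inv_cancel, mul_one, mul_inv_cancel]
        rw [this, Units.val_one]
      have h1 : (χ : G → ℂ) ⁅a, b⁆ = (H.index : ℂ) := by
        rw [hχ]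
        unfold Cfsg.indFun
        rw [Finset.sum_congr rfl (fun x _ => hterm x), Finset.sum_const, Finset.card_univ,
          nsmul_eq_mul, mul_one, ← Nat.card_eq_fintype_card, ← Subgroup.index_mul_card H]
        have hH : (Nat.card H : ℂ) ≠ 0 := by exact_mod_cast Nat.card_pos.ne'
        push_cast
        field_simp
      rw [h1, hidx, ← (charDegree_irr χ).1, h]
  rw [commutatorElement_def] at hc1
  calc a * b = (a * b * a⁻¹ * b⁻¹) * (b * a) := by group
    _ = b * a := by rw [hc1, one_mul]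

end Cfsg.Agent.Lib.helper2
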