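import Mathlib

set_option autoImplicit false

namespace Cfsg.Agent.Lib.helper2

section
variable {S M : Type*} [Group S] [Finite S] [CommGroup M] [Finite M] [MulDistribMulAction S M]

/-- the norm map of a subgroup acting on an abelian group -/
noncomputable def cd2Norm (U : Subgroup S) (ξ : M) : M :=
  haveI : Fintype U := Fintype.ofFinite U
  ∏ u : U, (u : S) • ξ

theorem cd2Norm_mul (U : Subgroup S) (a b : M) : cd2Norm U (a * b) = cd2Norm U a * cd2Norm U b := by
  unfold cd2Norm
  simp only [smul_mul']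
  exact Finset.prod_mul_distrib

theorem cd2Norm_one (U : Subgroup S) : cd2Norm U (1 : M) = 1 := by
  unfold cd2Norm
  simp

theorem cd2Norm_inv (U : Subgroup S) (a : M) : cd2Norm U a⁻¹ = (cd2Norm U a)⁻¹ := by
  have h := cd2Norm_mul U a a⁻¹
  rw [mul_inv_cancel, cd2Norm_one] at h
  exact (eq_inv_of_mul_eq_one_right h.symm)

theorem cd2Norm_smul (U : Subgroup S) [hU : U.Normal] (s : S) (ξ : M) :
    s • cd2Norm U ξ = cd2Norm U (s • ξ) := by
  classical
  unfold cd2Norm
  letI : Fintype U := Fintype.ofFinite U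
  show s • (∏ u : U, (u : S) • ξ) = ∏ u : U, (u : S) • s • ξ
  rw [Finset.smul_prod' (M := S) (N := M)]
  refine Fintype.prod_equiv (MulAut.conjNormal s : U ≃* U).toEquiv _ _ ?_
  intro u
  show s • (u : S) • ξ = (((MulAut.conjNormal s : MulAut U) u : U) : S) • s • ξ
  rw [MulAut.conjNormal_apply, smul_smul, smul_smul]
  congr 1
  group

theorem cd2Norm_fixed (U : Subgroup S) (ξ : M) (h : ∀ u ∈ U, u • ξ = ξ) :
    cd2Norm U ξ = ξ ^ Nat.card U := by
  unfold cd2Norm
  letI : Fintype U := Fintype.ofFinite U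
  show (∏ u : U, (u : S) • ξ) = ξ ^ Nat.card U
  rw [Finset.prod_congr rfl (fun (u : U) _ => h (u : S) u.2), Finset.prod_const, Finset.card_univ,
    Nat.card_eq_fintype_card]

theorem cd2Norm_smul_mem (U : Subgroup S) (u₀ : S) (hu₀ : u₀ ∈ U) (ξ : M) :
    u₀ • cd2Norm U ξ = cd2Norm U ξ := by
  classical
  unfold cd2Norm
  letI : Fintype U := Fintype.ofFinite U
  show u₀ • (∏ u : U, (u : S) • ξ) = ∏ u : U, (u : S) • ξ
  rw [Finset.smul_prod' (M := S) (N := M)]
  refine Fintype.prod_equiv (Equiv.mulLeft (⟨u₀, hu₀⟩ : U)) _ _ ?_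
  intro u
  show u₀ • (u : S) • ξ = (((⟨u₀, hu₀⟩ : U) * u : U) : S) • ξ
  rw [smul_smul]
  rfl

theorem cd2_pow_eq_one (k : ℕ) (hk : k.Coprime (Nat.card M)) (a : M) (h : a ^ k = 1) : a = 1 := by
  have h1 := orderOf_dvd_of_pow_eq_one h
  have h2 := orderOf_dvd_natCard a
  have h3 : orderOf a ∣ Nat.gcd k (Nat.card M) := Nat.dvd_gcd h1 h2
  rw [hk] at h3
  exact orderOf_eq_one_iff.mp (Nat.dvd_one.mp h3)

theorem cd2_pow_injective (k : ℕ) (hk : k.Coprime (Nat.card M)) :
    Function.Injective (fun a : M => a ^ k) := by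
  intro a b hab
  have h : (a * b⁻¹) ^ k = 1 := by
    rw [mul_pow, inv_pow]
    simp only at hab
    rw [hab, mul_inv_cancel]
  have := cd2_pow_eq_one k hk _ h
  exact mul_inv_eq_one.mp this

theorem cd2_stab_eq (hcop : (Nat.card S).Coprime (Nat.card M)) (m : ℕ)
    (hst : ∀ ξ : M, MulAction.stabilizer S ξ = ⊤ ∨
      ((MulAction.stabilizer S ξ).index = m ∧ (MulAction.stabilizer S ξ).Normal))
    (lam mu : M) (hlam : MulAction.stabilizer S lam ≠ ⊤) (hmu : MulAction.stabilizer S mu ≠ ⊤) :
    MulAction.stabilizer S lam = MulAction.stabilizer S mu := by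
  classical
  set U := MulAction.stabilizer S lam with hUdef
  obtain ⟨hUidx, hUn⟩ := (hst lam).resolve_left hlam
  obtain ⟨hVidx, -⟩ := (hst mu).resolve_left hmu
  haveI := hUn
  set k := Nat.card U with hk
  have hkcop : k.Coprime (Nat.card M) :=
    Nat.Coprime.coprime_dvd_left (Subgroup.card_subgroup_dvd_card U) hcop
  have hinj := cd2_pow_injective (M := M) k hkcop
  have hsurj : Function.Surjective (fun a : M => a ^ k) := Finite.surjective_of_injective hinj
  -- index-equal subgroups
  have heq_of_le : ∀ V : Subgroup S, V ≤ U → V.index = m → V = U := by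
    intro V hVU hV
    apply Subgroup.eq_of_le_of_card_ge hVU
    have h1 := Subgroup.index_mul_card V
    have h2 := Subgroup.index_mul_card U
    rw [hV] at h1
    rw [hUidx] at h2
    have hm0 : m ≠ 0 := by
      intro h0
      rw [h0, zero_mul] at h1
      exact Nat.card_pos.ne' h1.symm
    have : m * Nat.card V = m * Nat.card U := by rw [h1, h2]
    exact (Nat.eq_of_mul_eq_mul_left (Nat.pos_of_ne_zero hm0) this).ge
  have hlamfix : ∀ u ∈ U, u • lam = lam := fun u hu => hu
  -- mu0
  obtain ⟨mu0, hmu0⟩ := hsurj (cd2Norm U mu)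
  simp only at hmu0
  have hmu0fix : ∀ u ∈ U, u • mu0 = mu0 := by
    intro u hu
    apply hinj
    show (u • mu0) ^ k = mu0 ^ k
    rw [← smul_pow', hmu0, cd2Norm_smul_mem U u hu]
  set mu1 := mu * mu0⁻¹ with hmu1
  have hN1 : cd2Norm U mu1 = 1 := by
    rw [hmu1, cd2Norm_mul, cd2Norm_inv, cd2Norm_fixed U mu0 hmu0fix, hmu0, mul_inv_cancel]
  set nu := lam * mu1 with hnu
  have hstabnu : MulAction.stabilizer S nu ≤ U ⊓ MulAction.stabilizer S mu1 := by
    intro s hs
    have hs' : s • lam * s • mu1 = lam * mu1 := by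
      have : s • nu = nu := hs
      rw [hnu, smul_mul'] at this
      exact this
    set δ := s • lam * lam⁻¹ with hδ
    have hδ2 : δ = mu1 * (s • mu1)⁻¹ := by
      rw [hδ, mul_inv_eq_iff_eq_mul, mul_comm mu1, mul_assoc, eq_inv_mul_iff_mul_eq,
        mul_comm, hs', mul_comm]
    have hδfix : ∀ u ∈ U, u • δ = δ := by
      intro u hu
      rw [hδ, smul_mul', smul_inv', hlamfix u hu]
      congr 1
      have h2 : s⁻¹ * u * s ∈ U := by
        have := hUn.conj_mem u hu s⁻¹
        rw [inv_inv] at this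
        exact this
      have h3 : (s⁻¹ * u * s) • lam = lam := h2
      calc u • s • lam = s • (s⁻¹ * u * s) • lam := by
            rw [smul_smul, smul_smul]
            congr 1
            group
        _ = s • lam := by rw [h3]
    have h4 : cd2Norm U δ = δ ^ k := cd2Norm_fixed U δ hδfix
    have h5 : cd2Norm U δ = 1 := by
      rw [hδ2, cd2Norm_mul, cd2Norm_inv, ← cd2Norm_smul, hN1, smul_one, inv_one, mul_one]
    have hδ1 : δ = 1 := cd2_pow_eq_one k hkcop δ (h4 ▸ h5)
    refine ⟨?_, ?_⟩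
    · show s • lam = lam
      have := hδ1
      rw [hδ] at this
      exact mul_inv_eq_one.mp this
    · show s • mu1 = mu1
      have := hδ1
      rw [hδ2] at this
      exact (mul_inv_eq_one.mp this).symm
  have hnuU : MulAction.stabilizer S nu ≤ U := hstabnu.trans inf_le_left
  have hnutop : MulAction.stabilizer S nu ≠ ⊤ := by
    intro h
    apply hlam
    rw [h] at hnuU
    exact top_le_iff.mp hnuU
  obtain ⟨hnuidx, -⟩ := (hst nu).resolve_left hnutop
  have hnueq := heq_of_le _ hnuU hnuidx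
  have hUmu1 : U ≤ MulAction.stabilizer S mu1 := by
    rw [← hnueq]
    exact hstabnu.trans inf_le_right
  have hmu1fix : ∀ u ∈ U, u • mu1 = mu1 := fun u hu => hUmu1 hu
  have hmu1one : mu1 = 1 := by
    apply cd2_pow_eq_one k hkcop
    rw [← cd2Norm_fixed U mu1 hmu1fix, hN1]
  have hmumu0 : mu = mu0 := by
    have := hmu1one
    rw [hmu1] at this
    exact mul_inv_eq_one.mp this
  have hUmu : U ≤ MulAction.stabilizer S mu := by
    intro u hu
    show u • mu = mu
    rw [hmumu0]
    exact hmu0fix u hu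
  -- same index
  apply Subgroup.eq_of_le_of_card_ge hUmu
  have h1 := Subgroup.index_mul_card (MulAction.stabilizer S mu)
  have h2 := Subgroup.index_mul_card U
  rw [hVidx] at h1
  rw [hUidx] at h2
  have hm0 : m ≠ 0 := by
    intro h0
    rw [h0, zero_mul] at h1
    exact Nat.card_pos.ne' h1.symm
  have : m * Nat.card (MulAction.stabilizer S mu) = m * Nat.card U := by rw [h1, h2]
  exact (Nat.eq_of_mul_eq_mul_left (Nat.pos_of_ne_zero hm0) this).le

end

end Cfsg.Agent.Lib.helper2
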