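import Mathlib
import Cfsg.Prelude.Def_Characters
import Cfsg.Prelude.Def_Blocks
import Cfsg.Agent.Lib.helper2.Cd2A
import Cfsg.Agent.Lib.Helper25.CliffordCorr
import Cfsg.Agent.Lib.Helper25.ExtraspecialUnique
import Cfsg.Agent.Lib.helper7.CharMul
import Cfsg.Agent.Lib.helper2.Cd2C

set_option autoImplicit false
open scoped ComplexConjugate commutatorElement

namespace Cfsg.Agent.Lib.helper2

open Cfsg.Agent.Lib.helper7 Cfsg.Agent.Lib.Helper25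

section
variable {G : Type*} [Group G]

/-- stabilizer in `G` of a linear character of the normal subgroup `L` -/
def cd2T (L : Subgroup G) [hL : L.Normal] (ξ : L →* ℂˣ) : Subgroup G where
  carrier := {g | ∀ n : L, ξ ⟨g * n * g⁻¹, hL.conj_mem (n : G) n.2 g⟩ = ξ n}
  one_mem' := by
    intro n
    congr 1
    apply Subtype.ext
    simp
  mul_mem' := by
    intro a b ha hb n
    have h1 := hb n
    have h2 := ha ⟨b * n * b⁻¹, hL.conj_mem (n : G) n.2 b⟩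
    rw [← h1, ← h2]
    congr 1
    apply Subtype.ext
    simp [mul_assoc]
  inv_mem' := by
    intro a ha n
    have h2 := ha ⟨a⁻¹ * n * a⁻¹⁻¹, hL.conj_mem (n : G) n.2 a⁻¹⟩
    rw [← h2]
    congr 1
    apply Subtype.ext
    simp [mul_assoc]

theorem mem_cd2T (L : Subgroup G) [hL : L.Normal] (ξ : L →* ℂˣ) (g : G) :
    g ∈ cd2T L ξ ↔ ∀ n : L, ξ ⟨g * n * g⁻¹, hL.conj_mem (n : G) n.2 g⟩ = ξ n := Iff.rfl

theorem le_cd2T (L : Subgroup G) [hL : L.Normal] (ξ : L →* ℂˣ) : L ≤ cd2T L ξ := by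
  intro g hg n
  have : (⟨g * n * g⁻¹, hL.conj_mem (n : G) n.2 g⟩ : L) = ⟨g, hg⟩ * n * ⟨g, hg⟩⁻¹ := by
    apply Subtype.ext
    simp
  rw [this, map_mul, map_mul, map_inv, mul_comm, ← mul_assoc, inv_mul_cancel, one_mul]

/-- the retraction onto a complement of a normal subgroup -/
noncomputable def cd2R {L S : Subgroup G} [L.Normal] (hc : S.IsComplement' L) : G →* S :=
  hc.QuotientMulEquiv.toMonoidHom.comp (QuotientGroup.mk' L)

theorem cd2R_mem {L S : Subgroup G} [L.Normal] (hc : S.IsComplement' L) (g : G) :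
    g * ((cd2R hc g : S) : G)⁻¹ ∈ L := by
  have h1 : ((cd2R hc g : S) : G ⧸ L) = (g : G ⧸ L) := by
    unfold cd2R
    simp only [MonoidHom.coe_comp, Function.comp_apply, QuotientGroup.mk'_apply]
    exact hc.quotientGroupMk_leftQuotientEquiv (g : G ⧸ L)
  have h2 : ((g * ((cd2R hc g : S) : G)⁻¹ : G) : G ⧸ L) = 1 := by
    rw [QuotientGroup.mk_mul, QuotientGroup.mk_inv, h1, mul_inv_cancel]
  exact (QuotientGroup.eq_one_iff _).mp h2

theorem cd2R_of_mem {L S : Subgroup G} [L.Normal] (hc : S.IsComplement' L) (l : G) (hl : l ∈ L) :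
    cd2R hc l = 1 := by
  unfold cd2R
  simp only [MonoidHom.coe_comp, Function.comp_apply, QuotientGroup.mk'_apply]
  rw [(QuotientGroup.eq_one_iff l).mpr hl, map_one]

theorem cd2R_surj {L S : Subgroup G} [L.Normal] (hc : S.IsComplement' L) :
    Function.Surjective (cd2R hc) := by
  unfold cd2R
  exact hc.QuotientMulEquiv.surjective.comp (QuotientGroup.mk'_surjective L)

theorem cd2R_self {L S : Subgroup G} [L.Normal] (hc : S.IsComplement' L) (s : S) :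
    cd2R hc (s : G) = s := by
  have h1 := cd2R_mem hc (s : G)
  have h2 : (s : G) * ((cd2R hc (s : G) : S) : G)⁻¹ ∈ S := S.mul_mem s.2 (S.inv_mem (cd2R hc (s : G)).2)
  have h3 : (s : G) * ((cd2R hc (s : G) : S) : G)⁻¹ ∈ S ⊓ L := ⟨h2, h1⟩
  rw [hc.disjoint.eq_bot, Subgroup.mem_bot] at h3
  apply Subtype.ext
  have := mul_inv_eq_one.mp h3
  exact this.symm

theorem cd2R_mem_cd2T {L S : Subgroup G} [hL : L.Normal] (hc : S.IsComplement' L) (ξ : L →* ℂˣ)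
    (t : G) (ht : t ∈ cd2T L ξ) : ((cd2R hc t : S) : G) ∈ cd2T L ξ := by
  have h1 : (t * ((cd2R hc t : S) : G)⁻¹)⁻¹ ∈ cd2T L ξ :=
    (cd2T L ξ).inv_mem (le_cd2T L ξ (cd2R_mem hc t))
  have h2 := (cd2T L ξ).mul_mem h1 ht
  have h3 : (t * ((cd2R hc t : S) : G)⁻¹)⁻¹ * t = ((cd2R hc t : S) : G) := by group
  rw [h3] at h2
  exact h2

/-- the canonical extension of a linear character of `L` to its stabilizer -/
noncomputable def cd2Ext {L S : Subgroup G} [hL : L.Normal] (hc : S.IsComplement' L)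
    (ξ : L →* ℂˣ) : cd2T L ξ →* ℂˣ where
  toFun t := ξ ⟨(t : G) * ((cd2R hc (t : G) : S) : G)⁻¹, cd2R_mem hc t⟩
  map_one' := by
    have : (⟨((1 : cd2T L ξ) : G) * ((cd2R hc ((1 : cd2T L ξ) : G) : S) : G)⁻¹,
        cd2R_mem hc _⟩ : L) = 1 := by
      apply Subtype.ext
      simp
    rw [this, map_one]
  map_mul' := by
    intro t₁ t₂
    have hr := cd2R_mem_cd2T hc ξ t₁ t₁.2
    have h1 := hr ⟨(t₂ : G) * ((cd2R hc (t₂ : G) : S) : G)⁻¹, cd2R_mem hc t₂⟩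
    rw [← h1, ← map_mul]
    congr 1
    apply Subtype.ext
    simp only [Subgroup.coe_mul, map_mul, mul_inv_rev]
    group

theorem cd2Ext_apply {L S : Subgroup G} [hL : L.Normal] (hc : S.IsComplement' L)
    (ξ : L →* ℂˣ) (t : cd2T L ξ) :
    cd2Ext hc ξ t = ξ ⟨(t : G) * ((cd2R hc (t : G) : S) : G)⁻¹, cd2R_mem hc t⟩ := rfl

theorem cd2Ext_of_mem {L S : Subgroup G} [hL : L.Normal] (hc : S.IsComplement' L)
    (ξ : L →* ℂˣ) (l : L) :
    cd2Ext hc ξ ⟨(l : G), le_cd2T L ξ l.2⟩ = ξ l := by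
  rw [cd2Ext_apply]
  congr 1
  apply Subtype.ext
  simp [cd2R_of_mem hc (l : G) l.2]

/-- characters of the stabilizer trivial on `L` give irreducible characters of `G` of degree
`index * β 1` -/
theorem cd2_ind_degree [Finite G] {L S : Subgroup G} [hL : L.Normal] (hc : S.IsComplement' L)
    (ξ : L →* ℂˣ) (β : Cfsg.IrrCharacter (cd2T L ξ))
    (hβ : ∀ l : L, (β : cd2T L ξ → ℂ) ⟨(l : G), le_cd2T L ξ l.2⟩ = (β : cd2T L ξ → ℂ) 1) :
    ∃ χ : Cfsg.IrrCharacter G,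
      (χ : G → ℂ) 1 = ((cd2T L ξ).index : ℂ) * (β : cd2T L ξ → ℂ) 1 := by
  classical
  haveI : Fintype G := Fintype.ofFinite G
  haveI : Fintype L := Fintype.ofFinite L
  haveI : Fintype (cd2T L ξ) := Fintype.ofFinite _
  have hNT : L ≤ (cd2T L ξ) := le_cd2T L ξ
  set ψ : Cfsg.IrrCharacter (cd2T L ξ) := linIrr (cd2Ext hc ξ) with hψdef
  set θ : Cfsg.IrrCharacter L := linIrr ξ with hθdef
  have hψ1 : (ψ : (cd2T L ξ) → ℂ) 1 = 1 := by
    rw [hψdef, linIrr_apply, map_one, Units.val_one]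
  -- the product character
  have hPchar : Cfsg.IsCharacter (cd2T L ξ) ((ψ : (cd2T L ξ) → ℂ) * (β : (cd2T L ξ) → ℂ)) :=
    h7_isCharacter_mul (h7_irr_isCharacter ψ.2) (h7_irr_isCharacter β.2)
  have hPnorm : Cfsg.classInner ((ψ : (cd2T L ξ) → ℂ) * (β : (cd2T L ξ) → ℂ)) ((ψ : (cd2T L ξ) → ℂ) * (β : (cd2T L ξ) → ℂ)) = 1 := by
    have hb := h7_irr_norm β.2
    unfold Cfsg.classInner at hb ⊢
    rw [← hb]
    congr 1
    refine Finset.sum_congr rfl fun t _ => ?_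
    simp only [Pi.mul_apply, map_mul]
    have := irr_linear_mul_conj ψ hψ1 t
    calc (ψ : (cd2T L ξ) → ℂ) t * (β : (cd2T L ξ) → ℂ) t * (conj ((ψ : (cd2T L ξ) → ℂ) t) * conj ((β : (cd2T L ξ) → ℂ) t))
        = ((ψ : (cd2T L ξ) → ℂ) t * conj ((ψ : (cd2T L ξ) → ℂ) t)) * ((β : (cd2T L ξ) → ℂ) t * conj ((β : (cd2T L ξ) → ℂ) t)) := by ring
      _ = (β : (cd2T L ξ) → ℂ) t * conj ((β : (cd2T L ξ) → ℂ) t) := by rw [this, one_mul]
  set Ψ : Cfsg.IrrCharacter (cd2T L ξ) := ⟨(ψ : (cd2T L ξ) → ℂ) * (β : (cd2T L ξ) → ℂ), h7_irr_of_norm_one hPchar hPnorm⟩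
    with hΨdef
  have hT : ∀ g : G, g ∈ (cd2T L ξ) ↔ ∀ n n' : L, (n' : G) = g * (n : G) * g⁻¹ →
      (θ : L → ℂ) n' = (θ : L → ℂ) n := by
    intro g
    rw [mem_cd2T]
    constructor
    · intro h n n' hn'
      have h1 := h n
      have h2 : n' = ⟨g * n * g⁻¹, hL.conj_mem (n : G) n.2 g⟩ := Subtype.ext hn'
      rw [hθdef, linIrr_apply, linIrr_apply, h2, h1]
    · intro h n
      have h1 := h n ⟨g * n * g⁻¹, hL.conj_mem (n : G) n.2 g⟩ rfl
      rw [hθdef, linIrr_apply, linIrr_apply] at h1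
      exact Units.ext h1
  have hres : (fun n : L => (Ψ : (cd2T L ξ) → ℂ) ⟨(n : G), hNT n.2⟩) =
      ((β : (cd2T L ξ) → ℂ) 1) • (θ : L → ℂ) := by
    funext n
    show (ψ : (cd2T L ξ) → ℂ) ⟨(n : G), hNT n.2⟩ * (β : (cd2T L ξ) → ℂ) ⟨(n : G), hNT n.2⟩ = _
    rw [hβ n, hψdef, linIrr_apply, cd2Ext_of_mem, Pi.smul_apply, smul_eq_mul, hθdef, linIrr_apply,
      mul_comm]
  have hcon : Cfsg.classInner (fun n : L => (Ψ : (cd2T L ξ) → ℂ) ⟨(n : G), hNT n.2⟩) (θ : L → ℂ) ≠ 0 := by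
    rw [hres, classInner_smul_left, h7_irr_norm θ.2, mul_one]
    exact irr_one_ne_zero β
  obtain ⟨hirr, -⟩ := cc_ind_irr L (cd2T L ξ) hNT θ hT Ψ hcon
  refine ⟨⟨_, hirr⟩, ?_⟩
  show Cfsg.indFun (cd2T L ξ) (Ψ : (cd2T L ξ) → ℂ) 1 = _
  rw [h7_indFun_one]
  show ((cd2T L ξ).index : ℂ) * ((ψ : (cd2T L ξ) → ℂ) 1 * (β : (cd2T L ξ) → ℂ) 1) = _
  rw [hψ1, one_mul]

theorem cd2_deg_eq [Finite G] {L S : Subgroup G} [hL : L.Normal] (hc : S.IsComplement' L)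
    (ξ : L →* ℂˣ) (β : Cfsg.IrrCharacter (cd2T L ξ))
    (hβ : ∀ l : L, (β : cd2T L ξ → ℂ) ⟨(l : G), le_cd2T L ξ l.2⟩ = (β : cd2T L ξ → ℂ) 1) :
    ∃ χ : Cfsg.IrrCharacter G, Cfsg.charDegree (χ : G → ℂ) =
      (cd2T L ξ).index * Cfsg.charDegree (β : cd2T L ξ → ℂ) := by
  obtain ⟨χ, hχ⟩ := cd2_ind_degree hc ξ β hβ
  refine ⟨χ, ?_⟩
  rw [← (charDegree_irr χ).1, ← (charDegree_irr β).1] at hχ
  exact_mod_cast hχ

theorem cd2_index_cases [Finite G] {L S : Subgroup G} [hL : L.Normal] (hc : S.IsComplement' L)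
    (ξ : L →* ℂˣ) (m : ℕ)
    (hcd : ∀ χ : Cfsg.IrrCharacter G, Cfsg.charDegree (χ : G → ℂ) = 1 ∨
      Cfsg.charDegree (χ : G → ℂ) = m) :
    (cd2T L ξ).index = 1 ∨ (cd2T L ξ).index = m := by
  obtain ⟨χ, hχ⟩ := cd2_deg_eq hc ξ (trivIrr _) (fun l => by simp)
  have h1 : Cfsg.charDegree ((trivIrr (cd2T L ξ) : Cfsg.IrrCharacter _) : cd2T L ξ → ℂ) = 1 := by
    have := (charDegree_irr (trivIrr (cd2T L ξ))).1
    rw [trivIrr_apply] at this
    exact_mod_cast this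
  rw [h1, mul_one] at hχ
  rw [← hχ]
  exact hcd χ

theorem cd2_beta_linear [Finite G] {L S : Subgroup G} [hL : L.Normal] (hc : S.IsComplement' L)
    (ξ : L →* ℂˣ) (m : ℕ)
    (hcd : ∀ χ : Cfsg.IrrCharacter G, Cfsg.charDegree (χ : G → ℂ) = 1 ∨
      Cfsg.charDegree (χ : G → ℂ) = m) (hm1 : m ≠ 1) (hidx : (cd2T L ξ).index = m)
    (β : Cfsg.IrrCharacter (cd2T L ξ))
    (hβ : ∀ l : L, (β : cd2T L ξ → ℂ) ⟨(l : G), le_cd2T L ξ l.2⟩ = (β : cd2T L ξ → ℂ) 1) :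
    (β : cd2T L ξ → ℂ) 1 = 1 := by
  obtain ⟨χ, hχ⟩ := cd2_deg_eq hc ξ β hβ
  rw [hidx] at hχ
  have hm0 : m ≠ 0 := by
    rw [← hidx]
    exact Subgroup.index_ne_zero_of_finite
  have hd : Cfsg.charDegree (β : cd2T L ξ → ℂ) = 1 := by
    rcases hcd χ with h | h
    · rw [h] at hχ
      have := Nat.eq_one_of_mul_eq_one_right hχ.symm
      exact absurd this hm1
    · rw [h] at hχ
      have h2 : m * 1 = m * Cfsg.charDegree (β : cd2T L ξ → ℂ) := by rw [mul_one]; exact hχ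
      exact (Nat.eq_of_mul_eq_mul_left (Nat.pos_of_ne_zero hm0) h2).symm
  rw [← (charDegree_irr β).1, hd]
  simp

theorem cd2_T_comm [Finite G] {L S : Subgroup G} [hL : L.Normal] (hc : S.IsComplement' L)
    (ξ : L →* ℂˣ) (m : ℕ)
    (hcd : ∀ χ : Cfsg.IrrCharacter G, Cfsg.charDegree (χ : G → ℂ) = 1 ∨
      Cfsg.charDegree (χ : G → ℂ) = m) (hm1 : m ≠ 1) (hidx : (cd2T L ξ).index = m)
    (a b : G) (ha : a ∈ cd2T L ξ) (hb : b ∈ cd2T L ξ) : (b * a)⁻¹ * (a * b) ∈ L := by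
  classical
  haveI : (L.subgroupOf (cd2T L ξ)).Normal := Subgroup.normal_subgroupOf
  have hsurj := QuotientGroup.mk'_surjective (L.subgroupOf (cd2T L ξ))
  have hlin : ∀ α : Cfsg.IrrCharacter ((cd2T L ξ) ⧸ L.subgroupOf (cd2T L ξ)),
      (α : ((cd2T L ξ) ⧸ L.subgroupOf (cd2T L ξ)) → ℂ) 1 = 1 := by
    intro α
    have h1 := cd2_beta_linear hc ξ m hcd hm1 hidx
      (xs_infl (QuotientGroup.mk' (L.subgroupOf (cd2T L ξ))) hsurj α) (by
        intro l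
        rw [xs_infl_apply, xs_infl_apply]
        have : (QuotientGroup.mk' (L.subgroupOf (cd2T L ξ)))
            (⟨(l : G), le_cd2T L ξ l.2⟩ : cd2T L ξ) = 1 := by
          rw [QuotientGroup.mk'_apply, QuotientGroup.eq_one_iff]
          exact l.2
        rw [this, map_one])
    rw [xs_infl_apply, map_one] at h1
    exact h1
  have hcomm := xs_comm_of_all_linear hlin
  have h2 := hcomm ((⟨a, ha⟩ : cd2T L ξ) : (cd2T L ξ) ⧸ L.subgroupOf (cd2T L ξ))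
    ((⟨b, hb⟩ : cd2T L ξ) : (cd2T L ξ) ⧸ L.subgroupOf (cd2T L ξ))
  rw [← QuotientGroup.mk_mul, ← QuotientGroup.mk_mul] at h2
  have h3 := QuotientGroup.eq.mp h2.symm
  exact h3

theorem cd2_T_normal [Finite G] {L : Subgroup G} [hL : L.Normal]
    (ξ : L →* ℂˣ) (m : ℕ)
    (hcd : ∀ χ : Cfsg.IrrCharacter G, Cfsg.charDegree (χ : G → ℂ) = 1 ∨
      Cfsg.charDegree (χ : G → ℂ) = m) (hm1 : m ≠ 1) (hidx : (cd2T L ξ).index = m) :
    (cd2T L ξ).Normal := by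
  have hle := cd2_comm_le_of_index (cd2T L ξ) m hcd hm1 hidx
  constructor
  intro t ht g
  have h1 : g * t * g⁻¹ = ⁅g, t⁆ * t := by
    rw [commutatorElement_def]; group
  rw [h1]
  apply (cd2T L ξ).mul_mem _ ht
  apply hle
  rw [commutator_def]
  exact Subgroup.commutator_mem_commutator (Subgroup.mem_top _) (Subgroup.mem_top _)

end
end Cfsg.Agent.Lib.helper2
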