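import Mathlib
import Cfsg.Prelude.Def_Characters
import Cfsg.Prelude.Def_Blocks
import Cfsg.Agent.Lib.helper2.Cd2A
import Cfsg.Agent.Lib.helper2.Cd2B

set_option autoImplicit false
open scoped ComplexConjugate

namespace Cfsg.Agent.Lib.helper2

open Cfsg.Agent.Lib.helper7 Cfsg.Agent.Lib.Helper25

section
variable {G : Type*} [Group G]

/-- the contragredient action of a subgroup `S` on the linear characters of a normal subgroup -/
@[instance_reducible]
noncomputable def cd2Action (L S : Subgroup G) [hL : L.Normal] :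
    MulDistribMulAction S (L →* ℂˣ) where
  smul s ξ := ξ.comp (MulAut.conjNormal ((s : G)⁻¹) : L ≃* L).toMonoidHom
  one_smul := by
    intro ξ
    ext l
    show ((ξ ((MulAut.conjNormal (((1 : S) : G)⁻¹) : L ≃* L) l) : ℂˣ) : ℂ) = ξ l
    congr 2
    apply Subtype.ext
    simp
  mul_smul := by
    intro s t ξ
    ext l
    show ((ξ ((MulAut.conjNormal (((s * t : S) : G)⁻¹) : L ≃* L) l) : ℂˣ) : ℂ) =
      ξ ((MulAut.conjNormal ((t : G)⁻¹) : L ≃* L) ((MulAut.conjNormal ((s : G)⁻¹) : L ≃* L) l))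
    congr 2
    apply Subtype.ext
    simp [mul_assoc]
  smul_mul := by
    intro s ξ η
    ext l
    rfl
  smul_one := by
    intro s
    ext l
    rfl

theorem cd2Action_smul_apply (L S : Subgroup G) [hL : L.Normal] (s : S) (ξ : L →* ℂˣ) (l : L) :
    (letI := cd2Action L S; (s • ξ) l) =
      ξ ⟨(s : G)⁻¹ * l * (s : G), by
        have := hL.conj_mem (l : G) l.2 (s : G)⁻¹
        rwa [inv_inv] at this⟩ := by
  show ξ ((MulAut.conjNormal ((s : G)⁻¹) : L ≃* L) l) = _
  congr 1
  apply Subtype.ext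
  simp

theorem cd2_stab_eq_subgroupOf (L S : Subgroup G) [hL : L.Normal] (ξ : L →* ℂˣ) :
    (letI := cd2Action L S; MulAction.stabilizer S ξ) = (cd2T L ξ).subgroupOf S := by
  letI := cd2Action L S
  ext s
  rw [MulAction.mem_stabilizer_iff, Subgroup.mem_subgroupOf]
  constructor
  · intro h
    have h1 : (s : G)⁻¹ ∈ cd2T L ξ := by
      intro n
      have h2 := DFunLike.congr_fun h n
      rw [cd2Action_smul_apply] at h2
      rw [← h2]
      congr 1
      apply Subtype.ext
      simp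
    have := (cd2T L ξ).inv_mem h1
    rwa [inv_inv] at this
  · intro h
    have h1 : (s : G)⁻¹ ∈ cd2T L ξ := (cd2T L ξ).inv_mem h
    ext n
    rw [cd2Action_smul_apply]
    have h2 := h1 n
    rw [← h2]
    have h3 : (⟨(s : G)⁻¹ * n * (s : G), by
        have := hL.conj_mem (n : G) n.2 (s : G)⁻¹
        rwa [inv_inv] at this⟩ : L) = ⟨(s : G)⁻¹ * n * (s : G)⁻¹⁻¹, hL.conj_mem (n : G) n.2 (s : G)⁻¹⟩ := by
      apply Subtype.ext
      simp
    rw [h3]

theorem cd2_comap_eq {L S : Subgroup G} [hL : L.Normal] (hc : S.IsComplement' L) (ξ : L →* ℂˣ) :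
    ((cd2T L ξ).subgroupOf S).comap (cd2R hc) = cd2T L ξ := by
  ext g
  rw [Subgroup.mem_comap, Subgroup.mem_subgroupOf]
  constructor
  · intro h
    have h1 := le_cd2T L ξ (cd2R_mem hc g)
    have h2 := (cd2T L ξ).mul_mem h1 h
    have h3 : g * ((cd2R hc g : S) : G)⁻¹ * ((cd2R hc g : S) : G) = g := by group
    rwa [h3] at h2
  · intro h
    exact cd2R_mem_cd2T hc ξ g h

theorem cd2_index_subgroupOf {L S : Subgroup G} [hL : L.Normal] (hc : S.IsComplement' L)
    (ξ : L →* ℂˣ) : ((cd2T L ξ).subgroupOf S).index = (cd2T L ξ).index := by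
  conv_rhs => rw [← cd2_comap_eq hc ξ]
  exact (Subgroup.index_comap_of_surjective _ (cd2R_surj hc)).symm

theorem cd2_main [Finite G] {L S : Subgroup G} [hL : L.Normal] (hc : S.IsComplement' L)
    (hLab : ∀ a ∈ L, ∀ b ∈ L, a * b = b * a)
    (hcop : (Nat.card S).Coprime (Nat.card L)) (m : ℕ)
    (hcd : ∀ χ : Cfsg.IrrCharacter G, Cfsg.charDegree (χ : G → ℂ) = 1 ∨
      Cfsg.charDegree (χ : G → ℂ) = m) (hm1 : m ≠ 1) :
    (∀ s ∈ S, ∀ l ∈ L, s * l = l * s) ∨
      ∃ A : Subgroup G, A.Normal ∧ (∀ a ∈ A, ∀ b ∈ A, a * b = b * a) ∧ A.index = m := by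
  classical
  letI : CommGroup L :=
    { (inferInstance : Group L) with mul_comm := fun a b => Subtype.ext (hLab a a.2 b b.2) }
  letI := cd2Action L S
  have hcardM : Nat.card (L →* ℂˣ) = Nat.card L :=
    CommGroup.card_monoidHom_of_hasEnoughRootsOfUnity L ℂ
  haveI : Finite (L →* ℂˣ) :=
    Nat.finite_of_card_ne_zero (by rw [hcardM]; exact Nat.card_pos.ne')
  -- an element of `S` fixing all linear characters centralizes `L`
  have hsep : ∀ s : S, (∀ ξ : L →* ℂˣ, s • ξ = ξ) → ∀ l ∈ L, (s : G) * l = l * s := by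
    intro s hs l hl
    have h1 : ∀ ξ : L →* ℂˣ, ξ ⟨(s : G)⁻¹ * l * (s : G), by
        have := hL.conj_mem l hl (s : G)⁻¹
        rwa [inv_inv] at this⟩ = ξ ⟨l, hl⟩ := by
      intro ξ
      have h2 := DFunLike.congr_fun (hs ξ) ⟨l, hl⟩
      rw [cd2Action_smul_apply] at h2
      exact h2
    have h3 := (CommGroup.forall_apply_eq_apply_iff (G := L) (M := ℂ)).mp h1
    have h4 := congrArg Subtype.val h3
    simp only at h4
    calc (s : G) * l = (s : G) * ((s : G)⁻¹ * l * (s : G)) := by rw [h4]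
      _ = l * s := by group
  have hstabT : ∀ ξ : L →* ℂˣ, MulAction.stabilizer S ξ = (cd2T L ξ).subgroupOf S :=
    fun ξ => cd2_stab_eq_subgroupOf L S ξ
  by_cases hall : ∀ ξ : L →* ℂˣ, MulAction.stabilizer S ξ = ⊤
  · left
    intro s hs l hl
    apply hsep ⟨s, hs⟩ _ l hl
    intro ξ
    have : (⟨s, hs⟩ : S) ∈ MulAction.stabilizer S ξ := by rw [hall ξ]; exact Subgroup.mem_top _
    exact this
  · right
    push Not at hall
    obtain ⟨ξ₀, hξ₀⟩ := hall
    have hst : ∀ ξ : L →* ℂˣ, MulAction.stabilizer S ξ = ⊤ ∨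
        ((MulAction.stabilizer S ξ).index = m ∧ (MulAction.stabilizer S ξ).Normal) := by
      intro ξ
      rcases cd2_index_cases hc ξ m hcd with h | h
      · left
        rw [hstabT ξ, Subgroup.index_eq_one.mp h]
        exact Subgroup.top_subgroupOf S
      · right
        rw [hstabT ξ]
        refine ⟨by rw [cd2_index_subgroupOf hc ξ, h], ?_⟩
        haveI := cd2_T_normal ξ m hcd hm1 h
        exact Subgroup.normal_subgroupOf
    have hcop' : (Nat.card S).Coprime (Nat.card (L →* ℂˣ)) := by rw [hcardM]; exact hcop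
    have key : ∀ μ : L →* ℂˣ, MulAction.stabilizer S μ ≠ ⊤ →
        MulAction.stabilizer S ξ₀ = MulAction.stabilizer S μ :=
      fun μ hμ => cd2_stab_eq hcop' m hst ξ₀ μ hξ₀ hμ
    have hidx : (cd2T L ξ₀).index = m := by
      rcases cd2_index_cases hc ξ₀ m hcd with h | h
      · exfalso
        apply hξ₀
        rw [hstabT ξ₀, Subgroup.index_eq_one.mp h]
        exact Subgroup.top_subgroupOf S
      · exact h
    -- elements of `T ∩ S` centralize `L`
    have hcent : ∀ u : G, u ∈ S → u ∈ cd2T L ξ₀ → ∀ l ∈ L, u * l = l * u := by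
      intro u huS huT l hl
      apply hsep ⟨u, huS⟩ _ l hl
      intro ξ
      by_cases hξ : MulAction.stabilizer S ξ = ⊤
      · have : (⟨u, huS⟩ : S) ∈ MulAction.stabilizer S ξ := by rw [hξ]; exact Subgroup.mem_top _
        exact this
      · have : (⟨u, huS⟩ : S) ∈ MulAction.stabilizer S ξ := by
          rw [← key ξ hξ, hstabT ξ₀, Subgroup.mem_subgroupOf]
          exact huT
        exact this
    have hUab : ∀ u v : G, u ∈ S → u ∈ cd2T L ξ₀ → v ∈ S → v ∈ cd2T L ξ₀ → u * v = v * u := by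
      intro u v huS huT hvS hvT
      have h1 := cd2_T_comm hc ξ₀ m hcd hm1 hidx u v huT hvT
      have h2 : (v * u)⁻¹ * (u * v) ∈ S := S.mul_mem (S.inv_mem (S.mul_mem hvS huS)) (S.mul_mem huS hvS)
      have h3 : (v * u)⁻¹ * (u * v) ∈ S ⊓ L := ⟨h2, h1⟩
      rw [hc.disjoint.eq_bot, Subgroup.mem_bot] at h3
      exact (inv_mul_eq_one.mp h3).symm
    refine ⟨cd2T L ξ₀, cd2_T_normal ξ₀ m hcd hm1 hidx, ?_, hidx⟩
    intro a ha b hb
    -- decompose
    set la := a * ((cd2R hc a : S) : G)⁻¹ with hla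
    set ua := ((cd2R hc a : S) : G) with hua
    set lb := b * ((cd2R hc b : S) : G)⁻¹ with hlb
    set ub := ((cd2R hc b : S) : G) with hub
    have hlaL : la ∈ L := cd2R_mem hc a
    have hlbL : lb ∈ L := cd2R_mem hc b
    have huaS : ua ∈ S := (cd2R hc a).2
    have hubS : ub ∈ S := (cd2R hc b).2
    have huaT : ua ∈ cd2T L ξ₀ := cd2R_mem_cd2T hc ξ₀ a ha
    have hubT : ub ∈ cd2T L ξ₀ := cd2R_mem_cd2T hc ξ₀ b hb
    have ha' : a = la * ua := by rw [hla, hua]; group
    have hb' : b = lb * ub := by rw [hlb, hub]; group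
    have e1 : ua * lb = lb * ua := hcent ua huaS huaT lb hlbL
    have e2 : ub * la = la * ub := hcent ub hubS hubT la hlaL
    have e3 : la * lb = lb * la := hLab la hlaL lb hlbL
    have e4 : ua * ub = ub * ua := hUab ua ub huaS huaT hubS hubT
    rw [ha', hb']
    calc la * ua * (lb * ub) = la * (ua * lb) * ub := by group
      _ = la * (lb * ua) * ub := by rw [e1]
      _ = (la * lb) * (ua * ub) := by group
      _ = (lb * la) * (ub * ua) := by rw [e3, e4]
      _ = lb * (la * ub) * ua := by group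
      _ = lb * (ub * la) * ua := by rw [e2]
      _ = lb * ub * (la * ua) := by group

end
end Cfsg.Agent.Lib.helper2
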