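import Mathlib
import Cfsg.Agent.Lib.Helper19.G2V.Defs
import Cfsg.Agent.Lib.Helper19.G2VComm
import Cfsg.Agent.Lib.Helper19.G2VJ4W
import Cfsg.Agent.S1030
import Cfsg.Agent.S1032

/-!
# Project G2V (S2461), row J2 core (helper2): `ident_j2` with the statement of N5 (`X 5 t ∈ Qm`) as a
hypothesis.  Route: commutator formulas `g2vc_c_5_8`, `g2vc_c_7_8`, `g2vc_c_7_6` (helper19), the rank one
identity `X 6 s * X 5 r = X 5 (r/D) * hb D * X 6 (s/D)` through S1030 for the root `6`, and S1032 for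
`hb D * X 7 t = X 7 (D⁻¹ t) * hb D`.
-/

set_option autoImplicit false

namespace Cfsg.Agent.Lib.Helper19.G2V

open Cfsg.Lie Cfsg.Lie.ChevalleyDatum Matrix
open Cfsg.Agent.Lib.helper8
open Cfsg.Agent.Lib.helper23.P4V

universe u

variable {F : Type u} [Field F]

/-- the homomorphism `SL₂(F) → ⟨X₆, X₅⟩` of S1030 -/
noncomputable def g2vj2_phiB : Matrix.SpecialLinearGroup (Fin 2) F →* GG F :=
  Classical.choose (Cfsg.Agent.S1030.result (F := F) chevG2 (by simp) 6 (by decide))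

theorem g2vj2_phiB_upper (g : Matrix.SpecialLinearGroup (Fin 2) F) (t : F)
    (hg : (g : Matrix (Fin 2) (Fin 2) F) = !![1, t; 0, 1]) : g2vj2_phiB g = X 6 t := by
  apply Units.ext
  exact ((Classical.choose_spec
    (Cfsg.Agent.S1030.result (F := F) chevG2 (by simp) 6 (by decide))).2 g t).1 hg

theorem g2vj2_phiB_lower (g : Matrix.SpecialLinearGroup (Fin 2) F) (t : F)
    (hg : (g : Matrix (Fin 2) (Fin 2) F) = !![1, 0; t, 1]) : g2vj2_phiB g = X 5 t := by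
  apply Units.ext
  have h := ((Classical.choose_spec
    (Cfsg.Agent.S1030.result (F := F) chevG2 (by simp) 6 (by decide))).2 g t).2 hg
  have hneg : chevG2.neg 6 = 5 := by decide
  exact h.trans (congrArg (fun k => chevG2.x F k t) hneg)

/-- upper transvection in `SL₂` -/
def g2vj2_U (t : F) : Matrix.SpecialLinearGroup (Fin 2) F :=
  ⟨!![1, t; 0, 1], by simp [Matrix.det_fin_two_of]⟩

/-- lower transvection in `SL₂` -/
def g2vj2_L (t : F) : Matrix.SpecialLinearGroup (Fin 2) F :=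
  ⟨!![1, 0; t, 1], by simp [Matrix.det_fin_two_of]⟩

theorem g2vj2_coe_U (t : F) :
    ((g2vj2_U t : Matrix.SpecialLinearGroup (Fin 2) F) : Matrix (Fin 2) (Fin 2) F) = !![1, t; 0, 1] := rfl

theorem g2vj2_coe_L (t : F) :
    ((g2vj2_L t : Matrix.SpecialLinearGroup (Fin 2) F) : Matrix (Fin 2) (Fin 2) F) = !![1, 0; t, 1] := rfl

theorem g2vj2_phiB_U (t : F) : g2vj2_phiB (g2vj2_U t) = X 6 t := g2vj2_phiB_upper _ t rfl

theorem g2vj2_phiB_L (t : F) : g2vj2_phiB (g2vj2_L t) = X 5 t := g2vj2_phiB_lower _ t rfl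

/-- `hb c` as a word in `X 6`, `X 5` -/
theorem g2vj2_hb_eq (c : F) :
    (hb c : GG F) = X 6 c * (X 5 (-c⁻¹) * (X 6 c * (X 6 (-1) * (X 5 (-(-1 : F)⁻¹) * X 6 (-1))))) := by
  have hneg : chevG2.neg 6 = 5 := by decide
  unfold hb h8hU
  simp only [ChevalleyDatum.hWord, ChevalleyDatum.nWord, List.cons_append, List.nil_append,
    g2vc_word_cons, g2vc_word_nil, mul_one, hneg]

theorem g2vj2_mk_eq {a b c d a' b' c' d' : F} (h1 : a = a') (h2 : b = b') (h3 : c = c')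
    (h4 : d = d') : !![a, b; c, d] = !![a', b'; c', d'] := by
  subst h1 h2 h3 h4
  rfl

/-- the rank one identity in `SL₂` -/
theorem g2vj2_sl2 (r s D : F) (hD : D ≠ 0) (hDr : D = 1 + s * r) :
    g2vj2_U s * g2vj2_L r =
      g2vj2_L (r / D) *
        (g2vj2_U D * (g2vj2_L (-D⁻¹) * (g2vj2_U D *
          (g2vj2_U (-1) * (g2vj2_L (-(-1 : F)⁻¹) * g2vj2_U (-1)))))) *
        g2vj2_U (s / D) := by
  apply Subtype.ext
  simp only [Matrix.SpecialLinearGroup.coe_mul, g2vj2_coe_U, g2vj2_coe_L, Matrix.mul_fin_two]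
  apply g2vj2_mk_eq <;> (field_simp; rw [hDr]; ring)

/-- the rank one identity `X 6 s * X 5 r = X 5 (r/D) * hb D * X 6 (s/D)` -/
theorem g2vj2_rank_one (r s : F) (hD : 1 + s * r ≠ 0) :
    (X 6 s * X 5 r : GG F) = X 5 (r / (1 + s * r)) * hb (1 + s * r) * X 6 (s / (1 + s * r)) := by
  have h := congrArg (g2vj2_phiB (F := F)) (g2vj2_sl2 r s (1 + s * r) hD rfl)
  simp only [map_mul, g2vj2_phiB_U, g2vj2_phiB_L] at h
  rw [g2vj2_hb_eq]
  exact h

/-- S1032 for `hb` against `X 7` -/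
theorem g2vj2_hb_X7 (c : F) (hc : c ≠ 0) (t : F) :
    (hb c * X 7 t : GG F) = X 7 (c⁻¹ * t) * hb c := by
  apply Units.ext
  rw [Units.val_mul, Units.val_mul]
  have h := Cfsg.Agent.S1032.result (F := F) chevG2 (by simp) 1 7 (by decide) (by decide) c hc t
  have h1 : chevG2.simple 1 = 6 := by decide
  have h2 : chevG2.cartan 1 7 = -1 := by decide
  rw [h1, h2, _root_.zpow_neg_one] at h
  exact h

/-- an abstract rearrangement -/
theorem g2vj2_rearr {G : Type*} [Group G] (x5 x6 x6' x7 x7' x8 v h q0 q1 q2 : G)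
    (E1 : x8 * x5 = x5 * x8 * (x7 * q0)) (E2 : x6 * x5 = v * h * x6')
    (E3 : x8 * x7 = x7 * x8 * q1) (E4 : x6' * x7 = x7 * x6' * q2) (E5 : h * x7 = x7' * h) :
    x6 * x8 * x5 = v * (x7' * h) * (x6' * q2 * x8 * q1 * q0) := by
  calc x6 * x8 * x5 = x6 * (x8 * x5) := by rw [mul_assoc]
    _ = (x6 * x5) * x8 * x7 * q0 := by rw [E1]; simp only [mul_assoc]
    _ = v * h * x6' * (x8 * x7) * q0 := by rw [E2]; simp only [mul_assoc]
    _ = v * h * (x6' * x7) * x8 * q1 * q0 := by rw [E3]; simp only [mul_assoc]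
    _ = v * (h * x7) * x6' * q2 * x8 * q1 * q0 := by rw [E4]; simp only [mul_assoc]
    _ = v * (x7' * h) * (x6' * q2 * x8 * q1 * q0) := by rw [E5]; simp only [mul_assoc]

/-- `iota B` for an upper triangular `B = !![1, b; 0, d]` -/
theorem g2vj2_iota_tri (B : GL (Fin 2) F) (b d : F) (hd : d ≠ 0)
    (hB : (B : M2 F) = !![1, b; 0, d]) : iota B = X 7 (d⁻¹ * b) * hb d := by
  have hdet : (B : M2 F).det = d := by
    rw [hB, Matrix.det_fin_two_of]
    ring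
  unfold iota
  rw [hdet]
  congr 1
  apply phiA_upper
  rw [sl2of_val, hdet, hB, Matrix.mul_fin_two]
  ext i j
  fin_cases i <;> fin_cases j <;> simp [hd, mul_comm]

/-- **J2 core**: `ident_j2` with the statement of N5 at the root `5` as a hypothesis. -/
theorem g2vj2_core (hQm5 : ∀ t : F, X 5 t ∈ Qm F) (r s s2 : F) (hD : 1 + s * r ≠ 0) (B : GL (Fin 2) F)
    (hB : (B : M2 F) = !![1, -(s2 * r); 0, 1 + s * r]) :
    ∃ v' ∈ Qm F, ∃ u' ∈ Qp F, X 6 s * X 8 s2 * X 5 r = v' * iota B * u' := by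
  have m6 : ∀ t : F, X 6 t ∈ Qp F := fun t => g2vj4w_X_mem_Qp 6 (by simp) t
  have m8 : ∀ t : F, X 8 t ∈ Qp F := fun t => g2vj4w_X_mem_Qp 8 (by simp) t
  have m9 : ∀ t : F, X 9 t ∈ Qp F := fun t => g2vj4w_X_mem_Qp 9 (by simp) t
  have m10 : ∀ t : F, X 10 t ∈ Qp F := fun t => g2vj4w_X_mem_Qp 10 (by simp) t
  have m11 : ∀ t : F, X 11 t ∈ Qp F := fun t => g2vj4w_X_mem_Qp 11 (by simp) t
  set D : F := 1 + s * r with hD_def
  set c1 : F := -(r * s2) with hc1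
  -- the three tails
  set q0 : GG F := X 9 (r * s2 ^ 2) * X 11 (-(r * s2 ^ 3)) * X 10 (2 * r ^ 2 * s2 ^ 3) with hq0
  set q1 : GG F := X 9 (2 * c1 * s2) * X 10 (-(3 * c1 ^ 2 * s2)) * X 11 (-(3 * c1 * s2 ^ 2)) with hq1
  set q2 : GG F := X 8 (c1 * (s / D)) * X 9 (c1 ^ 2 * (s / D)) * X 10 (-(c1 ^ 3 * (s / D))) *
    X 11 (-(c1 ^ 3 * (s / D) ^ 2)) with hq2
  have E1 : (X 8 s2 * X 5 r : GG F) = X 5 r * X 8 s2 * (X 7 c1 * q0) := by
    rw [g2vc_c_5_8 r s2, hq0, hc1]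
    simp only [mul_assoc]
  have E2 : (X 6 s * X 5 r : GG F) = X 5 (r / D) * hb D * X 6 (s / D) := g2vj2_rank_one r s hD
  have E3 : (X 8 s2 * X 7 c1 : GG F) = X 7 c1 * X 8 s2 * q1 := by
    rw [g2vc_c_7_8 c1 s2, hq1]
  have E4 : (X 6 (s / D) * X 7 c1 : GG F) = X 7 c1 * X 6 (s / D) * q2 := by
    rw [g2vc_c_7_6 c1 (s / D), hq2]
  have E5 : (hb D * X 7 c1 : GG F) = X 7 (D⁻¹ * c1) * hb D := g2vj2_hb_X7 D hD c1
  have hiota : iota B = X 7 (D⁻¹ * c1) * hb D := by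
    rw [g2vj2_iota_tri B (-(s2 * r)) D hD hB, hc1]
    congr 2
    ring
  refine ⟨X 5 (r / D), hQm5 _, X 6 (s / D) * q2 * X 8 s2 * q1 * q0, ?_, ?_⟩
  · refine Subgroup.mul_mem _ (Subgroup.mul_mem _ (Subgroup.mul_mem _ (Subgroup.mul_mem _ (m6 _) ?_)
      (m8 _)) ?_) ?_
    · exact Subgroup.mul_mem _ (Subgroup.mul_mem _ (Subgroup.mul_mem _ (m8 _) (m9 _)) (m10 _)) (m11 _)
    · exact Subgroup.mul_mem _ (Subgroup.mul_mem _ (m9 _) (m10 _)) (m11 _)
    · exact Subgroup.mul_mem _ (Subgroup.mul_mem _ (m9 _) (m11 _)) (m10 _)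
  · rw [hiota]
    exact g2vj2_rearr (X 5 r) (X 6 s) (X 6 (s / D)) (X 7 c1) (X 7 (D⁻¹ * c1)) (X 8 s2) (X 5 (r / D))
      (hb D) q0 q1 q2 E1 E2 E3 E4 E5

end Cfsg.Agent.Lib.Helper19.G2V
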