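import Mathlib
import Cfsg.Agent.Lib.Helper19.G2V.Defs
import Cfsg.Agent.Lib.helper2.G2VJ2core
import Cfsg.Agent.Lib.Helper16.G2VN4

/-!
# Project G2V (S2461), row J2 (helper2): `ident_j2`, verbatim (`X 5 t ∈ Qm` from N4 `nrho_X10`).
-/

set_option autoImplicit false

namespace Cfsg.Agent.Lib.Helper19.G2V

open Cfsg.Lie Cfsg.Lie.ChevalleyDatum Matrix
open Cfsg.Agent.Lib.helper8
open Cfsg.Agent.Lib.helper23.P4V

universe u

variable {F : Type u} [Field F]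

/-- the statement of N5 at the root `5` -/
theorem g2vj2_X5_mem_Qm (t : F) : X 5 t ∈ Qm F := by
  rw [mem_Qm_iff]
  exact ⟨X 10 t, g2vj4w_X_mem_Qp 10 (by simp) t, (nrho_X10 t).symm⟩

theorem ident_j2 (r s s2 : F) (hD : 1 + s * r ≠ 0) (B : GL (Fin 2) F)
    (hB : (B : M2 F) = !![1, -(s2 * r); 0, 1 + s * r]) :
    ∃ v' ∈ Qm F, ∃ u' ∈ Qp F, X 6 s * X 8 s2 * X 5 r = v' * iota B * u' :=
  g2vj2_core g2vj2_X5_mem_Qm r s s2 hD B hB

end Cfsg.Agent.Lib.Helper19.G2V
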