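import Mathlib
import Cfsg.Agent.Lib.Helper19.O9U.Defs

set_option autoImplicit false

/-!
# Project O9U, row ARITHH (`arith9_halv`): the arithmetic of the 8 halving shapes.
-/

namespace Cfsg.Agent.Lib.Helper19.O9U

/-- `q ^ e ± 1` is even for odd `q` -/
theorem o9uarithh_even (q e : ℕ) (hq : Odd q) (ε : Bool) : ∃ M, tyN q e ε = 2 * M := by
  have hodd : Odd (q ^ e) := hq.pow
  obtain ⟨m, hm⟩ := hodd
  cases ε
  · exact ⟨m + 1, by rw [tyN_false, hm]; ring⟩
  · exact ⟨m, by rw [tyN_true, hm]; omega⟩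

/-- `(q - 1) (q + 1) = q ^ 2 - 1` -/
theorem o9uarithh_sq (q : ℕ) (hq : 1 ≤ q) : (q - 1) * (q + 1) = q ^ 2 - 1 := by
  obtain ⟨k, rfl⟩ : ∃ k, q = k + 1 := ⟨q - 1, by omega⟩
  have h1 : (k + 1) ^ 2 = k * (k + 2) + 1 := by ring
  rw [h1]
  simp only [Nat.add_sub_cancel]

/-- a prime `≥ 3` other than `3` is `≥ 5` -/
theorem o9uarithh_p5 (p : ℕ) (hp : p.Prime) (hp3 : 3 ≤ p) (h3 : p ≠ 3) : 5 ≤ p := by
  by_contra h
  have h4 : p = 4 := by omega
  subst h4
  norm_num at hp

/-- a prime `≥ 3` other than `3`, `5` is `≥ 7` -/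
theorem o9uarithh_p7 (p : ℕ) (hp : p.Prime) (hp3 : 3 ≤ p) (h3 : p ≠ 3) (h5 : p ≠ 5) : 7 ≤ p := by
  have := o9uarithh_p5 p hp hp3 h3
  by_contra h
  have h6 : p = 6 := by omega
  subst h6
  norm_num at hp

/-- ARITHH [M]: the 8 halving shapes. -/
theorem arith9_halv (q p : ℕ) (hq : Odd q) (hq3 : 3 ≤ q) (hp : p.Prime) (hp3 : 3 ≤ p) (a e : ℕ)
    (he : 1 ≤ e) (hae : a + 2 * e = 9) (ε : Bool) :
    ∃ N, InT9 q p N ∧ ∃ t : ℕ, p ^ t * (tyN q e ε / 2) ∣ N ∧ a ≤ p ^ t := by
  obtain ⟨M, hM⟩ := o9uarithh_even q e hq ε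
  have hdiv : tyN q e ε / 2 = M := by rw [hM]; exact Nat.mul_div_cancel_left M (by norm_num)
  rw [hdiv]
  have he4 : e = 1 ∨ e = 2 ∨ e = 3 ∨ e = 4 := by omega
  have hsq := o9uarithh_sq q (by omega)
  rcases he4 with rfl | rfl | rfl | rfl
  · -- `e = 1`, `a = 7`
    have ha : a = 7 := by omega
    subst ha
    by_cases h3 : p = 3
    · subst h3
      cases ε
      · -- `2 M = q + 1`
        rw [tyN_false, pow_one] at hM
        refine ⟨9 * M * (q - 1), ?_, 2, ⟨q - 1, by ring⟩, by norm_num⟩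
        have h : 2 * (9 * M * (q - 1)) = 9 * (q ^ 2 - 1) := by
          rw [← hsq]
          calc 2 * (9 * M * (q - 1)) = 9 * ((q - 1) * (2 * M)) := by ring
            _ = 9 * ((q - 1) * (q + 1)) := by rw [hM]
        unfold InT9
        tauto
      · -- `2 M = q - 1`
        rw [tyN_true, pow_one] at hM
        refine ⟨9 * M * (q + 1), ?_, 2, ⟨q + 1, by ring⟩, by norm_num⟩
        have h : 2 * (9 * M * (q + 1)) = 9 * (q ^ 2 - 1) := by
          rw [← hsq]
          calc 2 * (9 * M * (q + 1)) = 9 * ((2 * M) * (q + 1)) := by ring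
            _ = 9 * ((q - 1) * (q + 1)) := by rw [hM]
        unfold InT9
        tauto
    · by_cases h5 : p = 5
      · subst h5
        refine ⟨25 * M, ?_, 2, ⟨1, by ring⟩, by norm_num⟩
        cases ε
        · rw [tyN_false, pow_one] at hM
          have h : 2 * (25 * M) = 25 * (q + 1) := by rw [hM]; ring
          unfold InT9
          tauto
        · rw [tyN_true, pow_one] at hM
          have h : 2 * (25 * M) = 25 * (q - 1) := by rw [hM]; ring
          unfold InT9
          tauto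
      · have hp7 := o9uarithh_p7 p hp hp3 h3 h5
        refine ⟨p * (q ^ 2 - 1), ?_, 1, ?_, by simpa using hp7⟩
        · unfold InT9
          tauto
        · rw [pow_one]
          apply Nat.mul_dvd_mul_left
          rw [← hsq]
          cases ε
          · rw [tyN_false, pow_one] at hM
            rw [hM]
            exact Dvd.dvd.mul_left (Dvd.intro_left 2 rfl) _
          · rw [tyN_true, pow_one] at hM
            rw [hM]
            exact Dvd.dvd.mul_right (Dvd.intro_left 2 rfl) _
  · -- `e = 2`, `a = 5`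
    have ha : a = 5 := by omega
    subst ha
    by_cases h3 : p = 3
    · subst h3
      refine ⟨9 * M, ?_, 2, ⟨1, by ring⟩, by norm_num⟩
      cases ε
      · rw [tyN_false] at hM
        have h : 2 * (9 * M) = 9 * (q ^ 2 + 1) := by rw [hM]; ring
        unfold InT9
        tauto
      · rw [tyN_true] at hM
        have h : 2 * (9 * M) = 9 * (q ^ 2 - 1) := by rw [hM]; ring
        unfold InT9
        tauto
    · have hp5 := o9uarithh_p5 p hp hp3 h3
      cases ε
      · rw [tyN_false] at hM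
        refine ⟨p * M * (q - 1), ?_, 1, ⟨q - 1, by ring⟩, by simpa using hp5⟩
        have h : 2 * (p * M * (q - 1)) = p * ((q ^ 2 + 1) * (q - 1)) := by rw [hM]; ring
        unfold InT9
        tauto
      · rw [tyN_true] at hM
        refine ⟨p * (q ^ 2 - 1), ?_, 1, ?_, by simpa using hp5⟩
        · unfold InT9
          tauto
        · rw [pow_one, hM]
          exact Nat.mul_dvd_mul_left _ (Dvd.intro_left 2 rfl)
  · -- `e = 3`, `a = 3`
    have ha : a = 3 := by omega
    subst ha
    refine ⟨p * M, ?_, 1, by rw [pow_one], by simpa using hp3⟩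
    cases ε
    · rw [tyN_false] at hM
      have h : 2 * (p * M) = p * (q ^ 3 + 1) := by rw [hM]; ring
      unfold InT9
      tauto
    · rw [tyN_true] at hM
      have h : 2 * (p * M) = p * (q ^ 3 - 1) := by rw [hM]; ring
      unfold InT9
      tauto
  · -- `e = 4`, `a = 1`
    have ha : a = 1 := by omega
    subst ha
    refine ⟨M, ?_, 0, by simp, by simp⟩
    cases ε
    · rw [tyN_false] at hM
      have h : 2 * M = q ^ 4 + 1 := hM.symm
      unfold InT9
      tauto
    · rw [tyN_true] at hM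
      have h : 2 * M = q ^ 4 - 1 := hM.symm
      unfold InT9
      tauto

end Cfsg.Agent.Lib.Helper19.O9U
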