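import Mathlib
import Cfsg.Prelude.Def_GeometricClasses
import Cfsg.Agent.Lib.Helper19.OU.Defs

set_option autoImplicit false
set_option linter.unusedVariables false
set_option linter.unusedSectionVars false

/-!
# Project OU, piece INK (core): a matrix mapping every singular vector into its `K`-line lies in `K = {a + b θ}`.
The statements of `ex_sing_perp` (EXSP), `kl_li4` (KLI) and `kl_sup_finrank_le` (KLIN) are hypotheses.
-/

namespace Cfsg.Agent.Lib.Helper19.OU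

open Matrix Cfsg.Agent.Lib.Helper28.HForm Cfsg.Agent.Lib.Helper28.OGen
  Cfsg.Agent.Lib.Helper28.OMax Cfsg.Agent.Lib.Helper28.OQ Cfsg.Agent.Lib.Helper28.OMax2
  Cfsg.Agent.Lib.Helper28.OIwa Cfsg.Agent.Lib.Helper28.OPair

variable {n : ℕ} {F : Type*} [Field F] {Q : (Fin n → F) → F}
  {f : (Fin n → F) → (Fin n → F) → F} {θ : Matrix (Fin n) (Fin n) F} {t N : F}
  {G M : Subgroup (Matrix.GeneralLinearGroup (Fin n) F)}

theorem ouink_self_mem (θ : Matrix (Fin n) (Fin n) F) (u : Fin n → F) : u ∈ Kl θ u :=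
  Submodule.subset_span (Set.mem_insert _ _)

/-- the coefficients of `φ w` on `(w, θ w)` -/
theorem ouink_coef {φ : Matrix (Fin n) (Fin n) F} {w : Fin n → F} (h : φ *ᵥ w ∈ Kl θ w) :
    ∃ a b : F, φ *ᵥ w = a • w + b • (θ *ᵥ w) := by
  obtain ⟨a, b, e⟩ := Submodule.mem_span_pair.1 h
  exact ⟨a, b, e.symm⟩

/-- two orthogonal singular vectors on different `K`-lines have the same coefficients -/
theorem ouink_pair (hq : QF Q f)
    (hLI : ∀ u x : Fin n → F, u ≠ 0 → x ∉ Kl θ u → LinearIndependent F ![u, θ *ᵥ u, x, θ *ᵥ x])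
    (φ : Matrix (Fin n) (Fin n) F) (h : ∀ w, Q w = 0 → φ *ᵥ w ∈ Kl θ w)
    {w₁ w₂ : Fin n → F} (h1 : Q w₁ = 0) (h2 : Q w₂ = 0) (h12 : f w₁ w₂ = 0) (hne : w₁ ≠ 0)
    (hnot : w₂ ∉ Kl θ w₁) {a₁ b₁ a₂ b₂ : F} (e1 : φ *ᵥ w₁ = a₁ • w₁ + b₁ • (θ *ᵥ w₁))
    (e2 : φ *ᵥ w₂ = a₂ • w₂ + b₂ • (θ *ᵥ w₂)) : a₁ = a₂ ∧ b₁ = b₂ := by
  have h3 : Q (w₁ + w₂) = 0 := by rw [hq.polar, h1, h2, h12]; ring
  obtain ⟨a₃, b₃, e3⟩ := ouink_coef (h (w₁ + w₂) h3)
  rw [Matrix.mulVec_add, Matrix.mulVec_add, e1, e2] at e3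
  have hli := hLI w₁ w₂ hne hnot
  rw [Fintype.linearIndependent_iff] at hli
  have key := hli ![a₁ - a₃, b₁ - b₃, a₂ - a₃, b₂ - b₃] (by
    simp only [Fin.sum_univ_four, Matrix.cons_val_zero, Matrix.cons_val_one, Matrix.cons_val]
    linear_combination (norm := module) e3)
  have k0 := key 0
  have k1 := key 1
  have k2 := key 2
  have k3 := key 3
  simp only [Matrix.cons_val_zero, Matrix.cons_val_one, Matrix.cons_val] at k0 k1 k2 k3
  constructor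
  · rw [sub_eq_zero.1 k0, sub_eq_zero.1 k2]
  · rw [sub_eq_zero.1 k1, sub_eq_zero.1 k3]

/-- INK (core) -/
theorem mem_K_of_lines_core (hn : 11 ≤ n) (ks : KS Q f θ t N) (vf : VFacts Q f)
    (hEX : ∀ S : Submodule F (Fin n → F), 2 * Module.finrank F S + 3 ≤ n →
      ∃ w, Q w = 0 ∧ (∀ s ∈ S, f s w = 0) ∧ w ∉ S)
    (hLI : ∀ u x : Fin n → F, u ≠ 0 → x ∉ Kl θ u → LinearIndependent F ![u, θ *ᵥ u, x, θ *ᵥ x])
    (hfin : ∀ u v : Fin n → F,
      Module.finrank F (Kl θ u ⊔ Kl θ v : Submodule F (Fin n → F)) ≤ 4)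
    (φ : Matrix (Fin n) (Fin n) F) (h : ∀ w, Q w = 0 → φ *ᵥ w ∈ Kl θ w) :
    ∃ a b : F, φ = a • (1 : Matrix (Fin n) (Fin n) F) + b • θ := by
  have hq := ks.hq
  have hf := hq.sym
  obtain ⟨s, hs, hs0⟩ := vf.sing
  obtain ⟨a, b, es⟩ := ouink_coef (h s hs)
  -- every singular vector has the coefficients `(a, b)`
  have hall : ∀ w, Q w = 0 → φ *ᵥ w = a • w + b • (θ *ᵥ w) := by
    intro w hw
    by_cases hw0 : w = 0
    · subst hw0
      simp
    obtain ⟨a', b', ew⟩ := ouink_coef (h w hw)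
    obtain ⟨x, hx, hperp, hxS⟩ := hEX (Kl θ s ⊔ Kl θ w) (by have := hfin s w; omega)
    obtain ⟨a'', b'', ex⟩ := ouink_coef (h x hx)
    have hxs : x ∉ Kl θ s := fun hc => hxS (Submodule.mem_sup_left hc)
    have hxw : x ∉ Kl θ w := fun hc => hxS (Submodule.mem_sup_right hc)
    have fsx : f s x = 0 := hperp s (Submodule.mem_sup_left (ouink_self_mem θ s))
    have fwx : f w x = 0 := hperp w (Submodule.mem_sup_right (ouink_self_mem θ w))
    obtain ⟨p1, p2⟩ := ouink_pair hq hLI φ h hs hx fsx hs0 hxs es ex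
    obtain ⟨p3, p4⟩ := ouink_pair hq hLI φ h hw hx fwx hw0 hxw ew ex
    rw [ew, p3, p4, ← p1, ← p2]
  -- the singular vectors span
  obtain ⟨z, hz, hzs⟩ := hyp_partner_q hq s hs0 hs
  refine ⟨a, b, ?_⟩
  rw [Matrix.ext_iff_mulVec]
  intro y
  have hy' : f (y - f y s • z) s = 0 := by
    rw [f_sub_left hf, hf.smul_left, hzs]; ring
  obtain ⟨y₁, y₂, e12, q1, q2, -, -⟩ := vf.decomp s (y - f y s • z) hs hs0 hy'
  have ey : y = f y s • z + y₁ + y₂ := by rw [add_assoc, e12]; module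
  have lin : ∀ v : Fin n → F, (a • (1 : Matrix (Fin n) (Fin n) F) + b • θ) *ᵥ v
      = a • v + b • (θ *ᵥ v) := by
    intro v
    rw [Matrix.add_mulVec, Matrix.smul_mulVec, Matrix.smul_mulVec, Matrix.one_mulVec]
  rw [lin]
  conv_lhs => rw [ey]
  rw [Matrix.mulVec_add, Matrix.mulVec_add, Matrix.mulVec_smul, hall z hz, hall y₁ q1, hall y₂ q2]
  conv_rhs => rw [ey]
  rw [Matrix.mulVec_add, Matrix.mulVec_add, Matrix.mulVec_smul]
  module

end Cfsg.Agent.Lib.Helper19.OU
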