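import Mathlib
import Cfsg.Prelude.Def_GeometricClasses
import Cfsg.Agent.Lib.Helper19.OU.Defs
import Cfsg.Agent.Lib.Helper20.OUKLIN
import Cfsg.Agent.Lib.Helper25.OUKLI
import Cfsg.Agent.Lib.helper2.OUEXSP
import Cfsg.Agent.Lib.helper2.OUINKcore

set_option autoImplicit false
set_option linter.unusedVariables false
set_option linter.unusedSectionVars false

/-!
# Project OU, piece INK : a matrix mapping every singular vector into its `K`-line lies in `K = {a + b θ}`.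
-/

namespace Cfsg.Agent.Lib.Helper19.OU

open Matrix Cfsg.Agent.Lib.Helper28.HForm Cfsg.Agent.Lib.Helper28.OGen
  Cfsg.Agent.Lib.Helper28.OMax Cfsg.Agent.Lib.Helper28.OQ Cfsg.Agent.Lib.Helper28.OMax2
  Cfsg.Agent.Lib.Helper28.OIwa Cfsg.Agent.Lib.Helper28.OPair

variable {n : ℕ} {F : Type*} [Field F] {Q : (Fin n → F) → F}
  {f : (Fin n → F) → (Fin n → F) → F} {θ : Matrix (Fin n) (Fin n) F} {t N : F}
  {G M : Subgroup (Matrix.GeneralLinearGroup (Fin n) F)}

/-- INK -/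
theorem mem_K_of_lines [Fintype F] (hn : 11 ≤ n) (ks : KS Q f θ t N) (vf : VFacts Q f)
    (φ : Matrix (Fin n) (Fin n) F) (h : ∀ w, Q w = 0 → φ *ᵥ w ∈ Kl θ w) :
    ∃ a b : F, φ = a • (1 : Matrix (Fin n) (Fin n) F) + b • θ :=
  mem_K_of_lines_core hn ks vf (fun S hS => ex_sing_perp ks.hq S hS)
    (fun u x hu hx => kl_li4 ks hu hx) (fun u v => kl_sup_finrank_le θ u v) φ h

end Cfsg.Agent.Lib.Helper19.OU
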