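import Mathlib
import Cfsg.Agent.Lib.helper3.S5953.Defs
import Cfsg.Agent.Lib.Lead.HermCount
import Cfsg.Prelude.Def_LieClassical

set_option autoImplicit false

/-!
# S5953 row A5 (helper2): `arith_nec`, the arithmetic of the necessity direction.
-/

namespace Cfsg.Agent.Lib.helper3.S5953

open Polynomial Module

/-- `b ≥ 1` and `c = b` (`i ≡ 2 mod 4`) or `c = 2 b`. -/
theorem s5953a5_bc (i : ℕ) (hi : 1 ≤ i) :
    1 ≤ bb i ∧ (i % 4 = 2 → cc i = bb i) ∧ (i % 4 ≠ 2 → cc i = 2 * bb i) := by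
  unfold bb cc
  rcases Nat.even_or_odd i with he | ho
  · rw [if_pos he]
    have h2 : i % 2 = 0 := Nat.even_iff.mp he
    refine ⟨by omega, ?_, ?_⟩
    · intro h
      rw [if_neg (by omega), if_pos h]
    · intro h
      rw [if_pos (by omega)]
      omega
  · have hne : ¬ Even i := Nat.not_even_iff_odd.mpr ho
    rw [if_neg hne]
    have h2 : i % 2 = 1 := Nat.odd_iff.mp ho
    refine ⟨hi, ?_, ?_⟩
    · intro h
      omega
    · intro h
      rw [if_neg (by omega), if_neg (by omega)]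

/-- A5 [M] ARITHN -/
theorem arith_nec (i b c n m t : ℕ) (hi : 1 ≤ i) (hb : b = bb i) (hc : c = cc i)
    (hm1 : 1 ≤ m) (hmn : 2 * m ≤ n)
    (ha : ∃ a, n < a + 2 * m ∧ a ≤ n ∧ 1 ≤ a ∧ c ∣ a)
    (hmax : ∃ w1 s : ℕ, m = w1 + s * b ∧ 2 * w1 ≤ n % c)
    (hdist : i % 4 = 2 → 2 * m + b * min t (n / b) ≤ n) :
    b ≤ m ∧ 2 * (m % b) ≤ n % c ∧ (i % 4 ≠ 2 ∨ t + 2 * (m / b) ≤ n / b) := by
  obtain ⟨hb1, hcb1, hcb2⟩ := s5953a5_bc i hi
  rw [← hb, ← hc] at hcb1 hcb2
  rw [← hb] at hb1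
  have hc1 : 1 ≤ c := by
    by_cases h : i % 4 = 2
    · rw [hcb1 h]; exact hb1
    · rw [hcb2 h]; omega
  obtain ⟨w1, s, hm, hw⟩ := hmax
  -- (2)
  have h2 : 2 * (m % b) ≤ n % c := by
    have h3 : m % b ≤ w1 := by
      rw [hm, Nat.add_mul_mod_self_right]
      exact Nat.mod_le _ _
    omega
  -- (1)
  have h1 : b ≤ m := by
    by_contra hlt
    have hlt' : m < b := by omega
    have hs : s = 0 := by
      by_contra hs0
      have : b ≤ s * b := Nat.le_mul_of_pos_left b (Nat.pos_of_ne_zero hs0)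
      omega
    rw [hs, zero_mul, add_zero] at hm
    obtain ⟨a, ha1, ha2, ha3, k, rfl⟩ := ha
    have hk : k ≤ n / c := by
      rw [Nat.le_div_iff_mul_le hc1, mul_comm]
      exact ha2
    have h4 : c * k ≤ c * (n / c) := Nat.mul_le_mul_left _ hk
    have h5 := Nat.div_add_mod n c
    omega
  refine ⟨h1, h2, ?_⟩
  by_cases h42 : i % 4 = 2
  · right
    have hcb : c = b := hcb1 h42
    rw [hcb] at h2
    have hd := hdist h42
    have h5 := Nat.div_add_mod n b
    have h6 : n % b < b := Nat.mod_lt _ hb1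
    rcases le_total t (n / b) with ht | ht
    · rw [min_eq_left ht] at hd
      rw [Nat.le_div_iff_mul_le hb1]
      have h7 : m / b * b ≤ m := Nat.div_mul_le_self m b
      have h8 : (t + 2 * (m / b)) * b = b * t + 2 * (m / b * b) := by ring
      rw [h8]
      omega
    · rw [min_eq_right ht] at hd
      exfalso
      omega
  · left
    exact h42

end Cfsg.Agent.Lib.helper3.S5953
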