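import Mathlib
import Cfsg.Agent.Lib.Helper19.SU5.Defs
import Cfsg.Agent.Lib.Helper19.SU5.Defs2
import Cfsg.Agent.Lib.helper3.SU5.Defs
import Cfsg.Agent.Lib.Helper27.STU.Defs2
import Cfsg.Agent.Lib.Helper27.STU.Defs3
import Cfsg.Agent.Lib.Helper24.STUB1

/-!
# Project SU5, row Z3 (`model_commLU`), CORE: the statements of Z1 (`match_dictU`) and Z2 (`match_rootsU`) enter as hypotheses.  helper2.
-/

set_option autoImplicit false

namespace Cfsg.Agent.Lib.Helper19.SU5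

open Cfsg.Agent.Lib.helper17.SLP Cfsg.Agent.Lib.helper3.SP4 Cfsg.Agent.Lib.Helper22.SU4
open Cfsg.Agent.Lib.Helper27.STU (Lam XpM XmM XpS XmS SUm XpU XmU SysU)
open Cfsg.Agent.Lib.helper3.STC (ng sws)
open Cfsg.Agent.Lib.helper3.SU5 (Dat Tab5 Pre)

universe u v w

section Z

theorem su5z3_comm_of_cm {G : Type*} [Group G] {a b : G} (h : cm a b = 1) : Commute a b := by
  unfold cm at h
  have e : a * b * a⁻¹ * b⁻¹ = (a * b) * (b * a)⁻¹ := by group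
  rw [e] at h
  exact mul_inv_eq_one.mp h

theorem su5z3_cm_inv {G : Type*} [Group G] (a b : G) : cm a b = (cm b a)⁻¹ := by
  unfold cm
  group

variable {F : Type u} {K : Type u} [Field F] [Field K] [StarRing F] {D : Tw F K}

theorem su5z3_star_kap (P : RO D) : star P.kap = -P.kap := by
  unfold RO.kap
  rw [star_sub, star_star]
  ring

theorem su5z3_star_iota (P : RO D) (u : K) : star (D.ι u) = D.ι u := by
  rw [← P.hσ]
  exact (D.fix _).mpr ⟨u, rfl⟩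

theorem su5z3_tr_c (P : RO D) (u : K) :
    (Lam.tr ((P.ζ : F) * D.ι u) : Lam F True).c = P.kap * D.ι u := by
  rw [Lam.tr_c, star_mul', su5z3_star_iota P]
  unfold RO.kap
  ring

variable {G₀ : Type v} [Group G₀] (S : SysU F True (Fin 2) G₀)

theorem su5z3_ssl (t w : F) :
    cm (S.xs (Sum.inl 0) (Sum.inl 1) t) (S.xs (Sum.inl 0) (Sum.inr 1) w) =
      S.xl (Sum.inl 0) (Lam.tr (t * (-(star w)))) := by
  have hsym := S.sym (Sum.inl 0) (Sum.inr 1) (by decide) (by decide) w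
  have hssl := S.ssl (Sum.inl 0) (Sum.inl 1) (by decide) (by decide) t (-(star w))
  unfold cm
  rw [hsym]
  exact hssl

theorem su5z3_ls (ξ : Lam F True) (t : F) :
    cm (S.xl (Sum.inl 1) ξ) (S.xs (Sum.inl 0) (Sum.inl 1) t) =
      S.xs (Sum.inl 1) (Sum.inr 0) (ξ.c * (-(star t))) *
        S.xl (Sum.inl 0) (Lam.act (star (-(star t))) (Lam.bar ξ)) := by
  have hsym := S.sym (Sum.inl 0) (Sum.inl 1) (by decide) (by decide) t
  have hls := S.ls (Sum.inl 1) (Sum.inr 0) (by decide) (by decide) ξ (-(star t))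
  unfold cm
  rw [hsym]
  exact hls

theorem su5z3_comm_a (ξ : Lam F True) (t : F) :
    Commute (S.xs (Sum.inl 0) (Sum.inl 1) t) (S.xl (Sum.inl 0) ξ) :=
  (S.comm_ls (Sum.inl 0) (Sum.inl 0) (Sum.inl 1) (by decide) (by decide) (by decide) (by decide) ξ t).symm

theorem su5z3_comm_c (ξ : Lam F True) (t : F) :
    Commute (S.xs (Sum.inl 0) (Sum.inr 1) t) (S.xl (Sum.inl 0) ξ) :=
  (S.comm_ls (Sum.inl 0) (Sum.inl 0) (Sum.inr 1) (by decide) (by decide) (by decide) (by decide) ξ t).symm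

theorem su5z3_comm_ll (ξ η : Lam F True) (hξ : ξ.v = 0) :
    Commute (S.xl (Sum.inl 1) ξ) (S.xl (Sum.inl 0) η) := by
  apply su5z3_comm_of_cm
  have h := S.hh (Sum.inl 1) (Sum.inl 0) (by decide) (by decide) ξ η
  unfold cm
  rw [h, hξ, zero_mul, neg_zero]
  exact SysU.xs_zero S (by decide) (by decide)

/-- Z3 core: hypotheses = the statements of Z1 `match_dictU` and Z2 `match_rootsU` -/
theorem su5z3_core (P : RO D)
    (ψa : Matrix.SpecialLinearGroup (Fin 2) F →* G₀) (ψb : ↥(SUm F True) →* G₀)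
    (hZ1 : (∀ t, rx ψa t = S.xs (Sum.inl 0) (Sum.inl 1) t) ∧ rn ψa = S.ws (Sum.inl 0) (Sum.inl 1) 1 ∧
      (∀ s : Fˣ, rh ψa s = S.hs (Sum.inl 0) (Sum.inl 1) (s : F)) ∧
      (∀ ξ, yb ψb ξ = S.xl (Sum.inl 1) ξ) ∧ (∀ ξ, ybm ψb ξ = S.xl (Sum.inr 1) ξ) ∧
      rn (phiL P ψb) = S.wl (Sum.inl 1) (Lam.tr (P.ζ : F)) ∧
      ∀ (r : Fˣ) (η : Lam F True), η.c = (r : F) * P.kap →
        hbF P ψb r = S.hl (Sum.inl 1) η (Lam.tr (P.ζ : F)))
    (hZ2 : (∀ t, xcU P ψa ψb t = S.xs (Sum.inl 0) (Sum.inr 1) (P.kap * t)) ∧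
      (∀ ξ, ydU ψa ψb ξ = S.xl (Sum.inl 0) (Lam.act (-1) ξ)) ∧
      (∀ u : K, rx (phiL P ψb) u = S.xl (Sum.inl 1) (Lam.tr ((P.ζ : F) * D.ι u))) ∧
      ∀ u : K, xDU P ψa ψb u = S.xl (Sum.inl 0) (Lam.tr ((P.ζ : F) * D.ι u))) :
    cm (rx ψa 1) (rx (phiL P ψb) 1) = xcU P ψa ψb 1 * xDU P ψa ψb 1 ∧
      cm (rx ψa 1) (xcU P ψa ψb 1) = xDU P ψa ψb 1 ^ 2 ∧
      cm (rx ψa 1) (xcU P ψa ψb (P.ζ : F)) = xDU P ψa ψb (D.tr (P.ζ : F)) ∧
      Commute (rx ψa 1) (xDU P ψa ψb 1) ∧ Commute (rx (phiL P ψb) 1) (xDU P ψa ψb 1) := by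
  obtain ⟨hxa, -⟩ := hZ1
  obtain ⟨hxc, -, hxb, hxD⟩ := hZ2
  have hsk := su5z3_star_kap P
  refine ⟨?_, ?_, ?_, ?_, ?_⟩
  · -- C9
    rw [hxa, hxb, hxc, hxD, su5z3_cm_inv, su5z3_ls, mul_inv_rev, ← SysU.xl_inv, ← SysU.xs_neg S (by decide) (by decide)]
    have e1 : (Lam.act (star (-(star (1 : F)))) (Lam.bar (Lam.tr ((P.ζ : F) * D.ι 1) : Lam F True)))⁻¹ =
        (Lam.tr ((P.ζ : F) * D.ι 1) : Lam F True) := by
      ext
      · simp
      · simp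
    have e2 : S.xs (Sum.inl 1) (Sum.inr 0) (-((Lam.tr ((P.ζ : F) * D.ι 1) : Lam F True).c * -(star (1 : F)))) =
        S.xs (Sum.inl 0) (Sum.inr 1) (P.kap * 1) := by
      rw [S.sym (Sum.inl 0) (Sum.inr 1) (by decide) (by decide) (P.kap * 1), su5z3_tr_c]
      congr 1
      rw [mul_one, star_one, hsk, map_one]
      ring
    rw [e1, e2]
    exact (su5z3_comm_c S _ _).symm.eq
  · -- C10
    rw [hxa, hxc, hxD, su5z3_ssl, pow_two, S.addl]
    congr 1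
    ext
    · simp
    · simp only [Lam.tr_c, Lam.mul_c, Lam.tr_v, zero_mul, sub_zero, map_one, mul_one, one_mul, star_neg, hsk]
      unfold RO.kap
      ring
  · -- C10b
    rw [hxa, hxc, hxD, su5z3_ssl]
    congr 1
    ext
    · simp
    · simp only [Lam.tr_c, one_mul, star_neg, star_star, star_mul', hsk, D.htr, P.hσ, star_add]
      unfold RO.kap
      ring
  · -- C11
    rw [hxa, hxD]
    exact su5z3_comm_a S _ _
  · -- C12
    rw [hxb, hxD]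
    exact su5z3_comm_ll S _ _ (Lam.tr_v _)

end Z

end Cfsg.Agent.Lib.Helper19.SU5
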