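import Mathlib
import Cfsg.Agent.Lib.Helper28.CD3.Defs
import Cfsg.Agent.Lib.Helper11.AbelianQuot

/-!
# Project CD3, piece TW: a twist of an irreducible character by a linear character is irreducible
of the same degree.
-/

set_option autoImplicit false
open scoped commutatorElement

namespace Cfsg.Agent.Lib.Helper28.CD3

universe u

section frob
variable {G : Type u} [Group G] [Finite G]

-- piece TW
theorem tw_irr (N : Subgroup G) (l : N →* ℂˣ) (ψ : Cfsg.IrrCharacter N) :
    Cfsg.IsIrrCharacter N (tw N l (ψ : N → ℂ)) ∧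
      Cfsg.charDegree (tw N l (ψ : N → ℂ)) = Cfsg.charDegree (ψ : N → ℂ) := by
  haveI : Fintype N := Fintype.ofFinite _
  refine ⟨Cfsg.Agent.Lib.Helper11.isIrr_linChar_mul l (ψ : N → ℂ) ψ.2, ?_⟩
  unfold Cfsg.charDegree tw
  rw [map_one, Units.val_one, one_mul]

end frob

end Cfsg.Agent.Lib.Helper28.CD3
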