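import Cfsg.Agent.Lib.Helper20.S3571.Defs

set_option autoImplicit false

namespace Cfsg.Agent.Lib.Helper20.S3571
open Equiv

/-- the fixed-point-free element of order 3 -/
def h2_a6 : Perm (Fin 6) := swap 0 1 * swap 1 2 * (swap 3 4 * swap 4 5)

theorem h2_a6_fpf : ∀ y : Fin 6, h2_a6 y ≠ y := by decide

theorem h2_a6_pow : h2_a6 ^ 3 = 1 := by decide

theorem h2_a6_ne : h2_a6 ≠ 1 := by decide

theorem h2_a6_sign : Perm.sign h2_a6 = 1 := by decide

theorem h2_card_alt6 : Nat.card (alternatingGroup (Fin 6)) = 360 := by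
  have h := two_mul_card_alternatingGroup (α := Fin 6)
  rw [Nat.card_eq_fintype_card]
  have h2 : Fintype.card (Perm (Fin 6)) = 720 := by
    rw [Fintype.card_perm, Fintype.card_fin]; rfl
  omega

/-- a subgroup of `Perm (Fin 6)` fixing a point has order dividing 120 -/
theorem h2_card_dvd_of_fix (H : Subgroup (Perm (Fin 6))) (w : Fin 6)
    (hw : ∀ h ∈ H, h w = w) : Nat.card H ∣ 120 := by
  classical
  have hle : H ≤ MulAction.stabilizer (Perm (Fin 6)) w := by
    intro h hh
    rw [MulAction.mem_stabilizer_iff]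
    exact hw h hh
  have h1 := Subgroup.card_dvd_of_le hle
  have h2 := MulAction.card_orbit_mul_card_stabilizer_eq_card_group (Perm (Fin 6)) w
  have h3 : MulAction.orbit (Perm (Fin 6)) w = Set.univ := by
    ext y
    simp only [Set.mem_univ, iff_true]
    exact ⟨swap w y, by simp⟩
  have h4 : Fintype.card (MulAction.orbit (Perm (Fin 6)) w) = 6 := by
    rw [← Nat.card_eq_fintype_card, h3, Nat.card_coe_set_eq, Set.ncard_univ]
    simp
  rw [h4, Fintype.card_perm, Fintype.card_fin] at h2
  have h5 : Fintype.card (MulAction.stabilizer (Perm (Fin 6)) w) = 120 := by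
    have : (6 : ℕ).factorial = 720 := rfl
    omega
  rw [Nat.card_eq_fintype_card (α := MulAction.stabilizer (Perm (Fin 6)) w), h5] at h1
  exact h1

/-- C11: the intransitive case for `m = 6` (no maximality principle needed). -/
theorem concl_of_intrans_six (H : Subgroup (Perm (Fin 6)))
    (hHA : H ≤ alternatingGroup (Fin 6)) (n : ℕ)
    (hn : n * Nat.card H = Nat.card (alternatingGroup (Fin 6))) (r : ℕ) (hr : r.Prime)
    (hrd : r ∣ n) (hmax : ∀ s : ℕ, s.Prime → s ∣ n → s ≤ r) (h5 : ¬ 5 ∣ n)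
    (c : Perm (Fin 6)) (hcH : c ∈ H) (hc : c.IsCycle) (hcs : c.support.card = 5)
    (hnt : ¬ MulAction.IsPretransitive ↥H (Fin 6)) : Concl 6 H r := by
  classical
  -- the point outside the support
  have hex : ∃ w : Fin 6, w ∉ c.support := by
    by_contra hcon
    push Not at hcon
    have : c.support = Finset.univ := Finset.eq_univ_iff_forall.mpr hcon
    rw [this, Finset.card_univ, Fintype.card_fin] at hcs
    omega
  obtain ⟨w, hw⟩ := hex
  have huniq : ∀ y : Fin 6, y ∉ c.support → y = w := by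
    intro y hy
    by_contra hne
    have hsub : c.support ⊆ (Finset.univ.erase w).erase y := by
      intro z hz
      rw [Finset.mem_erase, Finset.mem_erase]
      refine ⟨fun h => hy (h ▸ hz), fun h => hw (h ▸ hz), Finset.mem_univ _⟩
    have hcard := Finset.card_le_card hsub
    rw [Finset.card_erase_of_mem (by rw [Finset.mem_erase]; exact ⟨hne, Finset.mem_univ _⟩),
      Finset.card_erase_of_mem (Finset.mem_univ _), Finset.card_univ, Fintype.card_fin, hcs] at hcard
    omega
  -- H fixes w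
  have hfix : ∀ h ∈ H, h w = w := by
    by_contra hcon
    push Not at hcon
    obtain ⟨h, hhH, hhw⟩ := hcon
    apply hnt
    -- every point can be moved into the support
    have hin : ∀ x : Fin 6, ∃ g ∈ H, g x ∈ c.support := by
      intro x
      by_cases hx : x ∈ c.support
      · exact ⟨1, H.one_mem, by simpa using hx⟩
      · have hxw := huniq x hx
        refine ⟨h, hhH, ?_⟩
        by_contra hcon2
        exact hhw (hxw ▸ huniq (h x) hcon2)
    refine ⟨fun x y => ?_⟩
    obtain ⟨g1, hg1, hx1⟩ := hin x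
    obtain ⟨g2, hg2, hy1⟩ := hin y
    rw [Perm.mem_support] at hx1 hy1
    obtain ⟨i, hi⟩ := hc.exists_zpow_eq hx1 hy1
    refine ⟨⟨g2⁻¹ * c ^ i * g1, H.mul_mem (H.mul_mem (H.inv_mem hg2) (H.zpow_mem hcH i)) hg1⟩, ?_⟩
    change (g2⁻¹ * c ^ i * g1) x = y
    rw [Perm.mul_apply, Perm.mul_apply, hi]
    exact Perm.inv_eq_iff_eq.mpr rfl
  -- arithmetic: r = 3
  have hcardH := h2_card_dvd_of_fix H w hfix
  rw [h2_card_alt6] at hn
  have h3n : 3 ∣ n := by
    by_contra h3
    have hcop : Nat.Coprime 9 n := by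
      have : Nat.Coprime 3 n := (Nat.Prime.coprime_iff_not_dvd Nat.prime_three).mpr h3
      have h9 : (9 : ℕ) = 3 ^ 2 := by norm_num
      rw [h9]
      exact Nat.Coprime.pow_left 2 this
    have h9 : 9 ∣ n * Nat.card H := by rw [hn]; norm_num
    have h9H : 9 ∣ Nat.card H := hcop.dvd_of_dvd_mul_left h9
    have : 9 ∣ 120 := h9H.trans hcardH
    omega
  have hr3 : 3 ≤ r := hmax 3 Nat.prime_three h3n
  have hr360 : r ∣ 360 := hrd.trans ⟨Nat.card H, hn.symm⟩
  have hr5 : r ≠ 5 := fun h => h5 (h ▸ hrd)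
  have hreq : r = 3 := by
    have h360 : (360 : ℕ) = 2 ^ 3 * 3 ^ 2 * 5 := by norm_num
    rw [h360] at hr360
    rcases (Nat.Prime.dvd_mul hr).mp hr360 with h | h
    · rcases (Nat.Prime.dvd_mul hr).mp h with h | h
      · have := (Nat.prime_dvd_prime_iff_eq hr Nat.prime_two).mp (hr.dvd_of_dvd_pow h)
        omega
      · exact (Nat.prime_dvd_prime_iff_eq hr Nat.prime_three).mp (hr.dvd_of_dvd_pow h)
    · exact absurd ((Nat.prime_dvd_prime_iff_eq hr Nat.prime_five).mp h) hr5
  -- the element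
  refine ⟨h2_a6, ?_, ?_, ?_⟩
  · rw [Perm.mem_alternatingGroup]; exact h2_a6_sign
  · rw [hreq]
    have : Fact (Nat.Prime 3) := ⟨Nat.prime_three⟩
    exact orderOf_eq_prime h2_a6_pow h2_a6_ne
  · intro x _ hxH
    have h1 := hfix _ hxH
    rw [Perm.mul_apply, Perm.mul_apply] at h1
    have h2 : h2_a6 (x⁻¹ w) = x⁻¹ w := by
      have := congrArg (fun z => x⁻¹ z) h1
      simpa using this
    exact h2_a6_fpf _ h2

end Cfsg.Agent.Lib.Helper20.S3571
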