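import Mathlib

/-!
# Project CHM (S4139): a group with the same class sizes (with multiplicities) as a nilpotent group
is nilpotent (Cossey–Hawkes–Mann).  Basic definitions.
-/

set_option autoImplicit false

namespace Cfsg.Agent.Lib.helper2.CHM

/-- the size of the conjugacy class of `x`. -/
noncomputable def csz {G : Type*} [Group G] (x : G) : ℕ := Nat.card (ConjClasses.mk x).carrier

/-- the number of Sylow `p`-subgroups centralised by `x`. -/
noncomputable def nu {G : Type*} [Group G] (p : ℕ) (x : G) : ℕ :=
  Nat.card {S : Sylow p G // x ∈ Subgroup.centralizer ((S : Subgroup G) : Set G)}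

end Cfsg.Agent.Lib.helper2.CHM
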