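import Mathlib
import Cfsg.Agent.Lib.helper2.MIDefs

/-!
# Project MI (S2140), piece MI-IIb infrastructure: consequences of `PsiData.equiv` for
elementary transvections and for a diagonal element.
-/

set_option autoImplicit false
set_option linter.unusedSectionVars false
set_option linter.unusedVariables false

namespace Cfsg.Agent.Lib.helper2.MI

open Matrix

variable {n : ℕ} {F : Type*} [Field F]

theorem eL_dot' (hn : 3 ≤ n) (y : Fin n → F) :
    (eL hn : Fin n → F) ⬝ᵥ y = y ⟨n - 1, by omega⟩ := by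
  unfold eL
  rw [single_dotProduct, one_mul]

theorem dot_e0' (hn : 3 ≤ n) (ψ : Fin n → F) :
    ψ ⬝ᵥ (e0 hn : Fin n → F) = ψ ⟨0, by omega⟩ := by
  unfold e0
  rw [dotProduct_single, mul_one]

/-- equivariance of `Ψ` under the elementary transvection `1 + c E_ij`. -/
theorem Psi_elem (hn : 3 ≤ n) (Ψ : (Fin n → F) → (Fin n → F)) (h : PsiData hn Ψ)
    (i j : Fin n) (hij : i ≠ j) (hj : j.1 ≠ 0) (hi : i.1 ≠ n - 1) (c : F)
    (y : Fin n → F) (hy : eL hn ⬝ᵥ y = 0) :
    ∃ κ : F, Ψ (y + (c * y j) • Pi.single i 1) =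
      Ψ y - (c * Ψ y i) • Pi.single j 1 + κ • eL hn := by
  have hperp : (Pi.single j 1 : Fin n → F) ⬝ᵥ (c • Pi.single i 1) = 0 := by
    rw [single_dotProduct, one_mul, Pi.smul_apply, Pi.single_apply, if_neg (Ne.symm hij),
      smul_zero]
  have hg0 : (tv (c • Pi.single i 1) (Pi.single j 1) hperp).1 *ᵥ e0 hn = (1 : F) • e0 hn := by
    rw [tv_val, tvM_mulVec, one_smul, dot_e0', Pi.single_apply, if_neg, zero_smul, add_zero]
    intro h0
    exact hj (congrArg Fin.val h0).symm
  have hgL : eL hn ᵥ* (tv (c • Pi.single i 1) (Pi.single j 1) hperp).1 = (1 : F) • eL hn := by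
    rw [tv_val, tvM_vecMul, one_smul, eL_dot', Pi.smul_apply, Pi.single_apply, if_neg, smul_zero,
      zero_smul, add_zero]
    intro h0
    exact hi (congrArg Fin.val h0).symm
  obtain ⟨κ, hκ⟩ := h.equiv _ 1 1 hg0 hgL y hy
  refine ⟨κ, ?_⟩
  rw [inv_one, one_smul, one_smul, tv_inv, tv_val, tv_val, tvM_mulVec, tvM_vecMul] at hκ
  convert hκ using 2
  · rw [single_dotProduct, one_mul, smul_smul, mul_comm]
  · rw [dotProduct_smul, dotProduct_single, mul_one, smul_neg, sub_eq_add_neg, smul_eq_mul]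

/-- the diagonal entries of `diag (c^(1-n), c, …, c)`. -/
def dg (hn : 3 ≤ n) (c : F) : Fin n → F := fun k => if k = ⟨0, by omega⟩ then (c⁻¹) ^ (n - 1) else c

theorem dg_det (hn : 3 ≤ n) (c : F) (hc : c ≠ 0) : (Matrix.diagonal (dg hn c)).det = 1 := by
  rw [Matrix.det_diagonal]
  unfold dg
  rw [Finset.prod_ite, Finset.prod_const, Finset.prod_const, Finset.filter_eq',
    if_pos (Finset.mem_univ _), Finset.card_singleton, Finset.filter_ne',
    Finset.card_erase_of_mem (Finset.mem_univ _), Finset.card_univ, Fintype.card_fin, pow_one,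
    ← mul_pow, inv_mul_cancel₀ hc, one_pow]

/-- every nonzero scalar is an `n`-th root of unity. -/
theorem Psi_pow (hn : 3 ≤ n) (Ψ : (Fin n → F) → (Fin n → F)) (h : PsiData hn Ψ)
    (c : F) (hc : c ≠ 0) : c ^ n = 1 := by
  set g : SpecialLinearGroup (Fin n) F := ⟨Matrix.diagonal (dg hn c), dg_det hn c hc⟩ with hg
  have hg0 : g.1 *ᵥ e0 hn = ((c⁻¹) ^ (n - 1)) • e0 hn := by
    change Matrix.diagonal (dg hn c) *ᵥ e0 hn = _
    unfold e0
    rw [Matrix.diagonal_mulVec_single, mul_one]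
    unfold dg
    rw [if_pos rfl]
    ext k
    simp [Pi.single_apply]
  have hgL : eL hn ᵥ* g.1 = c • eL hn := by
    change eL hn ᵥ* Matrix.diagonal (dg hn c) = _
    unfold eL
    rw [Matrix.single_vecMul_diagonal, one_mul]
    unfold dg
    rw [if_neg]
    · ext k
      simp [Pi.single_apply]
    · intro h0
      have := congrArg Fin.val h0
      simp at this
      omega
  have h1n : (⟨1, by omega⟩ : Fin n) ≠ ⟨n - 1, by omega⟩ := by
    intro h0
    have := congrArg Fin.val h0
    simp at this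
    omega
  have h10 : (⟨1, by omega⟩ : Fin n) ≠ ⟨0, by omega⟩ := by
    intro h0
    have := congrArg Fin.val h0
    simp at this
  set y : Fin n → F := Pi.single (⟨1, by omega⟩ : Fin n) 1 with hy
  have hyL : eL hn ⬝ᵥ y = 0 := by
    rw [eL_dot', hy, Pi.single_apply, if_neg (Ne.symm h1n)]
  obtain ⟨κ, hκ⟩ := h.equiv g ((c⁻¹) ^ (n - 1)) c hg0 hgL y hyL
  have hgy : c⁻¹ • (g.1 *ᵥ y) = y := by
    change c⁻¹ • (Matrix.diagonal (dg hn c) *ᵥ y) = y
    rw [hy, Matrix.diagonal_mulVec_single, mul_one]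
    unfold dg
    rw [if_neg h10]
    ext k
    simp [Pi.single_apply, hc]
  rw [hgy] at hκ
  -- multiply by g on the right
  have hgg : (g⁻¹ : SpecialLinearGroup (Fin n) F).1 * g.1 = 1 :=
    congrArg Subtype.val (inv_mul_cancel g)
  have h2 : Ψ y ᵥ* g.1 = ((c⁻¹) ^ (n - 1)) • Ψ y + (κ * c) • eL hn := by
    conv_lhs => rw [hκ]
    rw [Matrix.add_vecMul, Matrix.smul_vecMul, Matrix.smul_vecMul, Matrix.vecMul_vecMul, hgg,
      Matrix.vecMul_one, hgL, smul_smul]
  -- components
  have h3 : ∀ k : Fin n, k ≠ ⟨0, by omega⟩ → k ≠ ⟨n - 1, by omega⟩ →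
      Ψ y k * c = (c⁻¹) ^ (n - 1) * Ψ y k := by
    intro k hk0 hkL
    have := congrFun h2 k
    change (Ψ y ᵥ* Matrix.diagonal (dg hn c)) k = _ at this
    rw [Matrix.vecMul_diagonal] at this
    unfold dg at this
    rw [if_neg hk0] at this
    rw [this]
    unfold eL
    simp [Pi.single_apply, hkL]
  -- some middle component is nonzero
  have h4 : ∃ k : Fin n, k ≠ ⟨0, by omega⟩ ∧ k ≠ ⟨n - 1, by omega⟩ ∧ Ψ y k ≠ 0 := by
    by_contra hcon
    push Not at hcon
    have h5 : ∃ c' : F, Ψ y = c' • eL hn := by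
      refine ⟨Ψ y ⟨n - 1, by omega⟩, ?_⟩
      ext k
      by_cases hk0 : k = ⟨0, by omega⟩
      · subst hk0
        have := h.perp_v y hyL
        rw [dot_e0'] at this
        rw [this]
        unfold eL
        simp [Pi.single_apply]
        intro h0
        exfalso
        omega
      · by_cases hkL : k = ⟨n - 1, by omega⟩
        · subst hkL
          unfold eL
          simp
        · rw [hcon k hk0 hkL]
          unfold eL
          simp [Pi.single_apply, hkL]
    obtain ⟨c', hc'⟩ := h.inj y hyL h5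
    have := congrFun hc' ⟨1, by omega⟩
    rw [hy] at this
    unfold e0 at this
    simp [Pi.single_apply, h10] at this
  obtain ⟨k, hk0, hkL, hkne⟩ := h4
  have h6 := h3 k hk0 hkL
  have h7 : c = (c⁻¹) ^ (n - 1) := by
    have : Ψ y k * c = Ψ y k * (c⁻¹) ^ (n - 1) := by rw [h6, mul_comm]
    exact mul_left_cancel₀ hkne this
  have h8 : c ^ n = c ^ (n - 1) * c := by
    rw [← pow_succ]
    congr 1
    omega
  rw [h8]
  nth_rewrite 2 [h7]
  rw [← mul_pow, mul_inv_cancel₀ hc, one_pow]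

end Cfsg.Agent.Lib.helper2.MI
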