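import Mathlib

set_option autoImplicit false

namespace Cfsg.Agent.Lib.helper2.AltGenTWD

open Equiv Equiv.Perm MulAction

theorem exists_normal_form {G α : Type*} [Group G] [MulAction G α]
    (s : Set α) (n m : ℕ) (e : Fin n ≃ s) (hn : IsMultiplyPretransitive G α n)
    (x : Fin (n + m) ↪ α) :
    ∃ (g : G) (z : Fin m ↪ SubMulAction.ofFixingSubgroup G s),
      (∀ i : Fin n, g • x (Fin.castAdd m i) = (e i : α)) ∧
      (∀ j : Fin m, g • x (Fin.natAdd n j) = (z j : α)) := by
  classical
  let σ : Fin n ↪ α := e.toEmbedding.trans (Function.Embedding.subtype _)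
  let x₁ : Fin n ↪ α := (Fin.castAddEmb m).trans x
  obtain ⟨g, hg⟩ := hn.exists_smul_eq x₁ σ
  have h1 : ∀ i : Fin n, g • x (Fin.castAdd m i) = (e i : α) := by
    intro i
    have := DFunLike.congr_fun hg i
    simpa [x₁, σ] using this
  have h2 : ∀ j : Fin m, g • x (Fin.natAdd n j) ∈ SubMulAction.ofFixingSubgroup G s := by
    intro j
    rw [SubMulAction.mem_ofFixingSubgroup_iff]
    intro hmem
    obtain ⟨i, hi⟩ := e.surjective ⟨_, hmem⟩
    have h3 : g • x (Fin.castAdd m i) = g • x (Fin.natAdd n j) := by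
      rw [h1 i, hi]
    have h4 : Fin.castAdd m i = Fin.natAdd n j := x.injective (smul_left_cancel g h3)
    have h5 := congrArg Fin.val h4
    simp at h5
    omega
  refine ⟨g, ⟨fun j => ⟨g • x (Fin.natAdd n j), h2 j⟩, ?_⟩, h1, fun j => rfl⟩
  intro j j' hjj'
  have h3 : g • x (Fin.natAdd n j) = g • x (Fin.natAdd n j') := congrArg Subtype.val hjj'
  have h4 := x.injective (smul_left_cancel g h3)
  have h5 := congrArg Fin.val h4
  simp at h5
  exact Fin.ext h5

theorem multTrans_of_fixingSubgroup {G α : Type*} [Group G] [MulAction G α] [Finite α]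
    (s : Set α) (n m : ℕ) (hs : s.ncard = n) (hn : IsMultiplyPretransitive G α n)
    (hm : IsMultiplyPretransitive (fixingSubgroup G s) (SubMulAction.ofFixingSubgroup G s) m) :
    IsMultiplyPretransitive G α (n + m) := by
  classical
  have hcard : Nat.card s = n := by rw [Nat.card_coe_set_eq, hs]
  have : Finite s := Subtype.finite
  let e : Fin n ≃ s := (Finite.equivFinOfCardEq hcard).symm
  refine ⟨fun x y => ?_⟩
  obtain ⟨gx, zx, hx1, hx2⟩ := exists_normal_form s n m e hn x
  obtain ⟨gy, zy, hy1, hy2⟩ := exists_normal_form s n m e hn y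
  obtain ⟨h, hh⟩ := hm.exists_smul_eq zx zy
  refine ⟨gy⁻¹ * (h : G) * gx, ?_⟩
  ext k
  rw [Function.Embedding.smul_apply, mul_smul, mul_smul, inv_smul_eq_iff]
  induction k using Fin.addCases with
  | left i =>
    rw [hx1 i, hy1 i]
    exact (mem_fixingSubgroup_iff G).mp h.2 _ (e i).2
  | right j =>
    rw [hx2 j, hy2 j]
    have := DFunLike.congr_fun hh j
    rw [Function.Embedding.smul_apply] at this
    have h2 := congrArg Subtype.val this
    simpa [Subgroup.smul_def] using h2

end Cfsg.Agent.Lib.helper2.AltGenTWD
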