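import Mathlib

set_option autoImplicit false

namespace Cfsg.Agent.Lib.helper2

section hall

/-- splitting a number relative to `m` -/
theorem ct_split (m : ℕ) : ∀ z : ℕ, 0 < z → ∃ a b : ℕ, z = a * b ∧
    (∀ p : ℕ, p.Prime → p ∣ a → p ∣ m) ∧ Nat.Coprime b m := by
  intro z
  induction z using Nat.strong_induction_on with
  | _ z ih =>
    intro hz
    by_cases hc : Nat.Coprime z m
    · refine ⟨1, z, (one_mul z).symm, ?_, hc⟩
      intro p hp hp1
      exact absurd (Nat.dvd_one.mp hp1) hp.ne_one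
    · have hg1 : Nat.gcd z m ≠ 1 := hc
      have hgz : Nat.gcd z m ∣ z := Nat.gcd_dvd_left z m
      obtain ⟨z', hz'⟩ := hgz
      have hg0 : 0 < Nat.gcd z m := Nat.gcd_pos_of_pos_left m hz
      have hz'0 : 0 < z' := by
        rcases Nat.eq_zero_or_pos z' with h | h
        · rw [h, mul_zero] at hz'
          omega
        · exact h
      have hlt : z' < z := by
        have h2 : 2 ≤ Nat.gcd z m := by omega
        calc z' < 2 * z' := by omega
          _ ≤ Nat.gcd z m * z' := Nat.mul_le_mul_right z' h2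
          _ = z := hz'.symm
      obtain ⟨a', b', hab, ha', hb'⟩ := ih z' hlt hz'0
      refine ⟨Nat.gcd z m * a', b', ?_, ?_, hb'⟩
      · rw [mul_assoc, ← hab]
        exact hz'
      · intro p hp hpd
        rcases (Nat.Prime.dvd_mul hp).mp hpd with h | h
        · exact h.trans (Nat.gcd_dvd_right z m)
        · exact ha' p hp h

/-- primes dividing the order divide any exponent -/
theorem ct_prime_dvd_of_pow {H : Type*} [Group H] [Finite H] (n : ℕ) (h : ∀ x : H, x ^ n = 1)
    (p : ℕ) (hp : p.Prime) (hpd : p ∣ Nat.card H) : p ∣ n := by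
  haveI : Fact p.Prime := ⟨hp⟩
  obtain ⟨x, hx⟩ := exists_prime_orderOf_dvd_card' p hpd
  rw [← hx]
  exact orderOf_dvd_of_pow_eq_one (h x)

variable {Q : Type*} [Group Q] [Finite Q]

/-- the Hall-type decomposition over a central subgroup -/
theorem ct_hall (Gs Zs : Subgroup Q) [hGs : Gs.Normal] (hZc : Zs ≤ Subgroup.center Q)
    (hZG : Zs ≤ Gs) (hcop : (Gs.index).Coprime (Zs.relIndex Gs)) :
    ∃ K S : Subgroup Q, K.Normal ∧ K ≤ Gs ∧ (∀ g ∈ Gs, ∃ k ∈ K, ∃ z ∈ Zs, g = k * z) ∧
      (Nat.card K).Coprime (Nat.card S) ∧ (∀ x : Q, ∃ k ∈ K, ∃ s ∈ S, x = k * s) ∧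
      K ⊓ S = ⊥ := by
  classical
  obtain ⟨a, b, hab, ha, hb⟩ := ct_split (Zs.relIndex Gs) (Nat.card Zs) Nat.card_pos
  have hcomm : ∀ z : Zs, ∀ x : Q, (z : Q) * x = x * z := by
    intro z x
    exact (Subgroup.mem_center_iff.mp (hZc z.2) x).symm
  -- the power map
  let φ : Zs →* Q := MonoidHom.mk' (fun z => (z : Q) ^ a) (by
    intro z w
    show ((z * w : Zs) : Q) ^ a = (z : Q) ^ a * (w : Q) ^ a
    rw [Subgroup.coe_mul]
    exact (show Commute (z : Q) (w : Q) from hcomm z w).mul_pow a)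
  have hφ : ∀ z : Zs, φ z = (z : Q) ^ a := fun z => rfl
  have hB_le : φ.range ≤ Zs := by
    rintro _ ⟨z, rfl⟩
    rw [hφ]
    exact Zs.pow_mem z.2 a
  have hBpow : ∀ y : φ.range, y ^ b = 1 := by
    rintro ⟨_, ⟨z, rfl⟩⟩
    apply Subtype.ext
    show (φ z) ^ b = 1
    rw [hφ, ← pow_mul, ← hab]
    have h2 : ((z ^ Nat.card Zs : Zs) : Q) = ((1 : Zs) : Q) :=
      congrArg (Subtype.val) (pow_card_eq_one' (G := Zs) (x := z))
    rw [Subgroup.coe_pow, Subgroup.coe_one] at h2
    exact h2
  have hApow : ∀ z : φ.ker, z ^ a = 1 := by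
    intro z
    apply Subtype.ext
    apply Subtype.ext
    have := MonoidHom.mem_ker.mp z.2
    rw [hφ] at this
    simpa using this
  have hcards : Nat.card Zs = Nat.card φ.ker * Nat.card φ.range := by
    rw [← Subgroup.index_ker φ, Subgroup.card_mul_index]
  have hBp : ∀ p : ℕ, p.Prime → p ∣ Nat.card φ.range → p ∣ b :=
    fun p hp hpd => ct_prime_dvd_of_pow b hBpow p hp hpd
  have hAp : ∀ p : ℕ, p.Prime → p ∣ Nat.card φ.ker → p ∣ Zs.relIndex Gs :=
    fun p hp hpd => ha p hp (ct_prime_dvd_of_pow a hApow p hp hpd)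
  have cBm : Nat.Coprime (Nat.card φ.range) (Zs.relIndex Gs) := by
    apply Nat.Coprime.symm
    apply Nat.Coprime.symm
    refine Nat.coprime_of_dvd ?_
    intro p hp h1 h2
    have h3 := hBp p hp h1
    have := Nat.Coprime.eq_one_of_dvd (Nat.Coprime.coprime_dvd_left h3 hb) h2
    exact hp.ne_one this
  have cBA : Nat.Coprime (Nat.card φ.range) (Nat.card φ.ker) := by
    refine Nat.coprime_of_dvd ?_
    intro p hp h1 h2
    have h3 := hAp p hp h2
    have := Nat.Coprime.eq_one_of_dvd (Nat.Coprime.coprime_dvd_left h1 cBm) h3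
    exact hp.ne_one this
  have cAk : Nat.Coprime (Nat.card φ.ker) Gs.index := by
    refine Nat.coprime_of_dvd ?_
    intro p hp h1 h2
    have h3 := hAp p hp h1
    have := Nat.Coprime.eq_one_of_dvd (Nat.Coprime.coprime_dvd_left h2 hcop) h3
    exact hp.ne_one this
  -- B inside Gs
  have hBG : φ.range ≤ Gs := hB_le.trans hZG
  have hBc : ∀ y ∈ φ.range, ∀ x : Q, y * x = x * y := by
    intro y hy x
    exact hcomm ⟨y, hB_le hy⟩ x
  haveI hBn : (φ.range.subgroupOf Gs).Normal := by
    constructor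
    intro n hn g
    rw [Subgroup.mem_subgroupOf] at hn ⊢
    have h1 : ((g * n * g⁻¹ : Gs) : Q) = (n : Q) := by
      rw [Subgroup.coe_mul, Subgroup.coe_mul, Subgroup.coe_inv]
      rw [← hBc _ hn (g : Q)]
      group
    rw [h1]
    exact hn
  have hcardB' : Nat.card (φ.range.subgroupOf Gs) = Nat.card φ.range :=
    Nat.card_congr (Subgroup.subgroupOfEquivOfLe hBG).toEquiv
  have hrelBZ : φ.range.relIndex Zs = Nat.card φ.ker := by
    have h1 : Nat.card (φ.range.subgroupOf Zs) * (φ.range.subgroupOf Zs).index = Nat.card Zs :=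
      Subgroup.card_mul_index _
    have h2 : Nat.card (φ.range.subgroupOf Zs) = Nat.card φ.range :=
      Nat.card_congr (Subgroup.subgroupOfEquivOfLe hB_le).toEquiv
    rw [h2, hcards, mul_comm] at h1
    exact Nat.eq_of_mul_eq_mul_right Nat.card_pos h1
  have hidxB' : (φ.range.subgroupOf Gs).index = Nat.card φ.ker * Zs.relIndex Gs := by
    show φ.range.relIndex Gs = _
    rw [← Subgroup.relIndex_mul_relIndex _ _ _ hB_le hZG, hrelBZ]
  have hcopB' : Nat.Coprime (Nat.card (φ.range.subgroupOf Gs)) (φ.range.subgroupOf Gs).index := by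
    rw [hcardB', hidxB']
    exact Nat.Coprime.mul_right cBA cBm
  obtain ⟨K', hK'⟩ := Subgroup.exists_right_complement'_of_coprime hcopB'
  have hcardK' : Nat.card K' = Nat.card φ.ker * Zs.relIndex Gs := by
    rw [← hidxB']
    exact (hK'.symm.index_eq_card).symm
  have hcardK : Nat.card (K'.map Gs.subtype) = Nat.card φ.ker * Zs.relIndex Gs := by
    rw [Subgroup.card_map_of_injective Gs.subtype_injective, hcardK']
  have hKG : K'.map Gs.subtype ≤ Gs := by
    rintro _ ⟨k, -, rfl⟩
    exact k.2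
  -- decomposition
  have hdec : ∀ g ∈ Gs, ∃ k ∈ K'.map Gs.subtype, ∃ z ∈ φ.range, g = k * z := by
    intro g hg
    obtain ⟨⟨y, k⟩, hyk⟩ := hK'.2 ⟨g, hg⟩
    have h1 : ((y : Gs) : Q) * ((k : Gs) : Q) = g := by
      have := congrArg Subtype.val hyk
      simpa using this
    have hy : ((y : Gs) : Q) ∈ φ.range := Subgroup.mem_subgroupOf.mp y.2
    refine ⟨((k : Gs) : Q), ⟨(k : Gs), k.2, rfl⟩, ((y : Gs) : Q), hy, ?_⟩
    rw [← h1]
    exact hBc _ hy _
  have hcopKB : Nat.Coprime (Nat.card (K'.map Gs.subtype)) (Nat.card φ.range) := by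
    rw [hcardK]
    exact (Nat.Coprime.mul_right cBA cBm).symm
  -- normality of K
  have hKn : (K'.map Gs.subtype).Normal := by
    constructor
    intro k hk x
    have hxk : x * k * x⁻¹ ∈ Gs := hGs.conj_mem k (hKG hk) x
    obtain ⟨k', hk', z, hz, hkz⟩ := hdec _ hxk
    have h1 : (x * k * x⁻¹) ^ Nat.card (K'.map Gs.subtype) = 1 := by
      rw [conj_pow]
      have h2 : ((⟨k, hk⟩ : K'.map Gs.subtype) ^ Nat.card (K'.map Gs.subtype) :
          K'.map Gs.subtype) = 1 := pow_card_eq_one'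
      have h3 := congrArg Subtype.val h2
      rw [Subgroup.coe_pow, Subgroup.coe_one] at h3
      rw [h3]
      group
    have h4 : k' ^ Nat.card (K'.map Gs.subtype) = 1 := by
      have h2 : ((⟨k', hk'⟩ : K'.map Gs.subtype) ^ Nat.card (K'.map Gs.subtype) :
          K'.map Gs.subtype) = 1 := pow_card_eq_one'
      have h3 := congrArg Subtype.val h2
      rw [Subgroup.coe_pow, Subgroup.coe_one] at h3
      exact h3
    have h5 : z ^ Nat.card (K'.map Gs.subtype) = 1 := by
      rw [hkz, (show Commute k' z from (hBc z hz k').symm).mul_pow, h4, one_mul] at h1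
      exact h1
    have h6 : z ^ Nat.card φ.range = 1 := by
      have h2 : ((⟨z, hz⟩ : φ.range) ^ Nat.card φ.range : φ.range) = 1 := pow_card_eq_one'
      have h3 := congrArg Subtype.val h2
      rw [Subgroup.coe_pow, Subgroup.coe_one] at h3
      exact h3
    have h7 := pow_gcd_eq_one.mpr ⟨h5, h6⟩
    rw [Nat.Coprime.gcd_eq_one hcopKB, pow_one] at h7
    rw [hkz, h7, mul_one]
    exact hk'
  -- index of K
  have hidxK : (K'.map Gs.subtype).index = Nat.card φ.range * Gs.index := by
    have h1 : Nat.card (K'.map Gs.subtype) * (K'.map Gs.subtype).index = Nat.card Q :=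
      Subgroup.card_mul_index _
    have h2 : Nat.card Gs * Gs.index = Nat.card Q := Subgroup.card_mul_index _
    have h3 : Nat.card (φ.range.subgroupOf Gs) * Nat.card K' = Nat.card Gs := hK'.card_mul_card
    rw [hcardB'] at h3
    rw [← h2, ← h3, Subgroup.card_map_of_injective Gs.subtype_injective] at h1
    have h4 : Nat.card K' * (K'.map Gs.subtype).index =
        Nat.card K' * (Nat.card φ.range * Gs.index) := by
      rw [h1]; ring
    exact Nat.eq_of_mul_eq_mul_left Nat.card_pos h4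
  have hcopK : Nat.Coprime (Nat.card (K'.map Gs.subtype)) (K'.map Gs.subtype).index := by
    rw [hidxK, hcardK]
    apply Nat.Coprime.mul_right
    · exact (Nat.Coprime.mul_right cBA cBm).symm
    · exact Nat.Coprime.mul_left cAk hcop.symm
  haveI := hKn
  obtain ⟨S, hS⟩ := Subgroup.exists_right_complement'_of_coprime hcopK
  have hcardS : Nat.card S = (K'.map Gs.subtype).index := (hS.symm.index_eq_card).symm
  refine ⟨K'.map Gs.subtype, S, hKn, hKG, ?_, ?_, ?_, ?_⟩
  · intro g hg
    obtain ⟨k, hk, z, hz, h⟩ := hdec g hg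
    exact ⟨k, hk, z, hB_le hz, h⟩
  · rw [hcardS]
    exact hcopK
  · intro x
    obtain ⟨⟨k, s⟩, hks⟩ := hS.2 x
    exact ⟨k, k.2, s, s.2, hks.symm⟩
  · exact hS.disjoint.eq_bot

end hall

end Cfsg.Agent.Lib.helper2
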