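import Mathlib
import Cfsg.Prelude.Def_Characters
import Cfsg.Agent.Lib.helper2.InvAbove1
import Cfsg.Agent.Lib.helper2.RelGlauberman

set_option autoImplicit false
open Cfsg
open scoped ComplexConjugate

namespace Cfsg.Agent.Lib.helper2

open Cfsg.Agent.Lib.helper7 Cfsg.Agent.Lib.Helper11 Cfsg.Agent.Lib.Helper25

/-- the subgroup of linear characters fixing a function under multiplication -/
def iaFix {K : Type*} [Group K] (χ₀ : K → ℂ) : Subgroup (K →* ℂˣ) where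
  carrier := {β | ∀ g, ((β g : ℂˣ) : ℂ) * χ₀ g = χ₀ g}
  one_mem' := by
    intro g
    simp
  mul_mem' := by
    intro a b ha hb g
    rw [MonoidHom.mul_apply, Units.val_mul, mul_assoc, hb g, ha g]
  inv_mem' := by
    intro a ha g
    have h := ha g
    calc ((a⁻¹ g : ℂˣ) : ℂ) * χ₀ g = ((a⁻¹ g : ℂˣ) : ℂ) * (((a g : ℂˣ) : ℂ) * χ₀ g) := by rw [h]
      _ = χ₀ g := by
        rw [← mul_assoc, ← Units.val_mul, MonoidHom.inv_apply, inv_mul_cancel, Units.val_one,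
          one_mul]

theorem ia_mem_fix {K : Type*} [Group K] (χ₀ : K → ℂ) (β : K →* ℂˣ) :
    β ∈ iaFix χ₀ ↔ ∀ g, ((β g : ℂˣ) : ℂ) * χ₀ g = χ₀ g := Iff.rfl

theorem ia_div_mem_fix {K : Type*} [Group K] (χ₀ : K → ℂ) (a b : K →* ℂˣ) :
    a / b ∈ iaFix χ₀ ↔ ∀ g, ((a g : ℂˣ) : ℂ) * χ₀ g = ((b g : ℂˣ) : ℂ) * χ₀ g := by
  rw [ia_mem_fix]
  constructor
  · intro h g
    have h1 := h g
    rw [MonoidHom.div_apply] at h1
    calc ((a g : ℂˣ) : ℂ) * χ₀ g = ((b g : ℂˣ) : ℂ) * (((a g / b g : ℂˣ) : ℂ) * χ₀ g) := by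
          rw [← mul_assoc, ← Units.val_mul, mul_div_cancel]
      _ = ((b g : ℂˣ) : ℂ) * χ₀ g := by rw [h1]
  · intro h g
    rw [MonoidHom.div_apply, div_eq_mul_inv, Units.val_mul, mul_comm ((a g : ℂˣ) : ℂ), mul_assoc,
      h g, ← mul_assoc, ← Units.val_mul, inv_mul_cancel, Units.val_one, one_mul]

/-- abstract cocycle computation in a commutative group -/
theorem ia_cocycle {A : Type*} [CommGroup A] {S : Type*} [Group S] [Fintype S]
    (lam : S → A) (act : S → (A →* A)) (B : Subgroup A)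
    (hcoc : ∀ s t, lam (s * t) / (act t (lam s) * lam t) ∈ B)
    (m : ℕ) (hm : ∀ s, lam s ^ m = 1) (hcop : m.Coprime (Fintype.card S)) :
    ∃ b : ℤ, ∀ t, (∏ s : S, lam s) ^ b / (act t ((∏ s : S, lam s) ^ b) * lam t) ∈ B := by
  classical
  obtain ⟨Λ, hΛ⟩ : ∃ Λ : A, Λ = ∏ s : S, lam s := ⟨_, rfl⟩
  have hprod : ∀ t, Λ / (act t Λ * lam t ^ Fintype.card S) ∈ B := by
    intro t
    have h1 : ∏ s : S, (lam (s * t) / (act t (lam s) * lam t)) ∈ B :=
      Subgroup.prod_mem _ (fun s _ => hcoc s t)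
    rw [Finset.prod_div_distrib, Finset.prod_mul_distrib, Finset.prod_const, Finset.card_univ]
      at h1
    have h2 : ∏ s : S, lam (s * t) = Λ := by
      rw [hΛ]
      exact Equiv.prod_comp (Equiv.mulRight t) lam
    have h3 : ∏ s : S, act t (lam s) = act t Λ := by
      rw [hΛ, map_prod]
    rw [h2, h3] at h1
    exact h1
  obtain ⟨a, b, hab⟩ : ∃ a b : ℤ, (m : ℤ) * a + (Fintype.card S : ℤ) * b = 1 := by
    have h := Nat.gcd_eq_gcd_ab m (Fintype.card S)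
    rw [Nat.Coprime.gcd_eq_one hcop] at h
    exact ⟨_, _, by rw [← h]; simp⟩
  refine ⟨b, ?_⟩
  intro t
  rw [← hΛ]
  have h4 : (Λ / (act t Λ * lam t ^ Fintype.card S)) ^ b ∈ B := B.zpow_mem (hprod t) b
  have h5 : (Λ / (act t Λ * lam t ^ Fintype.card S)) ^ b = Λ ^ b / (act t (Λ ^ b) * lam t) := by
    rw [div_zpow, mul_zpow, map_zpow]
    congr 2
    rw [← zpow_natCast, ← zpow_mul]
    have : (Fintype.card S : ℤ) * b = 1 - m * a := by linarith
    rw [this, zpow_sub, zpow_one, zpow_mul, zpow_natCast, hm, one_zpow, inv_one, mul_one]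
  rw [h5] at h4
  exact h4

/-- averaging lemma -/
theorem ia_average {K : Type*} [Group K] {S : Type*} [Group S] [Fintype S]
    (χ₀ : K → ℂ) (c : S → (K ≃* K)) (hc : ∀ s t g, c (s * t) g = c s (c t g))
    (lam : S → (K →* ℂˣ)) (hlam : ∀ s g, χ₀ (c s g) = ((lam s g : ℂˣ) : ℂ) * χ₀ g)
    (A : Subgroup (K →* ℂˣ)) (hA : ∀ s, lam s ∈ A)
    (m : ℕ) (hm : ∀ s, lam s ^ m = 1) (hcop : m.Coprime (Fintype.card S)) :
    ∃ μ ∈ A, ∀ t g, ((μ (c t g) : ℂˣ) : ℂ) * χ₀ (c t g) = ((μ g : ℂˣ) : ℂ) * χ₀ g := by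
  classical
  obtain ⟨act, hactdef⟩ : ∃ act : S → ((K →* ℂˣ) →* (K →* ℂˣ)),
      act = fun t => MonoidHom.compHom' (c t).toMonoidHom := ⟨_, rfl⟩
  have hact : ∀ t φ g, act t φ g = φ (c t g) := by
    intro t φ g
    rw [hactdef]
    rfl
  have hcoc : ∀ s t, lam (s * t) / (act t (lam s) * lam t) ∈ iaFix χ₀ := by
    intro s t
    apply (ia_div_mem_fix χ₀ _ _).mpr
    intro g
    rw [← hlam (s * t) g, hc, hlam s (c t g), hlam t g, MonoidHom.mul_apply, Units.val_mul, hact]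
    ring
  obtain ⟨b, hb⟩ := ia_cocycle lam act (iaFix χ₀) hcoc m hm hcop
  refine ⟨(∏ s : S, lam s) ^ b, A.zpow_mem (A.prod_mem (fun s _ => hA s)) b, ?_⟩
  intro t g
  have h4 := (ia_div_mem_fix χ₀ _ _).mp (hb t) g
  rw [hlam t g, ← mul_assoc, ← Units.val_mul, h4, MonoidHom.mul_apply, hact]

end Cfsg.Agent.Lib.helper2
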