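import Mathlib
import Cfsg.Prelude.Def_Characters
import Cfsg.Agent.Lib.helper2.InvAbove2

set_option autoImplicit false
open Cfsg
open scoped ComplexConjugate

namespace Cfsg.Agent.Lib.helper2

open Cfsg.Agent.Lib.helper7 Cfsg.Agent.Lib.Helper11 Cfsg.Agent.Lib.Helper25

/-- the abelian step of Isaacs 13.28 -/
theorem ia_ab_step {Γ : Type*} [Group Γ] [Fintype Γ] (G S N : Subgroup Γ) [Fintype G] [Fintype N]
    (hnorm : ∀ s ∈ S, ∀ g ∈ G, s * g * s⁻¹ ∈ G) (hNG : N ≤ G) [hNn : (N.subgroupOf G).Normal]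
    (hNS : ∀ s ∈ S, ∀ n ∈ N, s * n * s⁻¹ ∈ N) (hcop : (N.relIndex G).Coprime (Nat.card S))
    (hab : ∀ x y : G, x * y * x⁻¹ * y⁻¹ ∈ N.subgroupOf G)
    (θ : Cfsg.IrrCharacter N)
    (hinv : ∀ s ∈ S, ∀ g g' : N, (g' : Γ) = s * g * s⁻¹ → (θ : N → ℂ) g' = (θ : N → ℂ) g) :
    ∃ χ : Cfsg.IrrCharacter G,
      Cfsg.classInner (fun n : N => (χ : G → ℂ) ⟨n, hNG n.2⟩) (θ : N → ℂ) ≠ 0 ∧
      (∀ s ∈ S, ∀ g g' : G, (g' : Γ) = s * g * s⁻¹ → (χ : G → ℂ) g' = (χ : G → ℂ) g) := by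
  classical
  haveI : Fintype (N.subgroupOf G) := Fintype.ofFinite _
  haveI : Fintype S := Fintype.ofFinite _
  let e : (N.subgroupOf G) ≃* N := Subgroup.subgroupOfEquivOfLe hNG
  have hSG : S ≤ Subgroup.normalizer (G : Set Γ) := rg_le_normalizer S G hnorm
  have hSN : S ≤ Subgroup.normalizer (N : Set Γ) := rg_le_normalizer S N hNS
  obtain ⟨θK, hθKdef⟩ : ∃ θK : N.subgroupOf G → ℂ, θK = fun x => (θ : N → ℂ) (e x) := ⟨_, rfl⟩
  have hθK : Cfsg.IsIrrCharacter (N.subgroupOf G) θK := by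
    rw [hθKdef]; exact h7_isIrr_comp_equiv e _ θ.2
  have hconv : ∀ χ : G → ℂ, Cfsg.classInner (fun x : N.subgroupOf G => χ x) θK =
      Cfsg.classInner (fun n : N => χ ⟨n, hNG n.2⟩) (θ : N → ℂ) := by
    intro χ
    rw [hθKdef]
    exact h7_classInner_comp_equiv e (fun n : N => χ ⟨n, hNG n.2⟩) (θ : N → ℂ)
  -- existence
  have hInd : Cfsg.IsCharacter G (Cfsg.indFun (N.subgroupOf G) θK) :=
    isCharacter_indFun _ θK (isCharacter_of_irr ⟨θK, hθK⟩)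
  have hne1 : Cfsg.indFun (N.subgroupOf G) θK 1 ≠ 0 := by
    rw [h7_indFun_one]
    exact mul_ne_zero (by exact_mod_cast Subgroup.index_ne_zero_of_finite)
      (irr_one_ne_zero ⟨θK, hθK⟩)
  obtain ⟨χ₀, a, hapos, ha⟩ := isCharacter_exists_constituent hInd hne1
  have hχ₀cl := isCharacter_isClassFunction (isCharacter_of_irr χ₀)
  have hover₀ : Cfsg.classInner (fun x : N.subgroupOf G => (χ₀ : G → ℂ) x) θK ≠ 0 := by
    intro h
    have h2 := h7_frobenius_reciprocity (N.subgroupOf G) θK (χ₀ : G → ℂ) hχ₀cl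
    rw [ha, Cfsg.Agent.Lib.helper2.classInner_conj_symm θK, h, map_zero] at h2
    exact (by exact_mod_cast hapos.ne' : (a : ℂ) ≠ 0) h2
  -- the S action
  obtain ⟨cG, hcG⟩ : ∃ cG : S → (G ≃* G), cG = fun s : S => rgConjN G (s : Γ) (hSG s.2) := ⟨_, rfl⟩
  have hcGcoe : ∀ (s : S) (g : G), ((cG s g : G) : Γ) = s * g * (s : Γ)⁻¹ := by
    intro s g
    rw [hcG]
    rfl
  have hcGmul : ∀ s t g, cG (s * t) g = cG s (cG t g) := by
    intro s t g
    apply Subtype.ext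
    rw [hcGcoe, hcGcoe, hcGcoe, Subgroup.coe_mul]
    group
  -- twisted χ₀ lies over θ
  have hover : ∀ s : S,
      Cfsg.classInner (fun x : N.subgroupOf G => (χ₀ : G → ℂ) (cG s x)) θK ≠ 0 := by
    intro s
    rw [hconv (fun g => (χ₀ : G → ℂ) (cG s g))]
    have h1 := h7_classInner_comp_equiv (rgConjN N s (hSN s.2))
      (fun n : N => (χ₀ : G → ℂ) ⟨n, hNG n.2⟩) (θ : N → ℂ)
    have h2 : (fun a : N => (θ : N → ℂ) (rgConjN N s (hSN s.2) a)) = (θ : N → ℂ) := by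
      funext a
      exact hinv s s.2 a _ rfl
    rw [h2] at h1
    have h3 : (fun a : N => (fun n : N => (χ₀ : G → ℂ) ⟨n, hNG n.2⟩)
        (rgConjN N s (hSN s.2) a)) =
        fun n : N => (fun g => (χ₀ : G → ℂ) (cG s g)) ⟨n, hNG n.2⟩ := by
      funext a
      simp only
      refine congrArg (χ₀ : G → ℂ) (Subtype.ext ?_)
      rw [hcGcoe]
      rfl
    rw [h3] at h1
    rw [h1, ← hconv]
    exact hover₀
  have htw : ∀ s : S, ∃ φ : G →* ℂˣ, φ ∈ annih (N.subgroupOf G) ∧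
      ∀ g : G, (χ₀ : G → ℂ) (cG s g) = ((φ g : ℂˣ) : ℂ) * (χ₀ : G → ℂ) g := by
    intro s
    exact ia_twist (N.subgroupOf G) hab θK hθK (χ₀ : G → ℂ) (fun g => (χ₀ : G → ℂ) (cG s g)) χ₀.2
      (h7_isIrr_comp_equiv (cG s) _ χ₀.2) hover₀ (hover s)
  choose lam hlamA hlam using htw
  -- exponent
  have hm : ∀ s, lam s ^ (N.relIndex G) = 1 := by
    intro s
    ext g
    rw [MonoidHom.pow_apply, ← map_pow]
    have : g ^ (N.subgroupOf G).index ∈ N.subgroupOf G := Subgroup.pow_index_mem _ g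
    exact congrArg Units.val (hlamA s _ this)
  have hcop' : (N.relIndex G).Coprime (Fintype.card S) := by
    rwa [← Nat.card_eq_fintype_card]
  obtain ⟨μ, hμA, hμ⟩ := ia_average (χ₀ : G → ℂ) cG hcGmul lam hlam (annih (N.subgroupOf G))
    hlamA _ hm hcop'
  have hirr := isIrr_linChar_mul μ (χ₀ : G → ℂ) χ₀.2
  refine ⟨⟨_, hirr⟩, ?_, ?_⟩
  · simp only
    have : (fun n : N => ((μ ⟨n, hNG n.2⟩ : ℂˣ) : ℂ) * (χ₀ : G → ℂ) ⟨n, hNG n.2⟩) =
        fun n : N => (χ₀ : G → ℂ) ⟨n, hNG n.2⟩ := by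
      funext n
      rw [hμA ⟨n, hNG n.2⟩ (Subgroup.mem_subgroupOf.mpr n.2), Units.val_one, one_mul]
    rw [this, ← hconv]
    exact hover₀
  · intro s hs g g' hgg'
    simp only
    have := hμ ⟨s, hs⟩ g
    have e1 : cG ⟨s, hs⟩ g = g' := Subtype.ext (by rw [hcGcoe, hgg'])
    rw [e1] at this
    exact this

end Cfsg.Agent.Lib.helper2
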