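import Mathlib
import Cfsg.Prelude.Def_Characters
import Cfsg.Agent.Lib.helper2.InvAbove3

set_option autoImplicit false
open Cfsg
open scoped ComplexConjugate

namespace Cfsg.Agent.Lib.helper2

open Cfsg.Agent.Lib.helper7 Cfsg.Agent.Lib.Helper11 Cfsg.Agent.Lib.Helper25

/-- the preimages in `Γ` of the derived series of `G / N` -/
def iaM {Γ : Type*} [Group Γ] (G N : Subgroup Γ) [(N.subgroupOf G).Normal] (i : ℕ) :
    Subgroup Γ :=
  ((derivedSeries (G ⧸ N.subgroupOf G) i).comap (QuotientGroup.mk' (N.subgroupOf G))).map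
    G.subtype

theorem iaM_mem {Γ : Type*} [Group Γ] (G N : Subgroup Γ) [(N.subgroupOf G).Normal] (i : ℕ)
    (g : Γ) : g ∈ iaM G N i ↔ ∃ h : g ∈ G, (QuotientGroup.mk' (N.subgroupOf G) ⟨g, h⟩) ∈
      derivedSeries (G ⧸ N.subgroupOf G) i := by
  unfold iaM
  rw [Subgroup.mem_map]
  constructor
  · rintro ⟨a, ha, rfl⟩
    exact ⟨a.2, Subgroup.mem_comap.mp ha⟩
  · rintro ⟨h, hg⟩
    exact ⟨⟨g, h⟩, Subgroup.mem_comap.mpr hg, rfl⟩

theorem iaM_le {Γ : Type*} [Group Γ] (G N : Subgroup Γ) [(N.subgroupOf G).Normal] (i : ℕ) :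
    iaM G N i ≤ G := by
  intro g hg
  obtain ⟨h, -⟩ := (iaM_mem G N i g).mp hg
  exact h

theorem iaM_zero {Γ : Type*} [Group Γ] (G N : Subgroup Γ) [(N.subgroupOf G).Normal] :
    iaM G N 0 = G := by
  apply le_antisymm (iaM_le G N 0)
  intro g hg
  rw [iaM_mem]
  refine ⟨hg, ?_⟩
  rw [derivedSeries_zero]
  exact Subgroup.mem_top _

theorem iaM_ge {Γ : Type*} [Group Γ] (G N : Subgroup Γ) [(N.subgroupOf G).Normal] (hNG : N ≤ G)
    (i : ℕ) : N ≤ iaM G N i := by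
  intro n hn
  rw [iaM_mem]
  refine ⟨hNG hn, ?_⟩
  have : QuotientGroup.mk' (N.subgroupOf G) ⟨n, hNG hn⟩ = 1 := by
    rw [QuotientGroup.mk'_apply, QuotientGroup.eq_one_iff]
    exact Subgroup.mem_subgroupOf.mpr hn
  rw [this]
  exact Subgroup.one_mem _

theorem iaM_of_bot {Γ : Type*} [Group Γ] (G N : Subgroup Γ) [(N.subgroupOf G).Normal]
    (hNG : N ≤ G) (n : ℕ) (h : derivedSeries (G ⧸ N.subgroupOf G) n = ⊥) : iaM G N n = N := by
  apply le_antisymm _ (iaM_ge G N hNG n)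
  intro g hg
  obtain ⟨hgG, hg2⟩ := (iaM_mem G N n g).mp hg
  rw [h, Subgroup.mem_bot, QuotientGroup.mk'_apply, QuotientGroup.eq_one_iff] at hg2
  exact Subgroup.mem_subgroupOf.mp hg2

theorem iaM_anti {Γ : Type*} [Group Γ] (G N : Subgroup Γ) [(N.subgroupOf G).Normal] (i : ℕ) :
    iaM G N (i + 1) ≤ iaM G N i := by
  intro g hg
  obtain ⟨hgG, hg2⟩ := (iaM_mem G N (i + 1) g).mp hg
  rw [iaM_mem]
  exact ⟨hgG, derivedSeries_antitone _ (Nat.le_succ i) hg2⟩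

theorem iaM_normal {Γ : Type*} [Group Γ] (G N : Subgroup Γ) [(N.subgroupOf G).Normal] (i : ℕ) :
    ((iaM G N (i + 1)).subgroupOf (iaM G N i)).Normal := by
  constructor
  intro n hn g
  rw [Subgroup.mem_subgroupOf] at hn ⊢
  obtain ⟨hnG, hn2⟩ := (iaM_mem G N (i + 1) _).mp hn
  have hgG : (g : Γ) ∈ G := iaM_le G N i g.2
  rw [iaM_mem]
  refine ⟨G.mul_mem (G.mul_mem hgG hnG) (G.inv_mem hgG), ?_⟩
  have hnorm : (derivedSeries (G ⧸ N.subgroupOf G) (i + 1)).Normal := derivedSeries_normal _ _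
  have := hnorm.conj_mem _ hn2 (QuotientGroup.mk' (N.subgroupOf G) ⟨g, hgG⟩)
  rw [← map_inv, ← map_mul, ← map_mul] at this
  exact this

theorem iaM_comm {Γ : Type*} [Group Γ] (G N : Subgroup Γ) [(N.subgroupOf G).Normal] (i : ℕ)
    (x y : iaM G N i) : x * y * x⁻¹ * y⁻¹ ∈ (iaM G N (i + 1)).subgroupOf (iaM G N i) := by
  rw [Subgroup.mem_subgroupOf]
  obtain ⟨hxG, hx2⟩ := (iaM_mem G N i _).mp x.2
  obtain ⟨hyG, hy2⟩ := (iaM_mem G N i _).mp y.2
  rw [iaM_mem]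
  refine ⟨G.mul_mem (G.mul_mem (G.mul_mem hxG hyG) (G.inv_mem hxG)) (G.inv_mem hyG), ?_⟩
  rw [derivedSeries_succ]
  have := Subgroup.commutator_mem_commutator hx2 hy2
  rw [commutatorElement_def, ← map_inv, ← map_inv, ← map_mul, ← map_mul, ← map_mul] at this
  exact this

theorem iaM_inv {Γ : Type*} [Group Γ] (G S N : Subgroup Γ) [hNn : (N.subgroupOf G).Normal]
    (hnorm : ∀ s ∈ S, ∀ g ∈ G, s * g * s⁻¹ ∈ G)
    (hNS : ∀ s ∈ S, ∀ n ∈ N, s * n * s⁻¹ ∈ N) (i : ℕ) :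
    ∀ s ∈ S, ∀ g ∈ iaM G N i, s * g * s⁻¹ ∈ iaM G N i := by
  intro s hs g hg
  obtain ⟨hgG, hg2⟩ := (iaM_mem G N i g).mp hg
  have hSG : S ≤ Subgroup.normalizer (G : Set Γ) := rg_le_normalizer S G hnorm
  rw [iaM_mem]
  refine ⟨hnorm s hs g hgG, ?_⟩
  have hle : N.subgroupOf G ≤ (N.subgroupOf G).comap (rgConjN G s (hSG hs)).toMonoidHom := by
    intro k hk
    rw [Subgroup.mem_comap, Subgroup.mem_subgroupOf]
    exact hNS s hs _ (Subgroup.mem_subgroupOf.mp hk)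
  have h1 := map_derivedSeries_le_derivedSeries
    (QuotientGroup.map (N.subgroupOf G) (N.subgroupOf G) (rgConjN G s (hSG hs)).toMonoidHom hle) i
  have h2 := h1 (Subgroup.mem_map_of_mem _ hg2)
  rw [QuotientGroup.mk'_apply, QuotientGroup.map_mk] at h2
  exact h2

theorem iaM_relIndex_dvd {Γ : Type*} [Group Γ] (G N : Subgroup Γ) [(N.subgroupOf G).Normal]
    (hNG : N ≤ G) (i : ℕ) : (iaM G N (i + 1)).relIndex (iaM G N i) ∣ N.relIndex G := by
  have h1 := Subgroup.relIndex_mul_relIndex N (iaM G N (i + 1)) (iaM G N i) (iaM_ge G N hNG _)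
    (iaM_anti G N i)
  have h2 := Subgroup.relIndex_mul_relIndex N (iaM G N i) G (iaM_ge G N hNG _) (iaM_le G N i)
  exact dvd_trans (Dvd.intro_left _ h1) (Dvd.intro _ h2)

end Cfsg.Agent.Lib.helper2
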