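import Mathlib
import Cfsg.Prelude.Def_Characters
import Cfsg.Prelude.Def_CharExt
import Cfsg.Agent.Lib.helper2.GlaubCyc5

set_option autoImplicit false
open Cfsg
open scoped ComplexConjugate

namespace Cfsg.Agent.Lib.helper2

open Cfsg.Agent.Lib.helper7 Cfsg.Agent.Lib.Helper11 Cfsg.Agent.Lib.Helper25

theorem gc_gen_pow {Γ : Type*} [Group Γ] [Finite Γ] (s s' : Γ)
    (h : Subgroup.zpowers s' = Subgroup.zpowers s) :
    ∃ m : ℕ, m.Coprime (orderOf s) ∧ s' = s ^ m := by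
  have hs' : s' ∈ Subgroup.zpowers s := h ▸ Subgroup.mem_zpowers s'
  obtain ⟨k, hk⟩ := Subgroup.mem_zpowers_iff.mp hs'
  have hpos : 0 < orderOf s := orderOf_pos s
  have hnn : 0 ≤ k % (orderOf s : ℤ) := Int.emod_nonneg _ (by exact_mod_cast hpos.ne')
  obtain ⟨m, hm⟩ : ∃ m : ℕ, (m : ℤ) = k % (orderOf s : ℤ) := ⟨_, Int.toNat_of_nonneg hnn⟩
  have hsm : s ^ m = s' := by
    rw [← zpow_natCast, hm, zpow_mod_orderOf, hk]
  refine ⟨m, ?_, hsm.symm⟩
  have ho : orderOf s' = orderOf s := by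
    rw [← Nat.card_zpowers, ← Nat.card_zpowers, h]
  rw [← hsm, orderOf_pow] at ho
  have h2 : orderOf s = 0 ∨ (orderOf s).gcd m = 1 := Nat.div_eq_self.mp ho
  rcases h2 with h2 | h2
  · omega
  · exact (Nat.coprime_comm.mp h2)

theorem gc_exists_gen {Γ : Type*} [Group Γ] (S : Subgroup Γ) (hcyc : IsCyclic S) :
    ∃ s : Γ, Subgroup.zpowers s = S := by
  obtain ⟨g, hg⟩ := hcyc.exists_generator
  refine ⟨(g : Γ), le_antisymm ?_ ?_⟩
  · rw [Subgroup.zpowers_le]; exact g.2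
  · intro x hx
    obtain ⟨k, hk⟩ := Subgroup.mem_zpowers_iff.mp (hg ⟨x, hx⟩)
    rw [Subgroup.mem_zpowers_iff]
    refine ⟨k, ?_⟩
    have := congrArg Subtype.val hk
    simpa using this

/-- values of a canonical extension on all generator cosets -/
theorem gc_exists {Γ : Type*} [Group Γ] [Fintype Γ] (G S : Subgroup Γ) [Fintype G]
    [hG : G.Normal] (hcop : (Nat.card G).Coprime (Nat.card S)) (htop : G ⊔ S = ⊤)
    (hcyc : IsCyclic S) [Fintype ↥(G ⊓ Subgroup.centralizer (S : Set Γ))]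
    (ψ : Γ → ℂ) (hψ : Cfsg.IsIrrCharacter Γ ψ)
    (hres : Cfsg.IsIrrCharacter G (fun g : G => ψ g))
    (hdet : (Cfsg.detOrder ψ).Coprime (Nat.card S)) :
    ∃ β : Cfsg.IrrCharacter ↥(G ⊓ Subgroup.centralizer (S : Set Γ)), ∃ ε : ℤ,
      (ε = 1 ∨ ε = -1) ∧
      ∀ c : ↥(G ⊓ Subgroup.centralizer (S : Set Γ)), ∀ s' : Γ, Subgroup.zpowers s' = S →
        ψ ((c : Γ) * s') = (ε : ℂ) * (β : ↥(G ⊓ Subgroup.centralizer (S : Set Γ)) → ℂ) c := by
  obtain ⟨s, hs⟩ := gc_exists_gen S hcyc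
  obtain ⟨β, ε, hε, hval⟩ := gc_core G S hcop htop s hs ψ hψ hres hdet
  refine ⟨β, ε, hε, ?_⟩
  intro c s' hs'
  have hsS : s ∈ S := hs ▸ Subgroup.mem_zpowers s
  obtain ⟨m, hm, rfl⟩ := gc_gen_pow s s' (hs'.trans hs.symm)
  have hidx : G.index = Nat.card S := gc_index G S htop hcop
  have hord : orderOf s = Nat.card S := by rw [← hs, Nat.card_zpowers]
  have hsn : s ^ G.index = 1 := by
    rw [hidx, ← hord]; exact pow_orderOf_eq_one s
  rw [← hval c]
  exact gc_value_gen G (by rw [hidx]; exact hcop) ψ hψ hres (by rw [hidx]; exact hdet) (c : Γ) s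
    c.2.1 (Subgroup.mem_centralizer_iff.mp c.2.2 s hsS).symm hsn m (by rw [hidx, ← hord]; exact hm)

/-- the correspondent is a constituent of the restriction -/
theorem gc_constituent {Γ : Type*} [Group Γ] (C S : Subgroup Γ) [Fintype C] [Finite S]
    (hcomm : ∀ c ∈ C, ∀ t ∈ S, c * t = t * c) (hSab : ∀ a b : S, a * b = b * a)
    (s : Γ) (hsS : s ∈ S)
    (ψ : Γ → ℂ) (hψ : Cfsg.IsCharacter Γ ψ) (β : C → ℂ) (hβ : Cfsg.IsIrrCharacter C β)
    (ε : ℂ) (hε : ε ≠ 0) (hval : ∀ c : C, ψ ((c : Γ) * s) = ε * β c) :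
    Cfsg.classInner (fun c : C => ψ c) β ≠ 0 := by
  classical
  haveI : Fintype S := Fintype.ofFinite _
  haveI : Fintype ↥(annih (⊥ : Subgroup S)) := Fintype.ofFinite _
  obtain ⟨a, ha⟩ := gc_mult_expansion C S hcomm hSab ψ hψ β (h7_irr_isCharacter hβ)
  have h1 := ha ⟨s, hsS⟩
  have h2 : (Nat.card C : ℂ)⁻¹ * ∑ c : C, ψ ((c : Γ) * ((⟨s, hsS⟩ : S) : Γ)) * conj (β c) = ε := by
    have : ∀ c : C, ψ ((c : Γ) * ((⟨s, hsS⟩ : S) : Γ)) * conj (β c) = ε * (β c * conj (β c)) := by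
      intro c
      rw [hval c]
      ring
    rw [Finset.sum_congr rfl (fun c _ => this c), ← Finset.mul_sum]
    have h3 := h7_irr_norm hβ
    unfold Cfsg.classInner at h3
    rw [mul_comm, mul_assoc, mul_comm _ ((Nat.card C : ℂ)⁻¹), h3, mul_one]
  rw [h2] at h1
  have hex : ∃ l, a l ≠ 0 := by
    by_contra hcon
    push Not at hcon
    apply hε
    rw [h1]
    apply Finset.sum_eq_zero
    intro l _
    rw [hcon l]
    simp
  obtain ⟨l₀, hl₀⟩ := hex
  have h4 := ha 1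
  have h5 : Cfsg.classInner (fun c : C => ψ c) β =
      (Nat.card C : ℂ)⁻¹ * ∑ c : C, ψ ((c : Γ) * ((1 : S) : Γ)) * conj (β c) := by
    unfold Cfsg.classInner
    congr 1
    apply Finset.sum_congr rfl
    intro c _
    rw [Subgroup.coe_one, mul_one]
  rw [h5, h4]
  have h6 : ∑ l : ↥(annih (⊥ : Subgroup S)), (a l : ℂ) * (((l : S →* ℂˣ) 1 : ℂˣ) : ℂ) =
      ((∑ l : ↥(annih (⊥ : Subgroup S)), a l : ℕ) : ℂ) := by
    push_cast
    apply Finset.sum_congr rfl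
    intro l _
    rw [map_one, Units.val_one, mul_one]
  rw [h6, Nat.cast_ne_zero]
  intro h7
  have := (Finset.sum_eq_zero_iff.mp h7) l₀ (Finset.mem_univ _)
  exact hl₀ this


/-- injectivity of the correspondence -/
theorem gc_inj {Γ : Type*} [Group Γ] [Fintype Γ] (G S : Subgroup Γ) [Fintype G]
    [hG : G.Normal] (hcop : (Nat.card G).Coprime (Nat.card S)) (htop : G ⊔ S = ⊤)
    (s : Γ) (hs : Subgroup.zpowers s = S) [Fintype ↥(G ⊓ Subgroup.centralizer (S : Set Γ))]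
    (ψ φ : Γ → ℂ) (hψ : Cfsg.IsIrrCharacter Γ ψ) (hφ : Cfsg.IsIrrCharacter Γ φ)
    (hne : (fun g : G => ψ g) ≠ (fun g : G => φ g))
    (β : ↥(G ⊓ Subgroup.centralizer (S : Set Γ)) → ℂ)
    (hβ : Cfsg.IsIrrCharacter ↥(G ⊓ Subgroup.centralizer (S : Set Γ)) β)
    (ε ε' : ℂ) (hε : ε ≠ 0) (hε' : ε' ≠ 0)
    (hval : ∀ c : ↥(G ⊓ Subgroup.centralizer (S : Set Γ)), ψ ((c : Γ) * s) = ε * β c)
    (hval' : ∀ c : ↥(G ⊓ Subgroup.centralizer (S : Set Γ)), φ ((c : Γ) * s) = ε' * β c) :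
    False := by
  have hScomm : ∀ a ∈ S, ∀ b ∈ S, a * b = b * a := by
    intro a ha b hb
    rw [← hs] at ha hb
    exact gc_zpowers_comm s a b ha hb
  have hab := gc_comm_quot G S htop hScomm
  have hGcard : (Nat.card G : ℂ) ≠ 0 := by exact_mod_cast Nat.card_pos.ne'
  have hCcard : (Nat.card ↥(G ⊓ Subgroup.centralizer (S : Set Γ)) : ℂ) ≠ 0 := by
    exact_mod_cast Nat.card_pos.ne'
  have hclψ := isCharacter_isClassFunction (h7_irr_isCharacter hψ)
  have hclφ := isCharacter_isClassFunction (h7_irr_isCharacter hφ)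
  have h0 := gc_coset_orth_ne G hab s ψ φ hψ hφ hne
  have h1 := gc_sum_coset G S hcop s hs (fun x => ψ x * conj (φ x))
    (fun x g _ => by rw [hclψ x g, hclφ x g])
  rw [h0, mul_zero] at h1
  have h2 : ∑ c : ↥(G ⊓ Subgroup.centralizer (S : Set Γ)),
      ψ ((c : Γ) * s) * conj (φ ((c : Γ) * s)) = 0 := by
    rcases mul_eq_zero.mp h1.symm with h | h
    · exact absurd h hGcard
    · exact h
  have h3 : ∀ c : ↥(G ⊓ Subgroup.centralizer (S : Set Γ)),
      ψ ((c : Γ) * s) * conj (φ ((c : Γ) * s)) = (ε * conj ε') * (β c * conj (β c)) := by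
    intro c
    rw [hval c, hval' c, map_mul]
    ring
  rw [Finset.sum_congr rfl (fun c _ => h3 c), ← Finset.mul_sum] at h2
  have h4 := h7_irr_norm hβ
  unfold Cfsg.classInner at h4
  have h5 : ∑ c : ↥(G ⊓ Subgroup.centralizer (S : Set Γ)), β c * conj (β c) =
      (Nat.card ↥(G ⊓ Subgroup.centralizer (S : Set Γ)) : ℂ) := by
    apply mul_left_cancel₀ (inv_ne_zero hCcard)
    rw [h4, inv_mul_cancel₀ hCcard]
  rw [h5] at h2
  have h6 : conj ε' ≠ 0 := by
    intro h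
    apply hε'
    have := congrArg conj h
    simpa using this
  exact mul_ne_zero (mul_ne_zero hε h6) hCcard h2

theorem gc_hgen {Γ : Type*} [Group Γ] (G S : Subgroup Γ) [hG : G.Normal] (htop : G ⊔ S = ⊤)
    (s : Γ) (hs : Subgroup.zpowers s = S) (l : Γ →* ℂˣ) (hl : l ∈ annih G) (hls : l s = 1) :
    l = 1 := by
  ext x
  obtain ⟨g, hg, t, ht, rfl⟩ := gc_mem_mul G S htop x
  rw [← hs] at ht
  obtain ⟨k, rfl⟩ := Subgroup.mem_zpowers_iff.mp ht
  rw [map_mul, hl g hg, map_zpow, hls, one_zpow, mul_one]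
  rfl


/-- surjectivity of the correspondence -/
theorem gc_surj {Γ : Type*} [Group Γ] [Fintype Γ] (G S : Subgroup Γ) [Fintype G]
    [hG : G.Normal] (hcop : (Nat.card G).Coprime (Nat.card S)) (htop : G ⊔ S = ⊤)
    (hcyc : IsCyclic S) [Fintype ↥(G ⊓ Subgroup.centralizer (S : Set Γ))]
    (β : Cfsg.IrrCharacter ↥(G ⊓ Subgroup.centralizer (S : Set Γ))) :
    ∃ ψ : Γ → ℂ, Cfsg.IsIrrCharacter Γ ψ ∧ Cfsg.IsIrrCharacter G (fun g : G => ψ g) ∧
      (Cfsg.detOrder ψ).Coprime (Nat.card S) ∧ ∃ ε : ℤ, (ε = 1 ∨ ε = -1) ∧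
      ∀ c : ↥(G ⊓ Subgroup.centralizer (S : Set Γ)), ∀ s' : Γ, Subgroup.zpowers s' = S →
        ψ ((c : Γ) * s') =
          (ε : ℂ) * (β : ↥(G ⊓ Subgroup.centralizer (S : Set Γ)) → ℂ) c := by
  classical
  by_contra hcon
  obtain ⟨s, hs⟩ := gc_exists_gen S hcyc
  have hsS : s ∈ S := hs ▸ Subgroup.mem_zpowers s
  have hScomm : ∀ a ∈ S, ∀ b ∈ S, a * b = b * a := by
    intro a ha b hb
    rw [← hs] at ha hb
    exact gc_zpowers_comm s a b ha hb
  have hab := gc_comm_quot G S htop hScomm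
  have hidx : G.index = Nat.card S := gc_index G S htop hcop
  haveI : Fintype (Cfsg.IrrCharacter Γ) := Fintype.ofFinite _
  have hCcard : (Nat.card ↥(G ⊓ Subgroup.centralizer (S : Set Γ)) : ℂ) ≠ 0 := by
    exact_mod_cast Nat.card_pos.ne'
  have hzero : ∀ φ : Cfsg.IrrCharacter Γ, ∑ c : ↥(G ⊓ Subgroup.centralizer (S : Set Γ)),
      (φ : Γ → ℂ) ((c : Γ) * s) *
        conj ((β : ↥(G ⊓ Subgroup.centralizer (S : Set Γ)) → ℂ) c) = 0 := by
    intro φ
    by_cases hres : Cfsg.IsIrrCharacter G (fun g : G => (φ : Γ → ℂ) g)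
    · have hcl := isCharacter_isClassFunction (Cfsg.Agent.Lib.helper2.isCharacter_of_irr φ)
      obtain ⟨d, -, hd1, hd2⟩ := irr_degree_dvd_card (⟨_, hres⟩ : Cfsg.IrrCharacter G)
      have hinv : ∀ (g : Γ) (n : G),
          (fun n : G => (φ : Γ → ℂ) n) ⟨g * n * g⁻¹, hG.conj_mem (n : Γ) n.2 g⟩ =
            (fun n : G => (φ : Γ → ℂ) n) n := fun g n => hcl n g
      have hcop' : Nat.Coprime G.index (Cfsg.detOrder (fun n : G => (φ : Γ → ℂ) n) * d) := by
        rw [hidx]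
        apply Nat.Coprime.mul_right
        · exact (Nat.Coprime.coprime_dvd_left (gc_detOrder_dvd hres) hcop).symm
        · exact (Nat.Coprime.coprime_dvd_left hd2 hcop).symm
      obtain ⟨ψ₀, ⟨hψ₀irr, hψ₀res, hψ₀det⟩, -⟩ :=
        Cfsg.Agent.S0867.result G (fun n : G => (φ : Γ → ℂ) n) hres hinv d hd1 hcop'
      have hfun : (fun g : G => ψ₀ g) = fun g : G => (φ : Γ → ℂ) g := funext hψ₀res
      have hres₀ : Cfsg.IsIrrCharacter G (fun g : G => ψ₀ g) := by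
        rw [hfun]; exact hres
      have hdet₀ : (Cfsg.detOrder ψ₀).Coprime (Nat.card S) := by
        rw [hψ₀det]
        exact Nat.Coprime.coprime_dvd_left (gc_detOrder_dvd hres) hcop
      obtain ⟨β₀, ε₀, hε₀, hval₀⟩ := gc_exists G S hcop htop hcyc ψ₀ hψ₀irr hres₀ hdet₀
      have hne : β₀ ≠ β := by
        intro h
        apply hcon
        exact ⟨ψ₀, hψ₀irr, hres₀, hdet₀, ε₀, hε₀, by rw [← h]; exact hval₀⟩
      have hn1 : Cfsg.classInner (fun n : G => ψ₀ n) (fun n : G => (φ : Γ → ℂ) n) ≠ 0 := by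
        rw [hfun, h7_irr_norm hres]; exact one_ne_zero
      have hn2 : Cfsg.classInner (fun n : G => (φ : Γ → ℂ) n) (fun n : G => (φ : Γ → ℂ) n) ≠ 0 := by
        rw [h7_irr_norm hres]; exact one_ne_zero
      obtain ⟨l, hl, hlφ⟩ := ia_twist G hab (fun n : G => (φ : Γ → ℂ) n) hres ψ₀ (φ : Γ → ℂ)
        hψ₀irr φ.2 hn1 hn2
      have hterm : ∀ c : ↥(G ⊓ Subgroup.centralizer (S : Set Γ)),
          (φ : Γ → ℂ) ((c : Γ) * s) *
            conj ((β : ↥(G ⊓ Subgroup.centralizer (S : Set Γ)) → ℂ) c) =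
          (((l s : ℂˣ) : ℂ) * (ε₀ : ℂ)) *
            ((β₀ : ↥(G ⊓ Subgroup.centralizer (S : Set Γ)) → ℂ) c *
              conj ((β : ↥(G ⊓ Subgroup.centralizer (S : Set Γ)) → ℂ) c)) := by
        intro c
        rw [hlφ, map_mul, hl (c : Γ) c.2.1, one_mul, hval₀ c s hs]
        ring
      rw [Finset.sum_congr rfl (fun c _ => hterm c), ← Finset.mul_sum]
      have h3 := h7_irr_inner_ne β₀.2 β.2 (fun h => hne (Subtype.ext h))
      unfold Cfsg.classInner at h3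
      rcases mul_eq_zero.mp h3 with h | h
      · exact absurd (inv_eq_zero.mp h) hCcard
      · rw [h, mul_zero]
    · have hv : ∀ c : ↥(G ⊓ Subgroup.centralizer (S : Set Γ)),
          (φ : Γ → ℂ) ((c : Γ) * s) = 0 := fun c =>
        gc_coset_vanish G hab s (gc_hgen G S htop s hs) (φ : Γ → ℂ) φ.2 hres ⟨c, c.2.1⟩
      apply Finset.sum_eq_zero
      intro c _
      rw [hv c, zero_mul]
  -- column orthogonality
  have hcol : ∀ c : ↥(G ⊓ Subgroup.centralizer (S : Set Γ)),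
      ∑ φ : Cfsg.IrrCharacter Γ, (φ : Γ → ℂ) ((c : Γ) * s) * conj ((φ : Γ → ℂ) s) =
        if IsConj s ((c : Γ) * s) then (Nat.card (Subgroup.centralizer ({s} : Set Γ)) : ℂ)
        else 0 := fun c => irr_column_orthogonality ((c : Γ) * s) s
  have hconj : ∀ c : ↥(G ⊓ Subgroup.centralizer (S : Set Γ)),
      IsConj s ((c : Γ) * s) ↔ c = 1 := by
    intro c
    constructor
    · intro h
      obtain ⟨γ, hγ⟩ := isConj_iff.mp h
      obtain ⟨g, hg, t, ht, rfl⟩ := gc_mem_mul G S htop γ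
      have hts := hScomm t ht s hsS
      have h1 : g * (1 * s) * g⁻¹ = (c : Γ) * s := by
        rw [← hγ]
        calc g * (1 * s) * g⁻¹ = g * (s * t * t⁻¹) * g⁻¹ := by group
          _ = g * (t * s * t⁻¹) * g⁻¹ := by rw [hts]
          _ = g * t * s * (g * t)⁻¹ := by group
      obtain ⟨-, h2⟩ := gc_conj_unique G S hcop s hs g 1 (c : Γ)
        (Subgroup.one_mem _) c.2 h1
      apply Subtype.ext
      rw [h2]
      simp
    · intro h
      rw [h, Subgroup.coe_one, one_mul]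
  have hdouble : ∑ c : ↥(G ⊓ Subgroup.centralizer (S : Set Γ)),
      conj ((β : ↥(G ⊓ Subgroup.centralizer (S : Set Γ)) → ℂ) c) *
        ∑ φ : Cfsg.IrrCharacter Γ, (φ : Γ → ℂ) ((c : Γ) * s) * conj ((φ : Γ → ℂ) s) = 0 := by
    simp only [Finset.mul_sum]
    rw [Finset.sum_comm]
    apply Finset.sum_eq_zero
    intro φ _
    have h1 : ∀ c : ↥(G ⊓ Subgroup.centralizer (S : Set Γ)),
        conj ((β : ↥(G ⊓ Subgroup.centralizer (S : Set Γ)) → ℂ) c) *
          ((φ : Γ → ℂ) ((c : Γ) * s) * conj ((φ : Γ → ℂ) s)) =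
        conj ((φ : Γ → ℂ) s) * ((φ : Γ → ℂ) ((c : Γ) * s) *
          conj ((β : ↥(G ⊓ Subgroup.centralizer (S : Set Γ)) → ℂ) c)) := by
      intro c
      ring
    rw [Finset.sum_congr rfl (fun c _ => h1 c), ← Finset.mul_sum, hzero φ, mul_zero]
  simp only [hcol, hconj] at hdouble
  rw [Finset.sum_eq_single (1 : ↥(G ⊓ Subgroup.centralizer (S : Set Γ)))] at hdouble
  · rw [if_pos rfl] at hdouble
    have hK : (Nat.card (Subgroup.centralizer ({s} : Set Γ)) : ℂ) ≠ 0 := by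
      exact_mod_cast Nat.card_pos.ne'
    have hβ1 : conj ((β : ↥(G ⊓ Subgroup.centralizer (S : Set Γ)) → ℂ) 1) ≠ 0 := by
      intro h
      apply irr_one_ne_zero β
      have := congrArg conj h
      simpa using this
    exact mul_ne_zero hβ1 hK hdouble
  · intro c _ hc
    rw [if_neg hc, mul_zero]
  · intro h
    exact absurd (Finset.mem_univ _) h

end Cfsg.Agent.Lib.helper2
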