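import Mathlib

set_option autoImplicit false

namespace Cfsg.Agent.Lib.helper2

open Polynomial

/-- a natural combination of `p`-power roots of unity which is an integer is congruent mod `p`
to the sum of the coefficients -/
theorem gp_cong {ι : Type*} [Fintype ι] (p : ℕ) [hp : Fact p.Prime] (k : ℕ) (a : ι → ℕ)
    (ζ : ι → ℂ) (hζ : ∀ i, ζ i ^ (p ^ k) = 1) (e : ℤ) (h : ∑ i, (a i : ℂ) * ζ i = e) :
    (∑ i, (a i : ℤ)) ≡ e [ZMOD p] := by
  classical
  cases k with
  | zero =>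
    have h1 : ∀ i, ζ i = 1 := by
      intro i
      have := hζ i
      simpa using this
    simp only [h1, mul_one] at h
    have : ((∑ i, (a i : ℤ) : ℤ) : ℂ) = (e : ℂ) := by
      rw [← h]; push_cast; rfl
    have h2 : (∑ i, (a i : ℤ)) = e := by exact_mod_cast this
    rw [h2]
  | succ k =>
    have hpk : p ^ (k + 1) ≠ 0 := pow_ne_zero _ hp.out.ne_zero
    have hω : IsPrimitiveRoot (Complex.exp (2 * Real.pi * Complex.I / ((p ^ (k + 1) : ℕ) : ℂ)))
        (p ^ (k + 1)) := Complex.isPrimitiveRoot_exp _ hpk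
    obtain ⟨ω, hωdef⟩ : ∃ ω : ℂ,
        ω = Complex.exp (2 * Real.pi * Complex.I / ((p ^ (k + 1) : ℕ) : ℂ)) := ⟨_, rfl⟩
    rw [← hωdef] at hω
    have hj : ∀ i, ∃ j : ℕ, ω ^ j = ζ i := by
      intro i
      obtain ⟨j, -, hj⟩ := hω.eq_pow_of_pow_eq_one (hζ i)
      exact ⟨j, hj⟩
    choose j hj using hj
    obtain ⟨f, hf⟩ : ∃ f : ℤ[X], f = ∑ i, C (a i : ℤ) * X ^ (j i) - C e := ⟨_, rfl⟩
    have hroot : aeval ω f = 0 := by
      rw [hf, map_sub, map_sum]
      simp only [map_mul, map_pow, aeval_X, aeval_C, hj]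
      rw [sub_eq_zero]
      have e1 : (algebraMap ℤ ℂ) e = (e : ℂ) := by simp
      rw [e1, ← h]
      apply Finset.sum_congr rfl
      intro i _
      simp
    have hint : IsIntegral ℤ ω := hω.isIntegral (Nat.pos_of_ne_zero hpk)
    have hdvd : cyclotomic (p ^ (k + 1)) ℤ ∣ f := by
      rw [cyclotomic_eq_minpoly hω (Nat.pos_of_ne_zero hpk)]
      exact minpoly.isIntegrallyClosed_dvd hint hroot
    obtain ⟨g, hg⟩ := hdvd
    have heval := congrArg (eval 1) hg
    rw [eval_mul, eval_one_cyclotomic_prime_pow] at heval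
    have hf1 : eval 1 f = ∑ i, (a i : ℤ) - e := by
      rw [hf, eval_sub, eval_finsetSum]
      simp
    rw [hf1] at heval
    rw [Int.modEq_iff_dvd]
    refine ⟨-(eval 1 g), ?_⟩
    have : e - ∑ i, (a i : ℤ) = -(∑ i, (a i : ℤ) - e) := by ring
    rw [this, heval]
    ring

end Cfsg.Agent.Lib.helper2
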