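import Mathlib
import Cfsg.Prelude.Def_Characters
import Cfsg.Prelude.Def_CharExt
import Cfsg.Agent.Lib.helper2.GlaubCyc6
import Cfsg.Agent.Lib.helper2.GlaubP1

set_option autoImplicit false
open Cfsg
open scoped ComplexConjugate

namespace Cfsg.Agent.Lib.helper2

open Cfsg.Agent.Lib.helper7 Cfsg.Agent.Lib.Helper11 Cfsg.Agent.Lib.Helper25

/-- invariance of a function on `G` under conjugation by `S` -/
def gpInv {Γ : Type*} [Group Γ] (G S : Subgroup Γ) (χ : G → ℂ) : Prop :=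
  ∀ s ∈ S, ∀ g g' : G, (g' : Γ) = s * g * s⁻¹ → χ g' = χ g

/-- canonical extension of an invariant irreducible character, cyclic coprime case -/
theorem gp_canon_ext {Γ : Type*} [Group Γ] [Fintype Γ] (G R : Subgroup Γ) [Fintype G]
    [hG : G.Normal] (hcop : (Nat.card G).Coprime (Nat.card R)) (htop : G ⊔ R = ⊤)
    (η : G → ℂ) (hη : Cfsg.IsIrrCharacter G η) (hinv : gpInv G R η) :
    ∃ ψ : Γ → ℂ, Cfsg.IsIrrCharacter Γ ψ ∧ (∀ g : G, ψ g = η g) ∧
      (Cfsg.detOrder ψ).Coprime (Nat.card R) := by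
  have hidx : G.index = Nat.card R := gc_index G R htop hcop
  have hcl := isCharacter_isClassFunction (h7_irr_isCharacter hη)
  obtain ⟨d, -, hd1, hd2⟩ := irr_degree_dvd_card (⟨η, hη⟩ : Cfsg.IrrCharacter G)
  have hinv' : ∀ (γ : Γ) (n : G), η ⟨γ * n * γ⁻¹, hG.conj_mem (n : Γ) n.2 γ⟩ = η n := by
    intro γ n
    obtain ⟨g, hg, t, ht, rfl⟩ := gc_mem_mul G R htop γ
    have h1 : η ⟨t * n * t⁻¹, hG.conj_mem (n : Γ) n.2 t⟩ = η n := hinv t ht n _ rfl
    rw [← h1]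
    have h2 := hcl ⟨t * n * t⁻¹, hG.conj_mem (n : Γ) n.2 t⟩ ⟨g, hg⟩
    rw [← h2]
    refine congrArg η (Subtype.ext ?_)
    simp only [Subgroup.coe_mul, Subgroup.coe_inv]
    group
  have hcop' : Nat.Coprime G.index (Cfsg.detOrder η * d) := by
    rw [hidx]
    apply Nat.Coprime.mul_right
    · exact (Nat.Coprime.coprime_dvd_left (gc_detOrder_dvd hη) hcop).symm
    · exact (Nat.Coprime.coprime_dvd_left hd2 hcop).symm
  obtain ⟨ψ, ⟨hψirr, hψres, hψdet⟩, -⟩ := Cfsg.Agent.S0867.result G η hη hinv' d hd1 hcop'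
  refine ⟨ψ, hψirr, hψres, ?_⟩
  rw [hψdet]
  exact Nat.Coprime.coprime_dvd_left (gc_detOrder_dvd hη) hcop

/-- the congruence for multiplicities, cyclic `p`-group case -/
theorem gp_mult_cong {Γ : Type*} [Group Γ] (C R : Subgroup Γ) [Fintype C] [Finite R]
    (hcomm : ∀ c ∈ C, ∀ t ∈ R, c * t = t * c) (hRab : ∀ a b : R, a * b = b * a)
    (p : ℕ) [hp : Fact p.Prime] (hR : IsPGroup p R) (s : Γ) (hsR : s ∈ R)
    (ψ : Γ → ℂ) (hψ : Cfsg.IsCharacter Γ ψ) (β : Cfsg.IrrCharacter C) (ε : ℤ)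
    (hval : ∀ c : C, ψ ((c : Γ) * s) = (ε : ℂ) * (β : C → ℂ) c) (β' : Cfsg.IrrCharacter C) :
    ∃ m : ℕ, Cfsg.classInner (fun c : C => ψ c) (β' : C → ℂ) = m ∧
      (m : ℤ) ≡ (if β' = β then ε else 0) [ZMOD p] := by
  classical
  haveI : Fintype R := Fintype.ofFinite _
  haveI : Fintype ↥(annih (⊥ : Subgroup R)) := Fintype.ofFinite _
  obtain ⟨a, ha⟩ := gc_mult_expansion C R hcomm hRab ψ hψ (β' : C → ℂ)
    (Cfsg.Agent.Lib.helper2.isCharacter_of_irr β')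
  refine ⟨∑ l, a l, ?_, ?_⟩
  · have h4 := ha 1
    have h5 : Cfsg.classInner (fun c : C => ψ c) (β' : C → ℂ) =
        (Nat.card C : ℂ)⁻¹ * ∑ c : C, ψ ((c : Γ) * ((1 : R) : Γ)) * conj ((β' : C → ℂ) c) := by
      unfold Cfsg.classInner
      congr 1
      apply Finset.sum_congr rfl
      intro c _
      rw [Subgroup.coe_one, mul_one]
    rw [h5, h4]
    push_cast
    apply Finset.sum_congr rfl
    intro l _
    rw [map_one, Units.val_one, mul_one]
  · obtain ⟨k, hk⟩ := IsPGroup.iff_card.mp hR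
    have h1 := ha ⟨s, hsR⟩
    have h2 : (Nat.card C : ℂ)⁻¹ * ∑ c : C, ψ ((c : Γ) * ((⟨s, hsR⟩ : R) : Γ)) *
        conj ((β' : C → ℂ) c) = ((if β' = β then ε else 0 : ℤ) : ℂ) := by
      have : ∀ c : C, ψ ((c : Γ) * ((⟨s, hsR⟩ : R) : Γ)) * conj ((β' : C → ℂ) c) =
          (ε : ℂ) * ((β : C → ℂ) c * conj ((β' : C → ℂ) c)) := by
        intro c
        rw [hval c]
        ring
      rw [Finset.sum_congr rfl (fun c _ => this c), ← Finset.mul_sum]
      have h3 := irr_classInner β β'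
      unfold Cfsg.classInner at h3
      rw [mul_comm, mul_assoc, mul_comm _ ((Nat.card C : ℂ)⁻¹), h3]
      by_cases hb : β' = β
      · rw [if_pos hb.symm, if_pos hb, mul_one]
      · rw [if_neg (fun h => hb h.symm), if_neg hb, mul_zero]
        simp
    rw [h2] at h1
    have h3 := gp_cong p k a (fun l => (((l : R →* ℂˣ) ⟨s, hsR⟩ : ℂˣ) : ℂ))
      (by
        intro l
        rw [← Units.val_pow_eq_pow_val, ← map_pow, ← hk, pow_card_eq_one', map_one,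
          Units.val_one])
      (if β' = β then ε else 0) h1.symm
    push_cast
    exact h3


/-- all the data attached to an invariant character, cyclic `p`-group case with `Γ = G R` -/
theorem gp_data {Γ : Type*} [Group Γ] [Fintype Γ] (G R : Subgroup Γ) [Fintype G]
    [hG : G.Normal] (hcop : (Nat.card G).Coprime (Nat.card R)) (htop : G ⊔ R = ⊤)
    (hcyc : IsCyclic R) (p : ℕ) [hp : Fact p.Prime] (hR : IsPGroup p R)
    [Fintype ↥(G ⊓ Subgroup.centralizer (R : Set Γ))]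
    (η : Cfsg.IrrCharacter G) (hinv : gpInv G R (η : G → ℂ)) :
    ∃ ψ : Γ → ℂ, Cfsg.IsIrrCharacter Γ ψ ∧ (∀ g : G, ψ g = (η : G → ℂ) g) ∧
      ∃ β : Cfsg.IrrCharacter ↥(G ⊓ Subgroup.centralizer (R : Set Γ)), ∃ ε : ℤ,
      (ε = 1 ∨ ε = -1) ∧
      (∀ c : ↥(G ⊓ Subgroup.centralizer (R : Set Γ)), ∀ s' : Γ, Subgroup.zpowers s' = R →
        ψ ((c : Γ) * s') =
          (ε : ℂ) * (β : ↥(G ⊓ Subgroup.centralizer (R : Set Γ)) → ℂ) c) ∧
      ∀ β' : Cfsg.IrrCharacter ↥(G ⊓ Subgroup.centralizer (R : Set Γ)), ∃ m : ℕ,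
        Cfsg.classInner (fun c : ↥(G ⊓ Subgroup.centralizer (R : Set Γ)) =>
          (η : G → ℂ) ⟨c, c.2.1⟩)
          (β' : ↥(G ⊓ Subgroup.centralizer (R : Set Γ)) → ℂ) = m ∧
        (m : ℤ) ≡ (if β' = β then ε else 0) [ZMOD p] := by
  obtain ⟨ψ, hψ, hψres, hψdet⟩ := gp_canon_ext G R hcop htop (η : G → ℂ) η.2 hinv
  have hfun : (fun g : G => ψ g) = (η : G → ℂ) := funext hψres
  have hres : Cfsg.IsIrrCharacter G (fun g : G => ψ g) := by rw [hfun]; exact η.2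
  obtain ⟨β, ε, hε, hval⟩ := gc_exists G R hcop htop hcyc ψ hψ hres hψdet
  obtain ⟨s, hs⟩ := gc_exists_gen R hcyc
  have hsR : s ∈ R := hs ▸ Subgroup.mem_zpowers s
  have hRcomm : ∀ a ∈ R, ∀ b ∈ R, a * b = b * a := by
    intro a ha b hb
    rw [← hs] at ha hb
    exact gc_zpowers_comm s a b ha hb
  refine ⟨ψ, hψ, hψres, β, ε, hε, hval, ?_⟩
  intro β'
  obtain ⟨m, hm1, hm2⟩ := gp_mult_cong (G ⊓ Subgroup.centralizer (R : Set Γ)) R
    (fun c hc t ht => (Subgroup.mem_centralizer_iff.mp hc.2 t ht).symm)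
    (fun a b => Subtype.ext (hRcomm a a.2 b b.2)) p hR s hsR ψ (h7_irr_isCharacter hψ) β ε
    (fun c => hval c s hs) β'
  refine ⟨m, ?_, hm2⟩
  rw [← hm1]
  congr 1
  funext c
  exact (hψres ⟨c, c.2.1⟩).symm

/-- the cyclic `p`-group correspondence when `Γ = G R` -/
theorem gp_cyc_top {Γ : Type*} [Group Γ] [Fintype Γ] (G R : Subgroup Γ) [Fintype G]
    [hG : G.Normal] (hcop : (Nat.card G).Coprime (Nat.card R)) (htop : G ⊔ R = ⊤)
    (hcyc : IsCyclic R) (p : ℕ) [hp : Fact p.Prime] (hR : IsPGroup p R)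
    [Fintype ↥(G ⊓ Subgroup.centralizer (R : Set Γ))] :
    (∀ η : Cfsg.IrrCharacter G, gpInv G R (η : G → ℂ) →
      ∃ β : Cfsg.IrrCharacter ↥(G ⊓ Subgroup.centralizer (R : Set Γ)), ∃ ε : ℤ,
      (ε = 1 ∨ ε = -1) ∧
      ∀ β' : Cfsg.IrrCharacter ↥(G ⊓ Subgroup.centralizer (R : Set Γ)), ∃ m : ℕ,
        Cfsg.classInner (fun c : ↥(G ⊓ Subgroup.centralizer (R : Set Γ)) =>
          (η : G → ℂ) ⟨c, c.2.1⟩)
          (β' : ↥(G ⊓ Subgroup.centralizer (R : Set Γ)) → ℂ) = m ∧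
        (m : ℤ) ≡ (if β' = β then ε else 0) [ZMOD p]) ∧
    (∀ η η' : Cfsg.IrrCharacter G, gpInv G R (η : G → ℂ) → gpInv G R (η' : G → ℂ) →
      ∀ β : Cfsg.IrrCharacter ↥(G ⊓ Subgroup.centralizer (R : Set Γ)), ∀ m m' : ℕ,
        Cfsg.classInner (fun c : ↥(G ⊓ Subgroup.centralizer (R : Set Γ)) =>
          (η : G → ℂ) ⟨c, c.2.1⟩)
          (β : ↥(G ⊓ Subgroup.centralizer (R : Set Γ)) → ℂ) = m → ¬ p ∣ m →
        Cfsg.classInner (fun c : ↥(G ⊓ Subgroup.centralizer (R : Set Γ)) =>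
          (η' : G → ℂ) ⟨c, c.2.1⟩)
          (β : ↥(G ⊓ Subgroup.centralizer (R : Set Γ)) → ℂ) = m' → ¬ p ∣ m' → η = η') ∧
    (∀ β : Cfsg.IrrCharacter ↥(G ⊓ Subgroup.centralizer (R : Set Γ)),
      ∃ η : Cfsg.IrrCharacter G, gpInv G R (η : G → ℂ) ∧ ∃ m : ℕ,
        Cfsg.classInner (fun c : ↥(G ⊓ Subgroup.centralizer (R : Set Γ)) =>
          (η : G → ℂ) ⟨c, c.2.1⟩)
          (β : ↥(G ⊓ Subgroup.centralizer (R : Set Γ)) → ℂ) = m ∧ ¬ p ∣ m) := by
  classical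
  have hεp : ∀ ε : ℤ, (ε = 1 ∨ ε = -1) → ∀ m : ℕ, (m : ℤ) ≡ ε [ZMOD p] → ¬ p ∣ m := by
    intro ε hε m hm hdvd
    have h1 : (p : ℤ) ∣ (m : ℤ) := by exact_mod_cast hdvd
    have h2 : (p : ℤ) ∣ ε := by
      have := (Int.modEq_iff_dvd.mp hm)
      have h3 : ε = (ε - m) + m := by ring
      rw [h3]
      exact dvd_add this h1
    have hp2 : 2 ≤ p := hp.out.two_le
    rcases hε with h | h
    · rw [h] at h2
      have := Int.le_of_dvd one_pos h2
      omega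
    · rw [h] at h2
      have h4 : (p : ℤ) ∣ 1 := by
        have := dvd_neg.mpr h2
        simpa using this
      have := Int.le_of_dvd one_pos h4
      omega
  have h0p : ∀ m : ℕ, (m : ℤ) ≡ 0 [ZMOD p] → p ∣ m := by
    intro m hm
    have := Int.modEq_zero_iff_dvd.mp hm
    exact_mod_cast this
  refine ⟨?_, ?_, ?_⟩
  · intro η hinv
    obtain ⟨ψ, -, -, β, ε, hε, -, hm⟩ := gp_data G R hcop htop hcyc p hR η hinv
    exact ⟨β, ε, hε, hm⟩
  · intro η η' hinv hinv' β m m' hm hpm hm' hpm'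
    obtain ⟨ψ, hψ, hψres, β₁, ε₁, hε₁, hval₁, hm₁⟩ := gp_data G R hcop htop hcyc p hR η hinv
    obtain ⟨ψ', hψ', hψres', β₂, ε₂, hε₂, hval₂, hm₂⟩ :=
      gp_data G R hcop htop hcyc p hR η' hinv'
    have hβ1 : β = β₁ := by
      by_contra hne
      obtain ⟨m₀, h1, h2⟩ := hm₁ β
      rw [if_neg hne] at h2
      rw [hm] at h1
      have : m = m₀ := by exact_mod_cast h1
      rw [← this] at h2
      exact hpm (h0p m h2)
    have hβ2 : β = β₂ := by
      by_contra hne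
      obtain ⟨m₀, h1, h2⟩ := hm₂ β
      rw [if_neg hne] at h2
      rw [hm'] at h1
      have : m' = m₀ := by exact_mod_cast h1
      rw [← this] at h2
      exact hpm' (h0p m' h2)
    by_contra hne
    obtain ⟨s, hs⟩ := gc_exists_gen R hcyc
    have hne' : (fun g : G => ψ g) ≠ (fun g : G => ψ' g) := by
      intro h
      apply hne
      apply Subtype.ext
      funext g
      rw [← hψres g, ← hψres' g]
      exact congrFun h g
    have hεne : ∀ ε : ℤ, (ε = 1 ∨ ε = -1) → ((ε : ℤ) : ℂ) ≠ 0 := by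
      intro ε hε
      rcases hε with h | h <;> rw [h] <;> norm_num
    exact gc_inj G R hcop htop s hs ψ ψ' hψ hψ' hne'
      (β : ↥(G ⊓ Subgroup.centralizer (R : Set Γ)) → ℂ) β.2 (ε₁ : ℂ) (ε₂ : ℂ)
      (hεne ε₁ hε₁) (hεne ε₂ hε₂) (fun c => by rw [hβ1]; exact hval₁ c s hs)
      (fun c => by rw [hβ2]; exact hval₂ c s hs)
  · intro β
    obtain ⟨ψ, hψ, hres, hdet, ε, hε, hval⟩ := gc_surj G R hcop htop hcyc β
    have hcl := isCharacter_isClassFunction (h7_irr_isCharacter hψ)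
    have hinv : gpInv G R (fun g : G => ψ g) := by
      intro t ht g g' hgg'
      simp only
      rw [hgg']
      exact hcl g t
    refine ⟨⟨fun g : G => ψ g, hres⟩, hinv, ?_⟩
    obtain ⟨s, hs⟩ := gc_exists_gen R hcyc
    have hsR : s ∈ R := hs ▸ Subgroup.mem_zpowers s
    have hRcomm : ∀ a ∈ R, ∀ b ∈ R, a * b = b * a := by
      intro a ha b hb
      rw [← hs] at ha hb
      exact gc_zpowers_comm s a b ha hb
    obtain ⟨m, hm1, hm2⟩ := gp_mult_cong (G ⊓ Subgroup.centralizer (R : Set Γ)) R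
      (fun c hc t ht => (Subgroup.mem_centralizer_iff.mp hc.2 t ht).symm)
      (fun a b => Subtype.ext (hRcomm a a.2 b b.2)) p hR s hsR ψ (h7_irr_isCharacter hψ) β ε
      (fun c => hval c s hs) β
    rw [if_pos rfl] at hm2
    exact ⟨m, hm1, hεp ε hε m hm2⟩

end Cfsg.Agent.Lib.helper2
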