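import Mathlib
import Cfsg.Prelude.Def_Characters
import Cfsg.Prelude.Def_CharExt
import Cfsg.Agent.Lib.helper2.GlaubP2

set_option autoImplicit false
open Cfsg
open scoped ComplexConjugate

namespace Cfsg.Agent.Lib.helper2

open Cfsg.Agent.Lib.helper7 Cfsg.Agent.Lib.Helper11 Cfsg.Agent.Lib.Helper25

/-- the cyclic `p`-group correspondence inside an arbitrary ambient group -/
theorem gp_cyc {Γ : Type*} [Group Γ] [Fintype Γ] (G R : Subgroup Γ) [Fintype G]
    (hnorm : ∀ s ∈ R, ∀ g ∈ G, s * g * s⁻¹ ∈ G) (hcop : (Nat.card G).Coprime (Nat.card R))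
    (hcyc : IsCyclic R) (p : ℕ) [hp : Fact p.Prime] (hR : IsPGroup p R)
    (C : Subgroup Γ) [Fintype C] (hC : C = G ⊓ Subgroup.centralizer (R : Set Γ)) (hCG : C ≤ G) :
    (∀ η : Cfsg.IrrCharacter G, gpInv G R (η : G → ℂ) →
      ∃ β : Cfsg.IrrCharacter C, ∃ ε : ℤ, (ε = 1 ∨ ε = -1) ∧
      ∀ β' : Cfsg.IrrCharacter C, ∃ m : ℕ,
        Cfsg.classInner (fun c : C => (η : G → ℂ) ⟨c, hCG c.2⟩) (β' : C → ℂ) = m ∧
        (m : ℤ) ≡ (if β' = β then ε else 0) [ZMOD p]) ∧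
    (∀ η η' : Cfsg.IrrCharacter G, gpInv G R (η : G → ℂ) → gpInv G R (η' : G → ℂ) →
      ∀ β : Cfsg.IrrCharacter C, ∀ m m' : ℕ,
        Cfsg.classInner (fun c : C => (η : G → ℂ) ⟨c, hCG c.2⟩) (β : C → ℂ) = m → ¬ p ∣ m →
        Cfsg.classInner (fun c : C => (η' : G → ℂ) ⟨c, hCG c.2⟩) (β : C → ℂ) = m' → ¬ p ∣ m' →
        η = η') ∧
    (∀ β : Cfsg.IrrCharacter C, ∃ η : Cfsg.IrrCharacter G, gpInv G R (η : G → ℂ) ∧ ∃ m : ℕ,
        Cfsg.classInner (fun c : C => (η : G → ℂ) ⟨c, hCG c.2⟩) (β : C → ℂ) = m ∧ ¬ p ∣ m) := by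
  classical
  -- the ambient group J = G R
  obtain ⟨J, hJ⟩ : ∃ J : Subgroup Γ, J = G ⊔ R := ⟨_, rfl⟩
  have hGJ : G ≤ J := hJ ▸ le_sup_left
  have hRJ : R ≤ J := hJ ▸ le_sup_right
  have hCJ : C ≤ J := le_trans hCG hGJ
  let eG : (G.subgroupOf J) ≃* G := Subgroup.subgroupOfEquivOfLe hGJ
  let eR : (R.subgroupOf J) ≃* R := Subgroup.subgroupOfEquivOfLe hRJ
  have heG : ∀ x : G.subgroupOf J, ((eG x : G) : Γ) = ((x : J) : Γ) := fun x => rfl
  haveI : Fintype J := Fintype.ofFinite _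
  haveI : Fintype (G.subgroupOf J) := Fintype.ofFinite _
  have hnorm' : ∀ s ∈ R.subgroupOf J, ∀ g ∈ G.subgroupOf J, s * g * s⁻¹ ∈ G.subgroupOf J := by
    intro s hs g hg
    rw [Subgroup.mem_subgroupOf] at hs hg ⊢
    simp only [Subgroup.coe_mul, Subgroup.coe_inv]
    exact hnorm _ hs _ hg
  have htop' : G.subgroupOf J ⊔ R.subgroupOf J = ⊤ := by
    rw [← Subgroup.subgroupOf_sup hGJ hRJ, ← hJ, Subgroup.subgroupOf_self]
  haveI hG' : (G.subgroupOf J).Normal := gc_normal _ _ hnorm' htop'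
  have hcop' : (Nat.card (G.subgroupOf J)).Coprime (Nat.card (R.subgroupOf J)) := by
    rw [Nat.card_congr eG.toEquiv, Nat.card_congr eR.toEquiv]
    exact hcop
  have hcyc' : IsCyclic (R.subgroupOf J) :=
    isCyclic_of_surjective eR.symm.toMonoidHom eR.symm.surjective
  have hR' : IsPGroup p (R.subgroupOf J) := hR.of_equiv eR.symm
  -- the centralizer
  have hmemC : ∀ x : J, x ∈ G.subgroupOf J ⊓ Subgroup.centralizer ((R.subgroupOf J : Subgroup J) : Set J) ↔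
      (x : Γ) ∈ C := by
    intro x
    rw [hC, Subgroup.mem_inf, Subgroup.mem_inf, Subgroup.mem_subgroupOf,
      Subgroup.mem_centralizer_iff, Subgroup.mem_centralizer_iff]
    constructor
    · rintro ⟨h1, h2⟩
      refine ⟨h1, ?_⟩
      intro r hr
      have := h2 ⟨r, hRJ hr⟩ (Subgroup.mem_subgroupOf.mpr hr)
      exact congrArg Subtype.val this
    · rintro ⟨h1, h2⟩
      refine ⟨h1, ?_⟩
      intro r hr
      apply Subtype.ext
      exact h2 (r : Γ) (Subgroup.mem_subgroupOf.mp hr)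
  haveI : Fintype ↥(G.subgroupOf J ⊓
      Subgroup.centralizer ((R.subgroupOf J : Subgroup J) : Set J)) := Fintype.ofFinite _
  let eC : ↥(G.subgroupOf J ⊓ Subgroup.centralizer ((R.subgroupOf J : Subgroup J) : Set J)) ≃* C :=
    { toFun := fun x => ⟨((x : J) : Γ), (hmemC x).mp x.2⟩
      invFun := fun c => ⟨⟨(c : Γ), hCJ c.2⟩, (hmemC _).mpr c.2⟩
      left_inv := fun x => rfl
      right_inv := fun c => rfl
      map_mul' := fun x y => rfl }
  have heC : ∀ x, ((eC x : C) : Γ) = ((x : J) : Γ) := fun x => rfl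
  obtain ⟨H1, H2, H3⟩ := gp_cyc_top (G.subgroupOf J) (R.subgroupOf J) hcop' htop' hcyc' p hR'
  -- transport of characters
  have hirrG : ∀ η : Cfsg.IrrCharacter G,
      Cfsg.IsIrrCharacter (G.subgroupOf J) (fun x => (η : G → ℂ) (eG x)) :=
    fun η => h7_isIrr_comp_equiv eG _ η.2
  have hinvG : ∀ η : G → ℂ, gpInv G R η →
      gpInv (G.subgroupOf J) (R.subgroupOf J) (fun x => η (eG x)) := by
    intro η hinv s hs g g' hgg'
    simp only
    apply hinv (s : Γ) (Subgroup.mem_subgroupOf.mp hs) (eG g) (eG g')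
    rw [heG, heG, hgg']
    simp
  have hinner : ∀ (η : G → ℂ) (β : C → ℂ),
      Cfsg.classInner (fun c : ↥(G.subgroupOf J ⊓
        Subgroup.centralizer ((R.subgroupOf J : Subgroup J) : Set J)) =>
          (fun x => η (eG x)) ⟨c, c.2.1⟩) (fun c => β (eC c)) =
      Cfsg.classInner (fun c : C => η ⟨c, hCG c.2⟩) β := by
    intro η β
    have := h7_classInner_comp_equiv eC (fun c : C => η ⟨c, hCG c.2⟩) β
    rw [← this]
    rfl
  refine ⟨?_, ?_, ?_⟩
  · intro η hinv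
    obtain ⟨β₀, ε, hε, hm⟩ := H1 ⟨_, hirrG η⟩ (hinvG _ hinv)
    refine ⟨⟨fun c => (β₀ : _ → ℂ) (eC.symm c), h7_isIrr_comp_equiv eC.symm _ β₀.2⟩, ε, hε, ?_⟩
    intro β'
    obtain ⟨m, hm1, hm2⟩ := hm ⟨fun c => (β' : C → ℂ) (eC c), h7_isIrr_comp_equiv eC _ β'.2⟩
    refine ⟨m, ?_, ?_⟩
    · rw [← hm1]
      exact (hinner (η : G → ℂ) (β' : C → ℂ)).symm
    · have hiff : ((⟨fun c => (β' : C → ℂ) (eC c), h7_isIrr_comp_equiv eC _ β'.2⟩ :
          Cfsg.IrrCharacter _) = β₀) ↔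
          (β' = ⟨fun c => (β₀ : _ → ℂ) (eC.symm c), h7_isIrr_comp_equiv eC.symm _ β₀.2⟩) := by
        constructor
        · intro h
          apply Subtype.ext
          funext c
          have := congrArg (fun b : Cfsg.IrrCharacter _ => (b : _ → ℂ) (eC.symm c)) h
          simpa using this
        · intro h
          apply Subtype.ext
          funext c
          have := congrArg (fun b : Cfsg.IrrCharacter C => (b : C → ℂ) (eC c)) h
          simpa using this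
      by_cases hb : β' = ⟨fun c => (β₀ : _ → ℂ) (eC.symm c), h7_isIrr_comp_equiv eC.symm _ β₀.2⟩
      · rw [if_pos hb]
        rw [if_pos (hiff.mpr hb)] at hm2
        exact hm2
      · rw [if_neg hb]
        rw [if_neg (fun h => hb (hiff.mp h))] at hm2
        exact hm2
  · intro η η' hinv hinv' β m m' hm hpm hm' hpm'
    have h1 := H2 ⟨_, hirrG η⟩ ⟨_, hirrG η'⟩ (hinvG _ hinv) (hinvG _ hinv')
      ⟨fun c => (β : C → ℂ) (eC c), h7_isIrr_comp_equiv eC _ β.2⟩ m m'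
      (by rw [← hm]; exact hinner (η : G → ℂ) (β : C → ℂ)) hpm
      (by rw [← hm']; exact hinner (η' : G → ℂ) (β : C → ℂ)) hpm'
    apply Subtype.ext
    funext g
    have := congrArg (fun b : Cfsg.IrrCharacter _ => (b : _ → ℂ) (eG.symm g)) h1
    simpa using this
  · intro β
    obtain ⟨η₀, hinv₀, m, hm, hpm⟩ :=
      H3 ⟨fun c => (β : C → ℂ) (eC c), h7_isIrr_comp_equiv eC _ β.2⟩
    refine ⟨⟨fun g => (η₀ : _ → ℂ) (eG.symm g), h7_isIrr_comp_equiv eG.symm _ η₀.2⟩, ?_, m, ?_,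
      hpm⟩
    · intro s hs g g' hgg'
      simp only
      apply hinv₀ ⟨s, hRJ hs⟩ (Subgroup.mem_subgroupOf.mpr hs) (eG.symm g) (eG.symm g')
      have e1 : ∀ y : G, (((eG.symm y : G.subgroupOf J) : J) : Γ) = (y : Γ) := by
        intro y
        have := heG (eG.symm y)
        rw [MulEquiv.apply_symm_apply] at this
        exact this.symm
      apply Subtype.ext
      simp only [Subgroup.coe_mul, Subgroup.coe_inv]
      rw [e1, e1, hgg']
    · rw [← hm, ← hinner]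
      congr 1

end Cfsg.Agent.Lib.helper2
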