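import Mathlib
import Cfsg.Prelude.Def_Characters
import Cfsg.Prelude.Def_CharExt
import Cfsg.Agent.Lib.helper2.GlaubP3

set_option autoImplicit false
open Cfsg
open scoped ComplexConjugate

namespace Cfsg.Agent.Lib.helper2

open Cfsg.Agent.Lib.helper7 Cfsg.Agent.Lib.Helper11 Cfsg.Agent.Lib.Helper25

theorem gp_not_dvd (p : ℕ) (hp : p.Prime) (k : ℕ) (ε : ℤ) (hε : ε = 1 ∨ ε = -1)
    (h : (k : ℤ) ≡ ε [ZMOD p]) : ¬ p ∣ k := by
  intro hd
  have h0 : (k : ℤ) ≡ 0 [ZMOD p] := by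
    rw [Int.modEq_zero_iff_dvd]
    exact_mod_cast hd
  have h1 : ε ≡ 0 [ZMOD p] := h.symm.trans h0
  rw [Int.modEq_zero_iff_dvd] at h1
  have h2 : (p : ℤ) ∣ 1 := by
    rcases hε with rfl | rfl
    · exact h1
    · simpa using h1
  have h3 : p ∣ 1 := by exact_mod_cast h2
  exact hp.one_lt.ne' (Nat.dvd_one.mp h3)

theorem gp_eq_of_not_dvd {ι : Type*} [DecidableEq ι] (p : ℕ) (k : ℕ) (ε : ℤ) (b b₀ : ι)
    (h : (k : ℤ) ≡ (if b = b₀ then ε else 0) [ZMOD p]) (hk : ¬ p ∣ k) : b = b₀ := by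
  by_contra hne
  rw [if_neg hne, Int.modEq_zero_iff_dvd] at h
  exact hk (by exact_mod_cast h)

/-- composition of two "mod `p`" multiplicity patterns -/
theorem gp_compose {Γ : Type*} [Group Γ] (G B C : Subgroup Γ) [Fintype G] [Fintype B] [Fintype C]
    (hBG : B ≤ G) (hCB : C ≤ B) (p : ℕ)
    (χ : G → ℂ) (hχ : Cfsg.IsCharacter G χ) (η : Cfsg.IrrCharacter B) (β : Cfsg.IrrCharacter C)
    (ε₁ ε₂ : ℤ)
    (h1 : ∀ η' : Cfsg.IrrCharacter B, ∃ m : ℕ,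
      Cfsg.classInner (fun b : B => χ ⟨b, hBG b.2⟩) (η' : B → ℂ) = m ∧
      (m : ℤ) ≡ (if η' = η then ε₁ else 0) [ZMOD p])
    (h2 : ∀ β' : Cfsg.IrrCharacter C, ∃ n : ℕ,
      Cfsg.classInner (fun c : C => (η : B → ℂ) ⟨c, hCB c.2⟩) (β' : C → ℂ) = n ∧
      (n : ℤ) ≡ (if β' = β then ε₂ else 0) [ZMOD p]) :
    ∀ β' : Cfsg.IrrCharacter C, ∃ k : ℕ,
      Cfsg.classInner (fun c : C => χ ⟨c, hBG (hCB c.2)⟩) (β' : C → ℂ) = k ∧
      (k : ℤ) ≡ (if β' = β then ε₁ * ε₂ else 0) [ZMOD p] := by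
  classical
  haveI : Fintype (Cfsg.IrrCharacter B) := Fintype.ofFinite _
  intro β'
  have hχB : Cfsg.IsCharacter B (fun b : B => χ ⟨b, hBG b.2⟩) :=
    isCharacter_comp_hom hχ (Subgroup.inclusion hBG)
  choose m hm1 hm2 using h1
  have hexp : (fun b : B => χ ⟨b, hBG b.2⟩) =
      ∑ η' : Cfsg.IrrCharacter B, (m η' : ℂ) • (η' : B → ℂ) := by
    have := classFunction_expansion (fun b : B => χ ⟨b, hBG b.2⟩)
      (isCharacter_isClassFunction hχB)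
    simp only [hm1] at this
    exact this
  -- multiplicities of restrictions of irreducibles of B
  have hn : ∀ η' : Cfsg.IrrCharacter B, ∃ n : ℕ,
      Cfsg.classInner (fun c : C => (η' : B → ℂ) ⟨c, hCB c.2⟩) (β' : C → ℂ) = n := by
    intro η'
    exact classInner_character_nat
      (isCharacter_comp_hom (Cfsg.Agent.Lib.helper2.isCharacter_of_irr η') (Subgroup.inclusion hCB))
      (Cfsg.Agent.Lib.helper2.isCharacter_of_irr β')
  choose n hn using hn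
  have hχC : (fun c : C => χ ⟨c, hBG (hCB c.2)⟩) =
      ∑ η' : Cfsg.IrrCharacter B, (m η' : ℂ) • (fun c : C => (η' : B → ℂ) ⟨c, hCB c.2⟩) := by
    funext c
    have := congrFun hexp ⟨c, hCB c.2⟩
    simp only [Finset.sum_apply, Pi.smul_apply] at this ⊢
    exact this
  refine ⟨∑ η' : Cfsg.IrrCharacter B, m η' * n η', ?_, ?_⟩
  · rw [hχC, classInner_sum_left]
    push_cast
    refine Finset.sum_congr rfl fun η' _ => ?_
    rw [classInner_smul_left, hn]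
  · obtain ⟨n₀, hn₀, hn₀'⟩ := h2 β'
    have hnη : n η = n₀ := by
      have := (hn η).symm.trans hn₀
      exact_mod_cast this
    push_cast
    rw [← Finset.add_sum_erase _ _ (Finset.mem_univ η)]
    have hrest : (∑ η' ∈ Finset.univ.erase η, (m η' : ℤ) * (n η' : ℤ)) ≡ 0 [ZMOD p] := by
      rw [Int.modEq_zero_iff_dvd]
      apply Finset.dvd_sum
      intro η' hη'
      have hne : η' ≠ η := (Finset.mem_erase.mp hη').1
      have := hm2 η'
      rw [if_neg hne, Int.modEq_zero_iff_dvd] at this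
      exact Dvd.dvd.mul_right this _
    have hmain : (m η : ℤ) * (n η : ℤ) ≡ (if β' = β then ε₁ * ε₂ else 0) [ZMOD p] := by
      have e1 := hm2 η
      rw [if_pos rfl] at e1
      rw [hnη]
      have := Int.ModEq.mul e1 hn₀'
      by_cases hb : β' = β
      · rw [if_pos hb] at this ⊢
        exact this
      · rw [if_neg hb] at this ⊢
        simpa using this
    have := Int.ModEq.add hmain hrest
    simpa using this

/-- conjugation by a normalising element as an automorphism of the subgroup -/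
def gpConj {Γ : Type*} [Group Γ] (G : Subgroup Γ) (r : Γ) (h : ∀ g ∈ G, r * g * r⁻¹ ∈ G)
    (h' : ∀ g ∈ G, r⁻¹ * g * r ∈ G) : G ≃* G where
  toFun g := ⟨r * g * r⁻¹, h g g.2⟩
  invFun g := ⟨r⁻¹ * g * r, h' g g.2⟩
  left_inv g := Subtype.ext (by simp [mul_assoc])
  right_inv g := Subtype.ext (by simp [mul_assoc])
  map_mul' a b := Subtype.ext (by simp [mul_assoc])

theorem gpConj_coe {Γ : Type*} [Group Γ] (G : Subgroup Γ) (r : Γ) (h : ∀ g ∈ G, r * g * r⁻¹ ∈ G)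
    (h' : ∀ g ∈ G, r⁻¹ * g * r ∈ G) (g : G) : ((gpConj G r h h' g : G) : Γ) = r * g * r⁻¹ := rfl

theorem gp_norm_inv {Γ : Type*} [Group Γ] (G S : Subgroup Γ)
    (hnorm : ∀ s ∈ S, ∀ g ∈ G, s * g * s⁻¹ ∈ G) : ∀ s ∈ S, ∀ g ∈ G, s⁻¹ * g * s ∈ G := by
  intro s hs g hg
  have := hnorm s⁻¹ (S.inv_mem hs) g hg
  rwa [inv_inv] at this

theorem gp_conj_inner {Γ : Type*} [Group Γ] (G B : Subgroup Γ) [Fintype G] [Fintype B]
    (hBG : B ≤ G) (r : Γ) (hG : ∀ g ∈ G, r * g * r⁻¹ ∈ G) (hG' : ∀ g ∈ G, r⁻¹ * g * r ∈ G)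
    (hB : ∀ g ∈ B, r * g * r⁻¹ ∈ B) (hB' : ∀ g ∈ B, r⁻¹ * g * r ∈ B) (χ : G → ℂ) (η : B → ℂ) :
    Cfsg.classInner (fun b : B => χ (gpConj G r hG hG' ⟨b, hBG b.2⟩))
      (fun b : B => η (gpConj B r hB hB' b)) =
    Cfsg.classInner (fun b : B => χ ⟨b, hBG b.2⟩) η :=
  h7_classInner_comp_equiv (gpConj B r hB hB') (fun b : B => χ ⟨b, hBG b.2⟩) η

theorem gpInv_apply {Γ : Type*} [Group Γ] (G S : Subgroup Γ) (χ : G → ℂ) (hinv : gpInv G S χ)
    (s : Γ) (hs : s ∈ S) (h : ∀ g ∈ G, s * g * s⁻¹ ∈ G) (h' : ∀ g ∈ G, s⁻¹ * g * s ∈ G) (g : G) :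
    χ (gpConj G s h h' g) = χ g :=
  hinv s hs g _ rfl

end Cfsg.Agent.Lib.helper2
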