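import Mathlib
import Cfsg.Prelude.Def_Characters
import Cfsg.Prelude.Def_CharExt
import Cfsg.Agent.Lib.helper2.GlaubP4

set_option autoImplicit false
open Cfsg
open scoped ComplexConjugate

namespace Cfsg.Agent.Lib.helper2

open Cfsg.Agent.Lib.helper7 Cfsg.Agent.Lib.Helper11 Cfsg.Agent.Lib.Helper25

/-- the three-part correspondence statement -/
def gpCorr {Γ : Type*} [Group Γ] (G S C : Subgroup Γ) [Fintype G] [Fintype C] (hCG : C ≤ G)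
    (p : ℕ) : Prop :=
    (∀ η : Cfsg.IrrCharacter G, gpInv G S (η : G → ℂ) →
      ∃ β : Cfsg.IrrCharacter C, ∃ ε : ℤ, (ε = 1 ∨ ε = -1) ∧
      ∀ β' : Cfsg.IrrCharacter C, ∃ m : ℕ,
        Cfsg.classInner (fun c : C => (η : G → ℂ) ⟨c, hCG c.2⟩) (β' : C → ℂ) = m ∧
        (m : ℤ) ≡ (if β' = β then ε else 0) [ZMOD p]) ∧
    (∀ η η' : Cfsg.IrrCharacter G, gpInv G S (η : G → ℂ) → gpInv G S (η' : G → ℂ) →
      ∀ β : Cfsg.IrrCharacter C, ∀ m m' : ℕ,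
        Cfsg.classInner (fun c : C => (η : G → ℂ) ⟨c, hCG c.2⟩) (β : C → ℂ) = m → ¬ p ∣ m →
        Cfsg.classInner (fun c : C => (η' : G → ℂ) ⟨c, hCG c.2⟩) (β : C → ℂ) = m' → ¬ p ∣ m' →
        η = η') ∧
    (∀ β : Cfsg.IrrCharacter C, ∃ η : Cfsg.IrrCharacter G, gpInv G S (η : G → ℂ) ∧ ∃ m : ℕ,
        Cfsg.classInner (fun c : C => (η : G → ℂ) ⟨c, hCG c.2⟩) (β : C → ℂ) = m ∧ ¬ p ∣ m)

theorem gpCorr_of_cyc {Γ : Type*} [Group Γ] [Fintype Γ] (G R : Subgroup Γ) [Fintype G]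
    (hnorm : ∀ s ∈ R, ∀ g ∈ G, s * g * s⁻¹ ∈ G) (hcop : (Nat.card G).Coprime (Nat.card R))
    (hcyc : IsCyclic R) (p : ℕ) [hp : Fact p.Prime] (hR : IsPGroup p R)
    (C : Subgroup Γ) [Fintype C] (hC : C = G ⊓ Subgroup.centralizer (R : Set Γ)) (hCG : C ≤ G) :
    gpCorr G R C hCG p :=
  gp_cyc G R hnorm hcop hcyc p hR C hC hCG

/-- the correspondent under a subgroup normalised by `r` is `r`-invariant -/
theorem gp_step_inv {Γ : Type*} [Group Γ] (G B R : Subgroup Γ) [Fintype G] [Fintype B]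
    (hBG : B ≤ G) (p : ℕ) (hp : p.Prime)
    (hnormG : ∀ s ∈ R, ∀ g ∈ G, s * g * s⁻¹ ∈ G) (hnormB : ∀ s ∈ R, ∀ g ∈ B, s * g * s⁻¹ ∈ B)
    (χ : Cfsg.IrrCharacter G) (hinv : gpInv G R (χ : G → ℂ))
    (η : Cfsg.IrrCharacter B) (ε : ℤ) (hε : ε = 1 ∨ ε = -1)
    (h1 : ∀ η' : Cfsg.IrrCharacter B, ∃ m : ℕ,
      Cfsg.classInner (fun b : B => (χ : G → ℂ) ⟨b, hBG b.2⟩) (η' : B → ℂ) = m ∧
      (m : ℤ) ≡ (if η' = η then ε else 0) [ZMOD p]) :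
    gpInv B R (η : B → ℂ) := by
  intro r hr b b' hbb'
  have hG := hnormG r hr
  have hG' := gp_norm_inv G R hnormG r hr
  have hB := hnormB r hr
  have hB' := gp_norm_inv B R hnormB r hr
  set ηr : Cfsg.IrrCharacter B := ⟨fun b => (η : B → ℂ) (gpConj B r hB hB' b),
    h7_isIrr_comp_equiv (gpConj B r hB hB') _ η.2⟩ with hηr
  obtain ⟨m, hm, hm'⟩ := h1 η
  rw [if_pos rfl] at hm'
  obtain ⟨m₂, hm₂, hm₂'⟩ := h1 ηr
  have hinner := gp_conj_inner G B hBG r hG hG' hB hB' (χ : G → ℂ) (η : B → ℂ)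
  have hχ : (fun b : B => (χ : G → ℂ) (gpConj G r hG hG' ⟨b, hBG b.2⟩)) =
      fun b : B => (χ : G → ℂ) ⟨b, hBG b.2⟩ := by
    funext b
    exact gpInv_apply G R _ hinv r hr hG hG' _
  rw [hχ] at hinner
  have hmm : m₂ = m := by
    have : (m₂ : ℂ) = m := by rw [← hm₂, ← hm, ← hinner]
    exact_mod_cast this
  have hpm : ¬ p ∣ m := gp_not_dvd p hp m ε hε hm'
  have heq : ηr = η := gp_eq_of_not_dvd p m₂ ε ηr η hm₂' (hmm ▸ hpm)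
  have hb' : b' = gpConj B r hB hB' b := Subtype.ext hbb'
  rw [hb']
  exact congrArg (fun f : Cfsg.IrrCharacter B => (f : B → ℂ) b) heq

/-- the inductive step of the `p`-group correspondence -/
theorem gp_step {Γ : Type*} [Group Γ] (G S T R B C : Subgroup Γ) [Fintype G] [Fintype B]
    [Fintype C] (hTS : T ≤ S) (hRS : R ≤ S)
    (hprod : ∀ s ∈ S, ∃ t ∈ T, ∃ r ∈ R, s = t * r)
    (hnormG : ∀ s ∈ S, ∀ g ∈ G, s * g * s⁻¹ ∈ G) (hnormB : ∀ s ∈ S, ∀ g ∈ B, s * g * s⁻¹ ∈ B)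
    (hnormT : ∀ s ∈ S, ∀ g ∈ T, s * g * s⁻¹ ∈ T)
    (hBG : B ≤ G) (hCB : C ≤ B) (p : ℕ) (hp : p.Prime)
    (hIH : gpCorr G T B hBG p) (hcyc : gpCorr B R C hCB p) :
    gpCorr G S C (hCB.trans hBG) p := by
  classical
  obtain ⟨IA, IB, IC⟩ := hIH
  obtain ⟨CA, CB, CC⟩ := hcyc
  have hnormGR : ∀ s ∈ R, ∀ g ∈ G, s * g * s⁻¹ ∈ G := fun s hs => hnormG s (hRS hs)
  have hnormBR : ∀ s ∈ R, ∀ g ∈ B, s * g * s⁻¹ ∈ B := fun s hs => hnormB s (hRS hs)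
  have hsubT : ∀ χ : G → ℂ, gpInv G S χ → gpInv G T χ := fun χ h t ht => h t (hTS ht)
  have hsubR : ∀ χ : G → ℂ, gpInv G S χ → gpInv G R χ := fun χ h t ht => h t (hRS ht)
  refine ⟨?_, ?_, ?_⟩
  · intro χ hinv
    obtain ⟨η, ε₁, hε₁, h1⟩ := IA χ (hsubT _ hinv)
    have hηR := gp_step_inv G B R hBG p hp hnormGR hnormBR χ (hsubR _ hinv) η ε₁ hε₁ h1
    obtain ⟨β, ε₂, hε₂, h2⟩ := CA η hηR
    refine ⟨β, ε₁ * ε₂, ?_, ?_⟩
    · rcases hε₁ with rfl | rfl <;> rcases hε₂ with rfl | rfl <;> simp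
    · exact gp_compose G B C hBG hCB p (χ : G → ℂ)
        (Cfsg.Agent.Lib.helper2.isCharacter_of_irr χ) η β ε₁ ε₂ h1 h2
  · intro χ χ' hinv hinv' β m m' hm hpm hm' hpm'
    obtain ⟨η, ε₁, hε₁, h1⟩ := IA χ (hsubT _ hinv)
    obtain ⟨η', ε₁', hε₁', h1'⟩ := IA χ' (hsubT _ hinv')
    have hηR := gp_step_inv G B R hBG p hp hnormGR hnormBR χ (hsubR _ hinv) η ε₁ hε₁ h1
    have hηR' := gp_step_inv G B R hBG p hp hnormGR hnormBR χ' (hsubR _ hinv') η' ε₁' hε₁' h1'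
    obtain ⟨β₁, ε₂, hε₂, h2⟩ := CA η hηR
    obtain ⟨β₁', ε₂', hε₂', h2'⟩ := CA η' hηR'
    obtain ⟨k, hk, hk'⟩ := gp_compose G B C hBG hCB p (χ : G → ℂ)
        (Cfsg.Agent.Lib.helper2.isCharacter_of_irr χ) η β₁ ε₁ ε₂ h1 h2 β
    obtain ⟨k₂, hk₂, hk₂'⟩ := gp_compose G B C hBG hCB p (χ' : G → ℂ)
        (Cfsg.Agent.Lib.helper2.isCharacter_of_irr χ') η' β₁' ε₁' ε₂' h1' h2' β
    have hkm : k = m := by
      have : (k : ℂ) = m := by rw [← hk, ← hm]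
      exact_mod_cast this
    have hkm' : k₂ = m' := by
      have : (k₂ : ℂ) = m' := by rw [← hk₂, ← hm']
      exact_mod_cast this
    have hb : β = β₁ := gp_eq_of_not_dvd p k _ β β₁ hk' (hkm ▸ hpm)
    have hb' : β = β₁' := gp_eq_of_not_dvd p k₂ _ β β₁' hk₂' (hkm' ▸ hpm')
    obtain ⟨n, hn, hn'⟩ := h2 β
    rw [if_pos hb] at hn'
    obtain ⟨n₂, hn₂, hn₂'⟩ := h2' β
    rw [if_pos hb'] at hn₂'
    have hηη : η = η' := CB η η' hηR hηR' β n n₂ hn (gp_not_dvd p hp n ε₂ hε₂ hn')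
      hn₂ (gp_not_dvd p hp n₂ ε₂' hε₂' hn₂')
    obtain ⟨m₁, hm₁, hm₁'⟩ := h1 η
    rw [if_pos rfl] at hm₁'
    obtain ⟨m₂, hm₂, hm₂'⟩ := h1' η
    rw [if_pos hηη] at hm₂'
    exact IB χ χ' (hsubT _ hinv) (hsubT _ hinv') η m₁ m₂ hm₁ (gp_not_dvd p hp m₁ ε₁ hε₁ hm₁')
      hm₂ (gp_not_dvd p hp m₂ ε₁' hε₁' hm₂')
  · intro β
    obtain ⟨η, hηR, n, hn, hpn⟩ := CC β
    obtain ⟨χ, hχT, m₁, hm₁, hpm₁⟩ := IC η
    -- χ is R-invariant
    have hχR : gpInv G R (χ : G → ℂ) := by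
      intro r hr g g' hgg'
      have hG := hnormGR r hr
      have hG' := gp_norm_inv G R hnormGR r hr
      have hB := hnormBR r hr
      have hB' := gp_norm_inv B R hnormBR r hr
      set χr : Cfsg.IrrCharacter G := ⟨fun g => (χ : G → ℂ) (gpConj G r hG hG' g),
        h7_isIrr_comp_equiv (gpConj G r hG hG') _ χ.2⟩ with hχr
      have hχrT : gpInv G T (χr : G → ℂ) := by
        intro t ht x x' hxx'
        have ht' : r * t * r⁻¹ ∈ T := hnormT r (hRS hr) t ht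
        change (χ : G → ℂ) (gpConj G r hG hG' x') = (χ : G → ℂ) (gpConj G r hG hG' x)
        apply hχT (r * t * r⁻¹) ht'
        rw [gpConj_coe, gpConj_coe, hxx']
        group
      have hinner := gp_conj_inner G B hBG r hG hG' hB hB' (χ : G → ℂ) (η : B → ℂ)
      have hη : (fun b : B => (η : B → ℂ) (gpConj B r hB hB' b)) = (η : B → ℂ) := by
        funext b
        exact gpInv_apply B R _ hηR r hr hB hB' _
      rw [hη] at hinner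
      have hm₁r : Cfsg.classInner (fun b : B => (χr : G → ℂ) ⟨b, hBG b.2⟩) (η : B → ℂ) = m₁ := by
        rw [← hm₁, ← hinner]
      have heq : χr = χ := IB χr χ hχrT hχT η m₁ m₁ hm₁r hpm₁ hm₁ hpm₁
      have hg' : g' = gpConj G r hG hG' g := Subtype.ext hgg'
      rw [hg']
      exact congrArg (fun f : Cfsg.IrrCharacter G => (f : G → ℂ) g) heq
    have hχS : gpInv G S (χ : G → ℂ) := by
      intro s hs g g' hgg'
      obtain ⟨t, ht, r, hr, rfl⟩ := hprod s hs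
      have hmem : r * g * r⁻¹ ∈ G := hnormGR r hr g g.2
      have e1 : (χ : G → ℂ) ⟨r * g * r⁻¹, hmem⟩ = (χ : G → ℂ) g := hχR r hr g _ rfl
      have e2 : (χ : G → ℂ) g' = (χ : G → ℂ) ⟨r * g * r⁻¹, hmem⟩ := by
        apply hχT t ht
        rw [hgg']
        group
      rw [e2, e1]
    obtain ⟨η₀, ε₁, hε₁, h1⟩ := IA χ hχT
    obtain ⟨m₂, hm₂, hm₂'⟩ := h1 η
    have hmm : m₂ = m₁ := by
      have : (m₂ : ℂ) = m₁ := by rw [← hm₂, ← hm₁]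
      exact_mod_cast this
    have hηη : η = η₀ := gp_eq_of_not_dvd p m₂ _ η η₀ hm₂' (hmm ▸ hpm₁)
    subst hηη
    obtain ⟨β₀, ε₂, hε₂, h2⟩ := CA η hηR
    obtain ⟨n₂, hn₂, hn₂'⟩ := h2 β
    have hnn : n₂ = n := by
      have : (n₂ : ℂ) = n := by rw [← hn₂, ← hn]
      exact_mod_cast this
    have hββ : β = β₀ := gp_eq_of_not_dvd p n₂ _ β β₀ hn₂' (hnn ▸ hpn)
    subst hββ
    obtain ⟨k, hk, hk'⟩ := gp_compose G B C hBG hCB p (χ : G → ℂ)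
        (Cfsg.Agent.Lib.helper2.isCharacter_of_irr χ) η β ε₁ ε₂ h1 h2 β
    rw [if_pos rfl] at hk'
    refine ⟨χ, hχS, k, hk, gp_not_dvd p hp k (ε₁ * ε₂) ?_ hk'⟩
    rcases hε₁ with rfl | rfl <;> rcases hε₂ with rfl | rfl <;> simp

end Cfsg.Agent.Lib.helper2
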