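import Mathlib
import Cfsg.Prelude.Def_Characters
import Cfsg.Prelude.Def_CharExt
import Cfsg.Agent.Lib.helper2.GlaubP5

set_option autoImplicit false
open Cfsg
open scoped ComplexConjugate

namespace Cfsg.Agent.Lib.helper2

open Cfsg.Agent.Lib.helper7 Cfsg.Agent.Lib.Helper11 Cfsg.Agent.Lib.Helper25

theorem gp_split {Γ : Type*} [Group Γ] [Finite Γ] (S : Subgroup Γ) (p : ℕ) [hp : Fact p.Prime]
    (hS : IsPGroup p S) (hne : S ≠ ⊥) :
    ∃ T R : Subgroup Γ, T ≤ S ∧ R ≤ S ∧ IsCyclic R ∧ Nat.card T < Nat.card S ∧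
      (∀ s ∈ S, ∀ t ∈ T, s * t * s⁻¹ ∈ T) ∧ (∀ s ∈ S, ∃ t ∈ T, ∃ r ∈ R, s = t * r) := by
  classical
  obtain ⟨k, hk⟩ := IsPGroup.iff_card.mp hS
  have hk0 : k ≠ 0 := by
    rintro rfl
    rw [pow_zero] at hk
    exact hne (Subgroup.eq_bot_of_card_eq S hk)
  obtain ⟨K, hK⟩ := Sylow.exists_subgroup_card_pow_prime (G := S) p (n := k - 1)
    (by rw [hk]; exact pow_dvd_pow p (Nat.sub_le k 1))
  have hidx : K.index = p := by
    have h1 := K.card_mul_index
    rw [hK, hk] at h1
    have h2 : p ^ k = p ^ (k - 1) * p := by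
      rw [← pow_succ]
      congr 1
      omega
    rw [h2] at h1
    exact Nat.eq_of_mul_eq_mul_left (pow_pos hp.out.pos _) h1
  haveI hKn : K.Normal := Subgroup.normal_of_index_eq_minFac_card (by
    rw [hidx, hk, Nat.pow_minFac hk0, Nat.Prime.minFac_eq hp.out])
  have hKtop : K ≠ ⊤ := by
    intro h
    rw [← Subgroup.index_eq_one, hidx] at h
    exact hp.out.one_lt.ne' h
  obtain ⟨s₀, hs₀⟩ : ∃ x : S, x ∉ K := by
    by_contra hcon
    push Not at hcon
    exact hKtop (eq_top_iff.mpr fun x _ => hcon x)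
  set Z : Subgroup S := Subgroup.zpowers s₀ with hZ
  have hKZ : K ⊔ Z = ⊤ := by
    have h1 := Subgroup.relIndex_mul_index (le_sup_left : K ≤ K ⊔ Z)
    rw [hidx] at h1
    have h2 : (K ⊔ Z).index ∣ p := Dvd.intro_left _ h1
    rcases (Nat.dvd_prime hp.out).mp h2 with h3 | h3
    · exact Subgroup.index_eq_one.mp h3
    · exfalso
      rw [h3] at h1
      have h4 : K.relIndex (K ⊔ Z) = 1 := by
        have : K.relIndex (K ⊔ Z) * p = 1 * p := by rw [h1, one_mul]
        exact Nat.eq_of_mul_eq_mul_right hp.out.pos this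
      have h5 := Subgroup.relIndex_eq_one.mp h4
      exact hs₀ (h5 (le_sup_right (a := K) (Subgroup.mem_zpowers s₀)))
  refine ⟨K.map S.subtype, Z.map S.subtype, Subgroup.map_subtype_le K, Subgroup.map_subtype_le Z,
    ?_, ?_, ?_, ?_⟩
  · rw [hZ, MonoidHom.map_zpowers]
    infer_instance
  · rw [Subgroup.card_map_of_injective S.subtype_injective, hK, hk]
    exact Nat.pow_lt_pow_right hp.out.one_lt (by omega)
  · intro s hs t ht
    obtain ⟨t', ht', rfl⟩ := Subgroup.mem_map.mp ht
    refine Subgroup.mem_map.mpr ⟨⟨s, hs⟩ * t' * ⟨s, hs⟩⁻¹, hKn.conj_mem t' ht' _, ?_⟩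
    simp
  · intro s hs
    have h1 : (⟨s, hs⟩ : S) ∈ K ⊔ Z := by rw [hKZ]; exact Subgroup.mem_top _
    have h2 : (⟨s, hs⟩ : S) ∈ ((K ⊔ Z : Subgroup S) : Set S) := h1
    rw [Subgroup.normal_mul] at h2
    obtain ⟨a, ha, b, hb, hab⟩ := Set.mem_mul.mp h2
    refine ⟨a, Subgroup.mem_map.mpr ⟨a, ha, rfl⟩, b, Subgroup.mem_map.mpr ⟨b, hb, rfl⟩, ?_⟩
    have := congrArg Subtype.val hab
    simpa using this.symm

/-- the Glauberman correspondence for a `p`-group of operators, strengthened form -/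
theorem gp_main {Γ : Type*} [Group Γ] [Fintype Γ] (p : ℕ) [hp : Fact p.Prime] :
    ∀ (n : ℕ) (G S : Subgroup Γ) [Fintype G], Nat.card S = n →
      (∀ s ∈ S, ∀ g ∈ G, s * g * s⁻¹ ∈ G) → (Nat.card G).Coprime (Nat.card S) →
      IsPGroup p S → ∀ (C : Subgroup Γ) [Fintype C],
      C = G ⊓ Subgroup.centralizer (S : Set Γ) → ∀ hCG : C ≤ G, gpCorr G S C hCG p := by
  classical
  intro n
  induction n using Nat.strong_induction_on with
  | _ n ih =>
    intro G S _ hn hnorm hcop hS C _ hC hCG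
    by_cases hcyc : IsCyclic S
    · exact gpCorr_of_cyc G S hnorm hcop hcyc p hS C hC hCG
    · have hne : S ≠ ⊥ := by
        rintro rfl
        exact hcyc inferInstance
      obtain ⟨T, R, hTS, hRS, hRcyc, hTlt, hnormT, hprod⟩ := gp_split S p hS hne
      -- the intermediate fixed-point subgroup
      obtain ⟨B, hB⟩ : ∃ B : Subgroup Γ, B = G ⊓ Subgroup.centralizer (T : Set Γ) := ⟨_, rfl⟩
      haveI : Fintype B := Fintype.ofFinite _
      have hBG : B ≤ G := hB ▸ inf_le_left
      have hCB : C ≤ B := by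
        rw [hC, hB]
        exact inf_le_inf_left _ (Subgroup.centralizer_le hTS)
      have hnormB : ∀ s ∈ S, ∀ g ∈ B, s * g * s⁻¹ ∈ B := by
        intro s hs g hg
        rw [hB, Subgroup.mem_inf] at hg ⊢
        refine ⟨hnorm s hs g hg.1, ?_⟩
        rw [Subgroup.mem_centralizer_iff] at hg ⊢
        intro t ht
        have ht' : s⁻¹ * t * s ∈ T := by
          have := hnormT s⁻¹ (S.inv_mem hs) t ht
          rwa [inv_inv] at this
        have h1 := hg.2 _ ht'
        calc t * (s * g * s⁻¹) = s * ((s⁻¹ * t * s) * g) * s⁻¹ := by group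
          _ = s * (g * (s⁻¹ * t * s)) * s⁻¹ := by rw [h1]
          _ = s * g * s⁻¹ * t := by group
      have hcopT : (Nat.card G).Coprime (Nat.card T) :=
        Nat.Coprime.coprime_dvd_right (Subgroup.card_dvd_of_le hTS) hcop
      have hcopR : (Nat.card B).Coprime (Nat.card R) :=
        Nat.Coprime.coprime_dvd_left (Subgroup.card_dvd_of_le hBG)
          (Nat.Coprime.coprime_dvd_right (Subgroup.card_dvd_of_le hRS) hcop)
      have hCR : C = B ⊓ Subgroup.centralizer (R : Set Γ) := by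
        apply le_antisymm
        · refine le_inf hCB ?_
          rw [hC]
          exact le_trans inf_le_right (Subgroup.centralizer_le hRS)
        · intro x hx
          rw [hB] at hx
          rw [hC]
          rw [Subgroup.mem_inf, Subgroup.mem_inf] at hx
          obtain ⟨⟨hx1, hx2⟩, hx3⟩ := hx
          refine Subgroup.mem_inf.mpr ⟨hx1, ?_⟩
          rw [Subgroup.mem_centralizer_iff] at hx2 hx3 ⊢
          intro s hs
          obtain ⟨t, ht, r, hr, rfl⟩ := hprod s hs
          have e1 := hx2 t ht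
          have e2 := hx3 r hr
          calc t * r * x = t * (r * x) := by group
            _ = t * (x * r) := by rw [e2]
            _ = (t * x) * r := by group
            _ = (x * t) * r := by rw [e1]
            _ = x * (t * r) := by group
      have hIH : gpCorr G T B hBG p :=
        ih (Nat.card T) (hn ▸ hTlt) G T rfl (fun s hs => hnorm s (hTS hs)) hcopT
          (hS.to_le hTS) B hB hBG
      have hcycR : gpCorr B R C hCB p :=
        gpCorr_of_cyc B R (fun s hs => hnormB s (hRS hs)) hcopR hRcyc p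
          (hS.to_le hRS) C hCR hCB
      exact gp_step G S T R B C hTS hRS hprod hnorm hnormB hnormT hBG hCB p hp.out hIH hcycR

end Cfsg.Agent.Lib.helper2
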