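import Mathlib
import Cfsg.Prelude.Def_Characters
import Cfsg.Prelude.Def_CharExt
import Cfsg.Agent.Lib.helper2.GlaubP6
import Cfsg.Agent.Lib.helper2.GlaubS1

set_option autoImplicit false
open Cfsg
open scoped ComplexConjugate

namespace Cfsg.Agent.Lib.helper2

open Cfsg.Agent.Lib.helper7 Cfsg.Agent.Lib.Helper11 Cfsg.Agent.Lib.Helper25

/-- the `q`-step of the correspondence restricts to a bijection on `S`-invariant characters -/
theorem gs_char_step {Γ : Type*} [Group Γ] (G S Q B : Subgroup Γ) [Fintype G]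
    [Fintype B] (hQS : Q ≤ S) (q : ℕ) (hq : q.Prime)
    (hnormG : ∀ s ∈ S, ∀ g ∈ G, s * g * s⁻¹ ∈ G) (hnormB : ∀ s ∈ S, ∀ g ∈ B, s * g * s⁻¹ ∈ B)
    (hBG : B ≤ G)
    (hQn : ∀ s ∈ S, ∀ u ∈ Q, ∃ u' ∈ Q, ∀ g ∈ G,
      (s * u * s⁻¹) * g * (s * u * s⁻¹)⁻¹ = u' * g * u'⁻¹)
    (hcorr : gpCorr G Q B hBG q) :
    Nat.card {χ : Cfsg.IrrCharacter G // gpInv G S (χ : G → ℂ)} =
    Nat.card {η : Cfsg.IrrCharacter B // gpInv B S (η : B → ℂ)} := by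
  classical
  obtain ⟨CA, CB, CC⟩ := hcorr
  have hsubQ : ∀ χ : G → ℂ, gpInv G S χ → gpInv G Q χ := fun χ h t ht => h t (hQS ht)
  have key : ∀ χ : {χ : Cfsg.IrrCharacter G // gpInv G S (χ : G → ℂ)},
      ∃ η : {η : Cfsg.IrrCharacter B // gpInv B S (η : B → ℂ)}, ∃ m : ℕ,
        Cfsg.classInner (fun b : B => ((χ : Cfsg.IrrCharacter G) : G → ℂ) ⟨b, hBG b.2⟩)
          ((η : Cfsg.IrrCharacter B) : B → ℂ) = m ∧ ¬ q ∣ m := by
    rintro ⟨χ, hχ⟩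
    obtain ⟨η, ε, hε, h1⟩ := CA χ (hsubQ _ hχ)
    have hη := gp_step_inv G B S hBG q hq hnormG hnormB χ hχ η ε hε h1
    obtain ⟨m, hm, hm'⟩ := h1 η
    rw [if_pos rfl] at hm'
    exact ⟨⟨η, hη⟩, m, hm, gp_not_dvd q hq m ε hε hm'⟩
  choose F hF using key
  refine Nat.card_congr (Equiv.ofBijective F ⟨?_, ?_⟩)
  · intro χ₁ χ₂ h12
    obtain ⟨m₁, hm₁, hpm₁⟩ := hF χ₁
    obtain ⟨m₂, hm₂, hpm₂⟩ := hF χ₂
    rw [← h12] at hm₂
    apply Subtype.ext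
    exact CB χ₁ χ₂ (hsubQ _ χ₁.2) (hsubQ _ χ₂.2) (F χ₁) m₁ m₂ hm₁ hpm₁ hm₂ hpm₂
  · rintro ⟨η, hηS⟩
    obtain ⟨χ, hχQ, m, hm, hpm⟩ := CC η
    have hχS : gpInv G S (χ : G → ℂ) := by
      intro r hr g g' hgg'
      have hG := hnormG r hr
      have hG' := gp_norm_inv G S hnormG r hr
      have hB := hnormB r hr
      have hB' := gp_norm_inv B S hnormB r hr
      set χr : Cfsg.IrrCharacter G := ⟨fun g => (χ : G → ℂ) (gpConj G r hG hG' g),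
        h7_isIrr_comp_equiv (gpConj G r hG hG') _ χ.2⟩ with hχr
      have hχrQ : gpInv G Q (χr : G → ℂ) := by
        intro u hu x x' hxx'
        obtain ⟨u', hu', hact⟩ := hQn r hr u hu
        change (χ : G → ℂ) (gpConj G r hG hG' x') = (χ : G → ℂ) (gpConj G r hG hG' x)
        apply hχQ u' hu'
        rw [gpConj_coe, gpConj_coe, hxx', ← hact _ (hG x x.2)]
        group
      have hinner := gp_conj_inner G B hBG r hG hG' hB hB' (χ : G → ℂ) (η : B → ℂ)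
      have hη : (fun b : B => (η : B → ℂ) (gpConj B r hB hB' b)) = (η : B → ℂ) := by
        funext b
        exact gpInv_apply B S _ hηS r hr hB hB' _
      rw [hη] at hinner
      have hmr : Cfsg.classInner (fun b : B => (χr : G → ℂ) ⟨b, hBG b.2⟩) (η : B → ℂ) = m := by
        rw [← hm, ← hinner]
      have heq : χr = χ := CB χr χ hχrQ hχQ η m m hmr hpm hm hpm
      have hg' : g' = gpConj G r hG hG' g := Subtype.ext hgg'
      rw [hg']
      exact congrArg (fun f : Cfsg.IrrCharacter G => (f : G → ℂ) g) heq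
    refine ⟨⟨χ, hχS⟩, ?_⟩
    obtain ⟨m', hm', hpm'⟩ := hF ⟨χ, hχS⟩
    obtain ⟨β₀, ε, hε, h1⟩ := CA χ hχQ
    obtain ⟨k, hk, hk'⟩ := h1 η
    obtain ⟨k₂, hk₂, hk₂'⟩ := h1 (F ⟨χ, hχS⟩)
    have e1 : k = m := by
      have : (k : ℂ) = m := by rw [← hk, ← hm]
      exact_mod_cast this
    have e2 : k₂ = m' := by
      have : (k₂ : ℂ) = m' := by rw [← hk₂, ← hm']
      exact_mod_cast this
    have hb1 : η = β₀ := gp_eq_of_not_dvd q k ε η β₀ hk' (e1 ▸ hpm)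
    have hb2 : ((F ⟨χ, hχS⟩ : {η : Cfsg.IrrCharacter B // gpInv B S (η : B → ℂ)}) :
        Cfsg.IrrCharacter B) = β₀ := gp_eq_of_not_dvd q k₂ ε _ β₀ hk₂' (e2 ▸ hpm')
    apply Subtype.ext
    exact hb2.trans hb1.symm

end Cfsg.Agent.Lib.helper2
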