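import Mathlib

set_option autoImplicit false

namespace Cfsg.Agent.Lib.helper2

/-- a `q`-group acting by conjugation on a stable finite set of size prime to `q` fixes a point -/
theorem gs_fixed_point {Γ : Type*} [Group Γ] (Q : Subgroup Γ) (q : ℕ) [Fact q.Prime]
    (hQ : IsPGroup q Q) (X : Set Γ) [Finite X]
    (hX : ∀ u ∈ Q, ∀ x ∈ X, u * x * u⁻¹ ∈ X) (hq : ¬ q ∣ Nat.card X) :
    ∃ x ∈ X, ∀ u ∈ Q, u * x * u⁻¹ = x := by
  classical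
  letI : MulAction Q X :=
    { smul := fun u x => ⟨(u : Γ) * x * (u : Γ)⁻¹, hX u u.2 x x.2⟩
      one_smul := fun x => Subtype.ext (by
        change ((1 : Q) : Γ) * x * ((1 : Q) : Γ)⁻¹ = x
        simp)
      mul_smul := fun u v x => Subtype.ext (by
        change ((u * v : Q) : Γ) * x * ((u * v : Q) : Γ)⁻¹ =
          (u : Γ) * ((v : Γ) * x * (v : Γ)⁻¹) * (u : Γ)⁻¹
        simp only [Subgroup.coe_mul]
        group) }
  obtain ⟨x, hx⟩ := hQ.nonempty_fixed_point_of_prime_not_dvd_card X hq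
  refine ⟨x, x.2, ?_⟩
  intro u hu
  have := hx ⟨u, hu⟩
  exact congrArg Subtype.val this

/-- control of fusion: elements of `B = C_G(Q)` conjugate in `G` are conjugate in `B` -/
theorem gs_fusion {Γ : Type*} [Group Γ] [Finite Γ] (G Q : Subgroup Γ) (q : ℕ) [Fact q.Prime]
    (hQ : IsPGroup q Q) (hqG : ¬ q ∣ Nat.card G)
    (hnorm : ∀ u ∈ Q, ∀ g ∈ G, u * g * u⁻¹ ∈ G)
    (b₁ b₂ : Γ) (h₁ : ∀ u ∈ Q, u * b₁ * u⁻¹ = b₁) (h₂ : ∀ u ∈ Q, u * b₂ * u⁻¹ = b₂)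
    (x₀ : Γ) (hx₀ : x₀ ∈ G) (hconj : x₀ * b₁ * x₀⁻¹ = b₂) :
    ∃ y ∈ G, (∀ u ∈ Q, u * y * u⁻¹ = y) ∧ y * b₁ * y⁻¹ = b₂ := by
  classical
  set X : Set Γ := {x | x ∈ G ∧ x * b₁ * x⁻¹ = b₂} with hXdef
  have hXst : ∀ u ∈ Q, ∀ x ∈ X, u * x * u⁻¹ ∈ X := by
    rintro u hu x ⟨hx1, hx2⟩
    refine ⟨hnorm u hu x hx1, ?_⟩
    have e1 : u⁻¹ * b₁ * u = b₁ := by
      have := h₁ u hu
      calc u⁻¹ * b₁ * u = u⁻¹ * (u * b₁ * u⁻¹) * u := by rw [this]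
        _ = b₁ := by group
    calc u * x * u⁻¹ * b₁ * (u * x * u⁻¹)⁻¹ = u * (x * (u⁻¹ * b₁ * u) * x⁻¹) * u⁻¹ := by group
      _ = u * b₂ * u⁻¹ := by rw [e1, hx2]
      _ = b₂ := h₂ u hu
  -- the set X is in bijection with the centraliser of b₁ in G
  set Z : Subgroup Γ := G ⊓ Subgroup.centralizer ({b₁} : Set Γ) with hZ
  have hZmem : ∀ c, c ∈ Z ↔ c ∈ G ∧ c * b₁ * c⁻¹ = b₁ := by
    intro c
    rw [hZ, Subgroup.mem_inf, Subgroup.mem_centralizer_singleton_iff]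
    constructor
    · rintro ⟨h1, h2⟩
      exact ⟨h1, by rw [h2]; group⟩
    · rintro ⟨h1, h2⟩
      refine ⟨h1, ?_⟩
      calc c * b₁ = (c * b₁ * c⁻¹) * c := by group
        _ = b₁ * c := by rw [h2]
  let e : X ≃ Z :=
    { toFun := fun x => ⟨x₀⁻¹ * x, (hZmem _).mpr ⟨G.mul_mem (G.inv_mem hx₀) x.2.1, by
        have := x.2.2
        calc x₀⁻¹ * ↑x * b₁ * (x₀⁻¹ * ↑x)⁻¹ = x₀⁻¹ * (↑x * b₁ * (↑x)⁻¹) * x₀ := by group
          _ = x₀⁻¹ * (x₀ * b₁ * x₀⁻¹) * x₀ := by rw [this, hconj]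
          _ = b₁ := by group⟩⟩
      invFun := fun c => ⟨x₀ * c, G.mul_mem hx₀ ((hZmem _).mp c.2).1, by
        have := ((hZmem _).mp c.2).2
        calc x₀ * ↑c * b₁ * (x₀ * ↑c)⁻¹ = x₀ * (↑c * b₁ * (↑c)⁻¹) * x₀⁻¹ := by group
          _ = b₂ := by rw [this, hconj]⟩
      left_inv := fun x => Subtype.ext (by simp)
      right_inv := fun c => Subtype.ext (by simp) }
  have hcard : Nat.card X = Nat.card Z := Nat.card_congr e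
  have hdvd : Nat.card Z ∣ Nat.card G := Subgroup.card_dvd_of_le inf_le_left
  have hqX : ¬ q ∣ Nat.card X := by
    rw [hcard]
    exact fun h => hqG (h.trans hdvd)
  obtain ⟨y, hy, hfix⟩ := gs_fixed_point Q q hQ X hXst hqX
  exact ⟨y, hy.1, hfix, hy.2⟩

/-- a `Q`-invariant class of `G` meets `C(Q)` -/
theorem gs_class_meets {Γ : Type*} [Group Γ] [Finite Γ] (G Q : Subgroup Γ) (q : ℕ) [Fact q.Prime]
    (hQ : IsPGroup q Q) (hqG : ¬ q ∣ Nat.card G)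
    (hnorm : ∀ u ∈ Q, ∀ g ∈ G, u * g * u⁻¹ ∈ G)
    (g : Γ) (hinv : ∀ u ∈ Q, ∃ x ∈ G, u * g * u⁻¹ = x * g * x⁻¹) :
    ∃ x ∈ G, ∀ u ∈ Q, u * (x * g * x⁻¹) * u⁻¹ = x * g * x⁻¹ := by
  classical
  letI : MulAction G Γ := MulAction.compHom Γ ((MulAut.conj : Γ →* MulAut Γ).comp G.subtype)
  have hsmul : ∀ (x : G) (y : Γ), x • y = (x : Γ) * y * (x : Γ)⁻¹ := fun x y => rfl
  set Y : Set Γ := MulAction.orbit G g with hY
  have hYmem : ∀ y, y ∈ Y ↔ ∃ x ∈ G, y = x * g * x⁻¹ := by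
    intro y
    rw [hY, MulAction.mem_orbit_iff]
    constructor
    · rintro ⟨x, rfl⟩
      exact ⟨x, x.2, hsmul x g⟩
    · rintro ⟨x, hx, rfl⟩
      exact ⟨⟨x, hx⟩, hsmul _ g⟩
  have hYst : ∀ u ∈ Q, ∀ y ∈ Y, u * y * u⁻¹ ∈ Y := by
    intro u hu y hy
    obtain ⟨x, hx, rfl⟩ := (hYmem y).mp hy
    obtain ⟨x', hx', he⟩ := hinv u hu
    refine (hYmem _).mpr ⟨u * x * u⁻¹ * x', G.mul_mem (hnorm u hu x hx) hx', ?_⟩
    calc u * (x * g * x⁻¹) * u⁻¹ = (u * x * u⁻¹) * (u * g * u⁻¹) * (u * x * u⁻¹)⁻¹ := by group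
      _ = (u * x * u⁻¹) * (x' * g * x'⁻¹) * (u * x * u⁻¹)⁻¹ := by rw [he]
      _ = u * x * u⁻¹ * x' * g * (u * x * u⁻¹ * x')⁻¹ := by group
  have hdvd : Nat.card Y ∣ Nat.card G := by
    rw [Nat.card_coe_set_eq, hY, ← MulAction.index_stabilizer]
    exact Subgroup.index_dvd_card _
  have hqY : ¬ q ∣ Nat.card Y := fun h => hqG (h.trans hdvd)
  obtain ⟨y, hy, hfix⟩ := gs_fixed_point Q q hQ Y hYst hqY
  obtain ⟨x, hx, rfl⟩ := (hYmem y).mp hy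
  exact ⟨x, hx, hfix⟩

/-- invariance of a conjugacy class of a subgroup under `S`, in the form of the statements -/
def gsClsInv {Γ : Type*} [Group Γ] (G S : Subgroup Γ) (K : ConjClasses G) : Prop :=
  ∀ s ∈ S, ∀ g g' : G, (g' : Γ) = s * g * s⁻¹ → ConjClasses.mk g = K → ConjClasses.mk g' = K

/-- invariance of the `G`-class of an element under `S` -/
def gsElInv {Γ : Type*} [Group Γ] (G S : Subgroup Γ) (g : Γ) : Prop :=
  ∀ s ∈ S, ∃ x ∈ G, s * g * s⁻¹ = x * g * x⁻¹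

theorem gs_mk_eq_iff {Γ : Type*} [Group Γ] (G : Subgroup Γ) (a b : G) :
    ConjClasses.mk a = ConjClasses.mk b ↔ ∃ x ∈ G, x * (a : Γ) * x⁻¹ = (b : Γ) := by
  rw [ConjClasses.mk_eq_mk_iff_isConj, isConj_iff]
  constructor
  · rintro ⟨c, hc⟩
    exact ⟨c, c.2, by
      have := congrArg Subtype.val hc
      simpa using this⟩
  · rintro ⟨x, hx, he⟩
    exact ⟨⟨x, hx⟩, Subtype.ext (by simpa using he)⟩

theorem gsClsInv_mk {Γ : Type*} [Group Γ] (G S : Subgroup Γ)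
    (hnorm : ∀ s ∈ S, ∀ g ∈ G, s * g * s⁻¹ ∈ G) (g : G) :
    gsClsInv G S (ConjClasses.mk g) ↔ gsElInv G S (g : Γ) := by
  constructor
  · intro h s hs
    have h1 := h s hs g ⟨s * g * s⁻¹, hnorm s hs g g.2⟩ rfl rfl
    rw [gs_mk_eq_iff] at h1
    obtain ⟨x, hx, he⟩ := h1
    refine ⟨x⁻¹, G.inv_mem hx, ?_⟩
    simp only at he
    calc s * (g : Γ) * s⁻¹ = x⁻¹ * (x * (s * (g : Γ) * s⁻¹) * x⁻¹) * x⁻¹⁻¹ := by group
      _ = x⁻¹ * (g : Γ) * x⁻¹⁻¹ := by rw [he]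
  · intro h s hs a a' haa' hag
    rw [gs_mk_eq_iff] at hag ⊢
    obtain ⟨y, hy, hye⟩ := hag
    obtain ⟨x, hx, hxe⟩ := h s hs
    have hsy : s * y * s⁻¹ ∈ G := hnorm s hs y hy
    refine ⟨x⁻¹ * (s * y * s⁻¹), G.mul_mem (G.inv_mem hx) hsy, ?_⟩
    rw [haa']
    calc x⁻¹ * (s * y * s⁻¹) * (s * ↑a * s⁻¹) * (x⁻¹ * (s * y * s⁻¹))⁻¹
        = x⁻¹ * (s * (y * ↑a * y⁻¹) * s⁻¹) * x := by group
      _ = x⁻¹ * (s * ↑g * s⁻¹) * x := by rw [hye]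
      _ = x⁻¹ * (x * ↑g * x⁻¹) * x := by rw [hxe]
      _ = ↑g := by group

/-- the `q`-step bijection on `S`-invariant conjugacy classes -/
theorem gs_class_step {Γ : Type*} [Group Γ] [Finite Γ] (G S Q B : Subgroup Γ) (hQS : Q ≤ S)
    (q : ℕ) [Fact q.Prime] (hQ : IsPGroup q Q) (hqG : ¬ q ∣ Nat.card G)
    (hnormG : ∀ s ∈ S, ∀ g ∈ G, s * g * s⁻¹ ∈ G) (hnormB : ∀ s ∈ S, ∀ g ∈ B, s * g * s⁻¹ ∈ B)
    (hB : B = G ⊓ Subgroup.centralizer (Q : Set Γ)) (hBG : B ≤ G) :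
    Nat.card {K : ConjClasses G // gsClsInv G S K} =
    Nat.card {L : ConjClasses B // gsClsInv B S L} := by
  classical
  have hBmem : ∀ x, x ∈ B ↔ x ∈ G ∧ ∀ u ∈ Q, u * x * u⁻¹ = x := by
    intro x
    rw [hB, Subgroup.mem_inf, Subgroup.mem_centralizer_iff]
    constructor
    · rintro ⟨h1, h2⟩
      refine ⟨h1, fun u hu => ?_⟩
      rw [h2 u hu]
      group
    · rintro ⟨h1, h2⟩
      refine ⟨h1, fun u hu => ?_⟩
      have := h2 u hu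
      calc u * x = (u * x * u⁻¹) * u := by group
        _ = x * u := by rw [this]
  have hnormQ : ∀ u ∈ Q, ∀ g ∈ G, u * g * u⁻¹ ∈ G := fun u hu => hnormG u (hQS hu)
  -- fusion inside B
  have hfus : ∀ b₁ b₂ : B, (∃ x ∈ G, x * (b₁ : Γ) * x⁻¹ = (b₂ : Γ)) →
      ∃ y ∈ B, y * (b₁ : Γ) * y⁻¹ = (b₂ : Γ) := by
    rintro b₁ b₂ ⟨x, hx, he⟩
    obtain ⟨y, hy1, hy2, hy3⟩ := gs_fusion G Q q hQ hqG hnormQ (b₁ : Γ) (b₂ : Γ)
      ((hBmem _).mp b₁.2).2 ((hBmem _).mp b₂.2).2 x hx he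
    exact ⟨y, (hBmem y).mpr ⟨hy1, hy2⟩, hy3⟩
  symm
  let Φ : {L : ConjClasses B // gsClsInv B S L} → {K : ConjClasses G // gsClsInv G S K} :=
    fun L => ⟨ConjClasses.map (Subgroup.inclusion hBG) L.1, by
      obtain ⟨L, hL⟩ := L
      obtain ⟨b, rfl⟩ := ConjClasses.exists_rep L
      change gsClsInv G S (ConjClasses.mk (Subgroup.inclusion hBG b))
      rw [gsClsInv_mk G S hnormG]
      rw [gsClsInv_mk B S hnormB] at hL
      intro s hs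
      obtain ⟨x, hx, he⟩ := hL s hs
      exact ⟨x, hBG hx, he⟩⟩
  refine Nat.card_congr (Equiv.ofBijective Φ ⟨?_, ?_⟩)
  · rintro ⟨L₁, hL₁⟩ ⟨L₂, hL₂⟩ h12
    obtain ⟨b₁, rfl⟩ := ConjClasses.exists_rep L₁
    obtain ⟨b₂, rfl⟩ := ConjClasses.exists_rep L₂
    apply Subtype.ext
    have h := congrArg Subtype.val h12
    change ConjClasses.mk (Subgroup.inclusion hBG b₁) = ConjClasses.mk (Subgroup.inclusion hBG b₂)
      at h
    rw [gs_mk_eq_iff] at h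
    change ConjClasses.mk b₁ = ConjClasses.mk b₂
    rw [gs_mk_eq_iff]
    exact hfus b₁ b₂ h
  · rintro ⟨K, hK⟩
    obtain ⟨g, rfl⟩ := ConjClasses.exists_rep K
    rw [gsClsInv_mk G S hnormG] at hK
    obtain ⟨x, hx, hfix⟩ := gs_class_meets G Q q hQ hqG hnormQ (g : Γ)
      (fun u hu => hK u (hQS hu))
    have hbG : x * (g : Γ) * x⁻¹ ∈ G := G.mul_mem (G.mul_mem hx g.2) (G.inv_mem hx)
    have hbB : x * (g : Γ) * x⁻¹ ∈ B := (hBmem _).mpr ⟨hbG, hfix⟩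
    set b : B := ⟨x * (g : Γ) * x⁻¹, hbB⟩ with hb
    have hbinv : gsClsInv B S (ConjClasses.mk b) := by
      rw [gsClsInv_mk B S hnormB]
      intro s hs
      obtain ⟨x', hx', he'⟩ := hK s hs
      have hsb : s * (b : Γ) * s⁻¹ ∈ B := hnormB s hs b b.2
      have hsx : s * x * s⁻¹ ∈ G := hnormG s hs x hx
      obtain ⟨y, hy, hye⟩ := hfus b ⟨s * (b : Γ) * s⁻¹, hsb⟩
        ⟨s * x * s⁻¹ * x' * x⁻¹, G.mul_mem (G.mul_mem hsx hx') (G.inv_mem hx), by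
          change s * x * s⁻¹ * x' * x⁻¹ * (x * (g : Γ) * x⁻¹) * (s * x * s⁻¹ * x' * x⁻¹)⁻¹ =
            s * (x * (g : Γ) * x⁻¹) * s⁻¹
          calc s * x * s⁻¹ * x' * x⁻¹ * (x * (g : Γ) * x⁻¹) * (s * x * s⁻¹ * x' * x⁻¹)⁻¹
              = (s * x * s⁻¹) * (x' * (g : Γ) * x'⁻¹) * (s * x * s⁻¹)⁻¹ := by group
            _ = (s * x * s⁻¹) * (s * (g : Γ) * s⁻¹) * (s * x * s⁻¹)⁻¹ := by rw [he']
            _ = s * (x * (g : Γ) * x⁻¹) * s⁻¹ := by group⟩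
      exact ⟨y, hy, hye.symm⟩
    refine ⟨⟨ConjClasses.mk b, hbinv⟩, ?_⟩
    apply Subtype.ext
    change ConjClasses.mk (Subgroup.inclusion hBG b) = ConjClasses.mk g
    rw [gs_mk_eq_iff]
    refine ⟨x⁻¹, G.inv_mem hx, ?_⟩
    change x⁻¹ * (x * (g : Γ) * x⁻¹) * x⁻¹⁻¹ = (g : Γ)
    group

end Cfsg.Agent.Lib.helper2
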