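import Mathlib
import Cfsg.Prelude.Def_Characters
import Cfsg.Prelude.Def_CharExt
import Cfsg.Agent.Lib.helper2.GlaubS2
import Cfsg.Agent.Lib.helper2.GlaubS3
import Cfsg.Agent.S0133

set_option autoImplicit false
open Cfsg
open scoped ComplexConjugate

namespace Cfsg.Agent.Lib.helper2

/-- induction principle for a solvable group of operators acting coprimely -/
theorem gs_induction {Γ : Type*} [Group Γ] [Finite Γ] (S : Subgroup Γ)
    (hsolv : Group.IsSolvable S) (P : Subgroup Γ → Prop)
    (base : ∀ G : Subgroup Γ, G ≤ Subgroup.centralizer (S : Set Γ) → P G)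
    (step : ∀ (G : Subgroup Γ) (q : ℕ) (Q B : Subgroup Γ), q.Prime → Q ≤ S → IsPGroup q Q →
      ¬ q ∣ Nat.card G →
      (∀ s ∈ S, ∀ g ∈ G, s * g * s⁻¹ ∈ G) → (Nat.card G).Coprime (Nat.card S) →
      B = G ⊓ Subgroup.centralizer (Q : Set Γ) →
      (∀ s ∈ S, ∀ g ∈ B, s * g * s⁻¹ ∈ B) →
      (∀ s ∈ S, ∀ u ∈ Q, ∃ u' ∈ Q, ∀ g ∈ G,
        (s * u * s⁻¹) * g * (s * u * s⁻¹)⁻¹ = u' * g * u'⁻¹) →
      P B → P G) :
    ∀ G : Subgroup Γ, (∀ s ∈ S, ∀ g ∈ G, s * g * s⁻¹ ∈ G) →
      (Nat.card G).Coprime (Nat.card S) → P G := by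
  classical
  suffices H : ∀ n : ℕ, ∀ G : Subgroup Γ, Nat.card G = n →
      (∀ s ∈ S, ∀ g ∈ G, s * g * s⁻¹ ∈ G) → (Nat.card G).Coprime (Nat.card S) → P G from
    fun G => H _ G rfl
  intro n
  induction n using Nat.strong_induction_on with
  | _ n ih =>
  intro G h hnorm hcop
  by_cases hc : G ≤ Subgroup.centralizer (S : Set Γ)
  · exact base G hc
  · obtain ⟨q, hq, Q, hQS, hQp, hQc, hQn⟩ := gs_exists_step G S hnorm hsolv hc
    obtain ⟨B, hB⟩ : ∃ B : Subgroup Γ, B = G ⊓ Subgroup.centralizer (Q : Set Γ) := ⟨_, rfl⟩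
    have hBG : B ≤ G := hB ▸ inf_le_left
    have hlt : Nat.card B < n := by
      rw [← h]
      apply lt_of_le_of_ne (Subgroup.card_le_of_le hBG)
      intro heq
      have : B = G := Subgroup.eq_of_le_of_card_ge hBG heq.ge
      apply hQc
      rw [← this, hB]
      exact inf_le_right
    have hqG : ¬ q ∣ Nat.card G := by
      intro hd
      have hQne : Q ≠ ⊥ := by
        rintro rfl
        apply hQc
        intro g _
        rw [Subgroup.mem_centralizer_iff]
        intro u hu
        have : u = 1 := hu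
        rw [this, one_mul, mul_one]
      haveI : Fact q.Prime := ⟨hq⟩
      obtain ⟨k, hk⟩ := IsPGroup.iff_card.mp hQp
      have hk0 : k ≠ 0 := by
        rintro rfl
        rw [pow_zero] at hk
        exact hQne (Subgroup.eq_bot_of_card_eq Q hk)
      have hqQ : q ∣ Nat.card Q := by
        rw [hk]
        exact dvd_pow_self q hk0
      have hqS : q ∣ Nat.card S := hqQ.trans (Subgroup.card_dvd_of_le hQS)
      have := Nat.Coprime.coprime_dvd_left hd (Nat.Coprime.coprime_dvd_right hqS hcop)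
      rw [Nat.coprime_self] at this
      exact hq.one_lt.ne' this
    have hnormB : ∀ s ∈ S, ∀ g ∈ B, s * g * s⁻¹ ∈ B := by
      intro s hs b hb
      rw [hB, Subgroup.mem_inf] at hb ⊢
      refine ⟨hnorm s hs b hb.1, ?_⟩
      rw [Subgroup.mem_centralizer_iff]
      intro u hu
      obtain ⟨u', hu', hact⟩ := hQn s⁻¹ (S.inv_mem hs) u hu
      have h1 := hact b hb.1
      have h2 : u' * b = b * u' := (Subgroup.mem_centralizer_iff.mp hb.2) u' hu'
      rw [inv_inv] at h1
      have h3 : (s⁻¹ * u * s) * b * (s⁻¹ * u * s)⁻¹ = b := by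
        rw [h1, h2]
        group
      calc u * (s * b * s⁻¹) = s * ((s⁻¹ * u * s) * b * (s⁻¹ * u * s)⁻¹) * s⁻¹ * u := by group
        _ = s * b * s⁻¹ * u := by rw [h3]
    have hcopB : (Nat.card B).Coprime (Nat.card S) :=
      Nat.Coprime.coprime_dvd_left (Subgroup.card_dvd_of_le hBG) hcop
    exact step G q Q B hq hQS hQp hqG hnorm hcop hB hnormB hQn
      (ih (Nat.card B) hlt B rfl hnormB hcopB)

/-- the number of `S`-invariant irreducible characters equals the number of `S`-invariant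
classes, for a solvable coprime group of operators -/
theorem gs_count_inv {Γ : Type*} [Group Γ] [Fintype Γ] (S : Subgroup Γ)
    (hsolv : Group.IsSolvable S) :
    ∀ G : Subgroup Γ, (∀ s ∈ S, ∀ g ∈ G, s * g * s⁻¹ ∈ G) →
      (Nat.card G).Coprime (Nat.card S) →
      Nat.card {χ : Cfsg.IrrCharacter G // gpInv G S (χ : G → ℂ)} =
      Nat.card {K : ConjClasses G // gsClsInv G S K} := by
  classical
  apply gs_induction S hsolv
    (fun G => Nat.card {χ : Cfsg.IrrCharacter G // gpInv G S (χ : G → ℂ)} =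
      Nat.card {K : ConjClasses G // gsClsInv G S K})
  · intro G hG
    have hfix : ∀ s ∈ S, ∀ g g' : G, (g' : Γ) = s * g * s⁻¹ → g' = g := by
      intro s hs g g' hgg'
      apply Subtype.ext
      rw [hgg']
      have := Subgroup.mem_centralizer_iff.mp (hG g.2) s hs
      rw [this]
      group
    have h1 : ∀ χ : Cfsg.IrrCharacter G, gpInv G S (χ : G → ℂ) := by
      intro χ s hs g g' hgg'
      rw [hfix s hs g g' hgg']
    have h2 : ∀ K : ConjClasses G, gsClsInv G S K := by
      intro K s hs g g' hgg' hK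
      rw [hfix s hs g g' hgg']
      exact hK
    rw [Nat.card_congr (Equiv.subtypeUnivEquiv h1), Nat.card_congr (Equiv.subtypeUnivEquiv h2)]
    exact Cfsg.Agent.S0133.result
  · intro G q Q B hq hQS hQp hqG hnorm hcop hB hnormB hQn hPB
    haveI : Fact q.Prime := ⟨hq⟩
    haveI : Fintype G := Fintype.ofFinite _
    haveI : Fintype B := Fintype.ofFinite _
    have hBG : B ≤ G := hB ▸ inf_le_left
    have hcopQ : (Nat.card G).Coprime (Nat.card Q) :=
      Nat.Coprime.coprime_dvd_right (Subgroup.card_dvd_of_le hQS) hcop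
    have hcorr : gpCorr G Q B hBG q :=
      gp_main q (Nat.card Q) G Q rfl (fun s hs => hnorm s (hQS hs)) hcopQ hQp B hB hBG
    have e1 := gs_char_step G S Q B hQS q hq hnorm hnormB hBG hQn hcorr
    have e2 := gs_class_step G S Q B hQS q hQp hqG hnorm hnormB hB hBG
    rw [e1, e2]
    exact hPB

end Cfsg.Agent.Lib.helper2
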