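import Mathlib

set_option autoImplicit false

namespace Cfsg.Agent.Lib.helper2

open MulAction in
/-- weighted fixed-point congruence for a `q`-group action -/
theorem gs_sum_fixed {Q X : Type*} [Group Q] (q : ℕ) [Fact q.Prime] (hQ : IsPGroup q Q)
    [MulAction Q X] [Fintype X] [DecidableEq X] (f : X → ℕ) (hf : ∀ (u : Q) (x : X), f (u • x) = f x)
    [DecidablePred (· ∈ fixedPoints Q X)] :
    (∑ x, f x) ≡ ∑ x ∈ Finset.univ.filter (· ∈ fixedPoints Q X), f x [MOD q] := by
  classical
  -- fiberwise decomposition
  have h1 : ∀ s : Finset X, ∑ x ∈ s, f x =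
      ∑ v ∈ Finset.univ.image f, (s.filter (fun x => f x = v)).card * v := by
    intro s
    rw [← Finset.sum_fiberwise_of_maps_to (s := s) (t := Finset.univ.image f) (g := f)
      (fun x _ => Finset.mem_image_of_mem f (Finset.mem_univ x))]
    refine Finset.sum_congr rfl fun v _ => ?_
    rw [Finset.sum_congr rfl (fun x hx => (Finset.mem_filter.mp hx).2), Finset.sum_const,
      smul_eq_mul]
  have h2 : ∑ x, f x = ∑ x ∈ (Finset.univ : Finset X), f x := rfl
  rw [h2, h1 Finset.univ, h1 (Finset.univ.filter (· ∈ fixedPoints Q X))]
  apply Nat.ModEq.sum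
  intro v _
  apply Nat.ModEq.mul_right
  -- the level set as a sub-action
  let A : SubMulAction Q X :=
    { carrier := {x | f x = v}
      smul_mem' := fun u x hx => by
        change f (u • x) = v
        rw [hf]
        exact hx }
  have hA : ∀ x, x ∈ A ↔ f x = v := fun x => Iff.rfl
  have hmod := hQ.card_modEq_card_fixedPoints A
  have e1 : Nat.card A = (Finset.univ.filter (fun x => f x = v)).card := by
    rw [Nat.card_eq_fintype_card, Fintype.card_subtype]
    congr 1
    ext x
    simp only [Finset.mem_filter, Finset.mem_univ, true_and]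
    exact hA x
  have e2 : Nat.card (fixedPoints Q A) =
      ((Finset.univ.filter (· ∈ fixedPoints Q X)).filter (fun x => f x = v)).card := by
    rw [Nat.card_eq_fintype_card]
    rw [← Fintype.card_coe]
    apply Fintype.card_congr
    refine
      { toFun := fun a => ⟨(a.1 : X), ?_⟩
        invFun := fun x => ⟨⟨x.1, ?_⟩, ?_⟩
        left_inv := fun a => rfl
        right_inv := fun x => rfl }
    · obtain ⟨⟨x, hx⟩, ha⟩ := a
      rw [Finset.mem_filter, Finset.mem_filter]
      refine ⟨⟨Finset.mem_univ _, ?_⟩, hx⟩
      intro u
      have := ha u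
      exact congrArg Subtype.val this
    · have := x.2
      rw [Finset.mem_filter] at this
      exact this.2
    · intro u
      have := x.2
      rw [Finset.mem_filter, Finset.mem_filter] at this
      apply Subtype.ext
      exact this.1.2 u
  rw [← e1, ← e2]
  exact hmod

end Cfsg.Agent.Lib.helper2
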