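import Mathlib
import Cfsg.Prelude.Def_Characters
import Cfsg.Prelude.Def_CharExt
import Cfsg.Agent.Lib.helper2.GlaubS4
import Cfsg.Agent.Lib.helper2.GlaubS5

set_option autoImplicit false
open Cfsg
open scoped ComplexConjugate

namespace Cfsg.Agent.Lib.helper2

open Cfsg.Agent.Lib.helper7 Cfsg.Agent.Lib.Helper11 Cfsg.Agent.Lib.Helper25

/-- the action of `Q` on the irreducible characters of a subgroup it normalises -/
@[reducible] noncomputable def gsIrrAct {Γ : Type*} [Group Γ] (N Q : Subgroup Γ)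
    (hnorm : ∀ s ∈ Q, ∀ g ∈ N, s * g * s⁻¹ ∈ N) : MulAction Q (Cfsg.IrrCharacter N) where
  smul u ϑ := ⟨fun n => (ϑ : N → ℂ) (gpConj N ((u : Γ)⁻¹) (hnorm _ (Q.inv_mem u.2))
      (gp_norm_inv N Q hnorm _ (Q.inv_mem u.2)) n),
    h7_isIrr_comp_equiv (gpConj N ((u : Γ)⁻¹) (hnorm _ (Q.inv_mem u.2))
      (gp_norm_inv N Q hnorm _ (Q.inv_mem u.2))) _ ϑ.2⟩
  one_smul ϑ := by
    apply Subtype.ext
    funext n
    change (ϑ : N → ℂ) _ = (ϑ : N → ℂ) n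
    refine congrArg (ϑ : N → ℂ) (Subtype.ext ?_)
    rw [gpConj_coe]
    simp
  mul_smul u v ϑ := by
    apply Subtype.ext
    funext n
    change (ϑ : N → ℂ) _ = (ϑ : N → ℂ) _
    refine congrArg (ϑ : N → ℂ) (Subtype.ext ?_)
    rw [gpConj_coe, gpConj_coe, gpConj_coe]
    simp only [Subgroup.coe_mul]
    group

theorem gsIrrAct_apply {Γ : Type*} [Group Γ] (N Q : Subgroup Γ)
    (hnorm : ∀ s ∈ Q, ∀ g ∈ N, s * g * s⁻¹ ∈ N) (u : Q) (ϑ : Cfsg.IrrCharacter N) (n : N) :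
    letI := gsIrrAct N Q hnorm
    ((u • ϑ : Cfsg.IrrCharacter N) : N → ℂ) n =
      (ϑ : N → ℂ) (gpConj N ((u : Γ)⁻¹) (hnorm _ (Q.inv_mem u.2))
        (gp_norm_inv N Q hnorm _ (Q.inv_mem u.2)) n) := rfl

theorem gs_fixed_iff {Γ : Type*} [Group Γ] (N Q : Subgroup Γ)
    (hnorm : ∀ s ∈ Q, ∀ g ∈ N, s * g * s⁻¹ ∈ N) (ϑ : Cfsg.IrrCharacter N) :
    letI := gsIrrAct N Q hnorm
    ϑ ∈ MulAction.fixedPoints Q (Cfsg.IrrCharacter N) ↔ gpInv N Q (ϑ : N → ℂ) := by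
  letI := gsIrrAct N Q hnorm
  constructor
  · intro h s hs g g' hgg'
    have h1 := h ⟨s⁻¹, Q.inv_mem hs⟩
    have h2 : ((⟨s⁻¹, Q.inv_mem hs⟩ : Q) • ϑ : Cfsg.IrrCharacter N).1 g = (ϑ : N → ℂ) g :=
      congrArg (fun f : Cfsg.IrrCharacter N => (f : N → ℂ) g) h1
    rw [gsIrrAct_apply] at h2
    rw [← h2]
    refine congrArg (ϑ : N → ℂ) (Subtype.ext ?_)
    rw [gpConj_coe, hgg']
    simp
  · intro h u
    apply Subtype.ext
    funext n
    rw [gsIrrAct_apply]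
    exact gpInv_apply N Q _ h _ (Q.inv_mem u.2) _ _ n

/-- first half of the composition: reduction modulo `p` of a restricted multiplicity -/
theorem gp_compose_left {Γ : Type*} [Group Γ] (G B D : Subgroup Γ) [Fintype G] [Fintype B]
    [Fintype D] (hBG : B ≤ G) (hDB : D ≤ B) (p : ℕ)
    (χ : G → ℂ) (hχ : Cfsg.IsCharacter G χ) (η : Cfsg.IrrCharacter B) (ε₁ : ℤ)
    (h1 : ∀ η' : Cfsg.IrrCharacter B, ∃ m : ℕ,
      Cfsg.classInner (fun b : B => χ ⟨b, hBG b.2⟩) (η' : B → ℂ) = m ∧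
      (m : ℤ) ≡ (if η' = η then ε₁ else 0) [ZMOD p])
    (φ : Cfsg.IrrCharacter D) :
    ∃ k b : ℕ, Cfsg.classInner (fun c : D => χ ⟨c, hBG (hDB c.2)⟩) (φ : D → ℂ) = k ∧
      Cfsg.classInner (fun c : D => (η : B → ℂ) ⟨c, hDB c.2⟩) (φ : D → ℂ) = b ∧
      (k : ℤ) ≡ ε₁ * b [ZMOD p] := by
  classical
  haveI : Fintype (Cfsg.IrrCharacter B) := Fintype.ofFinite _
  have hχB : Cfsg.IsCharacter B (fun b : B => χ ⟨b, hBG b.2⟩) :=
    isCharacter_comp_hom hχ (Subgroup.inclusion hBG)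
  choose m hm1 hm2 using h1
  have hexp : (fun b : B => χ ⟨b, hBG b.2⟩) =
      ∑ η' : Cfsg.IrrCharacter B, (m η' : ℂ) • (η' : B → ℂ) := by
    have := classFunction_expansion (fun b : B => χ ⟨b, hBG b.2⟩)
      (isCharacter_isClassFunction hχB)
    simp only [hm1] at this
    exact this
  have hn : ∀ η' : Cfsg.IrrCharacter B, ∃ n : ℕ,
      Cfsg.classInner (fun c : D => (η' : B → ℂ) ⟨c, hDB c.2⟩) (φ : D → ℂ) = n := by
    intro η'
    exact classInner_character_nat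
      (isCharacter_comp_hom (Cfsg.Agent.Lib.helper2.isCharacter_of_irr η') (Subgroup.inclusion hDB))
      (Cfsg.Agent.Lib.helper2.isCharacter_of_irr φ)
  choose n hn using hn
  have hχC : (fun c : D => χ ⟨c, hBG (hDB c.2)⟩) =
      ∑ η' : Cfsg.IrrCharacter B, (m η' : ℂ) • (fun c : D => (η' : B → ℂ) ⟨c, hDB c.2⟩) := by
    funext c
    have := congrFun hexp ⟨c, hDB c.2⟩
    simp only [Finset.sum_apply, Pi.smul_apply] at this ⊢
    exact this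
  refine ⟨∑ η' : Cfsg.IrrCharacter B, m η' * n η', n η, ?_, hn η, ?_⟩
  · rw [hχC, classInner_sum_left]
    push_cast
    refine Finset.sum_congr rfl fun η' _ => ?_
    rw [classInner_smul_left, hn]
  · push_cast
    rw [← Finset.add_sum_erase _ _ (Finset.mem_univ η)]
    have hrest : (∑ η' ∈ Finset.univ.erase η, (m η' : ℤ) * (n η' : ℤ)) ≡ 0 [ZMOD p] := by
      rw [Int.modEq_zero_iff_dvd]
      apply Finset.dvd_sum
      intro η' hη'
      have hne : η' ≠ η := (Finset.mem_erase.mp hη').1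
      have := hm2 η'
      rw [if_neg hne, Int.modEq_zero_iff_dvd] at this
      exact Dvd.dvd.mul_right this _
    have e1 := hm2 η
    rw [if_pos rfl] at e1
    have hmain : (m η : ℤ) * (n η : ℤ) ≡ ε₁ * (n η : ℤ) [ZMOD p] := Int.ModEq.mul_right _ e1
    have := Int.ModEq.add hmain hrest
    simpa using this

/-- the key congruence: multiplicities over a normal subgroup correspond modulo `q` -/
theorem gs_restrict_cong {Γ : Type*} [Group Γ] (G N Q B D : Subgroup Γ) [Fintype G] [Fintype N]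
    [Fintype B] [Fintype D] (hNG : N ≤ G) (hBG : B ≤ G) (hDB : D ≤ B) (hDN : D ≤ N)
    (hDQ : ∀ d ∈ D, ∀ u ∈ Q, u * d * u⁻¹ = d)
    (hnormG : ∀ s ∈ Q, ∀ g ∈ G, s * g * s⁻¹ ∈ G) (hnormN : ∀ s ∈ Q, ∀ g ∈ N, s * g * s⁻¹ ∈ N)
    (q : ℕ) [Fact q.Prime] (hQ : IsPGroup q Q)
    (χ : Cfsg.IrrCharacter G) (hχ : gpInv G Q (χ : G → ℂ)) (η : Cfsg.IrrCharacter B) (ε₁ : ℤ)
    (h1 : ∀ η' : Cfsg.IrrCharacter B, ∃ m : ℕ,
      Cfsg.classInner (fun b : B => (χ : G → ℂ) ⟨b, hBG b.2⟩) (η' : B → ℂ) = m ∧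
      (m : ℤ) ≡ (if η' = η then ε₁ else 0) [ZMOD q])
    (ϑ : Cfsg.IrrCharacter N) (hϑ : gpInv N Q (ϑ : N → ℂ)) (ϑ' : Cfsg.IrrCharacter D) (ε₂ : ℤ)
    (h2 : ∃ m : ℕ, Cfsg.classInner (fun c : D => (ϑ : N → ℂ) ⟨c, hDN c.2⟩) (ϑ' : D → ℂ) = m ∧
      (m : ℤ) ≡ ε₂ [ZMOD q])
    (hinj : ∀ ϑ'' : Cfsg.IrrCharacter N, gpInv N Q (ϑ'' : N → ℂ) → ϑ'' ≠ ϑ → ∀ m : ℕ,
      Cfsg.classInner (fun c : D => (ϑ'' : N → ℂ) ⟨c, hDN c.2⟩) (ϑ' : D → ℂ) = m → q ∣ m) :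
    ∃ a b : ℕ, Cfsg.classInner (fun n : N => (χ : G → ℂ) ⟨n, hNG n.2⟩) (ϑ : N → ℂ) = a ∧
      Cfsg.classInner (fun c : D => (η : B → ℂ) ⟨c, hDB c.2⟩) (ϑ' : D → ℂ) = b ∧
      ε₂ * a ≡ ε₁ * b [ZMOD q] := by
  classical
  haveI : Fintype (Cfsg.IrrCharacter N) := Fintype.ofFinite _
  have hχch := Cfsg.Agent.Lib.helper2.isCharacter_of_irr χ
  obtain ⟨k, b, hk, hb, hkb⟩ := gp_compose_left G B D hBG hDB q (χ : G → ℂ) hχch η ε₁ h1 ϑ'
  -- expansion of χ_N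
  have hχN : Cfsg.IsCharacter N (fun n : N => (χ : G → ℂ) ⟨n, hNG n.2⟩) :=
    isCharacter_comp_hom hχch (Subgroup.inclusion hNG)
  obtain ⟨c, hc, hexp⟩ := isCharacter_expansion hχN
  have hd : ∀ ϑ'' : Cfsg.IrrCharacter N, ∃ n : ℕ,
      Cfsg.classInner (fun c : D => (ϑ'' : N → ℂ) ⟨c, hDN c.2⟩) (ϑ' : D → ℂ) = n := by
    intro ϑ''
    exact classInner_character_nat
      (isCharacter_comp_hom (Cfsg.Agent.Lib.helper2.isCharacter_of_irr ϑ'')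
        (Subgroup.inclusion hDN))
      (Cfsg.Agent.Lib.helper2.isCharacter_of_irr ϑ')
  choose d hd using hd
  have hχD : (fun x : D => (χ : G → ℂ) ⟨x, hBG (hDB x.2)⟩) =
      ∑ ϑ'' : Cfsg.IrrCharacter N, (c ϑ'' : ℂ) • (fun x : D => (ϑ'' : N → ℂ) ⟨x, hDN x.2⟩) := by
    funext x
    have := congrFun hexp ⟨x, hDN x.2⟩
    simp only [Finset.sum_apply, Pi.smul_apply] at this ⊢
    exact this
  have hksum : k = ∑ ϑ'' : Cfsg.IrrCharacter N, c ϑ'' * d ϑ'' := by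
    have : (k : ℂ) = ((∑ ϑ'' : Cfsg.IrrCharacter N, c ϑ'' * d ϑ'' : ℕ) : ℂ) := by
      rw [← hk, hχD, classInner_sum_left]
      push_cast
      refine Finset.sum_congr rfl fun ϑ'' _ => ?_
      rw [classInner_smul_left, hd]
    exact_mod_cast this
  -- the action of Q
  letI := gsIrrAct N Q hnormN
  have hcinv : ∀ (u : Q) (ϑ'' : Cfsg.IrrCharacter N), c (u • ϑ'') = c ϑ'' := by
    intro u ϑ''
    have hr := Q.inv_mem u.2
    have hG := hnormG _ hr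
    have hG' := gp_norm_inv G Q hnormG _ hr
    have hN := hnormN _ hr
    have hN' := gp_norm_inv N Q hnormN _ hr
    have hinner := gp_conj_inner G N hNG ((u : Γ)⁻¹) hG hG' hN hN' (χ : G → ℂ) (ϑ'' : N → ℂ)
    have hχe : (fun b : N => (χ : G → ℂ) (gpConj G ((u : Γ)⁻¹) hG hG' ⟨b, hNG b.2⟩)) =
        fun b : N => (χ : G → ℂ) ⟨b, hNG b.2⟩ := by
      funext b
      exact gpInv_apply G Q _ hχ _ hr hG hG' _
    rw [hχe] at hinner
    have : (c (u • ϑ'') : ℂ) = c ϑ'' := by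
      rw [← hc, ← hc, ← hinner]
      rfl
    exact_mod_cast this
  have hdinv : ∀ (u : Q) (ϑ'' : Cfsg.IrrCharacter N), d (u • ϑ'') = d ϑ'' := by
    intro u ϑ''
    have : (d (u • ϑ'') : ℂ) = d ϑ'' := by
      rw [← hd, ← hd]
      congr 1
      funext x
      rw [gsIrrAct_apply]
      refine congrArg (ϑ'' : N → ℂ) (Subtype.ext ?_)
      rw [gpConj_coe]
      exact hDQ x x.2 _ (Q.inv_mem u.2)
    exact_mod_cast this
  have hfinv : ∀ (u : Q) (ϑ'' : Cfsg.IrrCharacter N),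
      (fun t => c t * d t) (u • ϑ'') = (fun t => c t * d t) ϑ'' := by
    intro u ϑ''
    simp only [hcinv, hdinv]
  have hsum := gs_sum_fixed (Q := Q) (X := Cfsg.IrrCharacter N) q hQ (fun t => c t * d t) hfinv
  -- the fixed-point sum reduces to the term of ϑ
  have hϑfix : ϑ ∈ Finset.univ.filter (· ∈ MulAction.fixedPoints Q (Cfsg.IrrCharacter N)) := by
    rw [Finset.mem_filter]
    exact ⟨Finset.mem_univ _, (gs_fixed_iff N Q hnormN ϑ).mpr hϑ⟩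
  have hfixsum : (∑ t ∈ Finset.univ.filter (· ∈ MulAction.fixedPoints Q (Cfsg.IrrCharacter N)),
      c t * d t) ≡ c ϑ * d ϑ [MOD q] := by
    rw [← Finset.add_sum_erase _ _ hϑfix]
    have : (∑ t ∈ (Finset.univ.filter
        (· ∈ MulAction.fixedPoints Q (Cfsg.IrrCharacter N))).erase ϑ, c t * d t) ≡ 0 [MOD q] := by
      rw [Nat.modEq_zero_iff_dvd]
      apply Finset.dvd_sum
      intro t ht
      rw [Finset.mem_erase, Finset.mem_filter] at ht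
      have htinv : gpInv N Q (t : N → ℂ) := (gs_fixed_iff N Q hnormN t).mp ht.2.2
      exact Dvd.dvd.mul_left (hinj t htinv ht.1 (d t) (hd t)) _
    have := Nat.ModEq.add_left (c ϑ * d ϑ) this
    simpa using this
  obtain ⟨m₂, hm₂, hm₂'⟩ := h2
  have hdϑ : d ϑ = m₂ := by
    have : (d ϑ : ℂ) = m₂ := by rw [← hd, ← hm₂]
    exact_mod_cast this
  refine ⟨c ϑ, b, hc ϑ, hb, ?_⟩
  have hk2 : (k : ℤ) ≡ (c ϑ : ℤ) * (d ϑ : ℤ) [ZMOD q] := by
    have := (hsum.trans hfixsum)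
    rw [← hksum] at this
    have h3 := (Int.natCast_modEq_iff.mpr this)
    push_cast at h3
    exact h3
  have hk3 : (k : ℤ) ≡ ε₂ * (c ϑ : ℤ) [ZMOD q] := by
    rw [hdϑ] at hk2
    have := Int.ModEq.mul_left (c ϑ : ℤ) hm₂'
    rw [mul_comm ε₂]
    exact hk2.trans this
  exact hk3.symm.trans hkb

end Cfsg.Agent.Lib.helper2
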