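import Mathlib
import Cfsg.Prelude.Def_Characters
import Cfsg.Prelude.Def_CharExt
import Cfsg.Agent.Lib.helper2.GlaubS6
import Cfsg.Agent.Lib.helper7.Clifford
import Cfsg.Agent.Lib.Helper25.ItoSolvable

set_option autoImplicit false
open Cfsg
open scoped ComplexConjugate

namespace Cfsg.Agent.Lib.helper2

open Cfsg.Agent.Lib.helper7 Cfsg.Agent.Lib.Helper11 Cfsg.Agent.Lib.Helper25

/-- Clifford: the multiplicity of a constituent of the restriction to a normal subgroup divides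
the group order -/
theorem gs_clifford_dvd {Γ : Type*} [Group Γ] [Finite Γ] (B D : Subgroup Γ) [Fintype B]
    [Fintype D] (hDB : D ≤ B) (hnorm : ∀ b ∈ B, ∀ d ∈ D, b * d * b⁻¹ ∈ D)
    (η : Cfsg.IrrCharacter B) (φ : Cfsg.IrrCharacter D) (e : ℕ)
    (he : Cfsg.classInner (fun c : D => (η : B → ℂ) ⟨c, hDB c.2⟩) (φ : D → ℂ) = e)
    (he0 : e ≠ 0) : e ∣ Nat.card B := by
  classical
  haveI hn : (D.subgroupOf B).Normal := by
    constructor
    intro d hd b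
    rw [Subgroup.mem_subgroupOf] at hd ⊢
    simp only [Subgroup.coe_mul, Subgroup.coe_inv]
    exact hnorm b b.2 d hd
  haveI : Fintype (D.subgroupOf B) := Fintype.ofFinite _
  let eD : (D.subgroupOf B) ≃* D := Subgroup.subgroupOfEquivOfLe hDB
  have hφ' : Cfsg.IsIrrCharacter (D.subgroupOf B) (fun x => (φ : D → ℂ) (eD x)) :=
    h7_isIrr_comp_equiv eD _ φ.2
  have hinner : Cfsg.classInner (fun n : D.subgroupOf B => (η : B → ℂ) n)
      (fun x => (φ : D → ℂ) (eD x)) = e := by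
    rw [← he]
    exact h7_classInner_comp_equiv eD (fun c : D => (η : B → ℂ) ⟨c, hDB c.2⟩) (φ : D → ℂ)
  have hne : Cfsg.classInner (fun n : D.subgroupOf B => (η : B → ℂ) n)
      (fun x => (φ : D → ℂ) (eD x)) ≠ 0 := by
    rw [hinner]
    exact_mod_cast he0
  obtain ⟨e', he'pos, he'1, he'2⟩ := h7_clifford (D.subgroupOf B) (η : B → ℂ) η.2 _ hφ' hne
  have hee : e' = e := by
    have : (e' : ℂ) = e := by rw [← he'1, hinner]
    exact_mod_cast this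
  obtain ⟨dφ, hdφ⟩ := isCharacter_one_eq_nat (Cfsg.Agent.Lib.helper2.isCharacter_of_irr φ)
  obtain ⟨n, hnpos, hn1, hn2⟩ := irr_degree_dvd_card η
  have h1 := congrFun he'2 1
  simp only [Pi.smul_apply, Finset.sum_apply, smul_eq_mul] at h1
  have h2 : ∀ ψ ∈ Finset.univ.image (fun g : B => cj (D.subgroupOf B)
      (fun x => (φ : D → ℂ) (eD x)) g), ψ 1 = (dφ : ℂ) := by
    intro ψ hψ
    obtain ⟨g, -, rfl⟩ := Finset.mem_image.mp hψ
    rw [cj_apply, ← hdφ]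
    refine congrArg (φ : D → ℂ) ?_
    apply Subtype.ext
    change ((g * (1 : D.subgroupOf B) * g⁻¹ : B) : Γ) = ((1 : D) : Γ)
    simp
  rw [Finset.sum_congr rfl h2, Finset.sum_const, nsmul_eq_mul] at h1
  have h3 : ((1 : D.subgroupOf B) : B) = 1 := rfl
  rw [h3, hn1, hee] at h1
  have h4 : n = e * ((Finset.univ.image (fun g : B => cj (D.subgroupOf B)
      (fun x => (φ : D → ℂ) (eD x)) g)).card * dφ) := by exact_mod_cast h1
  exact (Dvd.intro _ h4.symm).trans hn2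

/-- existence of an irreducible character over a given one, for subgroups of an ambient group -/
theorem gs_exists_over {Γ : Type*} [Group Γ] [Finite Γ] (G N : Subgroup Γ) [Fintype N]
    (hNG : N ≤ G) (ϑ : Cfsg.IrrCharacter N) :
    ∃ χ : Cfsg.IrrCharacter G,
      Cfsg.classInner (fun n : N => (χ : G → ℂ) ⟨n, hNG n.2⟩) (ϑ : N → ℂ) ≠ 0 := by
  classical
  haveI : Fintype G := Fintype.ofFinite _
  haveI : Fintype (N.subgroupOf G) := Fintype.ofFinite _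
  let eN : (N.subgroupOf G) ≃* N := Subgroup.subgroupOfEquivOfLe hNG
  obtain ⟨χ, hχ⟩ := itn_exists_over (N.subgroupOf G)
    ⟨fun x => (ϑ : N → ℂ) (eN x), h7_isIrr_comp_equiv eN _ ϑ.2⟩
  refine ⟨χ, ?_⟩
  rw [← h7_classInner_comp_equiv eN (fun n : N => (χ : G → ℂ) ⟨n, hNG n.2⟩) (ϑ : N → ℂ)]
  exact hχ

/-- the property proved by induction for S4449 -/
def gsOver {Γ : Type*} [Group Γ] (S G : Subgroup Γ) : Prop :=
  ∀ (N : Subgroup Γ) [Fintype N] (hNG : N ≤ G), (∀ g ∈ G, ∀ n ∈ N, g * n * g⁻¹ ∈ N) →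
    (∀ s ∈ S, ∀ n ∈ N, s * n * s⁻¹ ∈ N) → ∀ ϑ : Cfsg.IrrCharacter N, gpInv N S (ϑ : N → ℂ) →
    ∃ χ : Cfsg.IrrCharacter G,
      Cfsg.classInner (fun n : N => (χ : G → ℂ) ⟨n, hNG n.2⟩) (ϑ : N → ℂ) ≠ 0 ∧
      gpInv G S (χ : G → ℂ)

theorem gsOver_base {Γ : Type*} [Group Γ] [Finite Γ] (S G : Subgroup Γ)
    (hG : G ≤ Subgroup.centralizer (S : Set Γ)) : gsOver S G := by
  intro N _ hNG _ _ ϑ _
  obtain ⟨χ, hχ⟩ := gs_exists_over G N hNG ϑ
  refine ⟨χ, hχ, ?_⟩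
  intro s hs g g' hgg'
  have : g' = g := by
    apply Subtype.ext
    rw [hgg']
    have := Subgroup.mem_centralizer_iff.mp (hG g.2) s hs
    rw [this]
    group
  rw [this]

theorem gsOver_step {Γ : Type*} [Group Γ] [Fintype Γ] (S G : Subgroup Γ) (q : ℕ)
    (Q B : Subgroup Γ) (hq : q.Prime) (hQS : Q ≤ S) (hQ : IsPGroup q Q)
    (hqG : ¬ q ∣ Nat.card G)
    (hnorm : ∀ s ∈ S, ∀ g ∈ G, s * g * s⁻¹ ∈ G) (hcop : (Nat.card G).Coprime (Nat.card S))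
    (hB : B = G ⊓ Subgroup.centralizer (Q : Set Γ))
    (hnormB : ∀ s ∈ S, ∀ g ∈ B, s * g * s⁻¹ ∈ B)
    (hQn : ∀ s ∈ S, ∀ u ∈ Q, ∃ u' ∈ Q, ∀ g ∈ G,
      (s * u * s⁻¹) * g * (s * u * s⁻¹)⁻¹ = u' * g * u'⁻¹)
    (hPB : gsOver S B) : gsOver S G := by
  classical
  intro N _ hNG hGN hSN ϑ hϑ
  haveI : Fact q.Prime := ⟨hq⟩
  haveI : Fintype G := Fintype.ofFinite _
  haveI : Fintype B := Fintype.ofFinite _
  have hBG : B ≤ G := hB ▸ inf_le_left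
  obtain ⟨D, hD⟩ : ∃ D : Subgroup Γ, D = N ⊓ Subgroup.centralizer (Q : Set Γ) := ⟨_, rfl⟩
  haveI : Fintype D := Fintype.ofFinite _
  have hDN : D ≤ N := hD ▸ inf_le_left
  have hDmem : ∀ x, x ∈ D ↔ x ∈ N ∧ x ∈ B := by
    intro x
    rw [hD, hB, Subgroup.mem_inf, Subgroup.mem_inf]
    constructor
    · rintro ⟨h1, h2⟩
      exact ⟨h1, hNG h1, h2⟩
    · rintro ⟨h1, _, h2⟩
      exact ⟨h1, h2⟩
  have hDB : D ≤ B := fun x hx => ((hDmem x).mp hx).2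
  have hDQ : ∀ d ∈ D, ∀ u ∈ Q, u * d * u⁻¹ = d := by
    intro d hd u hu
    rw [hD, Subgroup.mem_inf, Subgroup.mem_centralizer_iff] at hd
    rw [hd.2 u hu]
    group
  have hnormD : ∀ s ∈ S, ∀ d ∈ D, s * d * s⁻¹ ∈ D := by
    intro s hs d hd
    rw [hDmem] at hd ⊢
    exact ⟨hSN s hs d hd.1, hnormB s hs d hd.2⟩
  have hBD : ∀ b ∈ B, ∀ d ∈ D, b * d * b⁻¹ ∈ D := by
    intro b hb d hd
    rw [hDmem] at hd ⊢
    exact ⟨hGN b (hBG hb) d hd.1, B.mul_mem (B.mul_mem hb hd.2) (B.inv_mem hb)⟩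
  have hcopQ : (Nat.card G).Coprime (Nat.card Q) :=
    Nat.Coprime.coprime_dvd_right (Subgroup.card_dvd_of_le hQS) hcop
  have hcopNQ : (Nat.card N).Coprime (Nat.card Q) :=
    Nat.Coprime.coprime_dvd_left (Subgroup.card_dvd_of_le hNG) hcopQ
  have hnormGQ : ∀ s ∈ Q, ∀ g ∈ G, s * g * s⁻¹ ∈ G := fun s hs => hnorm s (hQS hs)
  have hnormNQ : ∀ s ∈ Q, ∀ g ∈ N, s * g * s⁻¹ ∈ N := fun s hs => hSN s (hQS hs)
  have hcorrG : gpCorr G Q B hBG q := gp_main q (Nat.card Q) G Q rfl hnormGQ hcopQ hQ B hB hBG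
  have hcorrN : gpCorr N Q D hDN q := gp_main q (Nat.card Q) N Q rfl hnormNQ hcopNQ hQ D hD hDN
  obtain ⟨GA, GB, GC⟩ := hcorrG
  obtain ⟨NA, NB, NC⟩ := hcorrN
  have hϑQ : gpInv N Q (ϑ : N → ℂ) := fun t ht => hϑ t (hQS ht)
  obtain ⟨ϑ', ε₂, hε₂, h2⟩ := NA ϑ hϑQ
  have hϑ'S : gpInv D S (ϑ' : D → ℂ) :=
    gp_step_inv N D S hDN q hq hSN hnormD ϑ hϑ ϑ' ε₂ hε₂ h2
  obtain ⟨η, hηne, hηS⟩ := hPB D hDB hBD hnormD ϑ' hϑ'S
  obtain ⟨χ, hχQ, m, hm, hpm⟩ := GC η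
  -- χ is S-invariant
  have hχS : gpInv G S (χ : G → ℂ) := by
    intro r hr g g' hgg'
    have hG := hnorm r hr
    have hG' := gp_norm_inv G S hnorm r hr
    have hB1 := hnormB r hr
    have hB' := gp_norm_inv B S hnormB r hr
    set χr : Cfsg.IrrCharacter G := ⟨fun g => (χ : G → ℂ) (gpConj G r hG hG' g),
      h7_isIrr_comp_equiv (gpConj G r hG hG') _ χ.2⟩ with hχr
    have hχrQ : gpInv G Q (χr : G → ℂ) := by
      intro u hu x x' hxx'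
      obtain ⟨u', hu', hact⟩ := hQn r hr u hu
      change (χ : G → ℂ) (gpConj G r hG hG' x') = (χ : G → ℂ) (gpConj G r hG hG' x)
      apply hχQ u' hu'
      rw [gpConj_coe, gpConj_coe, hxx', ← hact _ (hG x x.2)]
      group
    have hinner := gp_conj_inner G B hBG r hG hG' hB1 hB' (χ : G → ℂ) (η : B → ℂ)
    have hη : (fun b : B => (η : B → ℂ) (gpConj B r hB1 hB' b)) = (η : B → ℂ) := by
      funext b
      exact gpInv_apply B S _ hηS r hr hB1 hB' _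
    rw [hη] at hinner
    have hmr : Cfsg.classInner (fun b : B => (χr : G → ℂ) ⟨b, hBG b.2⟩) (η : B → ℂ) = m := by
      rw [← hm, ← hinner]
    have heq : χr = χ := GB χr χ hχrQ hχQ η m m hmr hpm hm hpm
    have hg' : g' = gpConj G r hG hG' g := Subtype.ext hgg'
    rw [hg']
    exact congrArg (fun f : Cfsg.IrrCharacter G => (f : G → ℂ) g) heq
  refine ⟨χ, ?_, hχS⟩
  obtain ⟨η₀, ε₁, hε₁, h1⟩ := GA χ hχQ
  obtain ⟨m₂, hm₂, hm₂'⟩ := h1 η
  have hmm : m₂ = m := by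
    have : (m₂ : ℂ) = m := by rw [← hm₂, ← hm]
    exact_mod_cast this
  have hηη : η = η₀ := gp_eq_of_not_dvd q m₂ _ η η₀ hm₂' (hmm ▸ hpm)
  subst hηη
  obtain ⟨k₂, hk₂, hk₂'⟩ := h2 ϑ'
  rw [if_pos rfl] at hk₂'
  have hpk₂ : ¬ q ∣ k₂ := gp_not_dvd q hq k₂ ε₂ hε₂ hk₂'
  obtain ⟨a, b, ha, hb, hab⟩ := gs_restrict_cong G N Q B D hNG hBG hDB hDN hDQ hnormGQ hnormNQ q hQ
    χ hχQ η ε₁ h1 ϑ hϑQ ϑ' ε₂ ⟨k₂, hk₂, hk₂'⟩
    (by
      intro ϑ'' hinv'' hne m' hm'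
      by_contra hqm
      exact hne (NB ϑ'' ϑ hinv'' hϑQ ϑ' m' k₂ hm' hqm hk₂ hpk₂))
  have hb0 : b ≠ 0 := by
    rintro rfl
    apply hηne
    rw [hb]
    simp
  have hbdvd : b ∣ Nat.card B := gs_clifford_dvd B D hDB hBD η ϑ' b hb hb0
  have hqb : ¬ q ∣ b := fun h =>
    hqG ((h.trans hbdvd).trans (Subgroup.card_dvd_of_le hBG))
  rw [ha]
  intro ha0
  have ha0' : a = 0 := by exact_mod_cast ha0
  rw [ha0'] at hab
  simp only [Nat.cast_zero, mul_zero] at hab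
  have h3 : (q : ℤ) ∣ ε₁ * b := (Int.modEq_zero_iff_dvd.mp hab.symm)
  have h4 : (q : ℤ) ∣ (b : ℤ) := by
    rcases hε₁ with rfl | rfl
    · simpa using h3
    · simpa using h3
  exact hqb (by exact_mod_cast h4)

/-- Isaacs 13.31 for a solvable coprime group of operators -/
theorem gsOver_main {Γ : Type*} [Group Γ] [Fintype Γ] (S : Subgroup Γ)
    (hsolv : Group.IsSolvable S) (G : Subgroup Γ)
    (hnorm : ∀ s ∈ S, ∀ g ∈ G, s * g * s⁻¹ ∈ G) (hcop : (Nat.card G).Coprime (Nat.card S)) :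
    gsOver S G := by
  apply gs_induction S hsolv (fun G => gsOver S G)
  · intro G hG
    exact gsOver_base S G hG
  · intro G q Q B hq hQS hQp hqG hnorm hcop hB hnormB hQn hPB
    exact gsOver_step S G q Q B hq hQS hQp hqG hnorm hcop hB hnormB hQn hPB
  · exact hnorm
  · exact hcop

end Cfsg.Agent.Lib.helper2
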