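import Mathlib
import Cfsg.Prelude.Def_Characters
import Cfsg.Agent.Lib.helper2.Triple2
import Cfsg.Agent.Lib.helper7.CharCentral
import Cfsg.Agent.Lib.Helper25.CharQuot
import Cfsg.Agent.S4448
import Cfsg.Agent.S4449

set_option autoImplicit false

namespace Cfsg.Agent.Lib.helper2

open scoped ComplexConjugate
open Cfsg.Agent.Lib.helper7 Cfsg.Agent.Lib.Helper25

section central

variable {Q : Type*} [Group Q]

/-- the complement is solvable when the top quotient is -/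
theorem ct_S_solvable {T : Type*} [Group T] [Group.IsSolvable T] (Gs Zs K S : Subgroup Q)
    (hZc : Zs ≤ Subgroup.center Q) (hdec : ∀ g ∈ Gs, ∃ k ∈ K, ∃ z ∈ Zs, g = k * z)
    (hKS : K ⊓ S = ⊥) (ω : Q →* T) (hω : ω.ker ≤ Gs) : Group.IsSolvable S := by
  have hconj : ∀ s ∈ Gs, ∃ k ∈ K, ∀ x : Q, s * x * s⁻¹ = k * x * k⁻¹ := by
    intro s hs
    obtain ⟨k, hk, z, hz, rfl⟩ := hdec s hs
    refine ⟨k, hk, fun x => ?_⟩
    have hz1 : ∀ y : Q, y * z = z * y := Subgroup.mem_center_iff.mp (hZc hz)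
    calc k * z * x * (k * z)⁻¹ = k * (z * x) * z⁻¹ * k⁻¹ := by group
      _ = k * (x * z) * z⁻¹ * k⁻¹ := by rw [hz1 x]
      _ = k * x * k⁻¹ := by group
  let g : S →* T := ω.comp S.subtype
  have hcomm : ∀ a b : g.ker, a * b = b * a := by
    intro a b
    have ha : ((a : S) : Q) ∈ Gs := hω (MonoidHom.mem_ker.mpr (MonoidHom.mem_ker.mp a.2))
    have hb : ((b : S) : Q) ∈ Gs := hω (MonoidHom.mem_ker.mpr (MonoidHom.mem_ker.mp b.2))
    obtain ⟨k₁, hk₁, h1⟩ := hconj _ ha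
    obtain ⟨k₂, hk₂, h2⟩ := hconj _ hb
    have hc : ((a : S) : Q) * (b : S) * ((a : S) : Q)⁻¹ * ((b : S) : Q)⁻¹ ∈ K ⊓ S := by
      refine ⟨?_, ?_⟩
      · rw [h1 ((b : S) : Q)]
        have e : k₁ * ((b : S) : Q) * k₁⁻¹ * ((b : S) : Q)⁻¹ =
            k₁ * (((b : S) : Q) * k₁⁻¹ * ((b : S) : Q)⁻¹) := by group
        rw [e, h2 k₁⁻¹]
        exact K.mul_mem hk₁ (K.mul_mem (K.mul_mem hk₂ (K.inv_mem hk₁)) (K.inv_mem hk₂))
      · exact S.mul_mem (S.mul_mem (S.mul_mem (a : S).2 (b : S).2) (S.inv_mem (a : S).2))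
          (S.inv_mem (b : S).2)
    rw [hKS, Subgroup.mem_bot] at hc
    apply Subtype.ext
    apply Subtype.ext
    show ((a : S) : Q) * ((b : S) : Q) = ((b : S) : Q) * ((a : S) : Q)
    calc ((a : S) : Q) * ((b : S) : Q)
        = (((a : S) : Q) * (b : S) * ((a : S) : Q)⁻¹ * ((b : S) : Q)⁻¹) *
          (((b : S) : Q) * ((a : S) : Q)) := by group
      _ = ((b : S) : Q) * ((a : S) : Q) := by rw [hc, one_mul]
  haveI : Group.IsSolvable g.ker := Group.isSolvable_of_comm hcomm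
  exact Group.isSolvable_of_ker_le_range g.ker.subtype g (by rw [Subgroup.range_subtype])

/-- the bottom section of `K` is solvable when that of `Gs` is -/
theorem ct_K_solvable {T : Type*} [Group T] (Gs Zs K : Subgroup Q) (hKG : K ≤ Gs)
    (ω : Q →* T) (hω : ω.ker ≤ Zs) (hsol : Group.IsSolvable (Gs.map ω))
    [hn : ((K ⊓ Zs).subgroupOf K).Normal] :
    Group.IsSolvable (K ⧸ (K ⊓ Zs).subgroupOf K) := by
  let f : K →* Gs.map ω := (ω.subgroupMap Gs).comp (Subgroup.inclusion hKG)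
  have hker : f.ker ≤ (K ⊓ Zs).subgroupOf K := by
    intro k hk
    rw [Subgroup.mem_subgroupOf]
    refine ⟨k.2, hω ?_⟩
    rw [MonoidHom.mem_ker] at hk ⊢
    exact congrArg Subtype.val hk
  haveI : Group.IsSolvable (K ⧸ f.ker) :=
    Group.isSolvable_of_isSolvable_injective (QuotientGroup.kerLift_injective f)
  let p : K ⧸ f.ker →* K ⧸ (K ⊓ Zs).subgroupOf K :=
    QuotientGroup.map f.ker ((K ⊓ Zs).subgroupOf K) (MonoidHom.id K) hker
  have hp : Function.Surjective p := by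
    intro x
    obtain ⟨k, rfl⟩ := QuotientGroup.mk_surjective x
    exact ⟨(k : K ⧸ f.ker), rfl⟩
  exact Group.isSolvable_of_surjective hp

/-- an irreducible character lying over a linear character of a central subgroup -/
theorem ct_over_central (K A : Subgroup Q) [Fintype A] (hAK : A ≤ K)
    (hAc : A ≤ Subgroup.center Q) (χ : Cfsg.IrrCharacter K) (μ : A →* ℂˣ)
    (h : Cfsg.classInner (fun n : A => (χ : K → ℂ) ⟨n, hAK n.2⟩)
      (fun n : A => ((μ n : ℂˣ) : ℂ)) ≠ 0) (w : A) :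
    (χ : K → ℂ) ⟨w, hAK w.2⟩ = ((μ w : ℂˣ) : ℂ) * (χ : K → ℂ) 1 := by
  classical
  have hwc : (⟨w, hAK w.2⟩ : K) ∈ Subgroup.center K := by
    rw [Subgroup.mem_center_iff]
    intro g
    apply Subtype.ext
    exact Subgroup.mem_center_iff.mp (hAc w.2) (g : Q)
  obtain ⟨c, hc⟩ := h7_central_char χ.2 ⟨w, hAK w.2⟩ hwc
  set F : A → ℂ := fun n => (χ : K → ℂ) ⟨n, hAK n.2⟩ * conj (((μ n : ℂˣ) : ℂ)) with hF
  have hsum : ∑ n : A, F n ≠ 0 := by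
    intro h0
    apply h
    unfold Cfsg.classInner
    rw [show (∑ g : A, (χ : K → ℂ) ⟨g, hAK g.2⟩ * conj (((μ g : ℂˣ) : ℂ))) = ∑ n : A, F n from rfl,
      h0, mul_zero]
  have hshift : ∑ n : A, F (w * n) = ∑ n : A, F n :=
    Fintype.sum_equiv (Equiv.mulLeft w) _ _ (fun _ => rfl)
  have hFw : ∀ n : A, F (w * n) = c * conj (((μ w : ℂˣ) : ℂ)) * F n := by
    intro n
    simp only [hF]
    have e1 : (⟨((w * n : A) : Q), hAK (w * n).2⟩ : K) = ⟨w, hAK w.2⟩ * ⟨n, hAK n.2⟩ := rfl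
    rw [e1, hc, map_mul, Units.val_mul, map_mul]
    ring
  have h1 : c * conj (((μ w : ℂˣ) : ℂ)) = 1 := by
    have h2 : ∑ n : A, F (w * n) = c * conj (((μ w : ℂˣ) : ℂ)) * ∑ n : A, F n := by
      rw [Finset.mul_sum]
      exact Finset.sum_congr rfl fun n _ => hFw n
    rw [hshift] at h2
    have h3 : (c * conj (((μ w : ℂˣ) : ℂ)) - 1) * ∑ n : A, F n = 0 := by
      rw [sub_mul, one_mul, ← h2, sub_self]
    rcases mul_eq_zero.mp h3 with h4 | h4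
    · exact sub_eq_zero.mp h4
    · exact absurd h4 hsum
  have hnorm : ‖((μ w : ℂˣ) : ℂ)‖ = 1 := by
    have h2 : ((μ w : ℂˣ) : ℂ) ^ Nat.card A = 1 := by
      rw [← Units.val_pow_eq_pow_val, ← map_pow, pow_card_eq_one', map_one, Units.val_one]
    exact Complex.norm_eq_one_of_pow_eq_one h2 Nat.card_pos.ne'
  have h5 : conj (((μ w : ℂˣ) : ℂ)) * ((μ w : ℂˣ) : ℂ) = 1 := by
    rw [Complex.conj_mul', hnorm]
    norm_num
  have hcμ : c = ((μ w : ℂˣ) : ℂ) := by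
    calc c = c * (conj (((μ w : ℂˣ) : ℂ)) * ((μ w : ℂˣ) : ℂ)) := by rw [h5, mul_one]
      _ = (c * conj (((μ w : ℂˣ) : ℂ))) * ((μ w : ℂˣ) : ℂ) := by ring
      _ = ((μ w : ℂˣ) : ℂ) := by rw [h1, one_mul]
  have h6 := hc 1
  rw [mul_one] at h6
  rw [h6, hcμ]

/-- the central case of the invariant-constituent theorem -/
theorem ct_central [Finite Q] {T₁ T₂ : Type*} [Group T₁] [Group T₂] (Gs Zs : Subgroup Q)
    [hGs : Gs.Normal] (hZc : Zs ≤ Subgroup.center Q) (hZG : Zs ≤ Gs)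
    (hcop : (Gs.index).Coprime (Zs.relIndex Gs))
    (ω₁ : Q →* T₁) (hω₁ : ω₁.ker ≤ Gs) (ω₂ : Q →* T₂) (hω₂ : ω₂.ker ≤ Zs)
    (hsol : Group.IsSolvable T₁ ∨ Group.IsSolvable (Gs.map ω₂)) (μ : Zs →* ℂˣ) :
    ∃ K : Subgroup Q, K.Normal ∧ K ≤ Gs ∧ (∀ g ∈ Gs, ∃ k ∈ K, ∃ z ∈ Zs, g = k * z) ∧
      ∃ β : Cfsg.IrrCharacter K,
        (∀ (x : Q) (k : K) (h : x * k * x⁻¹ ∈ K), (β : K → ℂ) ⟨x * k * x⁻¹, h⟩ = (β : K → ℂ) k) ∧
        ∀ (z : Q) (hz : z ∈ Zs) (hk : z ∈ K),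
          (β : K → ℂ) ⟨z, hk⟩ = ((μ ⟨z, hz⟩ : ℂˣ) : ℂ) * (β : K → ℂ) 1 := by
  classical
  obtain ⟨K, S, hKn, hKG, hdec, hcopKS, hQ, hKS⟩ := ct_hall Gs Zs hZc hZG hcop
  haveI : Fintype Q := Fintype.ofFinite Q
  haveI : Fintype K := Fintype.ofFinite K
  haveI : Fintype (K ⊓ Zs : Subgroup Q) := Fintype.ofFinite _
  refine ⟨K, hKn, hKG, hdec, ?_⟩
  have hAc : ∀ n ∈ K ⊓ Zs, ∀ x : Q, x * n * x⁻¹ = n := by
    intro n hn x
    have := Subgroup.mem_center_iff.mp (hZc hn.2) x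
    rw [this]
    group
  let μ' : (K ⊓ Zs : Subgroup Q) →* ℂˣ := μ.comp (Subgroup.inclusion inf_le_right)
  let θ : Cfsg.IrrCharacter (K ⊓ Zs : Subgroup Q) := linIrr μ'
  have hnorm : ∀ s ∈ S, ∀ g ∈ K, s * g * s⁻¹ ∈ K := fun s _ g hg => hKn.conj_mem g hg s
  have hNS : ∀ s ∈ S, ∀ n ∈ K ⊓ Zs, s * n * s⁻¹ ∈ K ⊓ Zs := by
    intro s _ n hn
    rw [hAc n hn s]
    exact hn
  have hinv : ∀ s ∈ S, ∀ g g' : (K ⊓ Zs : Subgroup Q), (g' : Q) = s * g * s⁻¹ →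
      (θ : (K ⊓ Zs : Subgroup Q) → ℂ) g' = (θ : (K ⊓ Zs : Subgroup Q) → ℂ) g := by
    intro s _ g g' hgg'
    rw [hAc g g.2 s] at hgg'
    rw [Subtype.ext hgg']
  have hex : ∃ χ : Cfsg.IrrCharacter K,
      Cfsg.classInner (fun n : (K ⊓ Zs : Subgroup Q) => (χ : K → ℂ) ⟨n, (inf_le_left : K ⊓ Zs ≤ K) n.2⟩)
        (θ : (K ⊓ Zs : Subgroup Q) → ℂ) ≠ 0 ∧
      (∀ s ∈ S, ∀ g g' : K, (g' : Q) = s * g * s⁻¹ → (χ : K → ℂ) g' = (χ : K → ℂ) g) := by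
    rcases hsol with hsol | hsol
    · haveI := hsol
      have hS : Group.IsSolvable S := ct_S_solvable Gs Zs K S hZc hdec hKS ω₁ hω₁
      exact Cfsg.Agent.S4449.result K S (K ⊓ Zs) hnorm inf_le_left
        (fun g _ n hn => by rw [hAc n hn g]; exact hn) hNS hcopKS hS θ hinv
    · haveI hnn : ((K ⊓ Zs).subgroupOf K).Normal := by
        constructor
        intro n hn g
        rw [Subgroup.mem_subgroupOf] at hn ⊢
        have : ((g * n * g⁻¹ : K) : Q) = (n : Q) := by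
          rw [Subgroup.coe_mul, Subgroup.coe_mul, Subgroup.coe_inv]
          exact hAc _ hn _
        rw [this]
        exact hn
      have hK : Group.IsSolvable (K ⧸ (K ⊓ Zs).subgroupOf K) :=
        ct_K_solvable Gs Zs K hKG ω₂ hω₂ hsol
      have hcop2 : ((K ⊓ Zs).relIndex K).Coprime (Nat.card S) :=
        Nat.Coprime.coprime_dvd_left (Subgroup.relIndex_dvd_card _ _) hcopKS
      exact Cfsg.Agent.S4448.result K S (K ⊓ Zs) hnorm inf_le_left hNS hcop2 hK θ hinv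
  obtain ⟨χ, hχ1, hχ2⟩ := hex
  refine ⟨χ, ?_, ?_⟩
  · intro x k h
    obtain ⟨k₀, hk₀, s, hs, rfl⟩ := hQ x
    have h1 : s * k * s⁻¹ ∈ K := hKn.conj_mem k k.2 s
    have h2 := hχ2 s hs k ⟨s * k * s⁻¹, h1⟩ rfl
    have h3 := irr_conj_invariant χ ⟨s * k * s⁻¹, h1⟩ ⟨k₀, hk₀⟩
    rw [← h2, ← h3]
    have e : (⟨k₀ * s * k * (k₀ * s)⁻¹, h⟩ : K) =
        ⟨k₀, hk₀⟩ * ⟨s * k * s⁻¹, h1⟩ * ⟨k₀, hk₀⟩⁻¹ := by
      apply Subtype.ext
      show k₀ * s * k * (k₀ * s)⁻¹ = k₀ * (s * k * s⁻¹) * k₀⁻¹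
      group
    rw [e]
  · intro z hz hk
    have := ct_over_central K (K ⊓ Zs) inf_le_left (inf_le_right.trans hZc) χ μ' hχ1 ⟨z, hk, hz⟩
    exact this

end central

end Cfsg.Agent.Lib.helper2
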