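import Mathlib
import Cfsg.Prelude.Def_Characters

set_option autoImplicit false

namespace Cfsg.Agent.Lib.helper2

section quot

variable {Γ : Type*} [Group Γ] (G N : Subgroup Γ) [hG : G.Normal] [hN : N.Normal]
variable {E : Type*} [Group E] (π : E →* Γ) (ι : N →* E) [hι : ι.range.Normal]

/-- image of the kernel in the quotient -/
def ctZs : Subgroup (E ⧸ ι.range) :=
  ((QuotientGroup.mk' ι.range).comp π.ker.subtype).range

/-- image of the preimage of `G` in the quotient -/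
def ctGs : Subgroup (E ⧸ ι.range) :=
  (G.comap π).map (QuotientGroup.mk' ι.range)

omit hN in
theorem ct_mem_Zs (x : E ⧸ ι.range) :
    x ∈ ctZs N π ι ↔ ∃ z : E, π z = 1 ∧ (z : E ⧸ ι.range) = x := by
  unfold ctZs
  rw [MonoidHom.mem_range]
  constructor
  · rintro ⟨z, rfl⟩
    exact ⟨z, MonoidHom.mem_ker.mp z.2, rfl⟩
  · rintro ⟨z, hz, rfl⟩
    exact ⟨⟨z, MonoidHom.mem_ker.mpr hz⟩, rfl⟩

omit hG hN in
theorem ct_mem_Gs (x : E ⧸ ι.range) :
    x ∈ ctGs G N π ι ↔ ∃ e : E, π e ∈ G ∧ (e : E ⧸ ι.range) = x := by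
  unfold ctGs
  rw [Subgroup.mem_map]
  constructor
  · rintro ⟨e, he, rfl⟩
    exact ⟨e, he, rfl⟩
  · rintro ⟨e, he, rfl⟩
    exact ⟨e, he, rfl⟩

omit hN in
theorem ct_Zs_center (hZ : π.ker ≤ Subgroup.center E) :
    ctZs N π ι ≤ Subgroup.center (E ⧸ ι.range) := by
  intro x hx
  obtain ⟨z, hz, rfl⟩ := (ct_mem_Zs N π ι x).mp hx
  rw [Subgroup.mem_center_iff]
  intro y
  obtain ⟨e, rfl⟩ := QuotientGroup.mk_surjective y
  rw [← QuotientGroup.mk_mul, ← QuotientGroup.mk_mul,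
    Subgroup.mem_center_iff.mp (hZ (MonoidHom.mem_ker.mpr hz)) e]

omit hG hN in
theorem ct_Zs_le_Gs : ctZs N π ι ≤ ctGs G N π ι := by
  intro x hx
  obtain ⟨z, hz, rfl⟩ := (ct_mem_Zs N π ι x).mp hx
  exact (ct_mem_Gs G N π ι _).mpr ⟨z, by rw [hz]; exact G.one_mem, rfl⟩

omit hN in
theorem ct_Gs_normal : (ctGs G N π ι).Normal := by
  unfold ctGs
  haveI : (G.comap π).Normal := Subgroup.Normal.comap hG π
  exact Subgroup.Normal.map inferInstance _ (QuotientGroup.mk'_surjective _)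

variable (hπι : ∀ n : N, π (ι n) = (n : Γ))

include hπι in
omit hG hN hι in
theorem ct_range_le (hNG : N ≤ G) : ι.range ≤ G.comap π := by
  rintro _ ⟨n, rfl⟩
  rw [Subgroup.mem_comap, hπι]
  exact hNG n.2

include hπι in
omit hG hN in
theorem ct_Gs_index (hπ : Function.Surjective π) (hNG : N ≤ G) :
    (ctGs G N π ι).index = G.index := by
  unfold ctGs
  rw [Subgroup.index_map, QuotientGroup.ker_mk', sup_eq_left.mpr (ct_range_le G N π ι hπι hNG),
    MonoidHom.range_eq_top.mpr (QuotientGroup.mk'_surjective _), Subgroup.index_top, mul_one,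
    Subgroup.index_comap_of_surjective _ hπ]

include hπι in
omit hN hι in
/-- the preimage of `N` -/
theorem ct_comap_N_eq : π.ker ⊔ ι.range = N.comap π := by
  apply le_antisymm
  · apply sup_le
    · intro z hz
      rw [Subgroup.mem_comap, MonoidHom.mem_ker.mp hz]
      exact N.one_mem
    · rintro _ ⟨n, rfl⟩
      rw [Subgroup.mem_comap, hπι]
      exact n.2
  · intro e he
    rw [Subgroup.mem_comap] at he
    have h1 : e * (ι ⟨π e, he⟩)⁻¹ ∈ π.ker := by
      rw [MonoidHom.mem_ker, map_mul, map_inv, hπι]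
      exact mul_inv_cancel _
    have h2 : e = e * (ι ⟨π e, he⟩)⁻¹ * ι ⟨π e, he⟩ := by group
    rw [h2]
    exact Subgroup.mul_mem_sup h1 ⟨_, rfl⟩

include hπι in
omit hG hN in
theorem ct_Zs_relIndex (hπ : Function.Surjective π) :
    (ctZs N π ι).relIndex (ctGs G N π ι) = N.relIndex G := by
  have h1 : ctZs N π ι = π.ker.map (QuotientGroup.mk' ι.range) := by
    unfold ctZs
    rw [MonoidHom.range_comp, Subgroup.range_subtype]
  unfold ctGs
  rw [h1, ← Subgroup.relIndex_comap, Subgroup.comap_map_eq, QuotientGroup.ker_mk',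
    ct_comap_N_eq N π ι hπι, Subgroup.relIndex_comap, Subgroup.map_comap_eq_self_of_surjective hπ]

include hπι in
omit hN hι in
theorem ct_om1_aux (hNG : N ≤ G) : ι.range ≤ ((QuotientGroup.mk' G).comp π).ker := by
  rintro _ ⟨n, rfl⟩
  rw [MonoidHom.mem_ker, MonoidHom.comp_apply, hπι, QuotientGroup.mk'_apply,
    QuotientGroup.eq_one_iff]
  exact hNG n.2

include hπι in
omit hι in
theorem ct_om2_aux : ι.range ≤ ((QuotientGroup.mk' N).comp π).ker := by
  rintro _ ⟨n, rfl⟩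
  rw [MonoidHom.mem_ker, MonoidHom.comp_apply, hπι, QuotientGroup.mk'_apply,
    QuotientGroup.eq_one_iff]
  exact n.2

/-- the map to `Γ ⧸ G` -/
def ctOm1 (hNG : N ≤ G) : E ⧸ ι.range →* Γ ⧸ G :=
  QuotientGroup.lift ι.range ((QuotientGroup.mk' G).comp π) (ct_om1_aux G N π ι hπι hNG)

/-- the map to `Γ ⧸ N` -/
def ctOm2 : E ⧸ ι.range →* Γ ⧸ N :=
  QuotientGroup.lift ι.range ((QuotientGroup.mk' N).comp π) (ct_om2_aux N π ι hπι)

omit hN in
theorem ctOm1_mk (hNG : N ≤ G) (e : E) :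
    ctOm1 G N π ι hπι hNG (e : E ⧸ ι.range) = ((π e : Γ) : Γ ⧸ G) := rfl

theorem ctOm2_mk (e : E) : ctOm2 N π ι hπι (e : E ⧸ ι.range) = ((π e : Γ) : Γ ⧸ N) := rfl

theorem ctOm1_ker (hNG : N ≤ G) : (ctOm1 G N π ι hπι hNG).ker ≤ ctGs G N π ι := by
  intro x hx
  obtain ⟨e, rfl⟩ := QuotientGroup.mk_surjective x
  rw [MonoidHom.mem_ker, ctOm1_mk, QuotientGroup.eq_one_iff] at hx
  exact (ct_mem_Gs G N π ι _).mpr ⟨e, hx, rfl⟩

theorem ctOm2_ker : (ctOm2 N π ι hπι).ker ≤ ctZs N π ι := by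
  intro x hx
  obtain ⟨e, rfl⟩ := QuotientGroup.mk_surjective x
  rw [MonoidHom.mem_ker, ctOm2_mk, QuotientGroup.eq_one_iff] at hx
  rw [ct_mem_Zs]
  refine ⟨e * (ι ⟨π e, hx⟩)⁻¹, ?_, ?_⟩
  · rw [map_mul, map_inv, hπι]
    exact mul_inv_cancel _
  · rw [QuotientGroup.mk_mul, QuotientGroup.mk_inv]
    have : ((ι ⟨π e, hx⟩ : E) : E ⧸ ι.range) = 1 :=
      (QuotientGroup.eq_one_iff _).mpr ⟨_, rfl⟩
    rw [this, inv_one, mul_one]

omit hG in
theorem ctOm2_map : (ctGs G N π ι).map (ctOm2 N π ι hπι) ≤ G.map (QuotientGroup.mk' N) := by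
  rintro _ ⟨x, hx, rfl⟩
  obtain ⟨e, he, rfl⟩ := (ct_mem_Gs G N π ι x).mp hx
  rw [ctOm2_mk]
  exact ⟨π e, he, rfl⟩

omit hG in
/-- solvability of the section in the quotient form -/
theorem ct_sol_map (h : Group.IsSolvable (G ⧸ N.subgroupOf G)) :
    Group.IsSolvable (G.map (QuotientGroup.mk' N)) := by
  haveI := h
  let f : G ⧸ N.subgroupOf G →* G.map (QuotientGroup.mk' N) :=
    QuotientGroup.lift (N.subgroupOf G) ((QuotientGroup.mk' N).subgroupMap G) (by
      intro g hg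
      rw [MonoidHom.mem_ker]
      apply Subtype.ext
      rw [Subgroup.mem_subgroupOf] at hg
      show ((g : Γ) : Γ ⧸ N) = 1
      exact (QuotientGroup.eq_one_iff _).mpr hg)
  have hf : Function.Surjective f := by
    intro y
    obtain ⟨g, hg⟩ := (QuotientGroup.mk' N).subgroupMap_surjective G y
    exact ⟨(g : G ⧸ N.subgroupOf G), hg⟩
  exact Group.isSolvable_of_surjective hf

include hπι in
omit hN in
theorem ct_q_inj : Function.Injective ((QuotientGroup.mk' ι.range).comp π.ker.subtype) := by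
  rw [injective_iff_map_eq_one]
  intro z hz
  rw [MonoidHom.comp_apply, QuotientGroup.mk'_apply, QuotientGroup.eq_one_iff] at hz
  obtain ⟨n, hn⟩ := hz
  have h1 : π (ι n) = 1 := by
    rw [hn]
    exact MonoidHom.mem_ker.mp z.2
  rw [hπι] at h1
  have h2 : n = 1 := Subtype.ext h1
  rw [h2, map_one] at hn
  exact Subtype.ext hn.symm

/-- transport of a character of the kernel to its image -/
noncomputable def ctMu (lam : π.ker →* ℂˣ) : ctZs N π ι →* ℂˣ :=
  lam.comp (MonoidHom.ofInjective (ct_q_inj N π ι hπι)).symm.toMonoidHom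

theorem ctMu_spec (lam : π.ker →* ℂˣ) (z : π.ker) (h : ((z : E) : E ⧸ ι.range) ∈ ctZs N π ι) :
    ctMu N π ι hπι lam ⟨((z : E) : E ⧸ ι.range), h⟩ = lam z := by
  show lam ((MonoidHom.ofInjective (ct_q_inj N π ι hπι)).symm
    ⟨((z : E) : E ⧸ ι.range), h⟩) = lam z
  congr 1
  apply (MonoidHom.ofInjective (ct_q_inj N π ι hπι)).injective
  rw [MulEquiv.apply_symm_apply]
  apply Subtype.ext
  rfl

end quot

end Cfsg.Agent.Lib.helper2
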