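import Mathlib
import Cfsg.Prelude.Def_Characters
import Cfsg.Agent.Lib.helper2.Triple3
import Cfsg.Agent.Lib.helper2.Triple4
import Cfsg.Agent.Lib.helper2.BergerG1
import Cfsg.Agent.Lib.helper7.ProjExt
import Cfsg.Agent.Lib.helper7.Clifford
import Cfsg.Agent.Lib.Helper25.CharQuot
import Cfsg.Agent.S0856

set_option autoImplicit false
set_option linter.unusedSectionVars false

namespace Cfsg.Agent.Lib.helper2

open scoped ComplexConjugate
open Cfsg.Agent.Lib.helper7 Cfsg.Agent.Lib.Helper25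

/-- deflation of an irreducible character along a surjection -/
theorem ct_deflate {A B : Type*} [Group A] [Group B] [Finite A] (f : A →* B)
    (hf : Function.Surjective f) (ψ : Cfsg.IrrCharacter A)
    (h : ∀ a ∈ f.ker, (ψ : A → ℂ) a = (ψ : A → ℂ) 1) :
    ∃ χ : Cfsg.IrrCharacter B, ∀ a : A, (χ : B → ℂ) (f a) = (ψ : A → ℂ) a := by
  classical
  obtain ⟨n, ρ, hρ, hχ⟩ := ψ.2
  haveI := hρ
  have hle : f.ker ≤ ρ.ker := by
    intro a ha
    have h1 := h a ha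
    rw [← hχ, Representation.char_one] at h1
    rw [MonoidHom.mem_ker]
    exact (Cfsg.Agent.S0139.result ρ a).mp h1
  haveI := quotient_irreducible ρ f.ker hle
  let σ : Representation ℂ (A ⧸ f.ker) (Fin n → ℂ) := QuotientGroup.lift f.ker ρ hle
  have hσ : Cfsg.IsIrrCharacter (A ⧸ f.ker) σ.character := isIrrCharacter_of_irreducible σ
  let iso := QuotientGroup.quotientKerEquivOfSurjective f hf
  haveI : Finite B := Finite.of_surjective f hf
  haveI : Fintype B := Fintype.ofFinite B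
  haveI : Fintype (A ⧸ f.ker) := Fintype.ofFinite _
  refine ⟨⟨fun b => σ.character (iso.symm b),
    bg_irr_comp_surjective iso.symm.toMonoidHom iso.symm.surjective hσ⟩, ?_⟩
  intro a
  show σ.character (iso.symm (f a)) = _
  have : iso.symm (f a) = (a : A ⧸ f.ker) := by
    rw [MulEquiv.symm_apply_eq]
    rfl
  rw [this, ← hχ]
  rfl

/-- characters with `N` in the kernel lie over the trivial character -/
theorem ct_over_triv {G : Type*} [Group G] (N : Subgroup G) [Fintype N]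
    (β : Cfsg.IrrCharacter G) (h : ∀ n ∈ N, (β : G → ℂ) n = (β : G → ℂ) 1) :
    Cfsg.classInner (fun n : N => (β : G → ℂ) n) (fun _ : N => (1 : ℂ)) ≠ 0 := by
  have h1 : (fun n : N => (β : G → ℂ) n) = ((β : G → ℂ) 1) • (fun _ : N => (1 : ℂ)) := by
    funext n
    rw [Pi.smul_apply, smul_eq_mul, mul_one]
    exact h n n.2
  rw [h1, classInner_smul_left]
  have h2 := h7_irr_norm (trivIrr N).2
  have h3 : ((trivIrr N : Cfsg.IrrCharacter N) : N → ℂ) = fun _ : N => (1 : ℂ) := rfl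
  rw [h3] at h2
  rw [h2, mul_one]
  exact irr_one_ne_zero β

/-- Gallagher: product of an extension with a character of the quotient is irreducible -/
theorem ct_gallagher {G : Type*} [Group G] [Fintype G] (N : Subgroup G) [hN : N.Normal]
    [Fintype N] (χ₀ β : G → ℂ) (hχ₀ : Cfsg.IsIrrCharacter G χ₀)
    (hres : Cfsg.IsIrrCharacter N (fun n : N => χ₀ n)) (hβ : Cfsg.IsIrrCharacter G β)
    (hβN : ∀ n ∈ N, β n = β 1) : Cfsg.IsIrrCharacter G (β * χ₀) := by
  classical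
  have hϑinv : ∀ (g : G) (n : N),
      (fun n : N => χ₀ n) ⟨g * n * g⁻¹, hN.conj_mem (n : G) n.2 g⟩ = (fun n : N => χ₀ n) n := by
    intro g n
    exact h7_irr_isClassFunction hχ₀ (n : G) g
  have e : ((fun _ : N => (1 : ℂ)) * (fun n : N => χ₀ n)) = (fun n : N => χ₀ n) := by
    funext n
    rw [Pi.mul_apply, one_mul]
  have key := Cfsg.Agent.S0856.result N (fun _ : N => (1 : ℂ)) (fun n : N => χ₀ n)
    (trivIrr N).2 hres (fun g n => rfl) hϑinv (by rw [e]; exact hres) χ₀ hχ₀ (fun n => rfl)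
  have hsrc : β ∈ {β : G → ℂ | Cfsg.IsIrrCharacter G β ∧
      Cfsg.classInner (Cfsg.indFun N (fun _ : N => (1 : ℂ))) β ≠ 0} := by
    refine ⟨hβ, ?_⟩
    rw [h7_frobenius_irr N β (h7_irr_isClassFunction hβ)]
    intro h0
    apply ct_over_triv N ⟨β, hβ⟩ hβN
    have h1 := congrArg conj h0
    rw [Complex.conj_conj, map_zero] at h1
    exact h1
  exact (key.mapsTo hsrc).1

section assemble

variable {Γ : Type*} [Group Γ] [Fintype Γ] (G N : Subgroup Γ) [hG : G.Normal] [hN : N.Normal]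
variable {V : Type*} [AddCommGroup V] [Module ℂ V] [FiniteDimensional ℂ V]
variable {E : Type*} [Group E] [Finite E]

theorem ct_assemble (hNG : N ≤ G) (hcop : (G.index).Coprime (N.relIndex G))
    (hsolv : Group.IsSolvable (Γ ⧸ G) ∨ Group.IsSolvable (G ⧸ N.subgroupOf G))
    (ρ : Representation ℂ N V) [hρ : ρ.IsIrreducible]
    (π : E →* Γ) (hπ : Function.Surjective π) (hZ : π.ker ≤ Subgroup.center E)
    (ι : N →* E) [hι : ι.range.Normal] (hπι : ∀ n : N, π (ι n) = (n : Γ))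
    (τ : Representation ℂ E V) (hτ : ∀ n : N, τ (ι n) = ρ n)
    (lam : π.ker →* ℂˣ)
    (hlam : ∀ z : π.ker, τ (z : E) = ((lam z : ℂˣ) : ℂ) • (1 : Module.End ℂ V)) :
    ∃ χ : Cfsg.IrrCharacter G,
      (∃ c : ℂ, c ≠ 0 ∧ ∀ n : N, (χ : G → ℂ) ⟨n, hNG n.2⟩ = c * ρ.character n) ∧
      ∀ (x : Γ) (g : G) (h : x * g * x⁻¹ ∈ G),
        (χ : G → ℂ) ⟨x * g * x⁻¹, h⟩ = (χ : G → ℂ) g := by
  classical
  haveI := ct_Gs_normal G N π ι
  have hcop' : ((ctGs G N π ι).index).Coprime ((ctZs N π ι).relIndex (ctGs G N π ι)) := by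
    rw [ct_Gs_index G N π ι hπι hπ hNG, ct_Zs_relIndex G N π ι hπι hπ]
    exact hcop
  have hsol' : Group.IsSolvable (Γ ⧸ G) ∨
      Group.IsSolvable ((ctGs G N π ι).map (ctOm2 N π ι hπι)) := by
    rcases hsolv with h | h
    · exact Or.inl h
    · right
      haveI := ct_sol_map G N h
      exact Group.isSolvable_of_isSolvable_injective
        (Subgroup.inclusion_injective (ctOm2_map G N π ι hπι))
  obtain ⟨K, hKn, hKG, hdec, β, hβinv, hβc⟩ := ct_central (ctGs G N π ι) (ctZs N π ι)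
    (ct_Zs_center N π ι hZ) (ct_Zs_le_Gs G N π ι) hcop' (ctOm1 G N π ι hπι hNG)
    (ctOm1_ker G N π ι hπι hNG) (ctOm2 N π ι hπι) (ctOm2_ker N π ι hπι) hsol'
    (ctMu N π ι hπι lam⁻¹)
  haveI := hKn
  -- the preimage of K
  let Kt : Subgroup E := K.comap (QuotientGroup.mk' ι.range)
  haveI hKtn : Kt.Normal := Subgroup.Normal.comap hKn _
  haveI : Fintype E := Fintype.ofFinite E
  haveI : Fintype Kt := Fintype.ofFinite Kt
  haveI : Fintype K := Fintype.ofFinite K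
  let f₁ : Kt →* K := (QuotientGroup.mk' ι.range).subgroupComap K
  have hf₁ : Function.Surjective f₁ :=
    (QuotientGroup.mk' ι.range).subgroupComap_surjective_of_surjective K
      (QuotientGroup.mk'_surjective _)
  have hf₁v : ∀ e : Kt, ((f₁ e : K) : E ⧸ ι.range) = ((e : E) : E ⧸ ι.range) := fun e => rfl
  have hβt : Cfsg.IsIrrCharacter Kt (fun e => (β : K → ℂ) (f₁ e)) :=
    bg_irr_comp_surjective f₁ hf₁ β.2
  have hq1 : ∀ n : N, ((ι n : E) : E ⧸ ι.range) = 1 := fun n =>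
    (QuotientGroup.eq_one_iff _).mpr ⟨n, rfl⟩
  have hιK : ∀ n : N, ι n ∈ Kt := by
    intro n
    show ((ι n : E) : E ⧸ ι.range) ∈ K
    rw [hq1]
    exact K.one_mem
  -- the restriction of τ
  let σ : Representation ℂ Kt V := τ.comp Kt.subtype
  haveI hσirr : σ.IsIrreducible :=
    h7_isIrr_of_restrict ρ σ (fun n => ⟨ι n, hιK n⟩) (fun n => hτ n)
  have hχ₀ : Cfsg.IsIrrCharacter Kt σ.character := isIrrCharacter_of_irreducible σ
  let N₁ : Subgroup Kt := ι.range.subgroupOf Kt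
  haveI : N₁.Normal := Subgroup.normal_subgroupOf
  haveI : Fintype N₁ := Fintype.ofFinite N₁
  have hres : Cfsg.IsIrrCharacter N₁ (fun n : N₁ => σ.character n) := by
    let σ₁ : Representation ℂ N₁ V := σ.comp N₁.subtype
    haveI : σ₁.IsIrreducible :=
      h7_isIrr_of_restrict ρ σ₁ (fun n => ⟨⟨ι n, hιK n⟩, ⟨n, rfl⟩⟩) (fun n => hτ n)
    exact isIrrCharacter_of_irreducible σ₁
  have hβN : ∀ n ∈ N₁, (fun e => (β : K → ℂ) (f₁ e)) n = (fun e => (β : K → ℂ) (f₁ e)) 1 := by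
    intro n hn
    show (β : K → ℂ) (f₁ n) = (β : K → ℂ) (f₁ 1)
    have e1 : f₁ n = f₁ 1 := by
      apply Subtype.ext
      rw [hf₁v, hf₁v]
      obtain ⟨m, hm⟩ := Subgroup.mem_subgroupOf.mp hn
      rw [← hm, hq1]
      rfl
    rw [e1]
  have hψ : Cfsg.IsIrrCharacter Kt ((fun e => (β : K → ℂ) (f₁ e)) * σ.character) :=
    ct_gallagher N₁ σ.character _ hχ₀ hres hβt hβN
  -- the map to G
  have hKtG : ∀ e ∈ Kt, π e ∈ G := by
    intro e he
    have h1 : ((e : E) : E ⧸ ι.range) ∈ ctGs G N π ι := hKG he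
    obtain ⟨e', he', hee'⟩ := (ct_mem_Gs G N π ι _).mp h1
    have h2 : e'⁻¹ * e ∈ ι.range := QuotientGroup.eq.mp hee'
    obtain ⟨n, hn⟩ := h2
    have h3 : e = e' * ι n := by rw [hn]; group
    rw [h3, map_mul, hπι]
    exact G.mul_mem he' (hNG n.2)
  let f₂ : Kt →* G := (π.comp Kt.subtype).codRestrict G (fun e => hKtG e e.2)
  have hf₂v : ∀ e : Kt, ((f₂ e : G) : Γ) = π e := fun e => rfl
  have hf₂ : Function.Surjective f₂ := by
    intro g
    obtain ⟨e, he⟩ := hπ (g : Γ)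
    have h1 : ((e : E) : E ⧸ ι.range) ∈ ctGs G N π ι :=
      (ct_mem_Gs G N π ι _).mpr ⟨e, by rw [he]; exact g.2, rfl⟩
    obtain ⟨k, hk, zs, hzs, hkz⟩ := hdec _ h1
    obtain ⟨z, hz, rfl⟩ := (ct_mem_Zs N π ι zs).mp hzs
    have h2 : e * z⁻¹ ∈ Kt := by
      show ((e * z⁻¹ : E) : E ⧸ ι.range) ∈ K
      rw [QuotientGroup.mk_mul, QuotientGroup.mk_inv, hkz, mul_inv_cancel_right]
      exact hk
    refine ⟨⟨e * z⁻¹, h2⟩, ?_⟩
    apply Subtype.ext
    rw [hf₂v]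
    show π (e * z⁻¹) = g
    rw [map_mul, map_inv, hz, inv_one, mul_one, he]
  -- constancy on the kernel
  have htr1 : σ.character 1 = (Module.finrank ℂ V : ℂ) := Representation.char_one σ
  have hker : ∀ e ∈ f₂.ker,
      ((fun e => (β : K → ℂ) (f₁ e)) * σ.character) e =
        ((fun e => (β : K → ℂ) (f₁ e)) * σ.character) 1 := by
    intro e he
    have he1 : π (e : E) = 1 := by
      have := MonoidHom.mem_ker.mp he
      have h2 := congrArg Subtype.val this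
      rw [hf₂v] at h2
      exact h2
    let z : π.ker := ⟨(e : E), MonoidHom.mem_ker.mpr he1⟩
    have hzs : ((e : E) : E ⧸ ι.range) ∈ ctZs N π ι :=
      (ct_mem_Zs N π ι _).mpr ⟨e, he1, rfl⟩
    have hk : ((e : E) : E ⧸ ι.range) ∈ K := e.2
    have h1 := hβc _ hzs hk
    have h2 : ctMu N π ι hπι lam⁻¹ ⟨((e : E) : E ⧸ ι.range), hzs⟩ = (lam z)⁻¹ :=
      ctMu_spec N π ι hπι lam⁻¹ z hzs
    have h3 : σ.character e = ((lam z : ℂˣ) : ℂ) * (Module.finrank ℂ V : ℂ) := by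
      show LinearMap.trace ℂ V (τ (e : E)) = _
      rw [show (e : E) = ((z : π.ker) : E) from rfl, hlam z, map_smul, smul_eq_mul]
      congr 1
      exact LinearMap.trace_one ℂ V
    rw [Pi.mul_apply, Pi.mul_apply, htr1, h3]
    have h4 : f₁ e = ⟨((e : E) : E ⧸ ι.range), hk⟩ := rfl
    have h5 : f₁ 1 = 1 := map_one f₁
    rw [h4, h1, h2, h5, Units.val_inv_eq_inv_val]
    have h6 : ((lam z : ℂˣ) : ℂ) ≠ 0 := Units.ne_zero _
    field_simp
  obtain ⟨χ, hχ⟩ := ct_deflate f₂ hf₂ ⟨_, hψ⟩ hker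
  refine ⟨χ, ⟨(β : K → ℂ) 1, irr_one_ne_zero β, ?_⟩, ?_⟩
  · intro n
    have h1 : (⟨(n : Γ), hNG n.2⟩ : G) = f₂ ⟨ι n, hιK n⟩ := by
      apply Subtype.ext
      rw [hf₂v]
      exact (hπι n).symm
    rw [h1, hχ]
    show (β : K → ℂ) (f₁ ⟨ι n, hιK n⟩) * σ.character ⟨ι n, hιK n⟩ = _
    have h2 : f₁ ⟨ι n, hιK n⟩ = 1 := by
      apply Subtype.ext
      rw [hf₁v]
      exact hq1 n
    have h3 : σ.character ⟨ι n, hιK n⟩ = ρ.character n := by
      show LinearMap.trace ℂ V (τ (ι n)) = LinearMap.trace ℂ V (ρ n)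
      rw [hτ]
    rw [h2, h3]
  · intro x g h
    obtain ⟨ex, hex⟩ := hπ x
    obtain ⟨eg, heg⟩ := hf₂ g
    have hmem : ex * (eg : E) * ex⁻¹ ∈ Kt := hKtn.conj_mem _ eg.2 ex
    have h1 : (⟨x * g * x⁻¹, h⟩ : G) = f₂ ⟨ex * (eg : E) * ex⁻¹, hmem⟩ := by
      apply Subtype.ext
      rw [hf₂v]
      show x * g * x⁻¹ = π (ex * (eg : E) * ex⁻¹)
      rw [map_mul, map_mul, map_inv, hex, ← hf₂v eg, heg]
    rw [h1, hχ, ← heg, hχ]
    show (β : K → ℂ) (f₁ ⟨ex * (eg : E) * ex⁻¹, hmem⟩) * σ.character ⟨ex * (eg : E) * ex⁻¹, hmem⟩ =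
      (β : K → ℂ) (f₁ eg) * σ.character eg
    have h2 : σ.character ⟨ex * (eg : E) * ex⁻¹, hmem⟩ = σ.character eg := by
      show τ.character (ex * (eg : E) * ex⁻¹) = τ.character (eg : E)
      exact Representation.char_conj τ (eg : E) ex
    have hmem' : (ex : E ⧸ ι.range) * ((f₁ eg : K) : E ⧸ ι.range) * (ex : E ⧸ ι.range)⁻¹ ∈ K :=
      hKn.conj_mem _ (f₁ eg).2 _
    have h3 : f₁ ⟨ex * (eg : E) * ex⁻¹, hmem⟩ =
        ⟨(ex : E ⧸ ι.range) * ((f₁ eg : K) : E ⧸ ι.range) * (ex : E ⧸ ι.range)⁻¹, hmem'⟩ := by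
      apply Subtype.ext
      rw [hf₁v]
      rfl
    rw [h2, h3, hβinv (ex : E ⧸ ι.range) (f₁ eg) hmem']

end assemble

end Cfsg.Agent.Lib.helper2
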