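import Mathlib
import Cfsg.Agent.Lib.Helper28.CD3.Defs
import Cfsg.Agent.Lib.helper2.Triple5

/-!
# Project CD3, piece PQ (core): Gallagher's theorem gives the degree `f * χ(1)`.
-/

set_option autoImplicit false
open scoped commutatorElement

namespace Cfsg.Agent.Lib.Helper28.CD3

universe u

section partA
variable {G : Type u} [Group G] [Finite G]

/-- the degree of a character with natural value at `1` -/
theorem cd3pq_charDegree_of_nat {H : Type*} [Group H] (χ : H → ℂ) (n : ℕ) (h : χ 1 = (n : ℂ)) :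
    Cfsg.charDegree χ = n := by
  unfold Cfsg.charDegree
  rw [h]
  simp

/-- core of piece PQ: the restriction of `χ` to `K` is irreducible and `G/K` has a nonlinear
irreducible character -/
theorem cd3pq_core (K : Subgroup G) [K.Normal] (χ : Cfsg.IrrCharacter G)
    (hres : Cfsg.IsIrrCharacter K (fun k : K => (χ : G → ℂ) k))
    (hov : ∃ d ∈ cdOver K, 1 < d) :
    ∃ f : ℕ, 1 < f ∧ f ∈ cdOver K ∧ f * Cfsg.charDegree (χ : G → ℂ) ∈ Cfsg.charDegrees G := by
  classical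
  haveI : Fintype G := Fintype.ofFinite _
  haveI : Fintype K := Fintype.ofFinite _
  obtain ⟨d, hd, hd1⟩ := hov
  refine ⟨d, hd1, hd, ?_⟩
  obtain ⟨β, hβK, hβd⟩ := hd
  have hirr := Cfsg.Agent.Lib.helper2.ct_gallagher K (χ : G → ℂ) (β : G → ℂ) χ.2 hres β.2 hβK
  obtain ⟨b, hb⟩ := Cfsg.Agent.Lib.helper2.isCharacter_one_eq_nat
    (Cfsg.Agent.Lib.helper7.h7_irr_isCharacter β.2)
  obtain ⟨c, hc⟩ := Cfsg.Agent.Lib.helper2.isCharacter_one_eq_nat
    (Cfsg.Agent.Lib.helper7.h7_irr_isCharacter χ.2)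
  refine ⟨⟨_, hirr⟩, ?_⟩
  show Cfsg.charDegree ((β : G → ℂ) * (χ : G → ℂ)) = d * Cfsg.charDegree (χ : G → ℂ)
  rw [← hβd, cd3pq_charDegree_of_nat _ b hb, cd3pq_charDegree_of_nat _ c hc]
  apply cd3pq_charDegree_of_nat
  rw [Pi.mul_apply, hb, hc]
  push_cast
  rfl

end partA

end Cfsg.Agent.Lib.Helper28.CD3
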