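import Mathlib
import Cfsg.Agent.Lib.Helper28.CD3.Defs
import Cfsg.Agent.Lib.helper2.CD3PQcore
import Cfsg.Agent.Lib.Helper10.CD3PQ1
import Cfsg.Agent.Lib.helper23.CD3OVERQ

/-!
# Project CD3, piece PQ: wrapper of `cd3pq_core` with PQ1 (helper10) and OVERQ (helper23).
-/

set_option autoImplicit false
open scoped commutatorElement

namespace Cfsg.Agent.Lib.Helper28.CD3

universe u

section partA
variable {G : Type u} [Group G] [Finite G]

-- piece PQ  (uses PQ1 + Gallagher `helper2.ct_gallagher`)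
theorem pquot_degree (p : ℕ) (hp : p.Prime) (K : Subgroup G) [K.Normal] (hK : IsPGroup p (G ⧸ K))
    (hna : ¬ commutator G ≤ K) (χ : Cfsg.IrrCharacter G)
    (hχ : ¬ p ∣ Cfsg.charDegree (χ : G → ℂ)) :
    ∃ f : ℕ, 1 < f ∧ f ∈ cdOver K ∧ f * Cfsg.charDegree (χ : G → ℂ) ∈ Cfsg.charDegrees G :=
  cd3pq_core K χ (restrict_irr_of_pquot p hp K hK χ hχ) (exists_nonlinear_over K hna)

end partA

end Cfsg.Agent.Lib.Helper28.CD3
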