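import Mathlib
import Cfsg.Agent.Lib.helper15.S5972.Defs

/-!
# S5972 row COUNTDVD, core (helper2): `ts_count_dvd` with the count identity (row COUNT) as a hypothesis.

Wrapper once COUNT is on main:
`ts_count_dvd hodd d m hm r hr := s5972countdvd_core d m hm (ts_count hodd d m hm) r hr`.
-/

set_option autoImplicit false

namespace Cfsg.Agent.Lib.helper15.S5972

open Polynomial Module Cfsg.Agent.Lib.Helper13.S5955

/-- pure arithmetic: `N * A = ∏_{j<m} (q^(2(d-j)) - 1)`, `r ∣ N` prime, `q` a power of `p`. -/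
theorem s5972countdvd_arith (q p n : ℕ) (hp : p.Prime) (hn : n ≠ 0) (hq : q = p ^ n) (d m : ℕ) (hm : m ≤ d)
    (N A : ℕ) (hcount : N * A = ∏ j ∈ Finset.range m, (q ^ (2 * (d - j)) - 1))
    (r : ℕ) (hrp : r.Prime) (hr : r ∣ N) :
    r ≠ p ∧ ∃ j : ℕ, j < m ∧ r ∣ q ^ (2 * (d - j)) - 1 := by
  have hB : r ∣ ∏ j ∈ Finset.range m, (q ^ (2 * (d - j)) - 1) := by
    rw [← hcount]
    exact Dvd.dvd.mul_right hr _
  obtain ⟨j, hj, hjd⟩ := (Prime.dvd_finsetProd_iff hrp.prime _).mp hB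
  have hjm : j < m := Finset.mem_range.mp hj
  refine ⟨?_, j, hjm, hjd⟩
  intro hEq
  have hk : 0 < 2 * (d - j) := by omega
  have hpq : r ∣ q ^ (2 * (d - j)) := by
    rw [hEq, hq]
    exact Dvd.dvd.pow (dvd_pow_self p hn) hk.ne'
  have hq0 : 0 < q := by rw [hq]; exact pow_pos hp.pos n
  have hpos : 1 ≤ q ^ (2 * (d - j)) := Nat.one_le_pow _ _ hq0
  have h1 : r ∣ q ^ (2 * (d - j)) - (q ^ (2 * (d - j)) - 1) := Nat.dvd_sub hpq hjd
  have h2 : q ^ (2 * (d - j)) - (q ^ (2 * (d - j)) - 1) = 1 := by omega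
  rw [h2] at h1
  exact hrp.one_lt.ne' (Nat.dvd_one.mp h1)

/-- COUNTDVD with COUNT as a hypothesis. -/
theorem s5972countdvd_core {F : Type*} [Field F] [Fintype F] {p : ℕ} [Fact p.Prime] [CharP F p]
    (d m : ℕ) (hm : m ≤ d)
    (hcount : Nat.card (TSm d m F) * ∏ j ∈ Finset.range m, (Fintype.card F ^ (j + 1) - 1) =
      ∏ j ∈ Finset.range m, (Fintype.card F ^ (2 * (d - j)) - 1))
    (r : ℕ) [Fact r.Prime] (hr : r ∣ Nat.card (TSm d m F)) :
    r ≠ p ∧ ∃ j : ℕ, j < m ∧ r ∣ Fintype.card F ^ (2 * (d - j)) - 1 := by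
  obtain ⟨n, _, hn⟩ := FiniteField.card F p
  exact s5972countdvd_arith (Fintype.card F) p n Fact.out n.ne_zero hn d m hm _ _ hcount r Fact.out hr

end Cfsg.Agent.Lib.helper15.S5972
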