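import Mathlib
import Cfsg.Agent.Lib.Helper18.OPE.Defs
import Cfsg.Agent.Lib.helper17.ONENDPERPS
import Cfsg.Agent.Lib.helper17.ONENDSUPS

set_option autoImplicit false
set_option linter.unusedVariables false
set_option linter.unusedSectionVars false

/-!
# Project OPE, row CM2 (`ap_count`): the abstract bijection.  In a nondegenerate quadratic space `V` of type `1`, for a nondegenerate `W'` of
dimension `2h - 2` and type `1`: `N = W'^⊥` is nondegenerate of type `1`, and the nondegenerate `2h`-spaces `W ≥ W'` of type `-1` correspond to the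
nondegenerate planes `P ≤ N` of type `-1` (`W ↦ W ⊓ N`, `P ↦ W' ⊔ P`).
-/

namespace Cfsg.Agent.Lib.Helper18.OPE

open Polynomial Module Cfsg.Agent.Lib.Helper13.S5955 Cfsg.Agent.Lib.helper15.S5972 Cfsg.Agent.Lib.Helper18.ONE

/-- the orthogonal complement of `W'`: nondegenerate, complementary dimension, type `1` -/
theorem opecm2_perp {F : Type*} [Field F] [Fintype F]
    {V : Type*} [AddCommGroup V] [Module F V] [FiniteDimensional F V]
    (Q : QuadraticForm F V)
    (hsum : ∀ W₁ W₂ : Submodule F V, SND (QuadraticMap.polarBilin Q) W₁ → SND (QuadraticMap.polarBilin Q) W₂ →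
      SOrth (QuadraticMap.polarBilin Q) W₁ W₂ → Even (finrank F W₁) → Even (finrank F W₂) → ∀ s₁ s₂ : ℤ,
      QTy Q W₁ s₁ → QTy Q W₂ s₂ → QTy Q (W₁ ⊔ W₂) (s₁ * s₂))
    (hiff : ∀ W : Submodule F V, SND (QuadraticMap.polarBilin Q) W → Even (finrank F W) → QTy Q W 1 ∨ QTy Q W (-1))
    (huniq : ∀ W : Submodule F V, QTy Q W 1 → QTy Q W (-1) → False)
    (hnd : SND (QuadraticMap.polarBilin Q) ⊤) (hVev : Even (finrank F V)) (htop : QTy Q (⊤ : Submodule F V) 1)
    (W' : Submodule F V) (hW'nd : SND (QuadraticMap.polarBilin Q) W') (hW'ev : Even (finrank F W'))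
    (hW'ty : QTy Q W' 1) :
    SND (QuadraticMap.polarBilin Q) (LinearMap.BilinForm.orthogonal (QuadraticMap.polarBilin Q) W') ∧
      finrank F ↥(LinearMap.BilinForm.orthogonal (QuadraticMap.polarBilin Q) W') + finrank F W' = finrank F V ∧
      QTy Q (LinearMap.BilinForm.orthogonal (QuadraticMap.polarBilin Q) W') 1 ∧
      Disjoint W' (LinearMap.BilinForm.orthogonal (QuadraticMap.polarBilin Q) W') := by
  have hsymm : ∀ u v, QuadraticMap.polarBilin Q u v = QuadraticMap.polarBilin Q v u := by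
    intro u v
    simp only [QuadraticMap.polarBilin_apply_apply]
    exact QuadraticMap.polar_comm Q u v
  obtain ⟨hdis, hsup, hNnd, hNorth, hNdim⟩ := nd_perp_symm (QuadraticMap.polarBilin Q) hsymm ⊤ W' hnd le_top hW'nd
  rw [top_inf_eq] at hdis hsup hNnd hNorth hNdim
  rw [finrank_top] at hNdim
  refine ⟨hNnd, hNdim, ?_, hdis⟩
  have hNev : Even (finrank F ↥(LinearMap.BilinForm.orthogonal (QuadraticMap.polarBilin Q) W')) := by
    rcases hVev with ⟨a, ha⟩
    rcases hW'ev with ⟨b, hb⟩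
    exact ⟨a - b, by omega⟩
  rcases hiff _ hNnd hNev with h1 | h1
  · exact h1
  · exfalso
    have h2 := hsum W' _ hW'nd hNnd hNorth hW'ev hNev 1 (-1) hW'ty h1
    rw [hsup] at h2
    have : (1 : ℤ) * (-1) = -1 := by norm_num
    rw [this] at h2
    exact huniq ⊤ htop h2

/-- the bijection -/
theorem opecm2_abs {F : Type*} [Field F] [Fintype F]
    {V : Type*} [AddCommGroup V] [Module F V] [FiniteDimensional F V]
    (Q : QuadraticForm F V)
    (hsum : ∀ W₁ W₂ : Submodule F V, SND (QuadraticMap.polarBilin Q) W₁ → SND (QuadraticMap.polarBilin Q) W₂ →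
      SOrth (QuadraticMap.polarBilin Q) W₁ W₂ → Even (finrank F W₁) → Even (finrank F W₂) → ∀ s₁ s₂ : ℤ,
      QTy Q W₁ s₁ → QTy Q W₂ s₂ → QTy Q (W₁ ⊔ W₂) (s₁ * s₂))
    (hiff : ∀ W : Submodule F V, SND (QuadraticMap.polarBilin Q) W → Even (finrank F W) → QTy Q W 1 ∨ QTy Q W (-1))
    (huniq : ∀ W : Submodule F V, QTy Q W 1 → QTy Q W (-1) → False)
    (hnd : SND (QuadraticMap.polarBilin Q) ⊤)
    (W' : Submodule F V) (hW'nd : SND (QuadraticMap.polarBilin Q) W') (h : ℕ) (hh1 : 1 ≤ h)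
    (hW'dim : finrank F W' = 2 * h - 2) (hW'ty : QTy Q W' 1) :
    Nat.card {W : Submodule F V // W' ≤ W ∧ finrank F W = 2 * h ∧ SND (QuadraticMap.polarBilin Q) W ∧ QTy Q W (-1)} =
      Nat.card {P : Submodule F V // P ≤ LinearMap.BilinForm.orthogonal (QuadraticMap.polarBilin Q) W' ∧
        SND (QuadraticMap.polarBilin Q) P ∧ finrank F P = 2 ∧ QTy Q P (-1)} := by
  have hsymm : ∀ u v, QuadraticMap.polarBilin Q u v = QuadraticMap.polarBilin Q v u := by
    intro u v
    simp only [QuadraticMap.polarBilin_apply_apply]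
    exact QuadraticMap.polar_comm Q u v
  have hW'ev : Even (finrank F W') := ⟨h - 1, by omega⟩
  obtain ⟨hdis0, _, _, _, _⟩ := nd_perp_symm (QuadraticMap.polarBilin Q) hsymm ⊤ W' hnd le_top hW'nd
  rw [top_inf_eq] at hdis0
  have hone : (1 : ℤ) * (-1) = -1 := by norm_num
  have hone' : (1 : ℤ) * 1 = 1 := by norm_num
  apply Nat.card_congr
  refine
    { toFun := fun W => ⟨W.1 ⊓ LinearMap.BilinForm.orthogonal (QuadraticMap.polarBilin Q) W', ?_⟩
      invFun := fun P => ⟨W' ⊔ P.1, ?_⟩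
      left_inv := ?_
      right_inv := ?_ }
  · obtain ⟨hW'W, hWdim, hWnd, hWty⟩ := W.2
    obtain ⟨W, _⟩ := W
    simp only at hW'W hWdim hWnd hWty ⊢
    obtain ⟨hdis, hsup, hPnd, hPorth, hPdim⟩ := nd_perp_symm (QuadraticMap.polarBilin Q) hsymm W W' hWnd hW'W hW'nd
    have hP2 : finrank F ↥(W ⊓ LinearMap.BilinForm.orthogonal (QuadraticMap.polarBilin Q) W') = 2 := by omega
    refine ⟨inf_le_right, hPnd, hP2, ?_⟩
    rcases hiff _ hPnd ⟨1, by omega⟩ with h1 | h1
    · exfalso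
      have h2 := hsum W' _ hW'nd hPnd hPorth hW'ev ⟨1, by omega⟩ 1 1 hW'ty h1
      rw [hsup, hone'] at h2
      exact huniq W h2 hWty
    · exact h1
  · obtain ⟨hPN, hPnd, hPdim, hPty⟩ := P.2
    obtain ⟨P, _⟩ := P
    simp only at hPN hPnd hPdim hPty ⊢
    have horth : SOrth (QuadraticMap.polarBilin Q) W' P := by
      intro u hu w hw
      exact (LinearMap.BilinForm.mem_orthogonal_iff.mp (hPN hw)) u hu
    obtain ⟨hnd', _, hdim'⟩ := nd_sup_symm (QuadraticMap.polarBilin Q) hsymm W' P hW'nd hPnd horth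
    refine ⟨le_sup_left, by omega, hnd', ?_⟩
    have h2 := hsum W' P hW'nd hPnd horth hW'ev ⟨1, by omega⟩ 1 (-1) hW'ty hPty
    rwa [hone] at h2
  · rintro ⟨W, hW'W, hWdim, hWnd, hWty⟩
    obtain ⟨hdis, hsup, hPnd, hPorth, hPdim⟩ := nd_perp_symm (QuadraticMap.polarBilin Q) hsymm W W' hWnd hW'W hW'nd
    exact Subtype.ext hsup
  · rintro ⟨P, hPN, hPnd, hPdim, hPty⟩
    apply Subtype.ext
    show (W' ⊔ P) ⊓ LinearMap.BilinForm.orthogonal (QuadraticMap.polarBilin Q) W' = P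
    rw [sup_comm, sup_inf_assoc_of_le W' hPN, hdis0.eq_bot, sup_bot_eq]

end Cfsg.Agent.Lib.Helper18.OPE
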