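import Mathlib
import Cfsg.Agent.Lib.Helper22.PG.Defs
import Cfsg.Agent.Lib.helper8.SylowBasic
import Cfsg.Agent.S0111
import Cfsg.Agent.Lib.Helper1.PGNC

set_option autoImplicit false

namespace Cfsg.Agent.Lib.Helper22.PG

open Subgroup

/-- order of a Sylow 11-subgroup -/
theorem h2_card_sylow11 {H : Type*} [Group H] [Finite H] (d : ℕ) (hd : d ∣ 16)
    (hord : Nat.card H = 495 * d) (P : Sylow 11 H) : Nat.card (P : Subgroup H) = 11 := by
  have h11 : ¬ 11 ∣ 45 * d := by
    intro h
    have h2 : (11 : ℕ) ∣ 45 * 16 := dvd_trans h (Nat.mul_dvd_mul_left 45 hd)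
    omega
  have := Cfsg.Agent.Lib.helper8.h8_sylow_card 11 1 (45 * d) (by rw [hord]; ring) h11 P
  simpa using this

/-- order of the normaliser -/
theorem h2_card_normalizer {H : Type*} [Group H] [Finite H] (d : ℕ)
    (hord : Nat.card H = 495 * d) (hn : Nat.card (Sylow 11 H) = 45) (P : Sylow 11 H) :
    Nat.card (normalizer ((P : Subgroup H) : Set H)) = 11 * d := by
  have h := Cfsg.Agent.Lib.helper8.h8_card_normalizer_sylow 11 P
  rw [hn, hord] at h
  omega

/-- a Sylow 11-subgroup is contained in its centraliser -/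
theorem h2_le_centralizer {H : Type*} [Group H] [Finite H] (P : Subgroup H)
    (hP : Nat.card P = 11) : P ≤ centralizer (P : Set H) := by
  have : Fact (Nat.Prime 11) := ⟨by norm_num⟩
  have hcyc : IsCyclic P := isCyclic_of_prime_card hP
  intro x hx
  rw [mem_centralizer_iff]
  intro y hy
  have hcomm : ∀ a b : P, a * b = b * a := by
    intro a b
    exact (IsCyclic.commGroup (α := P)).mul_comm a b
  have := hcomm ⟨y, hy⟩ ⟨x, hx⟩
  exact congrArg Subtype.val this

/-- `|N(P) : C(P)|` divides `2` -/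
theorem h2_relIndex_dvd_two {H : Type*} [Group H] [Finite H] (d : ℕ) (hd : d ∣ 16)
    (hord : Nat.card H = 495 * d) (hn : Nat.card (Sylow 11 H) = 45) (P : Sylow 11 H) :
    (centralizer ((P : Subgroup H) : Set H)).relIndex (normalizer ((P : Subgroup H) : Set H)) ∣ 2 := by
  have hP := h2_card_sylow11 d hd hord P
  have h10 := nc_relIndex_dvd (P : Subgroup H) hP
  have hN := h2_card_normalizer d hord hn P
  have hPC := h2_le_centralizer (P : Subgroup H) hP
  have hCN : centralizer ((P : Subgroup H) : Set H) ≤ normalizer ((P : Subgroup H) : Set H) :=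
    centralizer_le_normalizer _
  -- |C| * relIndex = |N|
  have h1 : Nat.card (centralizer ((P : Subgroup H) : Set H)) *
      (centralizer ((P : Subgroup H) : Set H)).relIndex (normalizer ((P : Subgroup H) : Set H)) =
      11 * d := by
    rw [← hN, ← relIndex_bot_left, ← relIndex_bot_left]
    exact relIndex_mul_relIndex _ _ _ bot_le hCN
  have h11C : 11 ∣ Nat.card (centralizer ((P : Subgroup H) : Set H)) := by
    have := card_dvd_of_le hPC
    rwa [hP] at this
  obtain ⟨c, hc⟩ := h11C
  set r := (centralizer ((P : Subgroup H) : Set H)).relIndex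
    (normalizer ((P : Subgroup H) : Set H)) with hr
  rw [hc] at h1
  have h2 : c * r = d := by
    have : 11 * (c * r) = 11 * d := by rw [← h1]; ring
    omega
  have h16 : r ∣ 16 := dvd_trans (Dvd.intro_left c h2) hd
  have h3 : r ∣ Nat.gcd 16 10 := Nat.dvd_gcd h16 h10
  simpa using h3

/-- `|N(P) : C(P)| = 2` when there is an element of `N(P)` outside `C(P)` -/
theorem h2_relIndex_eq_two {H : Type*} [Group H] [Finite H] (d : ℕ) (hd : d ∣ 16)
    (hord : Nat.card H = 495 * d) (hn : Nat.card (Sylow 11 H) = 45) (P : Sylow 11 H)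
    (hNC : ¬ normalizer ((P : Subgroup H) : Set H) ≤ centralizer ((P : Subgroup H) : Set H)) :
    (centralizer ((P : Subgroup H) : Set H)).relIndex (normalizer ((P : Subgroup H) : Set H)) = 2 := by
  have h2 := h2_relIndex_dvd_two d hd hord hn P
  have h1 : (centralizer ((P : Subgroup H) : Set H)).relIndex
      (normalizer ((P : Subgroup H) : Set H)) ≠ 1 := by
    intro h
    exact hNC (relIndex_eq_one.mp h)
  rcases (Nat.dvd_prime Nat.prime_two).mp h2 with h | h
  · exact absurd h h1
  · exact h

/-- PG-COREb : Thompson transfer: the involution `s` is conjugate into `C(P)` -/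
theorem exists_conj_mem_centralizer {H : Type*} [Group H] [Finite H] (d : ℕ) (hd : d ∣ 16)
    (hord : Nat.card H = 495 * d) (hn : Nat.card (Sylow 11 H) = 45) (hno : NoIdx2 H)
    (P : Sylow 11 H) (s : H) (hs : orderOf s = 2)
    (hsN : s ∈ normalizer ((P : Subgroup H) : Set H))
    (hsC : s ∉ centralizer ((P : Subgroup H) : Set H)) :
    ∃ g : H, g * s * g⁻¹ ∈ centralizer ((P : Subgroup H) : Set H) := by
  classical
  set N := normalizer ((P : Subgroup H) : Set H) with hNdef
  set C := centralizer ((P : Subgroup H) : Set H) with hCdef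
  have hNC : ¬ N ≤ C := fun h => hsC (h hsN)
  have hrel : C.relIndex N = 2 := h2_relIndex_eq_two d hd hord hn P hNC
  have hNcard : Nat.card N = 11 * d := h2_card_normalizer d hord hn P
  -- d is a power of two
  obtain ⟨j, hj, hdj⟩ : ∃ j ≤ 4, d = 2 ^ j := by
    have : d ∣ 2 ^ 4 := by simpa using hd
    exact (Nat.dvd_prime_pow Nat.prime_two).mp this
  have : Fact (Nat.Prime 2) := ⟨Nat.prime_two⟩
  -- Sylow 2-subgroup of N containing s
  have hs2 : IsPGroup 2 (zpowers (⟨s, hsN⟩ : N)) := by
    rw [IsPGroup.iff_card]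
    refine ⟨1, ?_⟩
    rw [Nat.card_zpowers, pow_one]
    rw [← hs]
    exact Subgroup.orderOf_mk s hsN
  obtain ⟨S₀, hS₀⟩ := hs2.exists_le_sylow
  have hS₀card : Nat.card (S₀ : Subgroup N) = d := by
    have h2 : ¬ 2 ∣ 11 := by omega
    have := Cfsg.Agent.Lib.helper8.h8_sylow_card 2 j 11 (by rw [hNcard, hdj]; ring) h2 S₀
    rw [this, hdj]
  set S' : Subgroup H := (S₀ : Subgroup N).map N.subtype with hS'
  have hS'card : Nat.card S' = d := by
    rw [hS', Subgroup.card_map_of_injective N.subtype_injective, hS₀card]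
  have hS'N : S' ≤ N := by
    rw [hS']
    exact Subgroup.map_subtype_le _
  have hsS' : s ∈ S' := by
    rw [hS']
    refine ⟨⟨s, hsN⟩, hS₀ (mem_zpowers _), rfl⟩
  -- S' is a Sylow 2-subgroup of H
  have hfac : (Nat.card H).factorization 2 = j := by
    apply Cfsg.Agent.Lib.helper8.h8_factorization_of_eq 2 j 495 _ Nat.prime_two
    · rw [hord, hdj]; ring
    · omega
  let S : Sylow 2 H := Sylow.ofCard S' (by rw [hS'card, hfac, hdj])
  have hSS' : (S : Subgroup H) = S' := rfl
  -- index of S' ⊓ C in S'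
  have hQi : (S' ⊓ C).relIndex (S : Subgroup H) = 2 := by
    rw [hSS', inf_relIndex_left]
    have hne0 : C.relIndex N ≠ 0 := by rw [hrel]; norm_num
    have hle : C.relIndex S' ≤ C.relIndex N := relIndex_le_of_le_right hS'N hne0
    have hne1 : C.relIndex S' ≠ 1 := by
      intro h
      exact hsC (relIndex_eq_one.mp h hsS')
    have hne0' : C.relIndex S' ≠ 0 := by
      intro h
      exact hne0 (relIndex_eq_zero_of_le_right hS'N h)
    omega
  rcases Cfsg.Agent.S0111.result S (S' ⊓ C) (by rw [hSS']; exact inf_le_left) hQi s hs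
      (by rw [hSS']; exact hsS') (fun h => hsC h.2) with ⟨M, _, hM2, _⟩ | ⟨g, hg⟩
  · exact absurd hM2 (hno M)
  · exact ⟨g, hg.2⟩

end Cfsg.Agent.Lib.Helper22.PG
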