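import Mathlib
import Cfsg.Agent.Lib.Helper22.PG.Defs
import Cfsg.Agent.Lib.helper8.SylowBasic
import Cfsg.Agent.Lib.helper2.PGCOREb
import Cfsg.Agent.Lib.Helper29.PGPAR
import Cfsg.Agent.Lib.Helper29.PGF1

set_option autoImplicit false

namespace Cfsg.Agent.Lib.Helper22.PG

open Subgroup

/-- PG-COREa : an involution in `N(P) \ C(P)` -/
theorem exists_involution_outside {H : Type*} [Group H] [Finite H] (d : ℕ) (hd : d ∣ 16)
    (hord : Nat.card H = 495 * d) (hn : Nat.card (Sylow 11 H) = 45)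
    (hcore : Cfsg.pPrimeCore 11 H = ⊥) (hno : NoIdx2 H) (P : Sylow 11 H)
    (hNC : ¬ normalizer ((P : Subgroup H) : Set H) ≤ centralizer ((P : Subgroup H) : Set H)) :
    ∃ s : H, orderOf s = 2 ∧ s ∈ normalizer ((P : Subgroup H) : Set H) ∧
      s ∉ centralizer ((P : Subgroup H) : Set H) := by
  classical
  set N := normalizer ((P : Subgroup H) : Set H) with hNdef
  set C := centralizer ((P : Subgroup H) : Set H) with hCdef
  have hrel : C.relIndex N = 2 := h2_relIndex_eq_two d hd hord hn P hNC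
  have hNcard : Nat.card N = 11 * d := h2_card_normalizer d hord hn P
  have hPcard := h2_card_sylow11 d hd hord P
  obtain ⟨j, hj, hdj⟩ : ∃ j ≤ 4, d = 2 ^ j := by
    have : d ∣ 2 ^ 4 := by simpa using hd
    exact (Nat.dvd_prime_pow Nat.prime_two).mp this
  have h121 : ¬ 121 ∣ Nat.card H := by
    rw [hord]
    intro h
    have h2 : (121 : ℕ) ∣ 495 * 16 := dvd_trans h (Nat.mul_dvd_mul_left 495 hd)
    omega
  -- squares of elements of N lie in C
  have hidx : (C.subgroupOf N).index = 2 := hrel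
  have hsq : ∀ x ∈ N, x ^ 2 ∈ C := by
    intro x hx
    have := Subgroup.sq_mem_of_index_two hidx (⟨x, hx⟩ : N)
    rw [mem_subgroupOf] at this
    simpa using this
  have hmul : ∀ x ∈ N, ∀ c ∈ C, c ∈ N → (c * x ∈ C ↔ x ∈ C) := by
    intro x hx c hc hcN
    constructor
    · intro h
      have := C.mul_mem (C.inv_mem hc) h
      simpa using this
    · intro h
      exact C.mul_mem hc h
  have hCN : C ≤ N := centralizer_le_normalizer _
  -- an element of N outside C
  obtain ⟨s₀, hs₀N, hs₀C⟩ : ∃ s₀, s₀ ∈ N ∧ s₀ ∉ C := by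
    by_contra hcon
    push Not at hcon
    exact hNC hcon
  set s := s₀ ^ 11 with hsdef
  have hsN : s ∈ N := N.pow_mem hs₀N 11
  have hsC : s ∉ C := by
    have h10 : s₀ ^ 10 ∈ C := by
      have : s₀ ^ 10 = (s₀ ^ 2) ^ 5 := by rw [← pow_mul]
      rw [this]
      exact C.pow_mem (hsq s₀ hs₀N) 5
    have : s = s₀ ^ 10 * s₀ := by rw [hsdef, pow_succ]
    rw [this]
    intro h
    exact hs₀C ((hmul s₀ hs₀N _ h10 (hCN h10)).mp h)
  -- the order of s is a power of two
  have hspow : s ^ (2 ^ j) = 1 := by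
    rw [hsdef, ← pow_mul]
    have h1 : (⟨s₀, hs₀N⟩ : N) ^ Nat.card N = 1 := pow_card_eq_one'
    have h2 : s₀ ^ Nat.card N = 1 := by
      have := congrArg Subtype.val h1
      rwa [Subgroup.coe_pow, Subgroup.coe_one] at this
    rw [hNcard, hdj] at h2
    exact h2
  obtain ⟨k, hk, hok⟩ : ∃ k ≤ j, orderOf s = 2 ^ k :=
    (Nat.dvd_prime_pow Nat.prime_two).mp (orderOf_dvd_of_pow_eq_one hspow)
  have hk1 : 1 ≤ k := by
    by_contra hcon
    have hk0 : k = 0 := by omega
    rw [hk0, pow_zero, orderOf_eq_one_iff] at hok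
    exact hsC (hok ▸ C.one_mem)
  by_cases hk2 : k = 1
  · exact ⟨s, by rw [hok, hk2, pow_one], hsN, hsC⟩
  exfalso
  have hk2' : 2 ≤ k := by omega
  -- w of order four, v = w * w an involution in C
  set w := s ^ (2 ^ (k - 2)) with hwdef
  have hw4 : orderOf w = 4 := by
    rw [hwdef, orderOf_pow_of_dvd (pow_ne_zero _ (by norm_num)), hok]
    · obtain ⟨k', rfl⟩ : ∃ k', k = k' + 2 := ⟨k - 2, by omega⟩
      rw [Nat.add_sub_cancel, pow_add, Nat.mul_div_cancel_left _ (pow_pos (by norm_num) _)]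
      norm_num
    · rw [hok]
      exact pow_dvd_pow 2 (by omega)
  have hwN : w ∈ N := N.pow_mem hsN _
  have hv2 : orderOf (w * w) = 2 := by
    rw [← pow_two, orderOf_pow_of_dvd (by norm_num) (by rw [hw4]; norm_num), hw4]
  have hvC : w * w ∈ C := by
    rw [← pow_two]
    exact hsq w hwN
  -- a generator of P
  have : Fact (Nat.Prime 11) := ⟨by norm_num⟩
  obtain ⟨y', hy'⟩ := exists_prime_orderOf_dvd_card' (G := (P : Subgroup H)) 11
    (by rw [hPcard])
  have hy : orderOf (y' : H) = 11 := by rw [Subgroup.orderOf_coe, hy']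
  have hcomm : (w * w) * (y' : H) = (y' : H) * (w * w) := by
    have := (mem_centralizer_iff.mp hvC) (y' : H) y'.2
    exact this.symm
  have hfx : fx (w * w) = 1 := fx_involution_eq_one h121 hno hn hcore (w * w) (y' : H) hv2 hy hcomm
  have hwP : w • P = P := Sylow.smul_eq_iff_mem_normalizer.mpr hwN
  exact no_order_four hno hn w hw4 P hwP hfx

end Cfsg.Agent.Lib.Helper22.PG
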