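import Mathlib
import Cfsg.Agent.Lib.Helper22.PG.Defs
import Cfsg.Agent.Lib.helper8.SylowBasic
import Cfsg.Agent.Lib.helper2.PGCOREb
import Cfsg.Agent.Lib.Helper29.PGBURN
import Cfsg.Agent.Lib.Helper22.PG.Cores

set_option autoImplicit false

namespace Cfsg.Agent.Lib.Helper22.PG

open Subgroup

/-- PG-TXn1 : normal Sylow 11-subgroup -/
theorem core_ne_bot_of_n11_eq_one {H : Type*} [Group H] [Finite H] (d : ℕ) (hd : d ∣ 16)
    (hord : Nat.card H = 495 * d) (hn : Nat.card (Sylow 11 H) = 1) :
    Cfsg.pPrimeCore 11 H ≠ ⊥ := by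
  classical
  obtain ⟨P⟩ : Nonempty (Sylow 11 H) := inferInstance
  have hPn : (P : Subgroup H).Normal := Cfsg.Agent.Lib.helper8.h8_normal_of_nsylow_eq_one 11 hn P
  have hPcard := h2_card_sylow11 d hd hord P
  have hd0 : 0 < d := Nat.pos_of_dvd_of_pos hd (by norm_num)
  have h121 : ¬ 121 ∣ Nat.card H := by
    rw [hord]
    intro h
    have h2 : (121 : ℕ) ∣ 495 * 16 := dvd_trans h (Nat.mul_dvd_mul_left 495 hd)
    omega
  set C := centralizer ((P : Subgroup H) : Set H) with hCdef
  have hCn : C.Normal := Subgroup.normal_centralizer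
  have hPC : (P : Subgroup H) ≤ C := h2_le_centralizer (P : Subgroup H) hPcard
  have hidx : C.index ∣ 10 := by
    have h := nc_relIndex_dvd (P : Subgroup H) hPcard
    rwa [Subgroup.normalizer_eq_top, relIndex_top_right] at h
  have hCcard : Nat.card C * C.index = 495 * d := by
    rw [← hord]
    exact C.card_mul_index
  -- the Sylow subgroup inside C
  set P' : Sylow 11 C := P.subtype hPC with hP'
  have hP'card : Nat.card (P' : Subgroup C) = 11 := by
    rw [hP', Sylow.coe_subtype, Nat.card_congr (Subgroup.subgroupOfEquivOfLe hPC).toEquiv, hPcard]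
  have hcent : normalizer ((P' : Subgroup C) : Set C) ≤ centralizer ((P' : Subgroup C) : Set C) := by
    intro c _
    rw [mem_centralizer_iff]
    intro x hx
    have hx' : (x : H) ∈ (P : Subgroup H) := by
      rw [hP', Sylow.coe_subtype] at hx
      exact mem_subgroupOf.mp hx
    have := (mem_centralizer_iff.mp c.2) (x : H) hx'
    exact Subtype.ext this
  obtain ⟨M, hMn, hMcard⟩ := exists_normal_complement P' hcent
  rw [hP'card] at hMcard
  have hM11 : ¬ 11 ∣ Nat.card M := by
    intro h
    apply h121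
    obtain ⟨c, hc⟩ := h
    have : Nat.card C = 121 * c := by rw [← hMcard, hc]; ring
    have hdvd : Nat.card C ∣ Nat.card H := Subgroup.card_subgroup_dvd_card C
    exact dvd_trans ⟨c, this⟩ hdvd
  have hMne : M ≠ ⊥ := by
    intro h
    rw [h, Subgroup.card_bot, one_mul] at hMcard
    rw [← hMcard] at hCcard
    obtain ⟨e, he⟩ := hidx
    have : C.index ≤ 10 := Nat.le_of_dvd (by norm_num) ⟨e, he⟩
    nlinarith
  have h1 : Cfsg.pPrimeCore 11 C ≠ ⊥ := core_ne_bot_of_mem M hM11 hMne
  exact core_ne_bot_of_normal C h1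

end Cfsg.Agent.Lib.Helper22.PG
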