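import Mathlib
import Cfsg.Agent.Lib.helper17.STM.Defs
import Cfsg.Agent.Lib.helper17.STM.Defs2
import Cfsg.Agent.Lib.helper2.STMF17core
import Cfsg.Agent.Lib.Helper16.STMF10
import Cfsg.Agent.Lib.Helper16.STMF10s
import Cfsg.Agent.Lib.helper23.STMF15

/-!
# Project STM (designer helper17), part 2, rows F17 (`lemB`) and F17s (`lemB_s`), verbatim.  helper2.
Wrappers of `helper2.STMF17core` on F10 `lemA_all` / F10s `lemA_all_s` and F15 `InD_w`.
-/

set_option autoImplicit false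

namespace Cfsg.Agent.Lib.helper17.STM

open Cfsg.Agent.Lib.helper15.St2 Cfsg.Agent.Lib.helper3.STC Cfsg.Agent.Lib.Lead.STD

universe v w

namespace SysM

variable {F : Type*} [Field F] {A B : F} [Fact (∀ r : F, r ^ 2 ≠ -B + A * r)] {ι : Type*} [DecidableEq ι] {G : Type*} [Group G] (S : SysM F A B ι G)

section F
variable (o : ι ⊕ ι)

/-- F17 [M]  a long root element on `cell o k` (model STD F17 `lemB`): `x a b t * w o k 1 = w o k 1 * x a' b' s` (`IsMon_move` for W12 `isMon_w`; if `a = b` the element is `1`), F10 for `x a' b' s * (y * p)`, then F15. -/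
theorem lemB [Finite F] {k : ι ⊕ ι} (hk : k ≠ o) (hk' : k ≠ ng o) (a b : ι ⊕ ι) (t : F) {y p : G} (hy : y ∈ S.Yg o) (hp : p ∈ S.Phat o) :
    S.InD o (S.x a b t * (S.w o k 1 * y * p)) :=
  S.stmf17_core o hk hk' a b t hy hp (fun a b t _ _ hy hp => S.lemA_all o a b t hy hp) (fun hg => S.InD_w o hk hk' hg)

/-- F17s [M]  a short root element on `cell o k`: `IsMon_move_s`, F10s, F15. -/
theorem lemB_s [Finite F] [Finite ι] {k : ι ⊕ ι} (hk : k ≠ o) (hk' : k ≠ ng o) (a : ι ⊕ ι) (t : Kq F A B) {y p : G} (hy : y ∈ S.Yg o) (hp : p ∈ S.Phat o) :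
    S.InD o (S.xs a t * (S.w o k 1 * y * p)) :=
  S.stmf17s_core o hk hk' a t hy hp (fun a t _ _ hy hp => S.lemA_all_s o a t hy hp) (fun hg => S.InD_w o hk hk' hg)

end F

end SysM

end Cfsg.Agent.Lib.helper17.STM
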