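import Mathlib
import Cfsg.Agent.Lib.helper17.STM.Defs
import Cfsg.Agent.Lib.helper17.STM.Defs2
import Cfsg.Agent.Lib.helper2.STMF18core
import Cfsg.Agent.Lib.Helper16.STMF10
import Cfsg.Agent.Lib.Helper16.STMF10s
import Cfsg.Agent.Lib.helper2.STMF17
import Cfsg.Agent.Lib.Helper5.STMF17N

/-!
# Project STM (designer helper17), part 2, row F18 (`InD_one InD_mul InD_mul_s`), verbatim.  helper2.
Wrapper of `helper2.STMF18core` on F10 / F10s / F17 / F17s / F17N.
-/

set_option autoImplicit false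

namespace Cfsg.Agent.Lib.helper17.STM

open Cfsg.Agent.Lib.helper15.St2 Cfsg.Agent.Lib.helper3.STC Cfsg.Agent.Lib.Lead.STD

universe v w

namespace SysM

variable {F : Type*} [Field F] {A B : F} [Fact (∀ r : F, r ^ 2 ≠ -B + A * r)] {ι : Type*} [DecidableEq ι] {G : Type*} [Group G] (S : SysM F A B ι G)

section F
variable (o : ι ⊕ ι)

omit [DecidableEq ι] in
/-- F18 [S]  model STD F18 (`Helper28.STDF18`). -/
theorem InD_one : S.InD o 1 :=
  S.stmf18_one o

theorem InD_mul [Finite F] (a b : ι ⊕ ι) (t : F) {g : G} (hg : S.InD o g) : S.InD o (S.x a b t * g) :=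
  S.stmf18_mul o (fun a b t _ _ hy hp => S.lemA_all o a b t hy hp)
    (fun hk hk' a b t _ _ hy hp => S.lemB o hk hk' a b t hy hp)
    (fun a b t _ _ hy hp => S.lemBN o a b t hy hp) a b t hg

theorem InD_mul_s [Finite F] [Finite ι] (a : ι ⊕ ι) (t : Kq F A B) {g : G} (hg : S.InD o g) : S.InD o (S.xs a t * g) :=
  S.stmf18_mul_s o (fun a t _ _ hy hp => S.lemA_all_s o a t hy hp)
    (fun hk hk' a t _ _ hy hp => S.lemB_s o hk hk' a t hy hp)
    (fun a t _ _ hy hp => S.lemBN_s o a t hy hp) a t hg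

end F

end SysM

end Cfsg.Agent.Lib.helper17.STM
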