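import Mathlib
import Cfsg.Prelude.Def_Characters
import Cfsg.Agent.Lib.helper2.PiPart
import Cfsg.Agent.S0164
import Cfsg.Agent.Lib.Helper25.Gagola

set_option autoImplicit false
open scoped ComplexConjugate

namespace Cfsg.Agent.Lib.helper2

open Cfsg.Agent.Lib.helper7 Cfsg.Agent.Lib.Helper11 Cfsg.Agent.Lib.Helper25 Cfsg.Agent.Lib.Helper24

theorem card_coprime_subgroup_dvd {G : Type*} [Group G] [Finite G] {m n : ℕ}
    (hmn : Nat.card G = m * n) (E : Subgroup G) (A : Subgroup E)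
    (hA : ∀ x : E, x ∈ A → Nat.Coprime (orderOf x) m) : Nat.card A ∣ n := by
  have h1 : Nat.Coprime (Nat.card A) m := by
    apply Nat.coprime_of_dvd
    intro r hr hrA hrm
    haveI : Fact r.Prime := ⟨hr⟩
    obtain ⟨a, ha⟩ := exists_prime_orderOf_dvd_card' r hrA
    have h2 : Nat.Coprime (orderOf (a : E)) m := hA (a : E) a.2
    rw [Subgroup.orderOf_coe, ha] at h2
    exact hr.one_lt.ne' (Nat.Coprime.eq_one_of_dvd h2 hrm)
  have h2 : Nat.card A ∣ m * n := by
    rw [← hmn]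
    exact (Subgroup.card_subgroup_dvd_card A).trans (Subgroup.card_subgroup_dvd_card E)
  exact h1.dvd_of_dvd_mul_left h2

section BS

variable {G : Type*} [Group G] (H : Subgroup G) {m n e e' : ℕ}

theorem bs_exists_pt [Finite G] (hmn : Nat.card G = m * n) (hn : Nat.card H = n) (hme : m ∣ e)
    (helem : ∀ (E : Subgroup G) (p : ℕ), p.Prime → Cfsg.IsElementary p E →
      Nat.card E ∣ Nat.card H → ∃ g : G, E.map (MulAut.conj g).toMonoidHom ≤ H) :
    ∃ pt : G → H, ∀ x : G, IsConj ((pt x : H) : G) (x ^ e) := by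
  have h : ∀ x : G, ∃ y : H, IsConj (y : G) (x ^ e) := by
    intro x
    have h1 : Nat.card (Subgroup.zpowers (x ^ e)) ∣ Nat.card H := by
      rw [Nat.card_zpowers, hn]
      exact orderOf_pow_crt_dvd hmn hme x
    obtain ⟨g, hg⟩ := helem _ 2 Nat.prime_two (isElementary_zpowers 2 Nat.prime_two (x ^ e)) h1
    have h2 : g * x ^ e * g⁻¹ ∈ H := by
      apply hg
      exact ⟨x ^ e, Subgroup.mem_zpowers _, rfl⟩
    exact ⟨⟨g * x ^ e * g⁻¹, h2⟩, (isConj_iff.mpr ⟨g, rfl⟩ : IsConj (x ^ e) (g * x ^ e * g⁻¹)).symm⟩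
  choose pt hpt using h
  exact ⟨pt, hpt⟩

variable (pt : G → H)

theorem bs_tilde_eq (hpt : ∀ x : G, IsConj ((pt x : H) : G) (x ^ e))
    (hfus : ∀ x ∈ H, ∀ y ∈ H, IsConj x y → ∃ h ∈ H, h * x * h⁻¹ = y)
    {φ : H → ℂ} (hφ : Cfsg.IsClassFunction H φ) (x : G) (y : H) (hy : IsConj (y : G) (x ^ e)) :
    φ (pt x) = φ y := by
  obtain ⟨h, hh, hxy⟩ := hfus _ (pt x).2 _ y.2 ((hpt x).trans hy.symm)
  have : y = ⟨h, hh⟩ * pt x * ⟨h, hh⟩⁻¹ := Subtype.ext (by simp [hxy])
  rw [this, hφ]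

theorem bs_tilde_classFunction (hpt : ∀ x : G, IsConj ((pt x : H) : G) (x ^ e))
    (hfus : ∀ x ∈ H, ∀ y ∈ H, IsConj x y → ∃ h ∈ H, h * x * h⁻¹ = y)
    {φ : H → ℂ} (hφ : Cfsg.IsClassFunction H φ) :
    Cfsg.IsClassFunction G (fun x => φ (pt x)) := by
  intro x h
  show φ (pt (h * x * h⁻¹)) = φ (pt x)
  apply bs_tilde_eq H pt hpt hfus hφ
  rw [conj_pow]
  exact (hpt x).trans (isConj_iff.mpr ⟨h, rfl⟩)

theorem bs_tilde_restrict (hmn : Nat.card G = m * n) (hn : Nat.card H = n) (hcop : m.Coprime n)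
    (hen : e ≡ 1 [MOD n])
    (hpt : ∀ x : G, IsConj ((pt x : H) : G) (x ^ e))
    (hfus : ∀ x ∈ H, ∀ y ∈ H, IsConj x y → ∃ h ∈ H, h * x * h⁻¹ = y)
    {φ : H → ℂ} (hφ : Cfsg.IsClassFunction H φ) (h : H) : φ (pt (h : G)) = φ h := by
  apply bs_tilde_eq H pt hpt hfus hφ
  have h1 : orderOf (h : G) ∣ n := by
    rw [Subgroup.orderOf_coe, ← hn]
    exact orderOf_dvd_natCard h
  have h2 : (h : G) ^ e = (h : G) :=
    pow_crt_of_coprime_left hmn hen (Nat.Coprime.coprime_dvd_left h1 hcop.symm)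
  rw [h2]

theorem bs_tilde_elementary [Finite G] (hmn : Nat.card G = m * n) (hn : Nat.card H = n) (hcop : m.Coprime n)
    (hme : m ∣ e) (hen : e ≡ 1 [MOD n]) (hne' : n ∣ e') (hem' : e' ≡ 1 [MOD m])
    (hee : e + e' ≡ 1 [MOD m * n])
    (hpt : ∀ x : G, IsConj ((pt x : H) : G) (x ^ e))
    (hfus : ∀ x ∈ H, ∀ y ∈ H, IsConj x y → ∃ h ∈ H, h * x * h⁻¹ = y)
    (helem : ∀ (E : Subgroup G) (p : ℕ), p.Prime → Cfsg.IsElementary p E →
      Nat.card E ∣ Nat.card H → ∃ g : G, E.map (MulAut.conj g).toMonoidHom ≤ H)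
    {φ : H → ℂ} (hφ : Cfsg.IsCharacter H φ) (E : Subgroup G) (q : ℕ) (hq : q.Prime)
    (hEl : Cfsg.IsElementary q E) :
    Cfsg.IsCharacter E (fun x : E => φ (pt (x : G))) := by
  haveI : Group.IsNilpotent E := isNilpotent_of_isElementary q hq hEl
  have hm0 : m ≠ 0 := by
    rintro rfl
    rw [zero_mul] at hmn
    exact Nat.card_pos.ne' hmn
  obtain ⟨A, hA⟩ := nilp_coprime_subgroup (E := E) m hm0
  have hAn : Nat.card A ∣ n := card_coprime_subgroup_dvd hmn E A (fun x hx => (hA x).mp hx)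
  have hAel : Cfsg.IsElementary q (A.map E.subtype) :=
    isElementary_of_mulEquiv q (A.equivMapOfInjective E.subtype E.subtype_injective)
      (isElementary_subgroup q hq hEl A)
  have hAcard : Nat.card (A.map E.subtype) ∣ Nat.card H := by
    rw [Subgroup.card_map_of_injective E.subtype_injective, hn]
    exact hAn
  obtain ⟨g, hg⟩ := helem _ q hq hAel hAcard
  have hmemA : ∀ x : E, x ^ e ∈ A := by
    intro x
    rw [hA, ← Subgroup.orderOf_coe]
    have := orderOf_pow_crt_dvd hmn hme (x : G)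
    simp only [Subgroup.coe_pow]
    exact Nat.Coprime.coprime_dvd_left this hcop.symm
  have hmemH : ∀ x : E, g * (x : G) ^ e * g⁻¹ ∈ H := by
    intro x
    apply hg
    exact ⟨(x : G) ^ e, ⟨x ^ e, hmemA x, rfl⟩, rfl⟩
  let f : E →* H :=
    { toFun := fun x => ⟨g * (x : G) ^ e * g⁻¹, hmemH x⟩
      map_one' := Subtype.ext (by simp)
      map_mul' := fun x y => Subtype.ext (by
        have := congrArg (fun z : E => (z : G))
          (nilp_pow_crt_mul hmn hcop hme hen hne' hem' hee E x y)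
        simp only [Subgroup.coe_mul, Subgroup.coe_pow] at this
        simp only [Subgroup.coe_mul, this]
        group) }
  have hfun : (fun x : E => φ (pt (x : G))) = fun x : E => φ (f x) := by
    funext x
    apply bs_tilde_eq H pt hpt hfus (isCharacter_isClassFunction hφ)
    exact (isConj_iff.mpr ⟨g, rfl⟩ : IsConj ((x : G) ^ e) (g * (x : G) ^ e * g⁻¹)).symm
  rw [hfun]
  exact isCharacter_comp_hom hφ f

theorem bs_tilde_genChar [Finite G] (hmn : Nat.card G = m * n) (hn : Nat.card H = n) (hcop : m.Coprime n)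
    (hme : m ∣ e) (hen : e ≡ 1 [MOD n]) (hne' : n ∣ e') (hem' : e' ≡ 1 [MOD m])
    (hee : e + e' ≡ 1 [MOD m * n])
    (hpt : ∀ x : G, IsConj ((pt x : H) : G) (x ^ e))
    (hfus : ∀ x ∈ H, ∀ y ∈ H, IsConj x y → ∃ h ∈ H, h * x * h⁻¹ = y)
    (helem : ∀ (E : Subgroup G) (p : ℕ), p.Prime → Cfsg.IsElementary p E →
      Nat.card E ∣ Nat.card H → ∃ g : G, E.map (MulAut.conj g).toMonoidHom ≤ H)
    {φ : H → ℂ} (hφ : Cfsg.IsCharacter H φ) :
    Cfsg.IsGeneralizedCharacter G (fun x => φ (pt x)) := by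
  apply Cfsg.Agent.S0164.result _
    (bs_tilde_classFunction H pt hpt hfus (isCharacter_isClassFunction hφ))
  intro E q hq hEl
  exact ⟨_, 0, bs_tilde_elementary H pt hmn hn hcop hme hen hne' hem' hee hpt hfus helem hφ E q hq
    hEl, isCharacter_zero _, (sub_zero _).symm⟩

end BS

theorem genChar_sum' {G : Type*} [Group G] {ι : Type*} (s : Finset ι) (f : ι → G → ℂ)
    (hf : ∀ i ∈ s, Cfsg.IsGeneralizedCharacter G (f i)) :
    Cfsg.IsGeneralizedCharacter G (∑ i ∈ s, f i) := by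
  classical
  induction s using Finset.induction_on with
  | empty => rw [Finset.sum_empty]; exact Cfsg.Agent.S0164.genChar_zero G
  | insert a s ha ih =>
    rw [Finset.sum_insert ha]
    exact Cfsg.Agent.S0164.genChar_add (hf a (Finset.mem_insert_self a s))
      (ih fun i hi => hf i (Finset.mem_insert_of_mem hi))

theorem genChar_integral {G : Type*} [Group G] [Finite G] {θ : G → ℂ}
    (hθ : Cfsg.IsGeneralizedCharacter G θ) (g : G) : IsIntegral ℤ (θ g) := by
  obtain ⟨a, b, ⟨n, ρ, rfl⟩, ⟨m, σ, rfl⟩, rfl⟩ := hθ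
  exact (char_integral ρ g).sub (char_integral σ g)

section BS2

variable {G : Type*} [Group G] [Fintype G] (H : Subgroup G) [Fintype H] {m n e e' : ℕ}
  (pt : G → H)

theorem bs_inner_one (hmn : Nat.card G = m * n) (hn : Nat.card H = n) (hcop : m.Coprime n)
    (hme : m ∣ e) (hen : e ≡ 1 [MOD n]) (hne' : n ∣ e') (hem' : e' ≡ 1 [MOD m])
    (hee : e + e' ≡ 1 [MOD m * n])
    (hpt : ∀ x : G, IsConj ((pt x : H) : G) (x ^ e))
    (hfus : ∀ x ∈ H, ∀ y ∈ H, IsConj x y → ∃ h ∈ H, h * x * h⁻¹ = y)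
    (helem : ∀ (E : Subgroup G) (p : ℕ), p.Prime → Cfsg.IsElementary p E →
      Nat.card E ∣ Nat.card H → ∃ g : G, E.map (MulAut.conj g).toMonoidHom ≤ H)
    {φ : H → ℂ} (hφ : Cfsg.IsClassFunction H φ) :
    Cfsg.classInner (fun x => φ (pt x)) (trivIrr G : G → ℂ) =
      Cfsg.classInner φ (trivIrr H : H → ℂ) := by
  classical
  haveI : Fintype (Cfsg.IrrCharacter H) := Fintype.ofFinite _
  have hc : ∀ ξ : Cfsg.IrrCharacter H, ∃ z : ℤ,
      Cfsg.classInner (fun x => (ξ : H → ℂ) (pt x)) (trivIrr G : G → ℂ) = (z : ℂ) := fun ξ =>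
    genChar_inner_int _ (bs_tilde_genChar H pt hmn hn hcop hme hen hne' hem' hee hpt hfus helem
      (isCharacter_of_irr ξ)) (trivIrr G)
  choose c hc using hc
  have hL : ∀ ψ : H → ℂ, Cfsg.IsClassFunction H ψ →
      Cfsg.classInner (fun x => ψ (pt x)) (trivIrr G : G → ℂ) =
        ∑ ξ : Cfsg.IrrCharacter H, Cfsg.classInner ψ (ξ : H → ℂ) * (c ξ : ℂ) := by
    intro ψ hψ
    have hexp := classFunction_expansion ψ hψ
    have h1 : (fun x => ψ (pt x)) = ∑ ξ : Cfsg.IrrCharacter H,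
        Cfsg.classInner ψ (ξ : H → ℂ) • (fun x => (ξ : H → ℂ) (pt x)) := by
      funext x
      conv_lhs => rw [hexp]
      simp only [Finset.sum_apply, Pi.smul_apply]
    rw [h1, classInner_sum_left]
    refine Finset.sum_congr rfl fun ξ _ => ?_
    rw [classInner_smul_left, hc]
  obtain ⟨τ, hτdef⟩ : ∃ τ : H → ℂ,
      τ = ∑ ξ : Cfsg.IrrCharacter H, (c ξ : ℤ) • (ξ : H → ℂ) := ⟨_, rfl⟩
  have hτgen : Cfsg.IsGeneralizedCharacter H τ := by
    rw [hτdef]
    apply genChar_sum'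
    intro ξ _
    apply Cfsg.Agent.S0164.genChar_zsmul
    exact ⟨_, 0, isCharacter_of_irr ξ, isCharacter_zero _, (sub_zero _).symm⟩
  have hτ : ∀ ψ : H → ℂ, Cfsg.classInner ψ τ =
      ∑ ξ : Cfsg.IrrCharacter H, Cfsg.classInner ψ (ξ : H → ℂ) * (c ξ : ℂ) := by
    intro ψ
    rw [hτdef, classInner_sum_right'']
    refine Finset.sum_congr rfl fun ξ _ => ?_
    unfold Cfsg.classInner
    simp only [Pi.smul_apply, zsmul_eq_mul, map_mul, map_intCast]
    rw [mul_assoc, Finset.sum_mul]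
    congr 1
    refine Finset.sum_congr rfl fun h _ => ?_
    ring
  have hτcl := genChar_classFunction τ hτgen
  have hτconj : ∀ h h₀ : H, IsConj h h₀ → τ h = τ h₀ := by
    intro h h₀ hc
    obtain ⟨y, hy⟩ := isConj_iff.mp hc
    rw [← hy, hτcl]
  have hGne : (Nat.card G : ℂ) ≠ 0 := by exact_mod_cast Nat.card_pos.ne'
  have hHne : (Nat.card H : ℂ) ≠ 0 := by exact_mod_cast Nat.card_pos.ne'
  have hτval : ∀ h₀ : H, ∃ k : ℕ, 1 ≤ k ∧ τ h₀ = (k : ℂ) := by
    intro h₀
    obtain ⟨δ, hδ⟩ : ∃ δ : H → ℂ, δ = fun h => if IsConj h h₀ then 1 else 0 := ⟨_, rfl⟩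
    have hδcl : Cfsg.IsClassFunction H δ := by
      intro h y
      rw [hδ]
      have : IsConj (y * h * y⁻¹) h₀ ↔ IsConj h h₀ := by
        have h1 : IsConj h (y * h * y⁻¹) := isConj_iff.mpr ⟨y, rfl⟩
        exact ⟨fun h2 => h1.trans h2, fun h2 => h1.symm.trans h2⟩
      simp only [this]
    have h1 := hL δ hδcl
    rw [← hτ δ] at h1
    have hN : Cfsg.classInner (fun x => δ (pt x)) (trivIrr G : G → ℂ) = (Nat.card G : ℂ)⁻¹ *
        ((Finset.univ.filter (fun x : G => IsConj (pt x) h₀)).card : ℂ) := by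
      unfold Cfsg.classInner
      congr 1
      rw [hδ]
      simp only [trivIrr_apply, map_one, mul_one]
      rw [Finset.sum_boole]
    have hM : Cfsg.classInner δ τ = (Nat.card H : ℂ)⁻¹ *
        (((Finset.univ.filter (fun h : H => IsConj h h₀)).card : ℂ) * conj (τ h₀)) := by
      unfold Cfsg.classInner
      congr 1
      have h2 : ∀ h : H, δ h * conj (τ h) = (if IsConj h h₀ then 1 else 0) * conj (τ h₀) := by
        intro h
        rw [hδ]
        by_cases hc : IsConj h h₀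
        · simp only [hc, if_true, hτconj h h₀ hc]
        · simp only [hc, if_false, zero_mul]
      simp only [h2]
      rw [← Finset.sum_mul, Finset.sum_boole]
    rw [hN, hM] at h1
    set N := (Finset.univ.filter (fun x : G => IsConj (pt x) h₀)).card with hNdef
    set M := (Finset.univ.filter (fun h : H => IsConj h h₀)).card with hMdef
    have hNpos : 1 ≤ N := by
      rw [hNdef]
      apply Finset.card_pos.mpr
      refine ⟨(h₀ : G), Finset.mem_filter.mpr ⟨Finset.mem_univ _, ?_⟩⟩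
      have h3 := bs_tilde_restrict H pt hmn hn hcop hen hpt hfus hδcl h₀
      rw [hδ] at h3
      simp only [IsConj.refl, if_true] at h3
      by_contra hcon
      rw [if_neg hcon] at h3
      exact zero_ne_one h3
    have hMpos : 1 ≤ M := by
      rw [hMdef]
      apply Finset.card_pos.mpr
      exact ⟨h₀, Finset.mem_filter.mpr ⟨Finset.mem_univ _, IsConj.refl _⟩⟩
    have hMne : (M : ℂ) ≠ 0 := by exact_mod_cast (Nat.one_le_iff_ne_zero.mp hMpos)
    have h4 : conj (τ h₀) = ((Nat.card H * N : ℕ) : ℂ) / ((Nat.card G * M : ℕ) : ℂ) := by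
      push_cast
      field_simp
      field_simp at h1
      linear_combination -h1
    have h5 : τ h₀ = ((Nat.card H * N : ℕ) : ℂ) / ((Nat.card G * M : ℕ) : ℂ) := by
      have := congrArg (starRingEnd ℂ) h4
      rw [Complex.conj_conj] at this
      rw [this]
      simp only [map_div₀, map_natCast]
    have h6 : Nat.card G * M ∣ Nat.card H * N := by
      apply nat_dvd_of_isIntegral_div
      · exact Nat.mul_ne_zero Nat.card_pos.ne' (Nat.one_le_iff_ne_zero.mp hMpos)
      · rw [← h5]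
        exact genChar_integral hτgen h₀
    obtain ⟨k, hk⟩ := h6
    refine ⟨k, ?_, ?_⟩
    · rcases Nat.eq_zero_or_pos k with h0 | h0
      · exfalso
        rw [h0, mul_zero] at hk
        have : 0 < Nat.card H * N := Nat.mul_pos Nat.card_pos hNpos
        omega
      · exact h0
    · rw [h5, hk]
      push_cast
      field_simp
  choose k hk1 hk using hτval
  have hsum : ∑ h : H, k h = ∑ h : H, 1 := by
    have h1 := hL (trivIrr H : H → ℂ) (isCharacter_isClassFunction (isCharacter_of_irr _))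
    rw [← hτ] at h1
    have h2 : (fun x => (trivIrr H : H → ℂ) (pt x)) = (trivIrr G : G → ℂ) := rfl
    rw [h2, irr_classInner, if_pos rfl] at h1
    unfold Cfsg.classInner at h1
    simp only [trivIrr_apply, one_mul, hk, map_natCast] at h1
    have h3 : ((∑ h : H, k h : ℕ) : ℂ) = (Nat.card H : ℂ) := by
      push_cast
      field_simp at h1
      exact h1.symm
    have h4 : ∑ h : H, k h = Nat.card H := by exact_mod_cast h3
    rw [h4, Finset.sum_const, Finset.card_univ, Nat.card_eq_fintype_card]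
    simp
  have hk' : ∀ h : H, k h = 1 := by
    intro h
    have := (Finset.sum_eq_sum_iff_of_le (s := Finset.univ) (f := fun _ : H => 1) (g := k)
      (fun h _ => hk1 h)).mp hsum.symm h (Finset.mem_univ _)
    exact this.symm
  have hτ1 : τ = (trivIrr H : H → ℂ) := by
    funext h
    rw [hk, hk']
    simp
  rw [hL φ hφ, ← hτ, hτ1]

end BS2

section BS3

variable {G : Type*} [Group G] [Fintype G] (H : Subgroup G) [Fintype H] {m n e e' : ℕ}
  (pt : G → H)

theorem bs_tilde_irr (hmn : Nat.card G = m * n) (hn : Nat.card H = n) (hcop : m.Coprime n)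
    (hme : m ∣ e) (hen : e ≡ 1 [MOD n]) (hne' : n ∣ e') (hem' : e' ≡ 1 [MOD m])
    (hee : e + e' ≡ 1 [MOD m * n])
    (hpt : ∀ x : G, IsConj ((pt x : H) : G) (x ^ e))
    (hfus : ∀ x ∈ H, ∀ y ∈ H, IsConj x y → ∃ h ∈ H, h * x * h⁻¹ = y)
    (helem : ∀ (E : Subgroup G) (p : ℕ), p.Prime → Cfsg.IsElementary p E →
      Nat.card E ∣ Nat.card H → ∃ g : G, E.map (MulAut.conj g).toMonoidHom ≤ H)
    (ξ : Cfsg.IrrCharacter H) :
    Cfsg.IsIrrCharacter G (fun x => (ξ : H → ℂ) (pt x)) := by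
  have hgen := bs_tilde_genChar H pt hmn hn hcop hme hen hne' hem' hee hpt hfus helem
    (isCharacter_of_irr ξ)
  have hξcl := isCharacter_isClassFunction (isCharacter_of_irr ξ)
  have hcl2 : Cfsg.IsClassFunction H (fun h => (ξ : H → ℂ) h * conj ((ξ : H → ℂ) h)) := by
    intro h y
    simp only [hξcl h y]
  have hnorm : Cfsg.classInner (fun x => (ξ : H → ℂ) (pt x)) (fun x => (ξ : H → ℂ) (pt x)) = 1 := by
    have h1 : Cfsg.classInner (fun x => (ξ : H → ℂ) (pt x)) (fun x => (ξ : H → ℂ) (pt x)) =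
        Cfsg.classInner (fun x => (fun h => (ξ : H → ℂ) h * conj ((ξ : H → ℂ) h)) (pt x))
          (trivIrr G : G → ℂ) := by
      unfold Cfsg.classInner
      simp only [trivIrr_apply, map_one, mul_one]
    rw [h1, bs_inner_one H pt hmn hn hcop hme hen hne' hem' hee hpt hfus helem hcl2]
    have h2 : Cfsg.classInner (fun h => (ξ : H → ℂ) h * conj ((ξ : H → ℂ) h))
        (trivIrr H : H → ℂ) = Cfsg.classInner (ξ : H → ℂ) (ξ : H → ℂ) := by
      unfold Cfsg.classInner
      simp only [trivIrr_apply, map_one, mul_one]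
    rw [h2, irr_classInner, if_pos rfl]
  obtain ⟨ε, η, hε, hη⟩ := genChar_norm_one _ hgen hnorm
  have h1 : (ξ : H → ℂ) (pt (1 : G)) = (ξ : H → ℂ) 1 := by
    have := bs_tilde_restrict H pt hmn hn hcop hen hpt hfus hξcl (1 : H)
    simpa using this
  obtain ⟨a, ha, ha1⟩ := irr_one_eq_finrank ξ
  obtain ⟨b, hb, hb1⟩ := irr_one_eq_finrank η
  have h2 := congrFun hη 1
  simp only [Pi.smul_apply, smul_eq_mul] at h2
  rw [h1, ha1, hb1] at h2
  rcases hε with rfl | rfl
  · have : (fun x => (ξ : H → ℂ) (pt x)) = (η : G → ℂ) := by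
      rw [hη]
      simp
    rw [this]
    exact η.2
  · exfalso
    have h3 : ((a + b : ℕ) : ℂ) = 0 := by
      push_cast
      rw [h2]
      push_cast
      ring
    have h4 : a + b = 0 := by exact_mod_cast h3
    omega

end BS3

end Cfsg.Agent.Lib.helper2
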