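import Mathlib
import Cfsg.Prelude.Def_Characters
import Cfsg.Agent.Lib.helper2.BSWDefs

set_option autoImplicit false

namespace Cfsg.Agent.Lib.helper2

/-- output of the character theory, case `δ = 1`, `q = 2e+1` -/
structure BswCharPlus {G : Type*} [Group G] [Fintype G] (K : Subgroup G) (X : G → ℂ) : Prop where
  irr : Cfsg.IsIrrCharacter G X
  deg : X 1 = (2 * Nat.card K + 1 : ℕ)
  card : Nat.card G = 2 * Nat.card K * (Nat.card K + 1) * (2 * Nat.card K + 1)
  onK : ∀ x ∈ K, x ≠ 1 → X x = 1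
  beta : ∀ x : G, bswOut K x →
    (bswBeta x : ℂ) = (2 * Nat.card K + 1 : ℕ) + (Nat.card K : ℂ) * X x

/-- output of the character theory, case `δ = -1`, `q = 2e-1` -/
structure BswCharMinus {G : Type*} [Group G] [Fintype G] (K : Subgroup G) (X : G → ℂ) : Prop where
  irr : Cfsg.IsIrrCharacter G X
  deg : X 1 = (2 * Nat.card K - 1 : ℕ)
  card : Nat.card G = 2 * Nat.card K * (Nat.card K - 1) * (2 * Nat.card K - 1)
  onK : ∀ x ∈ K, x ≠ 1 → X x = -1
  beta : ∀ x : G, bswOut K x → (bswBeta x : ℂ) = ((Nat.card K - 1 : ℕ) : ℂ) * X x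

end Cfsg.Agent.Lib.helper2
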