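import Mathlib
import Cfsg.Prelude.Def_GeometricClasses
import Cfsg.Agent.Lib.Helper27.ASC.Defs
import Cfsg.Agent.Lib.helper7.LXSYC1

/-!
# Project LX (leader: helper7), piece SYC : `symplType_comm_scalar`

In a symplectic-type group of class-6 data (dimension at least 3) all commutators are scalar, and the
scalar elements are exactly the central ones.
-/

set_option autoImplicit false
set_option linter.unusedVariables false
set_option linter.unusedSectionVars false

namespace Cfsg.Agent.Lib.helper7.LX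

open Cfsg Cfsg.Geo Cfsg.Agent.Lib.Helper27.ASC
open scoped MatrixGroups Matrix

variable {n : ℕ} {F : Type*} [Field F] [Fintype F]

omit [Fintype F] in
/-- scalar matrices commute with everything -/
theorem lxsyc_scalar_comm (x y : GL (Fin n) F) (hx : x ∈ scalars (Fin n) F) : x * y = y * x := by
  rw [mem_scalars_iff] at hx
  obtain ⟨c, hc⟩ := hx
  apply Units.ext
  rw [Units.val_mul, Units.val_mul, hc, Matrix.smul_mul, Matrix.one_mul, Matrix.mul_smul, Matrix.mul_one]

omit [Fintype F] in
/-- an element commuting with an absolutely irreducible group is scalar -/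
theorem lxsyc_scalar_of_comm (hn : 0 < n) (R : Subgroup (GL (Fin n) F))
    (hA : ActsAbsolutelyIrreducibly (matrixSet R)) (x : GL (Fin n) F)
    (hx : ∀ y ∈ R, x * y = y * x) : x ∈ scalars (Fin n) F := by
  obtain ⟨c, hc⟩ := hA.2 (x : Matrix (Fin n) (Fin n) F) (by
    rintro s ⟨y, hy, rfl⟩
    have := congrArg (fun g : GL (Fin n) F => (g : Matrix (Fin n) (Fin n) F)) (hx y hy)
    simpa using this)
  have hc0 : c ≠ 0 := by
    intro h0
    rw [h0, zero_smul] at hc
    have h1 : (x : Matrix (Fin n) (Fin n) F) * ((x⁻¹ : GL (Fin n) F) : Matrix (Fin n) (Fin n) F) = 1 := by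
      rw [← Units.val_mul, mul_inv_cancel, Units.val_one]
    rw [hc, zero_mul] at h1
    have h2 := congrFun (congrFun h1 ⟨0, hn⟩) ⟨0, hn⟩
    simp at h2
  rw [mem_scalars_iff]
  exact ⟨Units.mk0 c hc0, hc⟩

/-- SYC : in a symplectic-type group of class-6 data (dimension at least 3) all commutators are scalar, and the
scalar elements are exactly the central ones. -/
theorem symplType_comm_scalar (hn : 3 ≤ n) {r : ℕ} (R : Subgroup (GL (Fin n) F))
    (hR : IsLinearSymplecticTypeData r R) :
    (∀ x ∈ R, ∀ y ∈ R, x * y * x⁻¹ * y⁻¹ ∈ scalars (Fin n) F) ∧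
    (∀ x ∈ R, x ∈ scalars (Fin n) F ↔ ∀ y ∈ R, x * y = y * x) := by
  have hn0 : 0 < n := by omega
  have h2 : ∀ x ∈ R, x ∈ scalars (Fin n) F ↔ ∀ y ∈ R, x * y = y * x := by
    intro x hx
    constructor
    · intro hs y _
      exact lxsyc_scalar_comm x y hs
    · intro hc
      exact lxsyc_scalar_of_comm hn0 R hR.absIrred x hc
  refine ⟨?_, h2⟩
  -- the centre of `R` has order equal to the exponent
  have hZ : Nat.card (Subgroup.center R) = Monoid.exponent R := by
    rw [hR.symplecticType.exponent_eq]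
    obtain ⟨p, e, _, _, hcase⟩ := hR.field
    rcases hcase with ⟨hodd, _, hz, _⟩ | ⟨h2r, _, hz, _⟩ | ⟨_, _, hcard, _⟩
    · have hg : Nat.gcd 2 r = 1 := by
        rw [Nat.gcd_comm]
        exact Nat.Coprime.gcd_eq_one (Nat.Coprime.symm (Nat.coprime_two_left.mpr hodd))
      rw [hz, hg, mul_one]
    · rw [hz, h2r]; rfl
    · rw [Fintype.card_fin] at hcard
      omega
  have : Finite R := inferInstance
  have hcl := symplType_class_two hR.symplecticType.prime hR.symplecticType.pGroup
    hR.symplecticType.cyclic_of_characteristic hZ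
  intro x hx y hy
  have hmem : x * y * x⁻¹ * y⁻¹ ∈ R :=
    R.mul_mem (R.mul_mem (R.mul_mem hx hy) (R.inv_mem hx)) (R.inv_mem hy)
  rw [h2 _ hmem]
  intro z hz
  have h3 := hcl ⟨x, hx⟩ ⟨y, hy⟩
  rw [Subgroup.mem_center_iff] at h3
  have h4 := h3 ⟨z, hz⟩
  have h5 := congrArg (fun g : R => (g : GL (Fin n) F)) h4
  simpa using h5.symm

end Cfsg.Agent.Lib.helper7.LX
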