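import Mathlib
import Cfsg.Agent.Lib.Helper25.BGL.PCDefs
import Cfsg.Agent.Lib.Helper10.BGL.Bridge
import Cfsg.Agent.Lib.helper8.ChevK

/-!
# Project BGL, row SE01 (`se_sl2_odd`): in characteristic 2 an element of `SL₂` of nonzero trace has odd order.  helper2.
-/

set_option autoImplicit false

namespace Cfsg.Agent.Lib.Helper10.BGL

open Cfsg.Lie Cfsg.Lie.ChevalleyDatum Cfsg.Agent.Lib.helper8

universe u

variable {K : Type u} [Field K]

/-- Cayley–Hamilton for a `2 × 2` matrix of determinant one in characteristic 2. -/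
theorem bglse01_ch [CharP K 2] (A : Matrix (Fin 2) (Fin 2) K) (hdet : A.det = 1) :
    A * A = (A 0 0 + A 1 1) • A + 1 := by
  have h2 : (2 : K) = 0 := CharTwo.two_eq_zero
  rw [Matrix.det_fin_two] at hdet
  ext i j
  fin_cases i <;> fin_cases j
  · simp only [Fin.zero_eta, Fin.isValue, Matrix.mul_apply, Fin.sum_univ_two, Matrix.add_apply,
      Matrix.smul_apply, smul_eq_mul, Matrix.one_apply_eq]
    linear_combination (-1) * hdet - h2
  · simp only [Fin.zero_eta, Fin.mk_one, Fin.isValue, Matrix.mul_apply, Fin.sum_univ_two, Matrix.add_apply,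
      Matrix.smul_apply, smul_eq_mul, ne_eq, zero_ne_one, not_false_eq_true, Matrix.one_apply_ne]
    ring
  · simp only [Fin.zero_eta, Fin.mk_one, Fin.isValue, Matrix.mul_apply, Fin.sum_univ_two, Matrix.add_apply,
      Matrix.smul_apply, smul_eq_mul, ne_eq, one_ne_zero, not_false_eq_true, Matrix.one_apply_ne]
    ring
  · simp only [Fin.mk_one, Fin.isValue, Matrix.mul_apply, Fin.sum_univ_two, Matrix.add_apply,
      Matrix.smul_apply, smul_eq_mul, Matrix.one_apply_eq]
    linear_combination (-1) * hdet - h2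

/-- every power of such a matrix is a linear combination of the matrix and `1` -/
theorem bglse01_pow [CharP K 2] (A : Matrix (Fin 2) (Fin 2) K) (hdet : A.det = 1) (k : ℕ) :
    ∃ α β : K, A ^ k = α • A + β • (1 : Matrix (Fin 2) (Fin 2) K) := by
  induction k with
  | zero => exact ⟨0, 1, by rw [pow_zero, zero_smul, zero_add, one_smul]⟩
  | succ k ih =>
    obtain ⟨α, β, h⟩ := ih
    refine ⟨α * (A 0 0 + A 1 1) + β, α, ?_⟩
    rw [pow_succ, h, Matrix.add_mul, Matrix.smul_mul, Matrix.smul_mul, Matrix.one_mul,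
      bglse01_ch A hdet, smul_add, smul_smul, add_smul]
    abel

/-- SE01 -/
theorem se_sl2_odd [Finite K] [CharP K 2] (M : Matrix.SpecialLinearGroup (Fin 2) K)
    (hM : Matrix.trace (M : Matrix (Fin 2) (Fin 2) K) ≠ 0) : Odd (orderOf M) := by
  have h2 : (2 : K) = 0 := CharTwo.two_eq_zero
  by_contra hodd
  rw [Nat.not_odd_iff_even] at hodd
  obtain ⟨m, hm⟩ := hodd
  have hpos : 0 < orderOf M := orderOf_pos M
  have hm0 : m ≠ 0 := by omega
  have hmlt : m < orderOf M := by omega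
  have hJ1 : M ^ m ≠ 1 := pow_ne_one_of_lt_orderOf hm0 hmlt
  have hJJ : M ^ m * M ^ m = 1 := by rw [← pow_add, ← hm, pow_orderOf_eq_one]
  obtain ⟨α, β, hαβ⟩ := bglse01_pow (M : Matrix (Fin 2) (Fin 2) K) M.det_coe m
  have hJJ' : (α • (M : Matrix (Fin 2) (Fin 2) K) + β • (1 : Matrix (Fin 2) (Fin 2) K)) *
      (α • (M : Matrix (Fin 2) (Fin 2) K) + β • (1 : Matrix (Fin 2) (Fin 2) K)) = 1 := by
    rw [← hαβ, ← Matrix.SpecialLinearGroup.coe_pow, ← Matrix.SpecialLinearGroup.coe_mul, hJJ,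
      Matrix.SpecialLinearGroup.coe_one]
  have h00 := congrFun (congrFun hJJ' 0) 0
  have h11 := congrFun (congrFun hJJ' 1) 1
  simp only [Fin.isValue, Matrix.mul_apply, Fin.sum_univ_two, Matrix.add_apply,
    Matrix.smul_apply, smul_eq_mul, Matrix.one_apply_eq, ne_eq, zero_ne_one, one_ne_zero,
    not_false_eq_true, Matrix.one_apply_ne, mul_zero, add_zero, mul_one] at h00 h11
  rw [Matrix.trace_fin_two] at hM
  have hsq : (α * ((M : Matrix (Fin 2) (Fin 2) K) 0 0 + (M : Matrix (Fin 2) (Fin 2) K) 1 1)) ^ 2 = 0 := by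
    linear_combination h00 - h11 +
      (α ^ 2 * (M : Matrix (Fin 2) (Fin 2) K) 0 0 * (M : Matrix (Fin 2) (Fin 2) K) 1 1 +
        α ^ 2 * (M : Matrix (Fin 2) (Fin 2) K) 1 1 ^ 2 - α * (M : Matrix (Fin 2) (Fin 2) K) 0 0 * β +
        α * (M : Matrix (Fin 2) (Fin 2) K) 1 1 * β) * h2
  have hα : α = 0 := by
    rcases mul_eq_zero.mp ((pow_eq_zero_iff (two_ne_zero)).mp hsq) with h | h
    · exact h
    · exact absurd h hM
  subst hα
  simp only [zero_mul, zero_add] at h00
  have hβ : β = 1 := by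
    have : (β - 1) ^ 2 = 0 := by linear_combination h00 + (1 - β) * h2
    have := pow_eq_zero_iff (two_ne_zero) |>.mp this
    linear_combination this
  apply hJ1
  apply Subtype.ext
  rw [Matrix.SpecialLinearGroup.coe_pow, hαβ, hβ, zero_smul, zero_add, one_smul,
    Matrix.SpecialLinearGroup.coe_one]

end Cfsg.Agent.Lib.Helper10.BGL
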