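import Mathlib
import Cfsg.Agent.Lib.Helper25.BGL.PCDefs
import Cfsg.Agent.Lib.Helper10.BGL.Bridge
import Cfsg.Agent.Lib.helper8.ChevK

/-!
# Project BGL, row SE02 (`se_long_tab`): a long root `r ≠ ± ρ` has at most one commutator term with `ρ`.  helper2.
-/

set_option autoImplicit false

namespace Cfsg.Agent.Lib.Helper10.BGL

open Cfsg.Lie Cfsg.Lie.ChevalleyDatum Cfsg.Agent.Lib.helper8

universe u

/-- SE02 -/
theorem se_long_tab (D : ChevalleyDatum) (hD : Seven D) :
    ∀ r < D.nroots, isLong D r → r ≠ D.nroots - 1 → r ≠ 0 → (D.commTerms (D.nroots - 1) r).length ≤ 1 := by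
  simp only [List.mem_cons, List.not_mem_nil, or_false] at hD
  rcases hD with rfl | rfl | rfl | rfl | rfl | rfl | rfl <;> decide +kernel

end Cfsg.Agent.Lib.Helper10.BGL
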