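import Mathlib
import Cfsg.Prelude.Def_Characters
import Cfsg.Agent.Lib.helper2.BSWDefs
import Cfsg.Agent.Lib.helper7.Induction
import Cfsg.Agent.Lib.Helper25.CharOrth

set_option autoImplicit false
open scoped ComplexConjugate

namespace Cfsg.Agent.Lib.helper2

open Cfsg.Agent.Lib.helper7 Cfsg.Agent.Lib.Helper25

/-- the local facts (piece T1 of the plan) used by the character theory, bundled so that the
character theory does not depend on their proofs -/
structure BswLoc {G : Type*} [Group G] (t : G) (K : Subgroup G) (s : G) : Prop where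
  mem_H : ∀ {x : G}, x ∈ Subgroup.centralizer ({t} : Set G) → x ∈ K ∨ ∃ k ∈ K, x = k * s
  mul_s_sq : ∀ {k : G}, k ∈ K → (k * s) * (k * s) = 1
  invol_K : ∀ {k : G}, k ∈ K → orderOf k = 2 → k = t
  card_H : Nat.card (Subgroup.centralizer ({t} : Set G)) = 2 * Nat.card K
  even_K : Even (Nat.card K)
  card_invol : Nat.card {a : G // orderOf a = 2} * (2 * Nat.card K) = Nat.card G
  beta_K : ∀ {x : G}, x ∈ K → x ≠ 1 → bswBeta x = Nat.card K

section ind

variable {G : Type*} [Group G] {t s : G} {K : Subgroup G}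

theorem bsw_conj_not_mem (h : BswHyp t K s) {g x : G}
    (hg : g ∉ Subgroup.centralizer ({t} : Set G)) (hx : x ∈ K) (hx1 : x ≠ 1) :
    g⁻¹ * x * g ∉ K := by
  intro hy
  have h1 : x ∈ K ⊓ K.map (MulAut.conj g).toMonoidHom := by
    refine Subgroup.mem_inf.2 ⟨hx, ?_⟩
    rw [Subgroup.mem_map]
    refine ⟨g⁻¹ * x * g, hy, ?_⟩
    simp [MulAut.conj_apply, mul_assoc]
  rw [h.hTI g hg, Subgroup.mem_bot] at h1
  exact hx1 h1

theorem bsw_s_sq (h : BswHyp t K s) : s * s = 1 := by
  have := pow_orderOf_eq_one s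
  rw [h.hs, pow_two] at this
  exact this

theorem bsw_s_inv (h : BswHyp t K s) : s⁻¹ = s :=
  inv_eq_of_mul_eq_one_right (bsw_s_sq h)

theorem bsw_K_comm (h : BswHyp t K s) {x y : G} (hx : x ∈ K) (hy : y ∈ K) : x * y = y * x := by
  have h1 := h.hKab.is_comm.comm (⟨x, hx⟩ : K) ⟨y, hy⟩
  exact congrArg Subtype.val h1

variable [Fintype G]

theorem bsw_ind_out (φ : K → ℂ) {x : G} (hx : bswOut K x) : Cfsg.indFun K φ x = 0 := by
  unfold Cfsg.indFun
  rw [Finset.sum_eq_zero, mul_zero]
  intro g _
  apply h7_extendByZero_not_mem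
  have := hx g⁻¹
  rwa [inv_inv] at this

theorem bsw_ind_restrict (h : BswHyp t K s) (L : BswLoc t K s) (φ : K → ℂ) (hφ : φ 1 = 0) (x : K) :
    Cfsg.indFun K φ (x : G) = φ x + φ x⁻¹ := by
  classical
  by_cases hx1 : x = 1
  · subst hx1
    rw [inv_one, hφ, add_zero]
    unfold Cfsg.indFun
    rw [Finset.sum_eq_zero, mul_zero]
    intro g _
    have : g⁻¹ * ((1 : K) : G) * g = ((1 : K) : G) := by simp
    rw [this, h7_extendByZero_coe, hφ]
  · have hx1' : (x : G) ≠ 1 := fun h' => hx1 (Subtype.ext h')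
    have hsK : s ∉ K := h.hsK
    have key : ∀ g : G, Cfsg.extendByZero K φ (g⁻¹ * (x : G) * g) =
        (if g ∈ K then φ x else 0) + (if g * s⁻¹ ∈ K then φ x⁻¹ else 0) := by
      intro g
      by_cases hgK : g ∈ K
      · have hgs : g * s⁻¹ ∉ K := by
          intro h'
          apply hsK
          have : s = (g * s⁻¹)⁻¹ * g := by group
          rw [this]
          exact K.mul_mem (K.inv_mem h') hgK
        rw [if_pos hgK, if_neg hgs, add_zero]
        have : g⁻¹ * (x : G) * g = (x : G) := by
          rw [mul_assoc, bsw_K_comm h x.2 hgK, ← mul_assoc, inv_mul_cancel, one_mul]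
        rw [this, h7_extendByZero_coe]
      · rw [if_neg hgK, zero_add]
        by_cases hgs : g * s⁻¹ ∈ K
        · rw [if_pos hgs]
          have hg : g = (g * s⁻¹) * s := by group
          have : g⁻¹ * (x : G) * g = ((x⁻¹ : K) : G) := by
            have h1 : (g * s⁻¹)⁻¹ * (x : G) * (g * s⁻¹) = (x : G) := by
              rw [mul_assoc, bsw_K_comm h x.2 hgs, ← mul_assoc, inv_mul_cancel, one_mul]
            have h2 : s⁻¹ * (x : G) * s = (x : G)⁻¹ := by
              have h3 := h.hinv (x : G) x.2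
              rw [bsw_s_inv h] at h3 ⊢
              exact h3
            calc g⁻¹ * (x : G) * g
                = s⁻¹ * ((g * s⁻¹)⁻¹ * (x : G) * (g * s⁻¹)) * s := by group
              _ = s⁻¹ * (x : G) * s := by rw [h1]
              _ = (x : G)⁻¹ := h2
              _ = ((x⁻¹ : K) : G) := by simp
          rw [this, h7_extendByZero_coe]
        · rw [if_neg hgs]
          apply h7_extendByZero_not_mem
          apply bsw_conj_not_mem h _ x.2 hx1'
          intro hgH
          rcases L.mem_H hgH with h1 | ⟨k, hk, h1⟩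
          · exact hgK h1
          · apply hgs
            rw [h1]
            have : k * s * s⁻¹ = k := by group
            rw [this]
            exact hk
    unfold Cfsg.indFun
    simp only [key]
    rw [Finset.sum_add_distrib]
    have e1 : ∑ g : G, (if g ∈ K then φ x else 0) = (Nat.card K : ℂ) * φ x := by
      rw [← Finset.sum_filter, Finset.sum_const, nsmul_eq_mul]
      congr 2
      rw [Nat.card_eq_fintype_card, ← Fintype.card_subtype]
    have e2 : ∑ g : G, (if g * s⁻¹ ∈ K then φ x⁻¹ else 0) = (Nat.card K : ℂ) * φ x⁻¹ := by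
      rw [← Equiv.sum_comp (Equiv.mulRight s)]
      simp only [Equiv.coe_mulRight]
      have : ∀ g : G, g * s * s⁻¹ = g := fun g => by group
      simp only [this]
      rw [← Finset.sum_filter, Finset.sum_const, nsmul_eq_mul]
      congr 2
      rw [Nat.card_eq_fintype_card, ← Fintype.card_subtype]
    rw [e1, e2]
    have hK : (Nat.card K : ℂ) ≠ 0 := by exact_mod_cast Nat.card_pos.ne'
    field_simp

/-- Gram matrix of class functions induced from `K` -/
theorem bsw_ind_inner [Fintype K] (h : BswHyp t K s) (L : BswLoc t K s) (φ ψ : K → ℂ) (hψ : ψ 1 = 0) :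
    Cfsg.classInner (Cfsg.indFun K φ) (Cfsg.indFun K ψ) =
      Cfsg.classInner φ (fun x : K => ψ x + ψ x⁻¹) := by
  classical
  rw [h7_frobenius_reciprocity K φ (Cfsg.indFun K ψ) (h7_indFun_isClassFunction K ψ)]
  congr 1
  funext x
  exact bsw_ind_restrict h L ψ hψ x

end ind

end Cfsg.Agent.Lib.helper2
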