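import Mathlib
import Cfsg.Prelude.Def_Characters
import Cfsg.Agent.Lib.helper2.BSWChar1
import Cfsg.Agent.Lib.helper2.CharInd
import Cfsg.Agent.Lib.Helper25.CharReal
import Cfsg.Agent.Lib.Helper25.CharAbelian
import Cfsg.Agent.Lib.Helper25.CharLinear
import Cfsg.Agent.Lib.Helper11.IndTrans

set_option autoImplicit false
set_option linter.unusedSectionVars false
open scoped ComplexConjugate

namespace Cfsg.Agent.Lib.helper2

open Cfsg.Agent.Lib.helper7 Cfsg.Agent.Lib.Helper25
  Cfsg.Agent.Lib.Helper11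

section abelian

variable {A : Type*} [Group A] [Fintype A]

theorem bsw_ab_one (hc : ∀ a b : A, a * b = b * a) (μ : Cfsg.IrrCharacter A) :
    (μ : A → ℂ) 1 = 1 := by
  letI : CommGroup A := { (inferInstance : Group A) with mul_comm := hc }
  exact irr_one_of_comm μ

theorem bsw_ab_mul (hc : ∀ a b : A, a * b = b * a) (μ : Cfsg.IrrCharacter A) (x y : A) :
    (μ : A → ℂ) (x * y) = (μ : A → ℂ) x * (μ : A → ℂ) y :=
  irr_linear_mul μ (bsw_ab_one hc μ) x y

variable [Fintype (Cfsg.IrrCharacter A)]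

theorem bsw_ab_sum (hc : ∀ a b : A, a * b = b * a) {x : A} (hx : x ≠ 1) :
    ∑ μ : Cfsg.IrrCharacter A, (μ : A → ℂ) x = 0 := by
  classical
  have h := irr_column_orthogonality x (1 : A)
  have h1 : ∀ μ : Cfsg.IrrCharacter A, (μ : A → ℂ) x * conj ((μ : A → ℂ) 1) = (μ : A → ℂ) x := by
    intro μ
    rw [bsw_ab_one hc μ, map_one, mul_one]
  simp only [h1] at h
  rw [h, if_neg]
  intro h'
  rw [isConj_iff] at h'
  obtain ⟨c, hc'⟩ := h'
  apply hx
  rw [← hc']
  simp

theorem bsw_ab_card (hc : ∀ a b : A, a * b = b * a) :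
    Fintype.card (Cfsg.IrrCharacter A) = Nat.card A := by
  classical
  have h := irr_column_orthogonality (1 : A) (1 : A)
  rw [if_pos (IsConj.refl 1)] at h
  have : Subgroup.centralizer ({(1 : A)} : Set A) = ⊤ := by
    ext y
    simp [Subgroup.mem_centralizer_iff]
  rw [this, Subgroup.card_top] at h
  simp only [bsw_ab_one hc, map_one, mul_one, Finset.sum_const, Finset.card_univ,
    nsmul_eq_mul] at h
  exact_mod_cast h

/-- the number of real irreducible characters of an abelian group equals the number of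
solutions of `x * x = 1` -/
theorem bsw_ab_real_card (hc : ∀ a b : A, a * b = b * a) :
    Nat.card {μ : Cfsg.IrrCharacter A // irrConj μ = μ} = Nat.card {x : A // x * x = 1} := by
  classical
  have hA : (Nat.card A : ℂ) ≠ 0 := by exact_mod_cast Nat.card_pos.ne'
  have h1 : ∀ μ : Cfsg.IrrCharacter A, ∑ x : A, (μ : A → ℂ) (x * x) =
      if irrConj μ = μ then (Nat.card A : ℂ) else 0 := by
    intro μ
    have h2 := irr_classInner μ (irrConj μ)
    unfold Cfsg.classInner at h2
    have h3 : ∀ x : A, (μ : A → ℂ) x * conj ((irrConj μ : A → ℂ) x) = (μ : A → ℂ) (x * x) := by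
      intro x
      rw [irrConj_apply, Complex.conj_conj, bsw_ab_mul hc]
    simp only [h3] at h2
    by_cases h5 : irrConj μ = μ
    · rw [if_pos h5.symm] at h2
      rw [if_pos h5]
      field_simp at h2
      exact h2
    · rw [if_neg (fun h => h5 h.symm)] at h2
      rw [if_neg h5]
      rcases mul_eq_zero.1 h2 with h6 | h6
      · exact absurd (inv_eq_zero.1 h6) hA
      · exact h6
  have h2 : ∑ μ : Cfsg.IrrCharacter A, ∑ x : A, (μ : A → ℂ) (x * x) =
      (Nat.card A : ℂ) * ((Finset.univ.filter fun μ : Cfsg.IrrCharacter A =>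
        irrConj μ = μ).card : ℂ) := by
    simp only [h1]
    rw [← Finset.sum_filter, Finset.sum_const, nsmul_eq_mul]
    ring
  have h3 : ∑ μ : Cfsg.IrrCharacter A, ∑ x : A, (μ : A → ℂ) (x * x) =
      (Nat.card A : ℂ) * ((Finset.univ.filter fun x : A => x * x = 1).card : ℂ) := by
    rw [Finset.sum_comm]
    have h4 : ∀ x : A, ∑ μ : Cfsg.IrrCharacter A, (μ : A → ℂ) (x * x) =
        if x * x = 1 then (Nat.card A : ℂ) else 0 := by
      intro x
      by_cases hx : x * x = 1
      · rw [if_pos hx, hx]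
        simp only [bsw_ab_one hc, Finset.sum_const, Finset.card_univ, nsmul_eq_mul, mul_one]
        rw [bsw_ab_card hc]
      · rw [if_neg hx, bsw_ab_sum hc hx]
    simp only [h4]
    rw [← Finset.sum_filter, Finset.sum_const, nsmul_eq_mul]
    ring
  rw [h2] at h3
  have h4 := mul_left_cancel₀ hA h3
  rw [Nat.card_eq_fintype_card, Nat.card_eq_fintype_card, Fintype.card_subtype,
    Fintype.card_subtype]
  exact_mod_cast h4

end abelian

section linear

variable {G : Type*} [Group G] [Fintype G]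

theorem bsw_inner_sub_right (f g h : G → ℂ) :
    Cfsg.classInner f (g - h) = Cfsg.classInner f g - Cfsg.classInner f h := by
  simp only [Cfsg.classInner, Pi.sub_apply, map_sub, mul_sub, Finset.sum_sub_distrib]

theorem bsw_inner_add_right (f g h : G → ℂ) :
    Cfsg.classInner f (g + h) = Cfsg.classInner f g + Cfsg.classInner f h := by
  simp only [Cfsg.classInner, Pi.add_apply, map_add, mul_add, Finset.sum_add_distrib]

theorem bsw_inner_smul_right (c : ℂ) (f g : G → ℂ) :
    Cfsg.classInner f (c • g) = conj c * Cfsg.classInner f g := by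
  simp only [Cfsg.classInner, Pi.smul_apply, smul_eq_mul, map_mul]
  rw [Finset.mul_sum, Finset.mul_sum, Finset.mul_sum]
  refine Finset.sum_congr rfl fun x _ => ?_
  ring

theorem bsw_inner_neg_right (f g : G → ℂ) :
    Cfsg.classInner f (-g) = - Cfsg.classInner f g := by
  simp only [Cfsg.classInner, Pi.neg_apply, map_neg, mul_neg, Finset.sum_neg_distrib]

theorem bsw_inner_neg_left (f g : G → ℂ) :
    Cfsg.classInner (-f) g = - Cfsg.classInner f g := by
  simp only [Cfsg.classInner, Pi.neg_apply, neg_mul, Finset.sum_neg_distrib, mul_neg]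

end linear

section phi

variable {G : Type*} [Group G] [Fintype G] {t s : G} {K : Subgroup G} [Fintype K]

/-- the virtual character `(1_K - μ)^G` -/
noncomputable def bswPhi (K : Subgroup G) (μ : Cfsg.IrrCharacter K) : G → ℂ :=
  Cfsg.indFun K (fun x => 1 - (μ : K → ℂ) x)

theorem bswPhi_genChar (μ : Cfsg.IrrCharacter K) :
    Cfsg.IsGeneralizedCharacter G (bswPhi K μ) := by
  refine ⟨Cfsg.indFun K (trivIrr K : K → ℂ), Cfsg.indFun K (μ : K → ℂ),
    isCharacter_indFun K _ (isCharacter_of_irr _), isCharacter_indFun K _ (isCharacter_of_irr _), ?_⟩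
  unfold bswPhi
  have : (fun x : K => 1 - (μ : K → ℂ) x) = (trivIrr K : K → ℂ) + (-1 : ℂ) • (μ : K → ℂ) := by
    funext x
    simp [sub_eq_add_neg]
  rw [this, indFun_add, indFun_smul]
  simp [sub_eq_add_neg]

theorem bswPhi_classFunction (μ : Cfsg.IrrCharacter K) :
    Cfsg.IsClassFunction G (bswPhi K μ) := h7_indFun_isClassFunction K _

theorem bswPhi_out (μ : Cfsg.IrrCharacter K) {x : G} (hx : bswOut K x) : bswPhi K μ x = 0 :=
  bsw_ind_out _ hx

theorem bsw_K_comm' (h : BswHyp t K s) (a b : K) : a * b = b * a :=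
  h.hKab.is_comm.comm a b

theorem bswPhi_one (h : BswHyp t K s) (μ : Cfsg.IrrCharacter K) : bswPhi K μ 1 = 0 := by
  unfold bswPhi
  rw [h7_indFun_one, bsw_ab_one (bsw_K_comm' h) μ, sub_self, mul_zero]

theorem bswPhi_restrict (h : BswHyp t K s) (L : BswLoc t K s) (μ : Cfsg.IrrCharacter K) (x : K) :
    bswPhi K μ (x : G) = 2 - (μ : K → ℂ) x - conj ((μ : K → ℂ) x) := by
  unfold bswPhi
  rw [bsw_ind_restrict h L _ (by rw [bsw_ab_one (bsw_K_comm' h) μ, sub_self]) x, irr_inv]
  ring

theorem bswPhi_triv (h : BswHyp t K s) : bswPhi K (trivIrr K) = 0 := by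
  unfold bswPhi
  have : (fun x : K => 1 - (trivIrr K : K → ℂ) x) = 0 := by
    funext x; simp
  rw [this]
  exact indFun_zero' K

theorem bswPhi_inner_triv (μ : Cfsg.IrrCharacter K) :
    Cfsg.classInner (bswPhi K μ) (trivIrr G : G → ℂ) = 1 - if μ = trivIrr K then 1 else 0 := by
  unfold bswPhi
  rw [h7_frobenius_reciprocity K _ _ (isCharacter_isClassFunction (isCharacter_of_irr _))]
  have h1 : (fun k : K => (trivIrr G : G → ℂ) k) = (trivIrr K : K → ℂ) := by
    funext k; simp
  have h2 : (fun x : K => 1 - (μ : K → ℂ) x) = (trivIrr K : K → ℂ) - (μ : K → ℂ) := by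
    funext x; simp
  rw [h1, h2, classInner_sub_left, irr_classInner, irr_classInner, if_pos rfl]

theorem bswPhi_inner (h : BswHyp t K s) (L : BswLoc t K s) (μ η : Cfsg.IrrCharacter K) (hμ : μ ≠ trivIrr K)
    (hη : η ≠ trivIrr K) :
    Cfsg.classInner (bswPhi K μ) (bswPhi K η) =
      2 + (if μ = η then 1 else 0) + (if μ = irrConj η then 1 else 0) := by
  unfold bswPhi
  rw [bsw_ind_inner h L _ _ (by rw [bsw_ab_one (bsw_K_comm' h) η, sub_self])]
  have h1 : (fun x : K => 1 - (μ : K → ℂ) x) = (trivIrr K : K → ℂ) - (μ : K → ℂ) := by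
    funext x; simp
  have h2 : (fun x : K => 1 - (η : K → ℂ) x + (1 - (η : K → ℂ) x⁻¹)) =
      (2 : ℂ) • (trivIrr K : K → ℂ) - ((η : K → ℂ) + (irrConj η : K → ℂ)) := by
    funext x
    simp only [Pi.sub_apply, Pi.smul_apply, Pi.add_apply, trivIrr_apply, irrConj_apply, irr_inv,
      smul_eq_mul]
    ring
  rw [h1, h2, classInner_sub_left]
  have hr : ∀ (f : K → ℂ), Cfsg.classInner f ((2 : ℂ) • (trivIrr K : K → ℂ) -
      ((η : K → ℂ) + (irrConj η : K → ℂ))) =
      2 * Cfsg.classInner f (trivIrr K : K → ℂ) - Cfsg.classInner f (η : K → ℂ) -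
        Cfsg.classInner f (irrConj η : K → ℂ) := by
    intro f
    rw [bsw_inner_sub_right, bsw_inner_add_right, bsw_inner_smul_right]
    have : (starRingEnd ℂ) (2 : ℂ) = 2 := map_ofNat _ 2
    rw [this]
    ring
  rw [hr, hr]
  rw [irr_classInner (trivIrr K) (trivIrr K), irr_classInner (trivIrr K) η,
    irr_classInner (trivIrr K) (irrConj η), irr_classInner μ (trivIrr K), irr_classInner μ η,
    irr_classInner μ (irrConj η)]
  have hηc : irrConj η ≠ trivIrr K := by
    intro h'
    apply hη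
    apply Subtype.ext
    funext x
    have := congrArg (fun χ : Cfsg.IrrCharacter K => (χ : K → ℂ) x) h'
    simp only [irrConj_apply, trivIrr_apply] at this
    have h3 := congrArg (starRingEnd ℂ) this
    simpa using h3
  rw [if_pos rfl, if_neg (Ne.symm hη), if_neg (Ne.symm hηc), if_neg hμ]
  ring

end phi

end Cfsg.Agent.Lib.helper2
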