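import Mathlib

set_option autoImplicit false
set_option linter.unusedSectionVars false

namespace Cfsg.Agent.Lib.helper2

section lattice

variable {I : Type*} [Fintype I] [DecidableEq I]

/-- dot product of integer vectors -/
def bswDot (f g : I → ℤ) : ℤ := ∑ i, f i * g i

theorem bswDot_comm (f g : I → ℤ) : bswDot f g = bswDot g f := by
  unfold bswDot
  exact Finset.sum_congr rfl fun i _ => mul_comm _ _

theorem bsw_sq_le (f : I → ℤ) (i : I) : f i * f i ≤ bswDot f f := by
  unfold bswDot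
  exact Finset.single_le_sum (f := fun i => f i * f i) (fun j _ => mul_self_nonneg (f j))
    (Finset.mem_univ i)

theorem bsw_val_of_sq_le {x : ℤ} (h : x * x ≤ 3) : x = 0 ∨ x = 1 ∨ x = -1 := by
  have h1 : x < 2 := by nlinarith
  have h2 : -2 < x := by nlinarith
  omega

/-- support of an integer vector -/
def bswSupp (f : I → ℤ) : Finset I := Finset.univ.filter fun i => f i ≠ 0

theorem bsw_mem_supp (f : I → ℤ) (i : I) : i ∈ bswSupp f ↔ f i ≠ 0 := by
  simp [bswSupp]

theorem bswDot_eq_sum_supp (f g : I → ℤ) : bswDot f g = ∑ i ∈ bswSupp f, f i * g i := by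
  unfold bswDot bswSupp
  rw [Finset.sum_filter]
  refine Finset.sum_congr rfl fun i _ => ?_
  by_cases h : f i = 0
  · simp [h]
  · simp [h]

theorem bsw_card_supp (f : I → ℤ) (h : ∀ i, f i = 0 ∨ f i = 1 ∨ f i = -1) :
    ((bswSupp f).card : ℤ) = bswDot f f := by
  rw [bswDot_eq_sum_supp, Finset.card_eq_sum_ones]
  push_cast
  refine Finset.sum_congr rfl fun i hi => ?_
  rw [bsw_mem_supp] at hi
  rcases h i with h0 | h1 | h1
  · exact absurd h0 hi
  · rw [h1]; norm_num
  · rw [h1]; norm_num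

/-- a vector of norm `3` with a given nonzero coordinate -/
theorem bsw_norm_three (f : I → ℤ) (h3 : bswDot f f = 3) (o : I) (ho : f o ≠ 0) :
    ∃ q r : I, q ≠ o ∧ r ≠ o ∧ q ≠ r ∧ (f q = 1 ∨ f q = -1) ∧ (f r = 1 ∨ f r = -1) ∧
      (f o = 1 ∨ f o = -1) ∧ ∀ i, i ≠ o → i ≠ q → i ≠ r → f i = 0 := by
  have hval : ∀ i, f i = 0 ∨ f i = 1 ∨ f i = -1 := fun i =>
    bsw_val_of_sq_le (by rw [← h3]; exact bsw_sq_le f i)
  have hcard : (bswSupp f).card = 3 := by
    have := bsw_card_supp f hval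
    rw [h3] at this
    exact_mod_cast this
  have hoS : o ∈ bswSupp f := (bsw_mem_supp f o).2 ho
  have hcard2 : ((bswSupp f).erase o).card = 2 := by
    rw [Finset.card_erase_of_mem hoS, hcard]
  obtain ⟨q, r, hqr, hS⟩ := Finset.card_eq_two.1 hcard2
  have hq : q ∈ (bswSupp f).erase o := by rw [hS]; simp
  have hr : r ∈ (bswSupp f).erase o := by rw [hS]; simp
  rw [Finset.mem_erase, bsw_mem_supp] at hq hr
  have nz : ∀ i, f i ≠ 0 → (f i = 1 ∨ f i = -1) := fun i hi => by
    rcases hval i with h | h | h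
    · exact absurd h hi
    · exact Or.inl h
    · exact Or.inr h
  refine ⟨q, r, hq.1, hr.1, hqr, nz q hq.2, nz r hr.2, nz o ho, ?_⟩
  intro i hio hiq hir
  by_contra hne
  have : i ∈ (bswSupp f).erase o := Finset.mem_erase.2 ⟨hio, (bsw_mem_supp f i).2 hne⟩
  rw [hS] at this
  simp at this
  rcases this with h | h
  · exact hiq h
  · exact hir h

/-- a vector of norm `4` with a coordinate `±1` -/
theorem bsw_norm_four (f : I → ℤ) (h4 : bswDot f f = 4) (o : I) (ho : f o = 1 ∨ f o = -1) :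
    ∃ p q r : I, p ≠ o ∧ q ≠ o ∧ r ≠ o ∧ p ≠ q ∧ p ≠ r ∧ q ≠ r ∧
      (f p = 1 ∨ f p = -1) ∧ (f q = 1 ∨ f q = -1) ∧ (f r = 1 ∨ f r = -1) ∧
      ∀ i, i ≠ o → i ≠ p → i ≠ q → i ≠ r → f i = 0 := by
  have hoo : f o * f o = 1 := by rcases ho with h | h <;> rw [h] <;> norm_num
  have hval : ∀ i, f i = 0 ∨ f i = 1 ∨ f i = -1 := by
    intro i
    by_cases hio : i = o
    · rw [hio]; exact Or.inr ho
    · apply bsw_val_of_sq_le
      have h1 : f o * f o + f i * f i ≤ bswDot f f := by
        unfold bswDot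
        have hsub : ({o, i} : Finset I) ⊆ Finset.univ := Finset.subset_univ _
        have := Finset.sum_le_sum_of_subset_of_nonneg (f := fun i => f i * f i) hsub
          (fun j _ _ => mul_self_nonneg (f j))
        rw [Finset.sum_pair (Ne.symm hio)] at this
        exact this
      rw [h4, hoo] at h1
      linarith
  have hcard : (bswSupp f).card = 4 := by
    have := bsw_card_supp f hval
    rw [h4] at this
    exact_mod_cast this
  have ho0 : f o ≠ 0 := by rcases ho with h | h <;> rw [h] <;> norm_num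
  have hoS : o ∈ bswSupp f := (bsw_mem_supp f o).2 ho0
  have hcard3 : ((bswSupp f).erase o).card = 3 := by
    rw [Finset.card_erase_of_mem hoS, hcard]
  obtain ⟨p, q, r, hpq, hpr, hqr, hS⟩ := Finset.card_eq_three.1 hcard3
  have hp : p ∈ (bswSupp f).erase o := by rw [hS]; simp
  have hq : q ∈ (bswSupp f).erase o := by rw [hS]; simp
  have hr : r ∈ (bswSupp f).erase o := by rw [hS]; simp
  rw [Finset.mem_erase, bsw_mem_supp] at hp hq hr
  have nz : ∀ i, f i ≠ 0 → (f i = 1 ∨ f i = -1) := fun i hi => by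
    rcases hval i with h | h | h
    · exact absurd h hi
    · exact Or.inl h
    · exact Or.inr h
  refine ⟨p, q, r, hp.1, hq.1, hr.1, hpq, hpr, hqr, nz p hp.2, nz q hq.2, nz r hr.2, ?_⟩
  intro i hio hip hiq hir
  by_contra hne
  have : i ∈ (bswSupp f).erase o := Finset.mem_erase.2 ⟨hio, (bsw_mem_supp f i).2 hne⟩
  rw [hS] at this
  simp at this
  rcases this with h | h | h
  · exact hip h
  · exact hiq h
  · exact hir h

/-- dot product with a vector supported on three points -/
theorem bswDot_three (f g : I → ℤ) (o q r : I) (hqo : q ≠ o) (hro : r ≠ o) (hqr : q ≠ r)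
    (hf : ∀ i, i ≠ o → i ≠ q → i ≠ r → f i = 0) :
    bswDot f g = f o * g o + f q * g q + f r * g r := by
  unfold bswDot
  have hsub : ∀ i ∈ (Finset.univ : Finset I), i ∉ ({o, q, r} : Finset I) → f i * g i = 0 := by
    intro i _ hi
    simp only [Finset.mem_insert, Finset.mem_singleton, not_or] at hi
    rw [hf i hi.1 hi.2.1 hi.2.2, zero_mul]
  rw [← Finset.sum_subset (Finset.subset_univ ({o, q, r} : Finset I)) hsub]
  rw [Finset.sum_insert (by simp [Ne.symm hqo, Ne.symm hro]), Finset.sum_pair hqr]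
  ring

theorem bsw_vals_four (f : I → ℤ) (h4 : bswDot f f = 4) (o : I) (ho : f o = 1 ∨ f o = -1) (i : I) :
    f i = 0 ∨ f i = 1 ∨ f i = -1 := by
  have hoo : f o * f o = 1 := by rcases ho with h | h <;> rw [h] <;> norm_num
  by_cases hio : i = o
  · rw [hio]; exact Or.inr ho
  · apply bsw_val_of_sq_le
    have h1 : f o * f o + f i * f i ≤ bswDot f f := by
      unfold bswDot
      have hsub : ({o, i} : Finset I) ⊆ Finset.univ := Finset.subset_univ _
      have := Finset.sum_le_sum_of_subset_of_nonneg (f := fun i => f i * f i) hsub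
        (fun j _ _ => mul_self_nonneg (f j))
      rw [Finset.sum_pair (Ne.symm hio)] at this
      exact this
    rw [h4, hoo] at h1
    linarith

/-- local analysis of one `Φ` against `Θ` -/
theorem bsw_lat_local (o : I) (Φ Θ : I → ℤ) (hΦΦ : bswDot Φ Φ = 3) (hΘΘ : bswDot Θ Θ = 4)
    (hΘΦ : bswDot Θ Φ = -2) (hΦo : Φ o = 1) (hΘo : Θ o = -1) :
    ∃ (b a : I) (β α : ℤ), b ≠ o ∧ a ≠ o ∧ a ≠ b ∧ (β = 1 ∨ β = -1) ∧ (α = 1 ∨ α = -1) ∧
      Φ b = β ∧ Φ a = α ∧
      (∀ i, i ≠ o → i ≠ b → i ≠ a → Φ i = 0) ∧ Θ b = - β ∧ Θ a = 0 := by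
  obtain ⟨q, r, hqo, hro, hqr, hq, hr, -, hz⟩ :=
    bsw_norm_three Φ hΦΦ o (by rw [hΦo]; norm_num)
  have hd := bswDot_three Φ Θ o q r hqo hro hqr hz
  rw [bswDot_comm, hΘΦ, hΦo, hΘo] at hd
  have hΘq := bsw_vals_four Θ hΘΘ o (Or.inr hΘo) q
  have hΘr := bsw_vals_four Θ hΘΘ o (Or.inr hΘo) r
  have hcase : (Θ q = - Φ q ∧ Θ r = 0) ∨ (Θ r = - Φ r ∧ Θ q = 0) := by
    rcases hq with h1 | h1 <;> rcases hr with h2 | h2 <;> rcases hΘq with h3 | h3 | h3 <;>
      rcases hΘr with h4 | h4 | h4 <;> rw [h1, h2, h3, h4] at hd <;> norm_num at hd <;>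
      simp [h1, h2, h3, h4]
  rcases hcase with ⟨h1, h2⟩ | ⟨h1, h2⟩
  · exact ⟨q, r, Φ q, Φ r, hqo, hro, Ne.symm hqr, hq, hr, rfl, rfl,
      fun i h1 h2 h3 => hz i h1 h2 h3, h1, h2⟩
  · exact ⟨r, q, Φ r, Φ q, hro, hqo, hqr, hr, hq, rfl, rfl,
      fun i h1 h2 h3 => hz i h1 h3 h2, h1, h2⟩

/-- the standard configuration -/
def BswStd {T : Type*} (o : I) (Φ : T → I → ℤ) (Θ : I → ℤ) : Prop :=
  ∃ (b c c' : I) (a : T → I) (β α γ γ' : ℤ),
    (β = 1 ∨ β = -1) ∧ (α = 1 ∨ α = -1) ∧ (γ = 1 ∨ γ = -1) ∧ (γ' = 1 ∨ γ' = -1) ∧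
    b ≠ o ∧ c ≠ o ∧ c' ≠ o ∧ c ≠ b ∧ c' ≠ b ∧ c ≠ c' ∧
    (∀ l, a l ≠ o ∧ a l ≠ b ∧ a l ≠ c ∧ a l ≠ c') ∧
    (∀ l m, a l = a m ↔ Φ l = Φ m) ∧
    (∀ l i, Φ l i = if i = o then 1 else if i = b then β else if i = a l then α else 0) ∧
    (∀ i, Θ i = if i = o then -1 else if i = b then -β else if i = c then γ else
      if i = c' then γ' else 0)

/-- the exceptional configuration (only two distinct `Φ`) -/
def BswGhost {T : Type*} (o : I) (Φ : T → I → ℤ) (Θ : I → ℤ) : Prop :=
  ∃ (l m : T) (z bl bm c : I) (ζ β γ : ℤ),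
    (ζ = 1 ∨ ζ = -1) ∧ (β = 1 ∨ β = -1) ∧ (γ = 1 ∨ γ = -1) ∧
    z ≠ o ∧ bl ≠ o ∧ bm ≠ o ∧ c ≠ o ∧ bl ≠ z ∧ bm ≠ z ∧ c ≠ z ∧ bl ≠ bm ∧ c ≠ bl ∧ c ≠ bm ∧
    (∀ r, Φ r = Φ l ∨ Φ r = Φ m) ∧
    (∀ i, Φ l i = if i = o then 1 else if i = z then ζ else if i = bl then β else 0) ∧
    (∀ i, Φ m i = if i = o then 1 else if i = z then ζ else if i = bm then β else 0) ∧
    (∀ i, Θ i = if i = o then -1 else if i = bl then -β else if i = bm then -β else
      if i = c then γ else 0)

theorem bsw_sign_eq {x y d d' : ℤ} (hx : x = 1 ∨ x = -1) (hy : y = 1 ∨ y = -1) (hd : 0 < d)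
    (hd' : 0 < d') (h : x * d = y * d') : x = y := by
  rcases hx with rfl | rfl <;> rcases hy with rfl | rfl
  · rfl
  · exfalso; linarith
  · exfalso; linarith
  · rfl

theorem bsw_lattice {T : Type*} [Nonempty T] (o : I) (deg : I → ℤ) (hdeg : ∀ i, 0 < deg i)
    (hdo : deg o = 1) (Φ : T → I → ℤ) (Θ : I → ℤ)
    (hΦΦ : ∀ l, bswDot (Φ l) (Φ l) = 3) (hΦΦ' : ∀ l m, Φ l = Φ m ∨ bswDot (Φ l) (Φ m) = 2)
    (hΘΘ : bswDot Θ Θ = 4) (hΘΦ : ∀ l, bswDot Θ (Φ l) = -2)
    (hΦo : ∀ l, Φ l o = 1) (hΘo : Θ o = -1)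
    (hΦd : ∀ l, bswDot (Φ l) deg = 0) (hΘd : bswDot Θ deg = 0) :
    BswStd o Φ Θ ∨ BswGhost o Φ Θ := by
  have hloc := fun l => bsw_lat_local o (Φ l) Θ (hΦΦ l) hΘΘ (hΘΦ l) (hΦo l) hΘo
  choose b a β α hbo hao hab hβ hα hΦb hΦa hz hΘb hΘa using hloc
  have nz : ∀ {x : ℤ}, (x = 1 ∨ x = -1) → x ≠ 0 := by
    intro x hx; rcases hx with h | h <;> rw [h] <;> norm_num
  -- F1
  have F1 : ∀ l m, a l ≠ b m := by
    intro l m h
    have h1 := hΘa l
    rw [h, hΘb m] at h1
    exact nz (hβ m) (neg_eq_zero.1 h1)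
  -- F2
  have F2 : ∀ m i, Φ m i = if i = o then 1 else if i = b m then β m else
      if i = a m then α m else 0 := by
    intro m i
    by_cases h1 : i = o
    · rw [if_pos h1, h1, hΦo]
    · rw [if_neg h1]
      by_cases h2 : i = b m
      · rw [if_pos h2, h2, hΦb]
      · rw [if_neg h2]
        by_cases h3 : i = a m
        · rw [if_pos h3, h3, hΦa]
        · rw [if_neg h3]
          exact hz m i h1 h2 h3
  have Fb : ∀ l m, Φ m (b l) = if b l = b m then β m else 0 := by
    intro l m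
    rw [F2 m (b l), if_neg (hbo l)]
    by_cases h : b l = b m
    · rw [if_pos h, if_pos h]
    · rw [if_neg h, if_neg h, if_neg (Ne.symm (F1 m l))]
  have Fa : ∀ l m, Φ m (a l) = if a l = a m then α m else 0 := by
    intro l m
    rw [F2 m (a l), if_neg (hao l), if_neg (F1 l m)]
  have Fβ : ∀ l m, b l = b m → β l = β m := by
    intro l m h
    have h1 : Θ (b l) = Θ (b m) := by rw [h]
    rw [hΘb l, hΘb m] at h1
    exact neg_injective h1
  -- F3
  have F3 : ∀ l m, bswDot (Φ l) (Φ m) =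
      1 + (if b l = b m then 1 else 0) + (if a l = a m then α l * α m else 0) := by
    intro l m
    rw [bswDot_three (Φ l) (Φ m) o (b l) (a l) (hbo l) (hao l) (Ne.symm (hab l)) (hz l),
      hΦo, hΦo, Fb l m, Fa l m, hΦb, hΦa]
    by_cases h1 : b l = b m
    · have h2 : β l * β m = 1 := by
        rw [← Fβ l m h1]
        rcases hβ l with h | h <;> rw [h] <;> norm_num
      by_cases h3 : a l = a m
      · rw [if_pos h1, if_pos h1, if_pos h3, if_pos h3, h2]; ring
      · rw [if_pos h1, if_pos h1, if_neg h3, if_neg h3, h2]; ring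
    · by_cases h3 : a l = a m
      · rw [if_neg h1, if_neg h1, if_pos h3, if_pos h3]; ring
      · rw [if_neg h1, if_neg h1, if_neg h3, if_neg h3]; ring
  -- F4
  have F4 : ∀ l, 1 + β l * deg (b l) + α l * deg (a l) = 0 := by
    intro l
    have := hΦd l
    rw [bswDot_three (Φ l) deg o (b l) (a l) (hbo l) (hao l) (Ne.symm (hab l)) (hz l),
      hΦo, hdo, hΦb, hΦa] at this
    linarith
  have Feq : ∀ l m, b l = b m → a l = a m → α l = α m → Φ l = Φ m := by
    intro l m h1 h2 h3
    funext i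
    rw [F2 l i, F2 m i, h1, h2, h3, Fβ l m h1]
  have Fne : ∀ l m, Φ l = Φ m → b l = b m ∧ a l = a m := by
    intro l m h
    constructor
    · by_contra hne
      have := Fb l m
      rw [if_neg hne, ← h, hΦb] at this
      exact nz (hβ l) this
    · by_contra hne
      have := Fa l m
      rw [if_neg hne, ← h, hΦa] at this
      exact nz (hα l) this
  obtain ⟨p, q, r, hpo, hqo, hro, hpq, hpr, hqr, hp, hq, hr, hΘz⟩ :=
    bsw_norm_four Θ hΘΘ o (Or.inr hΘo)
  have hΘsupp : ∀ i, i ≠ o → Θ i ≠ 0 → i = p ∨ i = q ∨ i = r := by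
    intro i hio hi
    by_contra hcon
    push Not at hcon
    exact hi (hΘz i hio hcon.1 hcon.2.1 hcon.2.2)
  have hΘb0 : ∀ l, Θ (b l) ≠ 0 := fun l => by rw [hΘb l]; exact neg_ne_zero.2 (nz (hβ l))
  have hΘd' : -1 + Θ p * deg p + Θ q * deg q + Θ r * deg r = 0 := by
    have hsub : ∀ i ∈ (Finset.univ : Finset I), i ∉ ({o, p, q, r} : Finset I) →
        Θ i * deg i = 0 := by
      intro i _ hi
      simp only [Finset.mem_insert, Finset.mem_singleton, not_or] at hi
      rw [hΘz i hi.1 hi.2.1 hi.2.2.1 hi.2.2.2, zero_mul]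
    have := hΘd
    unfold bswDot at this
    rw [← Finset.sum_subset (Finset.subset_univ ({o, p, q, r} : Finset I)) hsub,
      Finset.sum_insert (by simp [Ne.symm hpo, Ne.symm hqo, Ne.symm hro]),
      Finset.sum_insert (by simp [hpq, hpr]), Finset.sum_pair hqr, hΘo, hdo] at this
    linarith
  by_cases hall : ∀ l m, b l = b m
  · -- standard case
    left
    obtain ⟨l₀⟩ := ‹Nonempty T›
    have hαeq : ∀ l, α l = α l₀ := by
      intro l
      have h1 := F4 l
      have h2 := F4 l₀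
      rw [Fβ l l₀ (hall l l₀), hall l l₀] at h1
      exact bsw_sign_eq (hα l) (hα l₀) (hdeg (a l)) (hdeg (a l₀)) (by linarith)
    -- locate b in the support of Θ
    have hbs := hΘsupp (b l₀) (hbo l₀) (hΘb0 l₀)
    have hafin : ∀ l (x : I), Θ x ≠ 0 → a l ≠ x := by
      intro l x hx h
      rw [← h, hΘa l] at hx
      exact hx rfl
    have mk : ∀ (c c' : I), c ≠ o → c' ≠ o → c ≠ b l₀ → c' ≠ b l₀ → c ≠ c' →
        (Θ c = 1 ∨ Θ c = -1) → (Θ c' = 1 ∨ Θ c' = -1) →
        (∀ i, i ≠ o → i ≠ b l₀ → i ≠ c → i ≠ c' → Θ i = 0) → BswStd o Φ Θ := by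
      intro c c' hco hc'o hcb hc'b hcc' hc hc' hzz
      refine ⟨b l₀, c, c', a, β l₀, α l₀, Θ c, Θ c', hβ l₀, hα l₀, hc, hc',
        hbo l₀, hco, hc'o, hcb, hc'b, hcc', ?_, ?_, ?_, ?_⟩
      · intro l
        refine ⟨hao l, ?_, hafin l c (nz hc), hafin l c' (nz hc')⟩
        rw [← hall l l₀]; exact hab l
      · intro l m
        constructor
        · intro h
          exact Feq l m (hall l m) h (by rw [hαeq l, hαeq m])
        · intro h
          exact (Fne l m h).2
      · intro l i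
        rw [F2 l i, hall l l₀, Fβ l l₀ (hall l l₀), hαeq l]
      · intro i
        by_cases h1 : i = o
        · rw [if_pos h1, h1, hΘo]
        · rw [if_neg h1]
          by_cases h2 : i = b l₀
          · rw [if_pos h2, h2, hΘb]
          · rw [if_neg h2]
            by_cases h3 : i = c
            · rw [if_pos h3, h3]
            · rw [if_neg h3]
              by_cases h4 : i = c'
              · rw [if_pos h4, h4]
              · rw [if_neg h4]
                exact hzz i h1 h2 h3 h4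
    rcases hbs with h | h | h
    · exact mk q r hqo hro (by rw [h]; exact Ne.symm hpq) (by rw [h]; exact Ne.symm hpr) hqr hq hr
        (fun i h1 h2 h3 h4 => hΘz i h1 (by rw [← h]; exact h2) h3 h4)
    · exact mk p r hpo hro (by rw [h]; exact hpq) (by rw [h]; exact Ne.symm hqr) hpr hp hr
        (fun i h1 h2 h3 h4 => hΘz i h1 h3 (by rw [← h]; exact h2) h4)
    · exact mk p q hpo hqo (by rw [h]; exact hpr) (by rw [h]; exact hqr) hpq hp hq
        (fun i h1 h2 h3 h4 => hΘz i h1 h3 h4 (by rw [← h]; exact h2))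
  · -- exceptional case
    right
    push Not at hall
    obtain ⟨l, m, hlm⟩ := hall
    have hΦlm : Φ l ≠ Φ m := fun h => hlm (Fne l m h).1
    have hd2 : bswDot (Φ l) (Φ m) = 2 := (hΦΦ' l m).resolve_left hΦlm
    rw [F3 l m, if_neg hlm] at hd2
    have halm : a l = a m := by
      by_contra hne
      rw [if_neg hne] at hd2
      norm_num at hd2
    rw [if_pos halm] at hd2
    have hαlm : α l = α m := by
      rcases hα l with h1 | h1 <;> rcases hα m with h2 | h2 <;> rw [h1, h2] at hd2 ⊢ <;>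
        norm_num at hd2
    have hβlm : β l = β m := by
      have h1 := F4 l
      have h2 := F4 m
      rw [hαlm, halm] at h1
      exact bsw_sign_eq (hβ l) (hβ m) (hdeg (b l)) (hdeg (b m)) (by linarith)
    have hothers : ∀ r', Φ r' = Φ l ∨ Φ r' = Φ m := by
      intro r'
      by_contra hcon
      push Not at hcon
      have h1 : bswDot (Φ r') (Φ l) = 2 := (hΦΦ' r' l).resolve_left hcon.1
      have h2 : bswDot (Φ r') (Φ m) = 2 := (hΦΦ' r' m).resolve_left hcon.2
      rw [F3 r' l] at h1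
      rw [F3 r' m, ← halm, ← hαlm] at h2
      have hbr : b r' ≠ b l ∧ b r' ≠ b m ∧ a r' = a l ∧ α r' = α l := by
        by_cases h3 : a r' = a l
        · rw [if_pos h3] at h1 h2
          have h4 : α r' * α l = 1 ∨ α r' * α l = -1 := by
            rcases hα r' with h5 | h5 <;> rcases hα l with h6 | h6 <;> rw [h5, h6] <;> norm_num
          by_cases h7 : b r' = b l
          · rw [if_pos h7] at h1
            have h8 : b r' ≠ b m := fun h => hlm (h7.symm.trans h)
            rw [if_neg h8] at h2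
            omega
          · rw [if_neg h7] at h1
            by_cases h8 : b r' = b m
            · rw [if_pos h8] at h2; omega
            · refine ⟨h7, h8, h3, ?_⟩
              rcases hα r' with h5 | h5 <;> rcases hα l with h6 | h6 <;> rw [h5, h6] at h1 ⊢ <;>
                norm_num at h1
        · rw [if_neg h3] at h1 h2
          by_cases h7 : b r' = b l
          · rw [if_pos h7] at h1
            have h8 : b r' ≠ b m := fun h => hlm (h7.symm.trans h)
            rw [if_neg h8] at h2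
            omega
          · rw [if_neg h7] at h1; omega
      obtain ⟨hb1, hb2, har, hαr⟩ := hbr
      -- b l, b m, b r' are the three support points of Θ
      have e1 := F4 l
      have e2 := F4 m
      have e3 := F4 r'
      rw [← halm, ← hαlm] at e2
      rw [har, hαr] at e3
      have hsum : Θ p * deg p + Θ q * deg q + Θ r * deg r =
          Θ (b l) * deg (b l) + Θ (b m) * deg (b m) + Θ (b r') * deg (b r') := by
        have s1 := hΘsupp (b l) (hbo l) (hΘb0 l)
        have s2 := hΘsupp (b m) (hbo m) (hΘb0 m)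
        have s3 := hΘsupp (b r') (hbo r') (hΘb0 r')
        rcases s1 with s1 | s1 | s1 <;> rcases s2 with s2 | s2 | s2 <;>
          rcases s3 with s3 | s3 | s3 <;>
          first
            | (exfalso; exact hlm (s1.trans s2.symm))
            | (exfalso; exact hb1 (s3.trans s1.symm))
            | (exfalso; exact hb2 (s3.trans s2.symm))
            | (rw [s1, s2, s3] <;> ring)
      rw [hΘb l, hΘb m, hΘb r'] at hsum
      have h3A : 3 * (α l * deg (a l)) = -2 := by linarith
      generalize α l * deg (a l) = A at h3A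
      omega
    -- third support point of Θ
    have mk : ∀ (c : I), c ≠ o → c ≠ b l → c ≠ b m → (Θ c = 1 ∨ Θ c = -1) →
        (∀ i, i ≠ o → i ≠ b l → i ≠ b m → i ≠ c → Θ i = 0) → BswGhost o Φ Θ := by
      intro c hco hcl hcm hc hzz
      refine ⟨l, m, a l, b l, b m, c, α l, β l, Θ c, hα l, hβ l, hc,
        hao l, hbo l, hbo m, hco, Ne.symm (hab l), Ne.symm (F1 l m), ?_, hlm, hcl, hcm,
        hothers, ?_, ?_, ?_⟩
      · intro h
        have := hΘa l
        rw [← h] at this
        exact nz hc this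
      · intro i
        rw [F2 l i]
        by_cases h1 : i = o
        · rw [if_pos h1, if_pos h1]
        · rw [if_neg h1, if_neg h1]
          by_cases h2 : i = a l
          · rw [if_pos h2, if_neg (by rw [h2]; exact hab l), if_pos h2]
          · rw [if_neg h2, if_neg h2]
      · intro i
        rw [F2 m i, halm, hαlm, hβlm]
        by_cases h1 : i = o
        · rw [if_pos h1, if_pos h1]
        · rw [if_neg h1, if_neg h1]
          by_cases h2 : i = a m
          · rw [if_pos h2, if_neg (by rw [h2]; exact hab m), if_pos h2]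
          · rw [if_neg h2, if_neg h2]
      · intro i
        by_cases h1 : i = o
        · rw [if_pos h1, h1, hΘo]
        · rw [if_neg h1]
          by_cases h2 : i = b l
          · rw [if_pos h2, h2, hΘb]
          · rw [if_neg h2]
            by_cases h3 : i = b m
            · rw [if_pos h3, h3, hΘb, hβlm]
            · rw [if_neg h3]
              by_cases h4 : i = c
              · rw [if_pos h4, h4]
              · rw [if_neg h4]
                exact hzz i h1 h2 h3 h4
    have s1 := hΘsupp (b l) (hbo l) (hΘb0 l)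
    have s2 := hΘsupp (b m) (hbo m) (hΘb0 m)
    rcases s1 with s1 | s1 | s1 <;> rcases s2 with s2 | s2 | s2
    · exact absurd (s1.trans s2.symm) hlm
    · exact mk r hro (by rw [s1]; exact Ne.symm hpr) (by rw [s2]; exact Ne.symm hqr) hr
        (fun i h1 h2 h3 h4 => hΘz i h1 (by rw [← s1]; exact h2) (by rw [← s2]; exact h3) h4)
    · exact mk q hqo (by rw [s1]; exact Ne.symm hpq) (by rw [s2]; exact hqr) hq
        (fun i h1 h2 h3 h4 => hΘz i h1 (by rw [← s1]; exact h2) h4 (by rw [← s2]; exact h3))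
    · exact mk r hro (by rw [s1]; exact Ne.symm hqr) (by rw [s2]; exact Ne.symm hpr) hr
        (fun i h1 h2 h3 h4 => hΘz i h1 (by rw [← s2]; exact h3) (by rw [← s1]; exact h2) h4)
    · exact absurd (s1.trans s2.symm) hlm
    · exact mk p hpo (by rw [s1]; exact hpq) (by rw [s2]; exact hpr) hp
        (fun i h1 h2 h3 h4 => hΘz i h1 h4 (by rw [← s1]; exact h2) (by rw [← s2]; exact h3))
    · exact mk q hqo (by rw [s1]; exact hqr) (by rw [s2]; exact Ne.symm hpq) hq
        (fun i h1 h2 h3 h4 => hΘz i h1 (by rw [← s2]; exact h3) h4 (by rw [← s1]; exact h2))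
    · exact mk p hpo (by rw [s1]; exact hpr) (by rw [s2]; exact hpq) hp
        (fun i h1 h2 h3 h4 => hΘz i h1 h4 (by rw [← s2]; exact h3) (by rw [← s1]; exact h2))
    · exact absurd (s1.trans s2.symm) hlm

end lattice

end Cfsg.Agent.Lib.helper2
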