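import Mathlib
import Cfsg.Prelude.Def_Characters
import Cfsg.Agent.Lib.helper2.BSWDefs
import Cfsg.Agent.Lib.helper2.BSWLat
import Cfsg.Agent.Lib.helper2.BSWChar2
import Cfsg.Agent.Lib.Helper11.VirtChar

set_option autoImplicit false
set_option linter.unusedSectionVars false
open scoped ComplexConjugate

namespace Cfsg.Agent.Lib.helper2

open Cfsg.Agent.Lib.helper7 Cfsg.Agent.Lib.Helper25 Cfsg.Agent.Lib.Helper11

section coeff

variable {G : Type*} [Group G] [Fintype G] [Fintype (Cfsg.IrrCharacter G)]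

/-- integer coefficient of an irreducible character in a generalized character -/
noncomputable def bswCoeff (θ : G → ℂ) (χ : Cfsg.IrrCharacter G) : ℤ :=
  ⌊(Cfsg.classInner θ (χ : G → ℂ)).re⌋

theorem bswCoeff_spec {θ : G → ℂ} (hθ : Cfsg.IsGeneralizedCharacter G θ)
    (χ : Cfsg.IrrCharacter G) : Cfsg.classInner θ (χ : G → ℂ) = (bswCoeff θ χ : ℂ) := by
  obtain ⟨z, hz⟩ := genChar_inner_int θ hθ χ
  unfold bswCoeff
  rw [hz]
  simp

theorem bsw_expand {θ : G → ℂ} (hθ : Cfsg.IsGeneralizedCharacter G θ) :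
    θ = ∑ χ : Cfsg.IrrCharacter G, (bswCoeff θ χ : ℂ) • (χ : G → ℂ) := by
  have h := classFunction_expansion θ (genChar_classFunction θ hθ)
  simp only [bswCoeff_spec hθ] at h
  exact h

theorem bsw_expand_apply {θ : G → ℂ} (hθ : Cfsg.IsGeneralizedCharacter G θ) (x : G) :
    θ x = ∑ χ : Cfsg.IrrCharacter G, (bswCoeff θ χ : ℂ) * (χ : G → ℂ) x := by
  have h := congrFun (bsw_expand hθ) x
  rw [Finset.sum_apply] at h
  simpa using h

theorem bsw_inner_eq_dot [DecidableEq (Cfsg.IrrCharacter G)] {θ φ : G → ℂ}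
    (hθ : Cfsg.IsGeneralizedCharacter G θ)
    (hφ : Cfsg.IsGeneralizedCharacter G φ) :
    Cfsg.classInner θ φ = ((bswDot (bswCoeff θ) (bswCoeff φ) : ℤ) : ℂ) := by
  have h1 : Cfsg.classInner θ φ =
      Cfsg.classInner (∑ χ : Cfsg.IrrCharacter G, (bswCoeff θ χ : ℂ) • (χ : G → ℂ)) φ := by
    rw [← bsw_expand hθ]
  rw [h1, classInner_sum_left]
  unfold bswDot
  push_cast
  refine Finset.sum_congr rfl fun χ _ => ?_
  rw [classInner_smul_left, Cfsg.Agent.Lib.helper2.classInner_conj_symm (χ : G → ℂ) φ, bswCoeff_spec hφ]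
  simp

theorem bswCoeff_neg (θ : G → ℂ) (hθ : Cfsg.IsGeneralizedCharacter G θ)
    (χ : Cfsg.IrrCharacter G) : bswCoeff (-θ) χ = - bswCoeff θ χ := by
  have hneg : Cfsg.IsGeneralizedCharacter G (-θ) := by
    obtain ⟨a, b, ha, hb, rfl⟩ := hθ
    exact ⟨b, a, hb, ha, by simp⟩
  have h1 := bswCoeff_spec hneg χ
  rw [bsw_inner_neg_left, bswCoeff_spec hθ] at h1
  have : ((-(bswCoeff θ χ) : ℤ) : ℂ) = ((bswCoeff (-θ) χ : ℤ) : ℂ) := by
    rw [← h1]; push_cast; ring
  exact (Int.cast_injective this).symm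

theorem bswCoeff_triv_one (χ : Cfsg.IrrCharacter G) :
    Cfsg.classInner (trivIrr G : G → ℂ) (χ : G → ℂ) = if trivIrr G = χ then 1 else 0 :=
  irr_classInner _ _

end coeff

section beta

variable {G : Type*} [Group G] [Fintype G]

theorem bsw_orderOf_conj (g x : G) : orderOf (g * x * g⁻¹) = orderOf x := by
  have : g * x * g⁻¹ = MulAut.conj g x := by simp
  rw [this, MulEquiv.orderOf_eq]

theorem bswBeta_conj (g h : G) : bswBeta (h * g * h⁻¹) = bswBeta g := by
  unfold bswBeta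
  apply Nat.card_congr
  refine
    { toFun := fun p => ⟨(h⁻¹ * p.1.1 * h, h⁻¹ * p.1.2 * h), ?_, ?_, ?_⟩
      invFun := fun p => ⟨(h * p.1.1 * h⁻¹, h * p.1.2 * h⁻¹), ?_, ?_, ?_⟩
      left_inv := fun p => by ext <;> simp [mul_assoc]
      right_inv := fun p => by ext <;> simp [mul_assoc] }
  · have := bsw_orderOf_conj (h⁻¹) p.1.1
    simp only [inv_inv] at this
    dsimp only
    rw [this]; exact p.2.1
  · have := bsw_orderOf_conj (h⁻¹) p.1.2
    simp only [inv_inv] at this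
    dsimp only
    rw [this]; exact p.2.2.1
  · dsimp only
    have := p.2.2.2
    calc h⁻¹ * p.1.1 * h * (h⁻¹ * p.1.2 * h) = h⁻¹ * (p.1.1 * p.1.2) * h := by group
      _ = h⁻¹ * (h * g * h⁻¹) * h := by rw [this]
      _ = g := by group
  · dsimp only
    rw [bsw_orderOf_conj]; exact p.2.1
  · dsimp only
    rw [bsw_orderOf_conj]; exact p.2.2.1
  · dsimp only
    have := p.2.2.2
    calc h * p.1.1 * h⁻¹ * (h * p.1.2 * h⁻¹) = h * (p.1.1 * p.1.2) * h⁻¹ := by group
      _ = h * g * h⁻¹ := by rw [this]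

open Classical in
theorem bswBeta_eq_sum (g : G) :
    (bswBeta g : ℂ) = ∑ u : G, ∑ v : G,
      if orderOf u = 2 ∧ orderOf v = 2 ∧ u * v = g then (1 : ℂ) else 0 := by
  unfold bswBeta
  rw [Nat.card_eq_fintype_card, Fintype.card_subtype, ← Finset.sum_product',
    Finset.card_filter]
  push_cast
  rfl

open Classical in
/-- summing a function against `β` -/
theorem bswBeta_sum_mul (F : G → ℂ) :
    ∑ g : G, (bswBeta g : ℂ) * F g =
      ∑ u : G, ∑ v : G, if orderOf u = 2 ∧ orderOf v = 2 then F (u * v) else 0 := by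
  simp only [bswBeta_eq_sum, Finset.sum_mul]
  rw [Finset.sum_comm]
  refine Finset.sum_congr rfl fun u _ => ?_
  rw [Finset.sum_comm]
  refine Finset.sum_congr rfl fun v _ => ?_
  by_cases h : orderOf u = 2 ∧ orderOf v = 2
  · rw [if_pos h]
    rw [Finset.sum_eq_single (u * v)]
    · rw [if_pos ⟨h.1, h.2, rfl⟩, one_mul]
    · intro g _ hg
      rw [if_neg (fun h' => hg h'.2.2.symm), zero_mul]
    · intro h'; exact absurd (Finset.mem_univ _) h'
  · rw [if_neg h]
    apply Finset.sum_eq_zero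
    intro g _
    rw [if_neg (fun h' => h ⟨h'.1, h'.2.1⟩), zero_mul]

variable [Fintype (Cfsg.IrrCharacter G)]

open Classical in
theorem bsw_sum_invol_pairs (t : G) (ht : orderOf t = 2)
    (hconj : ∀ x y : G, orderOf x = 2 → orderOf y = 2 → IsConj x y)
    (χ : Cfsg.IrrCharacter G) :
    (Nat.card (Subgroup.centralizer ({t} : Set G)) : ℂ) ^ 2 *
      (∑ u : G, ∑ v : G, if orderOf u = 2 ∧ orderOf v = 2 then (χ : G → ℂ) (u * v) else 0) =
      (Nat.card G : ℂ) ^ 2 * (χ : G → ℂ) t * (χ : G → ℂ) t / (χ : G → ℂ) 1 := by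
  rw [← irr_sum_conj_conj χ t t]
  have hI : ∀ x : G, IsConj t x ↔ orderOf x = 2 := by
    intro x
    constructor
    · intro h
      obtain ⟨c, hc⟩ := isConj_iff.mp h
      rw [← hc, bsw_orderOf_conj]; exact ht
    · intro h
      exact hconj t x ht h
  have h1 : ∀ a : G, ∑ b : G, (χ : G → ℂ) (a * t * a⁻¹ * (b * t * b⁻¹)) =
      (Nat.card (Subgroup.centralizer ({t} : Set G)) : ℂ) *
        ∑ v : G, if orderOf v = 2 then (χ : G → ℂ) (a * t * a⁻¹ * v) else 0 := by
    intro a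
    rw [h7_sum_conj t (fun v => (χ : G → ℂ) (a * t * a⁻¹ * v)), nsmul_eq_mul, Finset.sum_filter]
    congr 1
    refine Finset.sum_congr rfl fun v _ => ?_
    simp only [hI]
  simp only [h1]
  rw [← Finset.mul_sum]
  rw [h7_sum_conj t (fun u => ∑ v : G, if orderOf v = 2 then (χ : G → ℂ) (u * v) else 0),
    nsmul_eq_mul, Finset.sum_filter]
  rw [pow_two, mul_assoc]
  congr 2
  refine Finset.sum_congr rfl fun u _ => ?_
  by_cases hu : orderOf u = 2
  · rw [if_pos ((hI u).2 hu)]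
    refine Finset.sum_congr rfl fun v _ => ?_
    by_cases hv : orderOf v = 2
    · rw [if_pos ⟨hu, hv⟩, if_pos hv]
    · rw [if_neg (fun h => hv h.2), if_neg hv]
  · rw [if_neg (fun h => hu ((hI u).1 h))]
    apply Finset.sum_eq_zero
    intro v _
    rw [if_neg (fun h => hu h.1)]

/-- the class multiplication formula for the class of involutions -/
theorem bsw_beta_formula (t : G) (ht : orderOf t = 2)
    (hconj : ∀ x y : G, orderOf x = 2 → orderOf y = 2 → IsConj x y) (x : G) :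
    (bswBeta x : ℂ) * (Nat.card (Subgroup.centralizer ({t} : Set G)) : ℂ) ^ 2 =
      (Nat.card G : ℂ) * ∑ χ : Cfsg.IrrCharacter G,
        (χ : G → ℂ) t * (χ : G → ℂ) t * (χ : G → ℂ) x / (χ : G → ℂ) 1 := by
  classical
  have hG : (Nat.card G : ℂ) ≠ 0 := by exact_mod_cast Nat.card_pos.ne'
  set c : ℂ := (Nat.card (Subgroup.centralizer ({t} : Set G)) : ℂ) with hc
  have hc0 : c ≠ 0 := by rw [hc]; exact_mod_cast Nat.card_pos.ne'
  have htinv : t⁻¹ = t := by
    have := pow_orderOf_eq_one t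
    rw [ht, pow_two] at this
    exact inv_eq_of_mul_eq_one_right this
  -- inner products of β with irreducible characters
  have hinner : ∀ χ : Cfsg.IrrCharacter G,
      Cfsg.classInner (fun g => (bswBeta g : ℂ)) (χ : G → ℂ) * c ^ 2 =
        (Nat.card G : ℂ) * ((χ : G → ℂ) t * (χ : G → ℂ) t / (χ : G → ℂ) 1) := by
    intro χ
    unfold Cfsg.classInner
    have h1 := bswBeta_sum_mul (fun g => conj ((χ : G → ℂ) g))
    rw [h1]
    have h2 := bsw_sum_invol_pairs t ht hconj (irrConj χ)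
    simp only [irrConj_apply] at h2
    have hreal : conj ((χ : G → ℂ) t) = (χ : G → ℂ) t := by
      rw [← irr_inv, htinv]
    obtain ⟨n, hn, h1'⟩ := irr_one_eq_finrank χ
    have hc1 : conj ((χ : G → ℂ) 1) = (χ : G → ℂ) 1 := by rw [h1']; simp
    rw [hreal, hc1] at h2
    rw [mul_assoc, mul_comm _ (c ^ 2), h2]
    field_simp
  have hcl : ∀ g h : G, (fun g => (bswBeta g : ℂ)) (h * g * h⁻¹) = (fun g => (bswBeta g : ℂ)) g := by
    intro g h
    simp only [bswBeta_conj]
  have hexp := congrFun (classFunction_expansion (fun g => (bswBeta g : ℂ)) hcl) x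
  simp only [Finset.sum_apply, Pi.smul_apply, smul_eq_mul] at hexp
  rw [hexp, Finset.sum_mul, Finset.mul_sum]
  refine Finset.sum_congr rfl fun χ _ => ?_
  have := hinner χ
  calc Cfsg.classInner (fun g => (bswBeta g : ℂ)) (χ : G → ℂ) * (χ : G → ℂ) x * c ^ 2
      = (Cfsg.classInner (fun g => (bswBeta g : ℂ)) (χ : G → ℂ) * c ^ 2) * (χ : G → ℂ) x := by ring
    _ = (Nat.card G : ℂ) * ((χ : G → ℂ) t * (χ : G → ℂ) t / (χ : G → ℂ) 1) * (χ : G → ℂ) x := by
        rw [this]
    _ = _ := by ring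

end beta

end Cfsg.Agent.Lib.helper2
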