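import Mathlib
import Cfsg.Prelude.Def_Characters
import Cfsg.Agent.Lib.helper2.BSWChar3

set_option autoImplicit false
set_option linter.unusedSectionVars false
open scoped ComplexConjugate

namespace Cfsg.Agent.Lib.helper2

open Cfsg.Agent.Lib.helper7 Cfsg.Agent.Lib.Helper25
  Cfsg.Agent.Lib.Helper11

section part1

variable {G : Type*} [Group G] [Fintype G] {t s : G} {K : Subgroup G} [Fintype K]
  [Fintype (Cfsg.IrrCharacter G)] [Fintype (Cfsg.IrrCharacter K)]

/-- coefficient vector of `(1_K - μ)^G` -/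
noncomputable def bswC (K : Subgroup G) [Fintype K] (μ : Cfsg.IrrCharacter K) :
    Cfsg.IrrCharacter G → ℤ :=
  bswCoeff (bswPhi K μ)

theorem bswC_spec (μ : Cfsg.IrrCharacter K) (χ : Cfsg.IrrCharacter G) :
    Cfsg.classInner (bswPhi K μ) (χ : G → ℂ) = (bswC K μ χ : ℂ) :=
  bswCoeff_spec (bswPhi_genChar μ) χ

theorem bswC_triv (h : BswHyp t K s) (χ : Cfsg.IrrCharacter G) : bswC K (trivIrr K) χ = 0 := by
  have h1 := bswC_spec (K := K) (trivIrr K) χ
  rw [bswPhi_triv h, classInner_zero_left] at h1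
  exact_mod_cast h1.symm

/-- values on `K \ {1}` of an irreducible character of `G` in terms of the coefficient vectors -/
theorem bsw_restrict_formula (h : BswHyp t K s) (χ : Cfsg.IrrCharacter G) (x : K) (hx : x ≠ 1) :
    (χ : G → ℂ) (x : G) = - ∑ μ : Cfsg.IrrCharacter K, (bswC K μ χ : ℂ) * (μ : K → ℂ) x := by
  set r : K → ℂ := fun k => (χ : G → ℂ) (k : G) with hr
  have hrcl : ∀ g k : K, r (k * g * k⁻¹) = r g := by
    intro g k
    have : k * g * k⁻¹ = g := by
      rw [bsw_K_comm' h k g, mul_assoc, mul_inv_cancel, mul_one]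
    rw [this]
  have hexp := congrFun (classFunction_expansion r hrcl) x
  simp only [Finset.sum_apply, Pi.smul_apply, smul_eq_mul] at hexp
  have hcoef : ∀ μ : Cfsg.IrrCharacter K, Cfsg.classInner r (μ : K → ℂ) =
      Cfsg.classInner r (trivIrr K : K → ℂ) - (bswC K μ χ : ℂ) := by
    intro μ
    have h1 := bswC_spec (K := K) μ χ
    unfold bswPhi at h1
    rw [h7_frobenius_reciprocity K _ _ (isCharacter_isClassFunction (isCharacter_of_irr χ))] at h1
    have h2 : (fun x : K => 1 - (μ : K → ℂ) x) = (trivIrr K : K → ℂ) - (μ : K → ℂ) := by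
      funext x; simp
    rw [h2, classInner_sub_left] at h1
    have h3 := congrArg (starRingEnd ℂ) h1
    rw [map_sub, ← Cfsg.Agent.Lib.helper2.classInner_conj_symm,
      ← Cfsg.Agent.Lib.helper2.classInner_conj_symm] at h3
    rw [map_intCast] at h3
    rw [← h3]
    ring
  have : (χ : G → ℂ) (x : G) = r x := rfl
  rw [this, hexp]
  have e1 : ∑ μ : Cfsg.IrrCharacter K, Cfsg.classInner r (μ : K → ℂ) * (μ : K → ℂ) x =
      ∑ μ : Cfsg.IrrCharacter K, (Cfsg.classInner r (trivIrr K : K → ℂ) * (μ : K → ℂ) x -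
        (bswC K μ χ : ℂ) * (μ : K → ℂ) x) := by
    refine Finset.sum_congr rfl fun μ _ => ?_
    rw [hcoef μ, sub_mul]
  rw [e1, Finset.sum_sub_distrib, ← Finset.mul_sum, bsw_ab_sum (bsw_K_comm' h) hx, mul_zero,
    zero_sub]

/-- row orthogonality in `K` -/
theorem bsw_K_row (μ η : Cfsg.IrrCharacter K) :
    ∑ x : K, (μ : K → ℂ) x * conj ((η : K → ℂ) x) =
      (Nat.card K : ℂ) * (if μ = η then 1 else 0) := by
  have hK : (Nat.card K : ℂ) ≠ 0 := by exact_mod_cast Nat.card_pos.ne'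
  have h1 := irr_classInner μ η
  unfold Cfsg.classInner at h1
  rw [← h1]
  field_simp

/-- the key identity obtained from `β = |K|` on `K \ {1}` -/
theorem bsw_E (h : BswHyp t K s) (L : BswLoc t K s) (η : Cfsg.IrrCharacter K) (hη : η ≠ trivIrr K) :
    (Nat.card G : ℂ) * ∑ χ : Cfsg.IrrCharacter G,
      (χ : G → ℂ) t * (χ : G → ℂ) t * (bswC K η χ : ℂ) / (χ : G → ℂ) 1 =
      4 * (Nat.card K : ℂ) ^ 3 := by
  classical
  have hK : (Nat.card K : ℂ) ≠ 0 := by exact_mod_cast Nat.card_pos.ne'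
  have hG : (Nat.card G : ℂ) ≠ 0 := by exact_mod_cast Nat.card_pos.ne'
  set A : Cfsg.IrrCharacter K → ℂ := fun μ => ∑ χ : Cfsg.IrrCharacter G,
      (χ : G → ℂ) t * (χ : G → ℂ) t * (bswC K μ χ : ℂ) / (χ : G → ℂ) 1 with hA
  set C₀ : ℂ := 4 * (Nat.card K : ℂ) ^ 3 / (Nat.card G : ℂ) with hC₀
  -- the function f vanishes off the identity
  have hf : ∀ x : K, x ≠ 1 → ∑ μ : Cfsg.IrrCharacter K, A μ * (μ : K → ℂ) x + C₀ = 0 := by
    intro x hx
    have hx' : (x : G) ≠ 1 := fun h' => hx (Subtype.ext h')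
    have h1 := bsw_beta_formula t h.ht h.hconj (x : G)
    rw [L.beta_K x.2 hx', L.card_H] at h1
    have h2 : ∑ χ : Cfsg.IrrCharacter G,
        (χ : G → ℂ) t * (χ : G → ℂ) t * (χ : G → ℂ) (x : G) / (χ : G → ℂ) 1 =
        - ∑ μ : Cfsg.IrrCharacter K, A μ * (μ : K → ℂ) x := by
      simp only [bsw_restrict_formula h _ x hx, hA]
      simp only [Finset.sum_mul]
      rw [Finset.sum_comm, ← Finset.sum_neg_distrib]
      refine Finset.sum_congr rfl fun χ _ => ?_
      rw [mul_neg, neg_div, Finset.mul_sum, Finset.sum_div]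
      congr 1
      refine Finset.sum_congr rfl fun μ _ => ?_
      ring
    rw [h2] at h1
    rw [hC₀]
    have h3 : ∑ μ : Cfsg.IrrCharacter K, A μ * (μ : K → ℂ) x =
        - ((Nat.card K : ℂ) * ((2 * Nat.card K : ℕ) : ℂ) ^ 2) / (Nat.card G : ℂ) := by
      field_simp
      rw [h1]
      ring
    rw [h3]
    push_cast
    field_simp
    ring
  -- sum against conj η
  have hsum : ∀ ζ : Cfsg.IrrCharacter K,
      ∑ x : K, (∑ μ : Cfsg.IrrCharacter K, A μ * (μ : K → ℂ) x + C₀) * conj ((ζ : K → ℂ) x) =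
        (Nat.card K : ℂ) * A ζ + C₀ * (Nat.card K : ℂ) * (if trivIrr K = ζ then 1 else 0) := by
    intro ζ
    simp only [add_mul, Finset.sum_add_distrib, Finset.sum_mul]
    rw [Finset.sum_comm]
    have e1 : ∀ μ : Cfsg.IrrCharacter K, ∑ x : K, A μ * (μ : K → ℂ) x * conj ((ζ : K → ℂ) x) =
        A μ * ((Nat.card K : ℂ) * (if μ = ζ then 1 else 0)) := by
      intro μ
      rw [← bsw_K_row μ ζ, Finset.mul_sum]
      refine Finset.sum_congr rfl fun x _ => ?_
      ring
    simp only [e1]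
    have e2 : ∑ x : K, C₀ * conj ((ζ : K → ℂ) x) =
        C₀ * ((Nat.card K : ℂ) * (if trivIrr K = ζ then 1 else 0)) := by
      rw [← bsw_K_row (trivIrr K) ζ, Finset.mul_sum]
      refine Finset.sum_congr rfl fun x _ => ?_
      simp
    rw [e2]
    rw [Finset.sum_eq_single ζ]
    · rw [if_pos rfl]; ring
    · intro μ _ hμ
      rw [if_neg hμ]; ring
    · intro h'; exact absurd (Finset.mem_univ _) h'
  have hsum' : ∀ ζ : Cfsg.IrrCharacter K,
      ∑ x : K, (∑ μ : Cfsg.IrrCharacter K, A μ * (μ : K → ℂ) x + C₀) * conj ((ζ : K → ℂ) x) =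
        (∑ μ : Cfsg.IrrCharacter K, A μ * (μ : K → ℂ) 1 + C₀) := by
    intro ζ
    rw [Finset.sum_eq_single (1 : K)]
    · rw [bsw_ab_one (bsw_K_comm' h) ζ, map_one, mul_one]
    · intro x _ hx
      rw [hf x hx, zero_mul]
    · intro h'; exact absurd (Finset.mem_univ _) h'
  have hAtriv : A (trivIrr K) = 0 := by
    rw [hA]
    apply Finset.sum_eq_zero
    intro χ _
    rw [bswC_triv h χ]
    simp
  have h1 := (hsum (trivIrr K)).symm.trans (hsum' (trivIrr K))
  have h2 := (hsum η).symm.trans (hsum' η)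
  rw [if_pos rfl, hAtriv] at h1
  rw [if_neg (Ne.symm hη)] at h2
  have h3 : A η = C₀ := by
    have : (Nat.card K : ℂ) * A η = (Nat.card K : ℂ) * C₀ := by
      linear_combination h2 - h1
    exact mul_left_cancel₀ hK this
  change (Nat.card G : ℂ) * A η = _
  rw [h3, hC₀]
  field_simp

end part1

end Cfsg.Agent.Lib.helper2
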