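import Mathlib

set_option autoImplicit false

namespace Cfsg.Agent.Lib.helper2

/-- arithmetic core: degree of `X`, number of involutions -/
theorem bsw_arith_f (e N i : ℕ) (he : 2 ≤ e) (f d n β α : ℤ) (hβ : β = 1 ∨ β = -1)
    (hα : α = 1 ∨ α = -1) (hf : 0 < f) (hd : 0 < d)
    (ha : 1 + β * f + α * d = 0)
    (hc : (N : ℂ) * (1 + (β : ℂ) / f + 4 * (α : ℂ) / d) = 4 * (e : ℂ) ^ 3)
    (he' : f + (2 * e - 1) * β = 2 * e * n) (hN : N = 2 * e * i) :
    f = 2 * e + β ∧ (i : ℤ) = (2 * e + β) * (e + β) ∧ α = -β ∧ d = 2 * (e + β) := by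
  have hez : (2 : ℤ) ≤ (e : ℤ) := by exact_mod_cast he
  have hfC : (f : ℂ) ≠ 0 := by exact_mod_cast hf.ne'
  have hdC : (d : ℂ) ≠ 0 := by exact_mod_cast hd.ne'
  have hepos : (0 : ℤ) < 8 * (e : ℤ) ^ 3 := by positivity
  rcases hβ with rfl | rfl
  · -- β = 1
    have hα' : α = -1 := by
      rcases hα with rfl | rfl
      · exfalso; linarith
      · rfl
    subst hα'
    have hd1 : d = 1 + f := by linarith
    subst hd1
    have key : (N : ℤ) * (f - 1) ^ 2 = 4 * (e : ℤ) ^ 3 * f * (f + 1) := by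
      have h1 : ((1 + f : ℤ) : ℂ) = 1 + (f : ℂ) := by push_cast; ring
      rw [h1] at hc hdC
      have : (N : ℂ) * ((f : ℂ) - 1) ^ 2 = 4 * (e : ℂ) ^ 3 * f * (f + 1) := by
        have h2 : (N : ℂ) * (1 + ((1 : ℤ) : ℂ) / f + 4 * ((-1 : ℤ) : ℂ) / (1 + (f : ℂ))) =
            (N : ℂ) * ((f : ℂ) - 1) ^ 2 / (f * (1 + f)) := by
          push_cast
          field_simp
          ring
        rw [h2] at hc
        field_simp at hc
        linear_combination hc
      exact_mod_cast this
    set c₀ : ℤ := n - 1 with hc₀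
    have hfc : f = 2 * e * c₀ + 1 := by rw [hc₀]; linarith
    have hNi : (N : ℤ) = 2 * e * i := by exact_mod_cast hN
    rw [hNi, hfc] at key
    have key2 : (i : ℤ) * c₀ ^ 2 = (2 * e * c₀ + 1) * (e * c₀ + 1) := by
      have : 8 * (e : ℤ) ^ 3 * ((i : ℤ) * c₀ ^ 2) =
          8 * (e : ℤ) ^ 3 * ((2 * e * c₀ + 1) * (e * c₀ + 1)) := by
        linear_combination key
      exact mul_left_cancel₀ hepos.ne' this
    have key3 : c₀ * ((i : ℤ) * c₀ - 2 * e ^ 2 * c₀ - 3 * e) = 1 := by
      linear_combination key2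
    have hc1 : c₀ = 1 := by
      rcases Int.eq_one_or_neg_one_of_mul_eq_one key3 with h | h
      · exact h
      · exfalso
        rw [h] at hfc
        linarith
    rw [hc1] at hfc key2
    refine ⟨by linarith, by linarith, rfl, by linarith⟩
  · -- β = -1
    set c₀ : ℤ := n + 1 with hc₀
    have hfc : f = 2 * e * c₀ - 1 := by rw [hc₀]; linarith
    have hc0pos : 1 ≤ c₀ := by
      by_contra hcon
      push Not at hcon
      have : c₀ ≤ 0 := by linarith
      have : 2 * (e : ℤ) * c₀ ≤ 0 := by nlinarith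
      linarith
    have hf3 : 3 ≤ f := by nlinarith
    have hα' : α = 1 := by
      rcases hα with rfl | rfl
      · rfl
      · exfalso; linarith
    subst hα'
    have hd1 : d = f - 1 := by linarith
    subst hd1
    have key : (N : ℤ) * (f + 1) ^ 2 = 4 * (e : ℤ) ^ 3 * f * (f - 1) := by
      have h1 : ((f - 1 : ℤ) : ℂ) = (f : ℂ) - 1 := by push_cast; ring
      rw [h1] at hc hdC
      have : (N : ℂ) * ((f : ℂ) + 1) ^ 2 = 4 * (e : ℂ) ^ 3 * f * (f - 1) := by
        have h2 : (N : ℂ) * (1 + ((-1 : ℤ) : ℂ) / f + 4 * ((1 : ℤ) : ℂ) / ((f : ℂ) - 1)) =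
            (N : ℂ) * ((f : ℂ) + 1) ^ 2 / (f * (f - 1)) := by
          push_cast
          field_simp
          ring
        rw [h2] at hc
        field_simp at hc
        linear_combination hc
      exact_mod_cast this
    have hNi : (N : ℤ) = 2 * e * i := by exact_mod_cast hN
    rw [hNi, hfc] at key
    have key2 : (i : ℤ) * c₀ ^ 2 = (2 * e * c₀ - 1) * (e * c₀ - 1) := by
      have : 8 * (e : ℤ) ^ 3 * ((i : ℤ) * c₀ ^ 2) =
          8 * (e : ℤ) ^ 3 * ((2 * e * c₀ - 1) * (e * c₀ - 1)) := by
        linear_combination key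
      exact mul_left_cancel₀ hepos.ne' this
    have key3 : c₀ * ((i : ℤ) * c₀ - 2 * e ^ 2 * c₀ + 3 * e) = 1 := by
      linear_combination key2
    have hc1 : c₀ = 1 := by
      rcases Int.eq_one_or_neg_one_of_mul_eq_one key3 with h | h
      · exact h
      · exfalso; linarith
    rw [hc1] at hfc key2
    refine ⟨by linarith, by linarith, rfl, by linarith⟩

/-- arithmetic core: the two characters of degree `(q+δ)/2` -/
theorem bsw_arith_y (e : ℕ) (he : 2 ≤ e) (y y' β γ γ' : ℤ) (hβ : β = 1 ∨ β = -1)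
    (hγ : γ = 1 ∨ γ = -1) (hγ' : γ' = 1 ∨ γ' = -1) (hy : 0 < y) (hy' : 0 < y')
    (hb : γ * y + γ' * y' = 2 * β * (e + β))
    (hq : (γ : ℂ) / y + (γ' : ℂ) / y' = 2 * (β : ℂ) / ((e : ℂ) + β)) :
    γ = β ∧ γ' = β ∧ y = e + β ∧ y' = e + β := by
  have hez : (2 : ℤ) ≤ (e : ℤ) := by exact_mod_cast he
  have hyC : (y : ℂ) ≠ 0 := by exact_mod_cast hy.ne'
  have hy'C : (y' : ℂ) ≠ 0 := by exact_mod_cast hy'.ne'
  have hyy : 0 < y * y' := mul_pos hy hy'
  rcases hβ with rfl | rfl
  · have hE : ((e : ℂ) + ((1 : ℤ) : ℂ)) ≠ 0 := by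
      have : ((e : ℂ) + ((1 : ℤ) : ℂ)) = (((e : ℤ) + 1 : ℤ) : ℂ) := by push_cast; ring
      rw [this]
      have : (0 : ℤ) < (e : ℤ) + 1 := by linarith
      exact_mod_cast this.ne'
    rcases hγ with rfl | rfl <;> rcases hγ' with rfl | rfl
    · -- (1,1)
      have h1 : (y + y') * ((e : ℤ) + 1) = 2 * (y * y') := by
        have : ((y : ℂ) + y') * ((e : ℂ) + 1) = 2 * ((y : ℂ) * y') := by
          push_cast at hq hE
          field_simp at hq
          linear_combination hq
        exact_mod_cast this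
      have h2 : y + y' = 2 * ((e : ℤ) + 1) := by linarith
      have h3 : (y - y') ^ 2 = 0 := by nlinarith
      have h4 : y = y' := by
        have := pow_eq_zero_iff (two_ne_zero) |>.1 h3
        linarith
      refine ⟨rfl, rfl, by linarith, by linarith⟩
    · -- (1,-1)
      exfalso
      have h1 : (y' - y) * ((e : ℤ) + 1) = 2 * (y * y') := by
        have : ((y' : ℂ) - y) * ((e : ℂ) + 1) = 2 * ((y : ℂ) * y') := by
          push_cast at hq hE
          field_simp at hq
          linear_combination hq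
        exact_mod_cast this
      nlinarith
    · -- (-1,1)
      exfalso
      have h1 : (y - y') * ((e : ℤ) + 1) = 2 * (y * y') := by
        have : ((y : ℂ) - y') * ((e : ℂ) + 1) = 2 * ((y : ℂ) * y') := by
          push_cast at hq hE
          field_simp at hq
          linear_combination hq
        exact_mod_cast this
      nlinarith
    · exfalso
      nlinarith
  · have hE : ((e : ℂ) + ((-1 : ℤ) : ℂ)) ≠ 0 := by
      have : ((e : ℂ) + ((-1 : ℤ) : ℂ)) = (((e : ℤ) - 1 : ℤ) : ℂ) := by push_cast; ring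
      rw [this]
      have : (0 : ℤ) < (e : ℤ) - 1 := by linarith
      exact_mod_cast this.ne'
    rcases hγ with rfl | rfl <;> rcases hγ' with rfl | rfl
    · exfalso
      nlinarith
    · -- (1,-1)
      exfalso
      have h1 : (y' - y) * ((e : ℤ) - 1) = -2 * (y * y') := by
        have : ((y' : ℂ) - y) * ((e : ℂ) - 1) = -2 * ((y : ℂ) * y') := by
          push_cast at hq hE
          field_simp at hq
          linear_combination hq
        exact_mod_cast this
      nlinarith
    · exfalso
      have h1 : (y - y') * ((e : ℤ) - 1) = -2 * (y * y') := by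
        have : ((y : ℂ) - y') * ((e : ℂ) - 1) = -2 * ((y : ℂ) * y') := by
          push_cast at hq hE
          field_simp at hq
          linear_combination hq
        exact_mod_cast this
      nlinarith
    · -- (-1,-1)
      have h1 : (y + y') * ((e : ℤ) - 1) = 2 * (y * y') := by
        have : ((y : ℂ) + y') * ((e : ℂ) - 1) = 2 * ((y : ℂ) * y') := by
          push_cast at hq hE
          field_simp at hq
          linear_combination (-1 : ℂ) * hq
        exact_mod_cast this
      have h2 : y + y' = 2 * ((e : ℤ) - 1) := by linarith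
      have h3 : (y - y') ^ 2 = 0 := by nlinarith
      have h4 : y = y' := by
        have := pow_eq_zero_iff (two_ne_zero) |>.1 h3
        linarith
      refine ⟨rfl, rfl, by linarith, by linarith⟩

end Cfsg.Agent.Lib.helper2
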