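import Mathlib
import Cfsg.Prelude.Def_Characters
import Cfsg.Agent.Lib.helper2.BSWChar4

set_option autoImplicit false
set_option linter.unusedSectionVars false
open scoped ComplexConjugate

namespace Cfsg.Agent.Lib.helper2

open Cfsg.Agent.Lib.helper7 Cfsg.Agent.Lib.Helper25 Cfsg.Agent.Lib.Helper11

section part2

variable {G : Type*} [Group G] [Fintype G] {t s : G} {K : Subgroup G} [Fintype K]
  [Fintype (Cfsg.IrrCharacter G)] [Fintype (Cfsg.IrrCharacter K)]

theorem irrConj_triv (A : Type*) [Group A] [Finite A] : irrConj (trivIrr A) = trivIrr A := by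
  apply Subtype.ext
  funext x
  simp [irrConj_apply]

theorem bsw_irrConj_irrConj {A : Type*} [Group A] [Finite A] (μ : Cfsg.IrrCharacter A) :
    irrConj (irrConj μ) = μ := by
  apply Subtype.ext
  funext x
  simp [irrConj_apply]

theorem irrConj_ne_triv {A : Type*} [Group A] [Finite A] {μ : Cfsg.IrrCharacter A}
    (hμ : μ ≠ trivIrr A) : irrConj μ ≠ trivIrr A := by
  intro h'
  apply hμ
  have := congrArg irrConj h'
  rw [bsw_irrConj_irrConj, irrConj_triv] at this
  exact this

/-- `(1 - μ̄)^G = (1 - μ)^G` -/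
theorem bswPhi_conj (h : BswHyp t K s) (L : BswLoc t K s) (μ : Cfsg.IrrCharacter K) :
    bswPhi K (irrConj μ) = bswPhi K μ := by
  funext x
  by_cases hx : bswOut K x
  · rw [bswPhi_out _ hx, bswPhi_out _ hx]
  · unfold bswOut at hx
    push Not at hx
    obtain ⟨g, hg⟩ := hx
    have h1 : ∀ ζ : Cfsg.IrrCharacter K, bswPhi K ζ x = bswPhi K ζ (g * x * g⁻¹) :=
      fun ζ => (bswPhi_classFunction ζ x g).symm
    rw [h1, h1]
    have h2 := bswPhi_restrict h L (irrConj μ) ⟨g * x * g⁻¹, hg⟩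
    have h3 := bswPhi_restrict h L μ ⟨g * x * g⁻¹, hg⟩
    simp only at h2 h3
    rw [h2, h3, irrConj_apply, Complex.conj_conj]
    ring

theorem bswC_conj (h : BswHyp t K s) (L : BswLoc t K s) (μ : Cfsg.IrrCharacter K) :
    bswC K (irrConj μ) = (bswC K μ : Cfsg.IrrCharacter G → ℤ) := by
  unfold bswC
  rw [bswPhi_conj h L]

/-- the solutions of `x * x = 1` in `K` -/
theorem bsw_card_sq_one (h : BswHyp t K s) (L : BswLoc t K s) :
    Nat.card {x : K // x * x = 1} = 2 := by
  classical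
  have ht2 : t * t = 1 := by
    have := pow_orderOf_eq_one t
    rwa [h.ht, pow_two] at this
  have ht1 : t ≠ 1 := by
    intro h'
    have := h.ht
    rw [h', orderOf_one] at this
    norm_num at this
  rw [Nat.card_eq_two_iff]
  refine ⟨⟨1, by simp⟩, ⟨⟨t, h.htK⟩, Subtype.ext ht2⟩, ?_, ?_⟩
  · intro h'
    have := congrArg (fun y : {x : K // x * x = 1} => ((y : K) : G)) h'
    exact ht1 this.symm
  · ext ⟨x, hx⟩
    simp only [Set.mem_insert_iff, Set.mem_singleton_iff, Set.mem_univ, iff_true, Subtype.mk.injEq]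
    by_cases hx1 : x = 1
    · exact Or.inl hx1
    · right
      have hx' : (x : G) * (x : G) = 1 := congrArg Subtype.val hx
      have hx1' : (x : G) ≠ 1 := fun h' => hx1 (Subtype.ext h')
      have ho : orderOf (x : G) = 2 := orderOf_eq_prime (by rw [pow_two]; exact hx') hx1'
      exact Subtype.ext (L.invol_K x.2 ho)

/-- the unique nontrivial real irreducible character of `K` -/
theorem bsw_exists_nu (h : BswHyp t K s) (L : BswLoc t K s) :
    ∃ ν : Cfsg.IrrCharacter K, ν ≠ trivIrr K ∧ irrConj ν = ν ∧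
      ∀ μ : Cfsg.IrrCharacter K, irrConj μ = μ → μ = trivIrr K ∨ μ = ν := by
  have h1 := bsw_ab_real_card (A := K) (bsw_K_comm' h)
  rw [bsw_card_sq_one h L, Nat.card_eq_two_iff' ⟨trivIrr K, irrConj_triv K⟩] at h1
  obtain ⟨ν, hν, huniq⟩ := h1
  refine ⟨ν.1, ?_, ν.2, ?_⟩
  · intro h'
    exact hν (Subtype.ext h')
  · intro μ hμ
    by_cases hμ1 : μ = trivIrr K
    · exact Or.inl hμ1
    · right
      have := huniq ⟨μ, hμ⟩ (fun h' => hμ1 (congrArg Subtype.val h'))
      exact congrArg Subtype.val this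

/-- degree of an irreducible character as an integer -/
noncomputable def bswDeg (χ : Cfsg.IrrCharacter G) : ℤ := (Cfsg.charDegree (χ : G → ℂ) : ℤ)

theorem bswDeg_pos (χ : Cfsg.IrrCharacter G) : 0 < bswDeg χ := by
  unfold bswDeg
  exact_mod_cast (charDegree_irr χ).2

theorem bswDeg_spec (χ : Cfsg.IrrCharacter G) : ((bswDeg χ : ℤ) : ℂ) = (χ : G → ℂ) 1 := by
  unfold bswDeg
  rw [← (charDegree_irr χ).1]
  push_cast
  rfl

theorem bswDeg_triv : bswDeg (trivIrr G) = 1 := by
  have h := bswDeg_spec (trivIrr G)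
  rw [trivIrr_apply] at h
  exact_mod_cast h

variable [DecidableEq (Cfsg.IrrCharacter G)] [DecidableEq (Cfsg.IrrCharacter K)]

theorem bswC_dot (h : BswHyp t K s) (L : BswLoc t K s) (μ η : Cfsg.IrrCharacter K)
    (hμ : μ ≠ trivIrr K) (hη : η ≠ trivIrr K) :
    bswDot (bswC K μ) (bswC K η) =
      2 + (if μ = η then 1 else 0) + (if μ = irrConj η then 1 else 0) := by
  have h1 := bsw_inner_eq_dot (bswPhi_genChar (K := K) μ) (bswPhi_genChar (K := K) η)
  rw [bswPhi_inner h L μ η hμ hη] at h1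
  have h2 : ((bswDot (bswC K μ) (bswC K η) : ℤ) : ℂ) =
      ((2 + (if μ = η then 1 else 0) + (if μ = irrConj η then 1 else 0) : ℤ) : ℂ) := by
    rw [show bswC K μ = bswCoeff (bswPhi K μ) from rfl, show bswC K η = bswCoeff (bswPhi K η) from rfl,
      ← h1]
    push_cast
    congr 1
    · congr 1
      split_ifs <;> rfl
    · split_ifs <;> rfl
  exact_mod_cast h2

theorem bswC_triv_coord (μ : Cfsg.IrrCharacter K) (hμ : μ ≠ trivIrr K) :
    bswC K μ (trivIrr G) = 1 := by
  have h1 := bswC_spec (K := K) μ (trivIrr G)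
  rw [bswPhi_inner_triv, if_neg hμ, sub_zero] at h1
  exact_mod_cast h1.symm

theorem bswC_deg (h : BswHyp t K s) (μ : Cfsg.IrrCharacter K) :
    bswDot (bswC K μ) (bswDeg : Cfsg.IrrCharacter G → ℤ) = 0 := by
  have h1 := bsw_expand_apply (bswPhi_genChar (K := K) μ) (1 : G)
  rw [bswPhi_one h] at h1
  unfold bswDot
  have : ((∑ χ : Cfsg.IrrCharacter G, bswC K μ χ * bswDeg χ : ℤ) : ℂ) = 0 := by
    rw [h1]
    push_cast
    refine Finset.sum_congr rfl fun χ _ => ?_
    rw [bswDeg_spec]
    rfl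
  exact_mod_cast this

theorem bswDot_neg_left {I : Type*} [Fintype I] (f g : I → ℤ) :
    bswDot (fun i => - f i) g = - bswDot f g := by
  unfold bswDot
  rw [← Finset.sum_neg_distrib]
  exact Finset.sum_congr rfl fun i _ => by ring

theorem bswDot_neg_neg {I : Type*} [Fintype I] (f g : I → ℤ) :
    bswDot (fun i => - f i) (fun i => - g i) = bswDot f g := by
  unfold bswDot
  exact Finset.sum_congr rfl fun i _ => by ring

/-- the lattice lemma applied to the family `(1 - μ)^G` -/
theorem bsw_config (h : BswHyp t K s) (L : BswLoc t K s) (ν : Cfsg.IrrCharacter K)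
    (hν1 : ν ≠ trivIrr K) (hνr : irrConj ν = ν)
    [Nonempty {μ : Cfsg.IrrCharacter K // irrConj μ ≠ μ}] :
    BswStd (trivIrr G) (fun l : {μ : Cfsg.IrrCharacter K // irrConj μ ≠ μ} => bswC K l.1)
        (fun χ => - bswC K ν χ) ∨
      BswGhost (trivIrr G) (fun l : {μ : Cfsg.IrrCharacter K // irrConj μ ≠ μ} => bswC K l.1)
        (fun χ => - bswC K ν χ) := by
  have hT1 : ∀ l : {μ : Cfsg.IrrCharacter K // irrConj μ ≠ μ}, l.1 ≠ trivIrr K := by
    intro l h'
    apply l.2
    rw [h', irrConj_triv]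
  apply bsw_lattice (trivIrr G) bswDeg bswDeg_pos bswDeg_triv
  · intro l
    rw [bswC_dot h L l.1 l.1 (hT1 l) (hT1 l), if_pos rfl, if_neg (fun h' => l.2 h'.symm)]
    norm_num
  · intro l m
    by_cases h1 : l.1 = m.1
    · left
      simp only [h1]
    · by_cases h2 : l.1 = irrConj m.1
      · left
        simp only [h2, bswC_conj h L]
      · right
        rw [bswC_dot h L l.1 m.1 (hT1 l) (hT1 m), if_neg h1, if_neg h2]
        norm_num
  · rw [bswDot_neg_neg, bswC_dot h L ν ν hν1 hν1, if_pos rfl, if_pos hνr.symm]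
    norm_num
  · intro l
    rw [bswDot_neg_left, bswC_dot h L ν l.1 hν1 (hT1 l), if_neg, if_neg]
    · norm_num
    · intro h'
      apply l.2
      have := congrArg irrConj h'
      rw [hνr, bsw_irrConj_irrConj] at this
      rw [← h', ← this]
    · intro h'
      apply l.2
      rw [← h', hνr]
  · intro l
    exact bswC_triv_coord l.1 (hT1 l)
  · rw [bswC_triv_coord ν hν1]
  · intro l
    exact bswC_deg h l.1
  · rw [bswDot_neg_left, bswC_deg h ν, neg_zero]

end part2

end Cfsg.Agent.Lib.helper2
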