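import Mathlib
import Cfsg.Prelude.Def_Characters
import Cfsg.Agent.Lib.helper2.BSWChar5

set_option autoImplicit false
set_option linter.unusedSectionVars false
open scoped ComplexConjugate

namespace Cfsg.Agent.Lib.helper2

open Cfsg.Agent.Lib.helper7 Cfsg.Agent.Lib.Helper25 Cfsg.Agent.Lib.Helper11

section sums

variable {I : Type*} [Fintype I] [DecidableEq I]

theorem bsw_sum_V3 (o b a : I) (hbo : b ≠ o) (hao : a ≠ o) (hab : a ≠ b) (x y z : ℤ)
    (v : I → ℤ)
    (hv : ∀ i, v i = if i = o then x else if i = b then y else if i = a then z else 0)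
    (F : I → ℂ) :
    ∑ i, F i * (v i : ℂ) = (x : ℂ) * F o + (y : ℂ) * F b + (z : ℂ) * F a := by
  have hsub : ∀ i ∈ (Finset.univ : Finset I), i ∉ ({o, b, a} : Finset I) →
      F i * (v i : ℂ) = 0 := by
    intro i _ hi
    simp only [Finset.mem_insert, Finset.mem_singleton, not_or] at hi
    rw [hv i, if_neg hi.1, if_neg hi.2.1, if_neg hi.2.2]
    simp
  rw [← Finset.sum_subset (Finset.subset_univ ({o, b, a} : Finset I)) hsub,
    Finset.sum_insert (by simp [Ne.symm hbo, Ne.symm hao]), Finset.sum_pair (Ne.symm hab),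
    hv o, hv b, hv a, if_pos rfl, if_neg hbo, if_pos rfl, if_neg hao, if_neg hab, if_pos rfl]
  ring

theorem bsw_sum_V4 (o b c c' : I) (hbo : b ≠ o) (hco : c ≠ o) (hc'o : c' ≠ o) (hcb : c ≠ b)
    (hc'b : c' ≠ b) (hcc' : c ≠ c') (x y z w : ℤ) (v : I → ℤ)
    (hv : ∀ i, v i = if i = o then x else if i = b then y else if i = c then z else
      if i = c' then w else 0)
    (F : I → ℂ) :
    ∑ i, F i * (v i : ℂ) = (x : ℂ) * F o + (y : ℂ) * F b + (z : ℂ) * F c + (w : ℂ) * F c' := by
  have hsub : ∀ i ∈ (Finset.univ : Finset I), i ∉ ({o, b, c, c'} : Finset I) →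
      F i * (v i : ℂ) = 0 := by
    intro i _ hi
    simp only [Finset.mem_insert, Finset.mem_singleton, not_or] at hi
    rw [hv i, if_neg hi.1, if_neg hi.2.1, if_neg hi.2.2.1, if_neg hi.2.2.2]
    simp
  rw [← Finset.sum_subset (Finset.subset_univ ({o, b, c, c'} : Finset I)) hsub,
    Finset.sum_insert (by simp [Ne.symm hbo, Ne.symm hco, Ne.symm hc'o]),
    Finset.sum_insert (by simp [Ne.symm hcb, Ne.symm hc'b]), Finset.sum_pair hcc',
    hv o, hv b, hv c, hv c', if_pos rfl, if_neg hbo, if_pos rfl, if_neg hco, if_neg hcb,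
    if_pos rfl, if_neg hc'o, if_neg hc'b, if_neg (Ne.symm hcc'), if_pos rfl]
  ring

end sums

section irrK

variable {G : Type*} [Group G] [Fintype G] {t s : G} {K : Subgroup G} [Fintype K]
  [Fintype (Cfsg.IrrCharacter G)] [Fintype (Cfsg.IrrCharacter K)]
  [DecidableEq (Cfsg.IrrCharacter G)] [DecidableEq (Cfsg.IrrCharacter K)]

/-- decomposition of a sum over `Irr K` into the trivial, the real nontrivial and the nonreal
characters -/
theorem bsw_sum_irrK (ν : Cfsg.IrrCharacter K) (hν1 : ν ≠ trivIrr K) (hνr : irrConj ν = ν)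
    (hreal : ∀ μ : Cfsg.IrrCharacter K, irrConj μ = μ → μ = trivIrr K ∨ μ = ν)
    (F : Cfsg.IrrCharacter K → ℂ) :
    ∑ μ : Cfsg.IrrCharacter K, F μ =
      F (trivIrr K) + F ν + ∑ l : {μ : Cfsg.IrrCharacter K // irrConj μ ≠ μ}, F l.1 := by
  rw [← Finset.sum_filter_add_sum_filter_not Finset.univ
    (fun μ : Cfsg.IrrCharacter K => irrConj μ = μ) F]
  congr 1
  · have : (Finset.univ.filter fun μ : Cfsg.IrrCharacter K => irrConj μ = μ) =
        {trivIrr K, ν} := by
      ext μ
      simp only [Finset.mem_filter, Finset.mem_univ, true_and, Finset.mem_insert,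
        Finset.mem_singleton]
      constructor
      · exact hreal μ
      · rintro (h | h)
        · rw [h]; exact irrConj_triv K
        · rw [h]; exact hνr
    rw [this, Finset.sum_pair (Ne.symm hν1)]
  · rw [← Finset.sum_subtype (Finset.univ.filter fun μ : Cfsg.IrrCharacter K => ¬ irrConj μ = μ)
      (p := fun μ => irrConj μ ≠ μ) (fun x => by simp) F]

end irrK

end Cfsg.Agent.Lib.helper2
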