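import Mathlib
import Cfsg.Prelude.Def_Characters
import Cfsg.Agent.Lib.helper2.BSWChar6
import Cfsg.Agent.Lib.helper2.BSWArith

set_option autoImplicit false
set_option linter.unusedSectionVars false
open scoped ComplexConjugate

namespace Cfsg.Agent.Lib.helper2

open Cfsg.Agent.Lib.helper7 Cfsg.Agent.Lib.Helper25 Cfsg.Agent.Lib.Helper11

section std

variable {G : Type*} [Group G] [Fintype G] {t s : G} {K : Subgroup G} [Fintype K]
  [Fintype (Cfsg.IrrCharacter G)] [Fintype (Cfsg.IrrCharacter K)]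
  [DecidableEq (Cfsg.IrrCharacter G)] [DecidableEq (Cfsg.IrrCharacter K)]

/-- data of the standard configuration -/
structure BswSD (K : Subgroup G) [Fintype K] (ν : Cfsg.IrrCharacter K) where
  b : Cfsg.IrrCharacter G
  c : Cfsg.IrrCharacter G
  c' : Cfsg.IrrCharacter G
  a : {μ : Cfsg.IrrCharacter K // irrConj μ ≠ μ} → Cfsg.IrrCharacter G
  β : ℤ
  α : ℤ
  γ : ℤ
  γ' : ℤ
  hβ : β = 1 ∨ β = -1
  hα : α = 1 ∨ α = -1
  hγ : γ = 1 ∨ γ = -1
  hγ' : γ' = 1 ∨ γ' = -1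
  hbo : b ≠ trivIrr G
  hco : c ≠ trivIrr G
  hc'o : c' ≠ trivIrr G
  hcb : c ≠ b
  hc'b : c' ≠ b
  hcc' : c ≠ c'
  haa : ∀ l, a l ≠ trivIrr G ∧ a l ≠ b ∧ a l ≠ c ∧ a l ≠ c'
  ha : ∀ l m, a l = a m ↔ bswC K l.1 = (bswC K m.1 : Cfsg.IrrCharacter G → ℤ)
  hΦ : ∀ l χ, bswC K l.1 χ =
    if χ = trivIrr G then 1 else if χ = b then β else if χ = a l then α else 0
  hΘ : ∀ χ, - bswC K ν χ =
    if χ = trivIrr G then -1 else if χ = b then -β else if χ = c then γ else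
      if χ = c' then γ' else 0

variable {ν : Cfsg.IrrCharacter K}

theorem BswSD.hν (D : BswSD K ν) (χ : Cfsg.IrrCharacter G) : bswC K ν χ =
    if χ = trivIrr G then 1 else if χ = D.b then D.β else if χ = D.c then -D.γ else
      if χ = D.c' then -D.γ' else 0 := by
  have h := D.hΘ χ
  have h2 : bswC K ν χ = - (- bswC K ν χ) := by ring
  rw [h2, h]
  split_ifs <;> ring

/-- the fibres of `a` -/
theorem BswSD.fiber (D : BswSD K ν) (h : BswHyp t K s) (L : BswLoc t K s)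
    (l m : {μ : Cfsg.IrrCharacter K // irrConj μ ≠ μ}) :
    D.a l = D.a m ↔ (m.1 = l.1 ∨ m.1 = irrConj l.1) := by
  have hT1 : ∀ l : {μ : Cfsg.IrrCharacter K // irrConj μ ≠ μ}, l.1 ≠ trivIrr K := by
    intro l h'
    apply l.2
    rw [h', irrConj_triv]
  rw [D.ha]
  constructor
  · intro heq
    have h1 := bswC_dot h L l.1 m.1 (hT1 l) (hT1 m)
    rw [← heq, bswC_dot h L l.1 l.1 (hT1 l) (hT1 l), if_pos rfl,
      if_neg (fun h' => l.2 h'.symm)] at h1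
    by_cases h2 : l.1 = m.1
    · exact Or.inl h2.symm
    · rw [if_neg h2] at h1
      by_cases h3 : l.1 = irrConj m.1
      · right
        rw [h3, bsw_irrConj_irrConj]
      · rw [if_neg h3] at h1
        norm_num at h1
  · rintro (h1 | h1)
    · rw [h1]
    · rw [h1, bswC_conj h L]

/-- the properties of `ν` -/
structure BswNu (K : Subgroup G) [Fintype K] (ν : Cfsg.IrrCharacter K) : Prop where
  ne : ν ≠ trivIrr K
  real : irrConj ν = ν
  uniq : ∀ μ : Cfsg.IrrCharacter K, irrConj μ = μ → μ = trivIrr K ∨ μ = ν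

theorem BswNu.sum (Nν : BswNu K ν) (F : Cfsg.IrrCharacter K → ℂ) :
    ∑ μ : Cfsg.IrrCharacter K, F μ =
      F (trivIrr K) + F ν + ∑ l : {μ : Cfsg.IrrCharacter K // irrConj μ ≠ μ}, F l.1 :=
  bsw_sum_irrK ν Nν.ne Nν.real Nν.uniq F

/-- sum of the nontrivial characters of `K` at a nonidentity element -/
theorem BswNu.sum_val (Nν : BswNu K ν) (h : BswHyp t K s) {x : K} (hx : x ≠ 1) :
    (ν : K → ℂ) x + ∑ l : {μ : Cfsg.IrrCharacter K // irrConj μ ≠ μ}, (l.1 : K → ℂ) x = -1 := by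
  have h1 := Nν.sum (fun μ => (μ : K → ℂ) x)
  rw [bsw_ab_sum (bsw_K_comm' h) hx, trivIrr_apply] at h1
  linear_combination -h1

theorem BswSD.val_b (D : BswSD K ν) (h : BswHyp t K s) (Nν : BswNu K ν)
    (x : K) (hx : x ≠ 1) : (D.b : G → ℂ) (x : G) = (D.β : ℂ) := by
  rw [bsw_restrict_formula h D.b x hx, Nν.sum, bswC_triv h, D.hν, if_neg D.hbo, if_pos rfl]
  have h1 : ∀ l : {μ : Cfsg.IrrCharacter K // irrConj μ ≠ μ},
      (bswC K l.1 D.b : ℂ) * (l.1 : K → ℂ) x = (D.β : ℂ) * (l.1 : K → ℂ) x := by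
    intro l
    rw [D.hΦ l D.b, if_neg D.hbo, if_pos rfl]
  simp only [h1]
  rw [← Finset.mul_sum]
  have h2 := Nν.sum_val h hx
  push_cast
  linear_combination -(D.β : ℂ) * h2

theorem BswSD.val_c (D : BswSD K ν) (h : BswHyp t K s) (Nν : BswNu K ν)
    (x : K) (hx : x ≠ 1) : (D.c : G → ℂ) (x : G) = (D.γ : ℂ) * (ν : K → ℂ) x := by
  rw [bsw_restrict_formula h D.c x hx, Nν.sum, bswC_triv h, D.hν, if_neg D.hco, if_neg D.hcb,
    if_pos rfl]
  have h1 : ∀ l : {μ : Cfsg.IrrCharacter K // irrConj μ ≠ μ},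
      (bswC K l.1 D.c : ℂ) * (l.1 : K → ℂ) x = 0 := by
    intro l
    rw [D.hΦ l D.c, if_neg D.hco, if_neg D.hcb, if_neg (Ne.symm (D.haa l).2.2.1)]
    simp
  simp only [h1]
  rw [Finset.sum_const_zero]
  push_cast
  ring

theorem BswSD.val_c' (D : BswSD K ν) (h : BswHyp t K s) (Nν : BswNu K ν)
    (x : K) (hx : x ≠ 1) : (D.c' : G → ℂ) (x : G) = (D.γ' : ℂ) * (ν : K → ℂ) x := by
  rw [bsw_restrict_formula h D.c' x hx, Nν.sum, bswC_triv h, D.hν, if_neg D.hc'o, if_neg D.hc'b,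
    if_neg (Ne.symm D.hcc'), if_pos rfl]
  have h1 : ∀ l : {μ : Cfsg.IrrCharacter K // irrConj μ ≠ μ},
      (bswC K l.1 D.c' : ℂ) * (l.1 : K → ℂ) x = 0 := by
    intro l
    rw [D.hΦ l D.c', if_neg D.hc'o, if_neg D.hc'b, if_neg (Ne.symm (D.haa l).2.2.2)]
    simp
  simp only [h1]
  rw [Finset.sum_const_zero]
  push_cast
  ring

theorem BswSD.val_a (D : BswSD K ν) (h : BswHyp t K s) (L : BswLoc t K s) (Nν : BswNu K ν)
    (l₀ : {μ : Cfsg.IrrCharacter K // irrConj μ ≠ μ}) (x : K) (hx : x ≠ 1) :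
    (D.a l₀ : G → ℂ) (x : G) =
      - (D.α : ℂ) * ((l₀.1 : K → ℂ) x + conj ((l₀.1 : K → ℂ) x)) := by
  obtain ⟨hao, hab, hac, hac'⟩ := D.haa l₀
  rw [bsw_restrict_formula h (D.a l₀) x hx, Nν.sum, bswC_triv h, D.hν, if_neg hao, if_neg hab,
    if_neg hac, if_neg hac']
  set l₁ : {μ : Cfsg.IrrCharacter K // irrConj μ ≠ μ} := ⟨irrConj l₀.1, by
    rw [bsw_irrConj_irrConj]; exact fun h' => l₀.2 h'.symm⟩ with hl₁
  have hne : l₀ ≠ l₁ := by
    intro h'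
    have := congrArg Subtype.val h'
    exact l₀.2 this.symm
  have h1 : ∀ l : {μ : Cfsg.IrrCharacter K // irrConj μ ≠ μ},
      (bswC K l.1 (D.a l₀) : ℂ) * (l.1 : K → ℂ) x =
        if l = l₀ ∨ l = l₁ then (D.α : ℂ) * (l.1 : K → ℂ) x else 0 := by
    intro l
    rw [D.hΦ l (D.a l₀), if_neg hao, if_neg hab]
    have hiff : D.a l₀ = D.a l ↔ (l = l₀ ∨ l = l₁) := by
      rw [D.fiber h L l₀ l]
      constructor
      · rintro (h' | h')
        · exact Or.inl (Subtype.ext h')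
        · exact Or.inr (Subtype.ext h')
      · rintro (h' | h')
        · exact Or.inl (congrArg Subtype.val h')
        · exact Or.inr (congrArg Subtype.val h')
    by_cases h2 : D.a l₀ = D.a l
    · rw [if_pos h2, if_pos (hiff.1 h2)]
    · rw [if_neg h2, if_neg (fun h' => h2 (hiff.2 h'))]
      simp
  simp only [h1]
  rw [← Finset.sum_filter]
  have hfil : (Finset.univ.filter fun l : {μ : Cfsg.IrrCharacter K // irrConj μ ≠ μ} =>
      l = l₀ ∨ l = l₁) = {l₀, l₁} := by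
    ext l
    simp
  rw [hfil, Finset.sum_pair hne]
  simp only [hl₁, irrConj_apply]
  push_cast
  ring

/-- `t` as an element of `K` -/
def bswTau (h : BswHyp t K s) : K := ⟨t, h.htK⟩

theorem bswTau_ne_one (h : BswHyp t K s) : bswTau h ≠ 1 := by
  intro h'
  have h1 : t = 1 := congrArg Subtype.val h'
  have := h.ht
  rw [h1, orderOf_one] at this
  norm_num at this

theorem bswTau_sq (h : BswHyp t K s) : bswTau h * bswTau h = 1 := by
  apply Subtype.ext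
  have := pow_orderOf_eq_one t
  rw [h.ht, pow_two] at this
  exact this

theorem bsw_mu_tau_sq (h : BswHyp t K s) (μ : Cfsg.IrrCharacter K) :
    (μ : K → ℂ) (bswTau h) * (μ : K → ℂ) (bswTau h) = 1 := by
  rw [← bsw_ab_mul (bsw_K_comm' h), bswTau_sq, bsw_ab_one (bsw_K_comm' h)]

theorem bsw_mu_tau_conj (h : BswHyp t K s) (μ : Cfsg.IrrCharacter K) :
    conj ((μ : K → ℂ) (bswTau h)) = (μ : K → ℂ) (bswTau h) := by
  rw [← irr_inv, inv_eq_of_mul_eq_one_right (bswTau_sq h)]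

theorem BswSD.t_b (D : BswSD K ν) (h : BswHyp t K s) (Nν : BswNu K ν) :
    (D.b : G → ℂ) t = (D.β : ℂ) :=
  D.val_b h Nν (bswTau h) (bswTau_ne_one h)

theorem BswSD.t_c (D : BswSD K ν) (h : BswHyp t K s) (Nν : BswNu K ν) :
    (D.c : G → ℂ) t = (D.γ : ℂ) * (ν : K → ℂ) (bswTau h) :=
  D.val_c h Nν (bswTau h) (bswTau_ne_one h)

theorem BswSD.t_c' (D : BswSD K ν) (h : BswHyp t K s) (Nν : BswNu K ν) :
    (D.c' : G → ℂ) t = (D.γ' : ℂ) * (ν : K → ℂ) (bswTau h) :=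
  D.val_c' h Nν (bswTau h) (bswTau_ne_one h)

theorem BswSD.t_a (D : BswSD K ν) (h : BswHyp t K s) (L : BswLoc t K s) (Nν : BswNu K ν)
    (l : {μ : Cfsg.IrrCharacter K // irrConj μ ≠ μ}) :
    (D.a l : G → ℂ) t = - 2 * (D.α : ℂ) * (l.1 : K → ℂ) (bswTau h) := by
  have := D.val_a h L Nν l (bswTau h) (bswTau_ne_one h)
  rw [bsw_mu_tau_conj] at this
  change (D.a l : G → ℂ) t = _ at this
  rw [this]
  ring

theorem bsw_sign_sq {x : ℤ} (hx : x = 1 ∨ x = -1) : (x : ℂ) * (x : ℂ) = 1 := by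
  rcases hx with rfl | rfl <;> norm_num

/-- degree equation for `Φ_l` -/
theorem BswSD.deg_l (D : BswSD K ν) (h : BswHyp t K s)
    (l : {μ : Cfsg.IrrCharacter K // irrConj μ ≠ μ}) :
    1 + D.β * bswDeg D.b + D.α * bswDeg (D.a l) = 0 := by
  have h1 := bswC_deg h (G := G) l.1
  obtain ⟨hao, hab, -, -⟩ := D.haa l
  have h2 := bsw_sum_V3 (trivIrr G) D.b (D.a l) D.hbo hao hab 1 D.β D.α (bswC K l.1) (D.hΦ l)
    (fun χ => ((bswDeg χ : ℤ) : ℂ))
  have h3 : ((bswDot (bswC K l.1) (bswDeg : Cfsg.IrrCharacter G → ℤ) : ℤ) : ℂ) =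
      ∑ χ : Cfsg.IrrCharacter G, ((bswDeg χ : ℤ) : ℂ) * (bswC K l.1 χ : ℂ) := by
    unfold bswDot
    push_cast
    exact Finset.sum_congr rfl fun χ _ => by ring
  rw [h1, h2, bswDeg_triv] at h3
  have : ((1 + D.β * bswDeg D.b + D.α * bswDeg (D.a l) : ℤ) : ℂ) = 0 := by
    push_cast at h3 ⊢
    linear_combination -h3
  exact_mod_cast this

/-- degree equation for `Φ_ν` -/
theorem BswSD.deg_ν (D : BswSD K ν) (h : BswHyp t K s) :
    1 + D.β * bswDeg D.b - D.γ * bswDeg D.c - D.γ' * bswDeg D.c' = 0 := by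
  have h1 := bswC_deg h (G := G) ν
  have h2 := bsw_sum_V4 (trivIrr G) D.b D.c D.c' D.hbo D.hco D.hc'o D.hcb D.hc'b D.hcc'
    1 D.β (-D.γ) (-D.γ') (bswC K ν) D.hν (fun χ => ((bswDeg χ : ℤ) : ℂ))
  have h3 : ((bswDot (bswC K ν) (bswDeg : Cfsg.IrrCharacter G → ℤ) : ℤ) : ℂ) =
      ∑ χ : Cfsg.IrrCharacter G, ((bswDeg χ : ℤ) : ℂ) * (bswC K ν χ : ℂ) := by
    unfold bswDot
    push_cast
    exact Finset.sum_congr rfl fun χ _ => by ring
  rw [h1, h2, bswDeg_triv] at h3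
  have : ((1 + D.β * bswDeg D.b - D.γ * bswDeg D.c - D.γ' * bswDeg D.c' : ℤ) : ℂ) = 0 := by
    push_cast at h3 ⊢
    linear_combination -h3
  exact_mod_cast this

/-- the identity `E` for `Φ_l` -/
theorem BswSD.E_l (D : BswSD K ν) (h : BswHyp t K s) (L : BswLoc t K s) (Nν : BswNu K ν)
    (l : {μ : Cfsg.IrrCharacter K // irrConj μ ≠ μ}) :
    (Nat.card G : ℂ) * (1 + (D.β : ℂ) / (bswDeg D.b : ℂ) + 4 * (D.α : ℂ) / (bswDeg (D.a l) : ℂ)) =
      4 * (Nat.card K : ℂ) ^ 3 := by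
  have hl1 : l.1 ≠ trivIrr K := by
    intro h'
    apply l.2
    rw [h', irrConj_triv]
  rw [← bsw_E h L l.1 hl1]
  congr 1
  obtain ⟨hao, hab, -, -⟩ := D.haa l
  have h2 := bsw_sum_V3 (trivIrr G) D.b (D.a l) D.hbo hao hab 1 D.β D.α (bswC K l.1) (D.hΦ l)
    (fun χ => (χ : G → ℂ) t * (χ : G → ℂ) t / (χ : G → ℂ) 1)
  have h3 : ∑ χ : Cfsg.IrrCharacter G,
      (χ : G → ℂ) t * (χ : G → ℂ) t * (bswC K l.1 χ : ℂ) / (χ : G → ℂ) 1 =
      ∑ χ : Cfsg.IrrCharacter G,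
        (χ : G → ℂ) t * (χ : G → ℂ) t / (χ : G → ℂ) 1 * (bswC K l.1 χ : ℂ) :=
    Finset.sum_congr rfl fun χ _ => by ring
  rw [h3, h2, D.t_b h Nν, D.t_a h L Nν l, ← bswDeg_spec, ← bswDeg_spec, ← bswDeg_spec,
    bswDeg_triv]
  simp only [trivIrr_apply]
  have hα2 := bsw_sign_sq D.hα
  have hβ2 := bsw_sign_sq D.hβ
  have hμ2 := bsw_mu_tau_sq h l.1
  have e1 : (D.β : ℂ) * ((D.β : ℂ) * (D.β : ℂ) / (bswDeg D.b : ℂ)) =
      (D.β : ℂ) / (bswDeg D.b : ℂ) := by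
    rw [hβ2]; ring
  have e2 : (D.α : ℂ) * ((-2 * (D.α : ℂ) * (l.1 : K → ℂ) (bswTau h)) *
      (-2 * (D.α : ℂ) * (l.1 : K → ℂ) (bswTau h)) / (bswDeg (D.a l) : ℂ)) =
      4 * (D.α : ℂ) / (bswDeg (D.a l) : ℂ) := by
    have : (-2 * (D.α : ℂ) * (l.1 : K → ℂ) (bswTau h)) *
        (-2 * (D.α : ℂ) * (l.1 : K → ℂ) (bswTau h)) =
        4 * ((D.α : ℂ) * (D.α : ℂ)) *
          ((l.1 : K → ℂ) (bswTau h) * (l.1 : K → ℂ) (bswTau h)) := by ring
    rw [this, hα2, hμ2]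
    ring
  rw [e1, e2]
  push_cast
  ring

/-- the identity `E` for `Φ_ν` -/
theorem BswSD.E_ν (D : BswSD K ν) (h : BswHyp t K s) (L : BswLoc t K s) (Nν : BswNu K ν) :
    (Nat.card G : ℂ) * (1 + (D.β : ℂ) / (bswDeg D.b : ℂ) - (D.γ : ℂ) / (bswDeg D.c : ℂ) -
      (D.γ' : ℂ) / (bswDeg D.c' : ℂ)) = 4 * (Nat.card K : ℂ) ^ 3 := by
  rw [← bsw_E h L ν Nν.ne]
  congr 1
  have h2 := bsw_sum_V4 (trivIrr G) D.b D.c D.c' D.hbo D.hco D.hc'o D.hcb D.hc'b D.hcc'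
    1 D.β (-D.γ) (-D.γ') (bswC K ν) D.hν
    (fun χ => (χ : G → ℂ) t * (χ : G → ℂ) t / (χ : G → ℂ) 1)
  have h3 : ∑ χ : Cfsg.IrrCharacter G,
      (χ : G → ℂ) t * (χ : G → ℂ) t * (bswC K ν χ : ℂ) / (χ : G → ℂ) 1 =
      ∑ χ : Cfsg.IrrCharacter G,
        (χ : G → ℂ) t * (χ : G → ℂ) t / (χ : G → ℂ) 1 * (bswC K ν χ : ℂ) :=
    Finset.sum_congr rfl fun χ _ => by ring
  rw [h3, h2, D.t_b h Nν, D.t_c h Nν, D.t_c' h Nν, ← bswDeg_spec, ← bswDeg_spec, ← bswDeg_spec,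
    ← bswDeg_spec, bswDeg_triv]
  simp only [trivIrr_apply]
  have hβ2 := bsw_sign_sq D.hβ
  have hγ2 := bsw_sign_sq D.hγ
  have hγ'2 := bsw_sign_sq D.hγ'
  have hμ2 := bsw_mu_tau_sq h ν
  have e1 : (D.β : ℂ) * ((D.β : ℂ) * (D.β : ℂ) / (bswDeg D.b : ℂ)) =
      (D.β : ℂ) / (bswDeg D.b : ℂ) := by
    rw [hβ2]; ring
  have e2 : (D.γ : ℂ) * (ν : K → ℂ) (bswTau h) * ((D.γ : ℂ) * (ν : K → ℂ) (bswTau h)) =
      1 := by
    have : (D.γ : ℂ) * (ν : K → ℂ) (bswTau h) * ((D.γ : ℂ) * (ν : K → ℂ) (bswTau h)) =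
        ((D.γ : ℂ) * (D.γ : ℂ)) * ((ν : K → ℂ) (bswTau h) * (ν : K → ℂ) (bswTau h)) := by ring
    rw [this, hγ2, hμ2, mul_one]
  have e3 : (D.γ' : ℂ) * (ν : K → ℂ) (bswTau h) * ((D.γ' : ℂ) * (ν : K → ℂ) (bswTau h)) =
      1 := by
    have : (D.γ' : ℂ) * (ν : K → ℂ) (bswTau h) * ((D.γ' : ℂ) * (ν : K → ℂ) (bswTau h)) =
        ((D.γ' : ℂ) * (D.γ' : ℂ)) * ((ν : K → ℂ) (bswTau h) * (ν : K → ℂ) (bswTau h)) := by ring
    rw [this, hγ'2, hμ2, mul_one]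
  rw [e1, e2, e3]
  push_cast
  ring

/-- `X = β` on `C(t) \ {1}` gives a congruence for the degree of `X` -/
theorem BswSD.cong (D : BswSD K ν) (h : BswHyp t K s) (L : BswLoc t K s) (Nν : BswNu K ν) :
    ∃ n : ℤ, bswDeg D.b + (2 * (Nat.card K : ℤ) - 1) * D.β = 2 * (Nat.card K : ℤ) * n := by
  classical
  set H : Subgroup G := Subgroup.centralizer ({t} : Set G) with hH
  haveI : Fintype H := Fintype.ofFinite H
  have hval : ∀ x : H, x ≠ 1 → (D.b : G → ℂ) (x : G) = (D.β : ℂ) := by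
    intro x hx
    have hx' : (x : G) ≠ 1 := fun h' => hx (Subtype.ext h')
    rcases L.mem_H x.2 with hxK | ⟨k, hk, hxk⟩
    · exact D.val_b h Nν ⟨x, hxK⟩ (fun h' => hx' (congrArg Subtype.val h'))
    · have ho : orderOf (x : G) = 2 := by
        apply orderOf_eq_prime
        · rw [pow_two, hxk]; exact L.mul_s_sq hk
        · exact hx'
      have hc := h.hconj t (x : G) h.ht ho
      rw [← irr_isConj_eq D.b hc]
      exact D.t_b h Nν
  obtain ⟨n, hn⟩ := classInner_character_nat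
    (isCharacter_restrict (isCharacter_of_irr D.b) H) (isCharacter_of_irr (trivIrr H))
  unfold Cfsg.classInner at hn
  have hHc : (Nat.card H : ℂ) ≠ 0 := by exact_mod_cast Nat.card_pos.ne'
  have h1 : ∑ x : H, (D.b : G → ℂ) (x : G) * conj ((trivIrr H : H → ℂ) x) =
      (bswDeg D.b : ℂ) + ((Nat.card H : ℂ) - 1) * (D.β : ℂ) := by
    rw [← Finset.add_sum_erase _ _ (Finset.mem_univ (1 : H))]
    congr 1
    · simp only [trivIrr_apply, map_one, mul_one, OneMemClass.coe_one]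
      rw [bswDeg_spec]
    · have : ∀ x ∈ Finset.univ.erase (1 : H),
          (D.b : G → ℂ) (x : G) * conj ((trivIrr H : H → ℂ) x) = (D.β : ℂ) := by
        intro x hx
        rw [hval x (Finset.ne_of_mem_erase hx)]
        simp
      rw [Finset.sum_congr rfl this, Finset.sum_const, Finset.card_erase_of_mem (Finset.mem_univ _),
        Finset.card_univ, nsmul_eq_mul, Nat.card_eq_fintype_card]
      have : 1 ≤ Fintype.card H := Fintype.card_pos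
      push_cast [Nat.cast_sub this]
      ring
  rw [h1] at hn
  have h2 : (bswDeg D.b : ℂ) + ((Nat.card H : ℂ) - 1) * (D.β : ℂ) = (Nat.card H : ℂ) * n := by
    field_simp at hn
    linear_combination hn
  rw [hH, L.card_H] at h2
  refine ⟨(n : ℤ), ?_⟩
  have : ((bswDeg D.b + (2 * (Nat.card K : ℤ) - 1) * D.β : ℤ) : ℂ) =
      ((2 * (Nat.card K : ℤ) * (n : ℤ) : ℤ) : ℂ) := by
    push_cast at h2 ⊢
    linear_combination h2
  exact_mod_cast this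

end std

end Cfsg.Agent.Lib.helper2
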