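import Cfsg.Agent.Lib.helper2.Winter11

set_option autoImplicit false
set_option linter.unusedVariables false

namespace Cfsg.Agent.Lib.helper2

open scoped ComplexConjugate Pointwise
open Cfsg.Agent.Lib.helper7 Cfsg.Agent.Lib.Helper25 Cfsg.Agent.Lib.Helper1 Cfsg.Agent.Lib.Helper11

universe u

theorem wn_card_lt {G : Type*} [Group G] [Finite G] (H : Subgroup G) (h : H ≠ ⊤) :
    Nat.card H < Nat.card G := by
  have h1 := Subgroup.card_le_card_group H
  have h2 : Nat.card H ≠ Nat.card G := fun heq => h ((Subgroup.card_eq_iff_eq_top H).mp heq)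
  omega

/-- Winter's theorem, by induction on the group order -/
theorem wn_main (p : ℕ) [hpf : Fact p.Prime] : ∀ N : ℕ, ∀ (G : Type u) [Group G] [Finite G],
    Nat.card G ≤ N → Group.IsSolvable G → WnGood p G := by
  intro N
  induction N with
  | zero =>
    intro G _ _ h _
    have := Nat.card_pos (α := G)
    omega
  | succ N ih =>
    intro G _ _ hcard hsolv
    classical
    haveI : Fintype G := Fintype.ofFinite G
    haveI := hsolv
    intro χ hfaith n hn hin P
    by_cases hQP : WnQP (χ : G → ℂ)
    · apply wn_qp p χ hfaith n hn hin hQP _ P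
      intro H hH
      have := wn_card_lt H hH
      exact ih H (by omega) inferInstance
    · unfold WnQP at hQP
      push Not at hQP
      obtain ⟨Nn, hN, inst, θ, hθ, hcon, g₀, hg₀⟩ := hQP
      apply wn_not_qp p χ hfaith n hn hin _ Nn θ hθ hcon g₀ hg₀ P
      intro H hH K hK
      have h1 := wn_card_lt H hH
      have h2 : Nat.card (H ⧸ K) ≤ Nat.card H := by
        rw [← Subgroup.index_eq_card]
        exact Nat.le_of_dvd Nat.card_pos (Subgroup.index_dvd_card K)
      exact ih (H ⧸ K) (by omega) inferInstance

end Cfsg.Agent.Lib.helper2
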