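import Mathlib
import Cfsg.Prelude.Def_Characters
import Cfsg.Agent.Lib.helper2.GlaubCyc2

set_option autoImplicit false
open Cfsg
open scoped ComplexConjugate

namespace Cfsg.Agent.Lib.helper2

open Cfsg.Agent.Lib.helper7 Cfsg.Agent.Lib.Helper11 Cfsg.Agent.Lib.Helper25

/-- sum over a subgroup as a sum over the group with an indicator -/
theorem fz_sum_subgroup {H : Type*} [Group H] [Fintype H] (Z : Subgroup H) [Fintype Z]
    [DecidablePred (· ∈ Z)] (F : H → ℂ) :
    ∑ z : Z, F (z : H) = ∑ h : H, if h ∈ Z then F h else 0 := by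
  rw [← Finset.sum_filter]
  rw [Finset.sum_subtype (Finset.univ.filter (fun x : H => x ∈ Z)) (p := fun x => x ∈ Z)
    (fun x => by simp)]

/-- a fully ramified character vanishes off the subgroup -/
theorem fz_vanish {H : Type*} [Group H] [Fintype H] (Z : Subgroup H) [Fintype Z]
    (χ : H → ℂ) (hχ : Cfsg.IsIrrCharacter H χ) (θ : Z → ℂ) (hθ : Cfsg.IsIrrCharacter Z θ)
    (e : ℕ) (he : e ^ 2 = Z.index) (hres : ∀ z : Z, χ z = (e : ℂ) * θ z) (h : H) (hh : h ∉ Z) :
    χ h = 0 := by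
  classical
  have hHc : (Nat.card H : ℂ) ≠ 0 := by exact_mod_cast Nat.card_pos.ne'
  have hZc : (Nat.card Z : ℂ) ≠ 0 := by exact_mod_cast Nat.card_pos.ne'
  have h1 := h7_irr_norm hχ
  have h2 := h7_irr_norm hθ
  unfold Cfsg.classInner at h1 h2
  have h1' : ∑ g : H, χ g * conj (χ g) = (Nat.card H : ℂ) := by
    field_simp at h1
    exact h1
  have h2' : ∑ z : Z, θ z * conj (θ z) = (Nat.card Z : ℂ) := by
    field_simp at h2
    exact h2
  have h3 : ∑ z : Z, χ z * conj (χ z) = (Nat.card H : ℂ) := by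
    have : ∀ z : Z, χ z * conj (χ z) = (e : ℂ) ^ 2 * (θ z * conj (θ z)) := by
      intro z
      rw [hres z, map_mul, Complex.conj_natCast]
      ring
    simp only [this]
    rw [← Finset.mul_sum, h2']
    have : ((e ^ 2 : ℕ) : ℂ) = (Z.index : ℂ) := by rw [he]
    push_cast at this
    rw [this, ← Nat.cast_mul, Subgroup.index_mul_card]
  rw [fz_sum_subgroup Z (fun g => χ g * conj (χ g))] at h3
  have h4 : ∑ g : H, (if g ∈ Z then 0 else χ g * conj (χ g)) = 0 := by
    have : ∀ g : H, (if g ∈ Z then 0 else χ g * conj (χ g)) =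
        χ g * conj (χ g) - (if g ∈ Z then χ g * conj (χ g) else 0) := by
      intro g
      split_ifs <;> ring
    simp only [this]
    rw [Finset.sum_sub_distrib, h1', h3, sub_self]
  -- nonneg real terms
  have h5 : ∀ g : H, (if g ∈ Z then (0 : ℂ) else χ g * conj (χ g)) =
      (((if g ∈ Z then 0 else Complex.normSq (χ g)) : ℝ) : ℂ) := by
    intro g
    split_ifs
    · simp
    · rw [Complex.mul_conj]
  simp only [h5] at h4
  rw [← Complex.ofReal_sum] at h4
  have h6 : ∑ g : H, (if g ∈ Z then 0 else Complex.normSq (χ g)) = 0 := by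
    exact_mod_cast h4
  have h7 := (Finset.sum_eq_zero_iff_of_nonneg (fun g _ => by
    split_ifs
    · exact le_refl _
    · exact Complex.normSq_nonneg _)).mp h6 h (Finset.mem_univ _)
  rw [if_neg hh] at h7
  exact Complex.normSq_eq_zero.mp h7

/-- uniqueness: other irreducible characters do not lie over `θ` -/
theorem fz_unique {H : Type*} [Group H] [Fintype H] (Z : Subgroup H) [Fintype Z]
    (χ : H → ℂ) (hχ : Cfsg.IsIrrCharacter H χ) (θ : Z → ℂ) (hθ : Cfsg.IsIrrCharacter Z θ)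
    (e : ℕ) (he : e ^ 2 = Z.index) (hres : ∀ z : Z, χ z = (e : ℂ) * θ z)
    (ψ : H → ℂ) (hψ : Cfsg.IsIrrCharacter H ψ) (hne : ψ ≠ χ) :
    Cfsg.classInner θ (fun z : Z => ψ z) = 0 := by
  classical
  have hHc : (Nat.card H : ℂ) ≠ 0 := by exact_mod_cast Nat.card_pos.ne'
  have hZc : (Nat.card Z : ℂ) ≠ 0 := by exact_mod_cast Nat.card_pos.ne'
  have he0 : e ≠ 0 := by
    intro h0
    have : Z.index ≠ 0 := Subgroup.index_ne_zero_of_finite
    apply this
    rw [← he, h0]
    rfl
  have heC : (e : ℂ) ≠ 0 := by exact_mod_cast he0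
  have h1 := h7_irr_inner_ne hχ hψ (Ne.symm hne)
  unfold Cfsg.classInner at h1 ⊢
  have h2 : ∑ g : H, χ g * conj (ψ g) = 0 := by
    rcases mul_eq_zero.mp h1 with h | h
    · exact absurd (inv_eq_zero.mp h) hHc
    · exact h
  have h3 : ∑ g : H, χ g * conj (ψ g) = ∑ z : Z, χ z * conj (ψ z) := by
    rw [fz_sum_subgroup Z (fun g => χ g * conj (ψ g))]
    apply Finset.sum_congr rfl
    intro g _
    split_ifs with hg
    · rfl
    · rw [fz_vanish Z χ hχ θ hθ e he hres g hg, zero_mul]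
  rw [h3] at h2
  have h4 : ∑ z : Z, χ z * conj (ψ z) = (e : ℂ) * ∑ z : Z, θ z * conj (ψ z) := by
    rw [Finset.mul_sum]
    apply Finset.sum_congr rfl
    intro z _
    rw [hres z]
    ring
  rw [h4] at h2
  rcases mul_eq_zero.mp h2 with h | h
  · exact absurd h heC
  · rw [h, mul_zero]

end Cfsg.Agent.Lib.helper2
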