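import Mathlib
import Cfsg.Prelude.Def_Characters
import Cfsg.Agent.Lib.helper2.FullRam1

set_option autoImplicit false
open Cfsg
open scoped ComplexConjugate

namespace Cfsg.Agent.Lib.helper2

open Cfsg.Agent.Lib.helper7 Cfsg.Agent.Lib.Helper11 Cfsg.Agent.Lib.Helper25

/-- key evaluation: an extension to `K` vanishes at an element whose centralizer modulo `Z`
is inside `K` -/
theorem fz_eval {H : Type*} [Group H] [Fintype H] (Z K : Subgroup H) [hZ : Z.Normal]
    [Fintype K] [Fintype (Z.subgroupOf K)]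
    (hab : ∀ x y : K, x * y * x⁻¹ * y⁻¹ ∈ Z.subgroupOf K)
    (χ : H → ℂ) (hvan : ∀ h : H, h ∉ Z → χ h = 0)
    (T : K → ℂ) (hT : Cfsg.IsIrrCharacter K T)
    (huniq : ∀ ψ : H → ℂ, Cfsg.IsIrrCharacter H ψ → ψ ≠ χ →
      Cfsg.classInner (fun z : Z.subgroupOf K => T z)
        (fun z : Z.subgroupOf K => ψ ((z : K) : H)) = 0)
    (g : K) (hg : (g : H) ∉ Z)
    (hself : ∀ x : H, x⁻¹ * (g : H) * x * (g : H)⁻¹ ∈ Z → x ∈ K) :
    T g = 0 := by
  classical
  haveI : (Z.subgroupOf K).Normal := inferInstance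
  haveI : Fintype ↥(annih (Z.subgroupOf K)) := Fintype.ofFinite _
  haveI : Fintype (Cfsg.IrrCharacter H) := Fintype.ofFinite _
  have hTc := h7_irr_isCharacter hT
  have hclT := isCharacter_isClassFunction hTc
  let β : K → ℂ := ∑ l : ↥(annih (Z.subgroupOf K)),
    conj ((((l : K →* ℂˣ) g : ℂˣ) : ℂ)) • (fun k : K => (((l : K →* ℂˣ) k : ℂˣ) : ℂ) * T k)
  -- (a) orthogonal to all other irreducible characters
  have ha : ∀ ψ : Cfsg.IrrCharacter H, (ψ : H → ℂ) ≠ χ →
      Cfsg.classInner (Cfsg.indFun K β) (ψ : H → ℂ) = 0 := by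
    intro ψ hne
    have hψc := Cfsg.Agent.Lib.helper2.isCharacter_of_irr ψ
    have hclψ := isCharacter_isClassFunction hψc
    have hψK : Cfsg.IsCharacter K (fun k : K => (ψ : H → ℂ) k) := isCharacter_restrict hψc K
    have hclψK := isCharacter_isClassFunction hψK
    rw [h7_frobenius_reciprocity K β (ψ : H → ℂ) hclψ]
    have h1 := (gc_sum_twist (Z.subgroupOf K) hab T (fun k : K => (ψ : H → ℂ) k) hclT hclψK).trans
      (huniq (ψ : H → ℂ) ψ.2 hne)
    have h2 : ∀ l : ↥(annih (Z.subgroupOf K)), ∃ m : ℕ,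
        Cfsg.classInner (fun x : K => (((l : K →* ℂˣ) x : ℂˣ) : ℂ) * T x)
          (fun k : K => (ψ : H → ℂ) k) = (m : ℂ) := by
      intro l
      exact classInner_character_nat
        (h7_irr_isCharacter (isIrr_linChar_mul (l : K →* ℂˣ) T hT)) hψK
    choose m hm using h2
    simp only [hm] at h1
    have h3 : ∑ l, m l = 0 := by exact_mod_cast h1
    have h4 : ∀ l, m l = 0 := fun l =>
      (Finset.sum_eq_zero_iff.mp h3) l (Finset.mem_univ _)
    show Cfsg.classInner (∑ l : ↥(annih (Z.subgroupOf K)),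
      conj ((((l : K →* ℂˣ) g : ℂˣ) : ℂ)) • (fun k : K => (((l : K →* ℂˣ) k : ℂˣ) : ℂ) * T k))
      (fun k : K => (ψ : H → ℂ) k) = 0
    rw [classInner_sum_left']
    apply Finset.sum_eq_zero
    intro l _
    rw [classInner_smul_left', hm l, h4 l]
    simp
  -- (b),(c) the induced function vanishes at g
  have hc : Cfsg.indFun K β (g : H) = 0 := by
    have hexp := classFunction_expansion (Cfsg.indFun K β) (h7_indFun_isClassFunction K β)
    have h1 := congrFun hexp (g : H)
    rw [h1, Finset.sum_apply]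
    apply Finset.sum_eq_zero
    intro ψ _
    rw [Pi.smul_apply, smul_eq_mul]
    by_cases hψ : (ψ : H → ℂ) = χ
    · rw [hψ, hvan (g : H) hg, mul_zero]
    · rw [ha ψ hψ, zero_mul]
  -- (d) pointwise formula
  have hd : ∀ k : K, β k = T k *
      (if k * g⁻¹ ∈ Z.subgroupOf K then (Fintype.card ↥(annih (Z.subgroupOf K)) : ℂ) else 0) := by
    intro k
    rw [← sum_annih_of_normal (Z.subgroupOf K) hab (k * g⁻¹), Finset.mul_sum]
    show (∑ l : ↥(annih (Z.subgroupOf K)),
      conj ((((l : K →* ℂˣ) g : ℂˣ) : ℂ)) • (fun k : K => (((l : K →* ℂˣ) k : ℂˣ) : ℂ) * T k)) k = _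
    rw [Finset.sum_apply]
    apply Finset.sum_congr rfl
    intro l _
    rw [Pi.smul_apply, smul_eq_mul, map_mul, Units.val_mul, linChar_conj' (l : K →* ℂˣ) g]
    ring
  -- (e) evaluation of the induced function
  have hKc : (Nat.card K : ℂ) ≠ 0 := by exact_mod_cast Nat.card_pos.ne'
  have he : Cfsg.indFun K β (g : H) = (Fintype.card ↥(annih (Z.subgroupOf K)) : ℂ) * T g := by
    unfold Cfsg.indFun
    have h1 : ∀ x : H, Cfsg.extendByZero K β (x⁻¹ * (g : H) * x) =
        if x ∈ K then (Fintype.card ↥(annih (Z.subgroupOf K)) : ℂ) * T g else 0 := by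
      intro x
      by_cases hx : x ∈ K
      · rw [if_pos hx]
        have hy : x⁻¹ * (g : H) * x ∈ K := K.mul_mem (K.mul_mem (K.inv_mem hx) g.2) hx
        rw [h7_extendByZero_mem K β _ hy, hd]
        have e1 : (⟨x⁻¹ * (g : H) * x, hy⟩ : K) = (⟨x, hx⟩ : K)⁻¹ * g * (⟨x, hx⟩ : K)⁻¹⁻¹ := by
          apply Subtype.ext
          simp
        have e2 : (⟨x⁻¹ * (g : H) * x, hy⟩ : K) * g⁻¹ ∈ Z.subgroupOf K := by
          rw [e1]
          exact hab (⟨x, hx⟩ : K)⁻¹ g
        rw [if_pos e2, e1, hclT g (⟨x, hx⟩ : K)⁻¹]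
        ring
      · rw [if_neg hx]
        by_cases hy : x⁻¹ * (g : H) * x ∈ K
        · rw [h7_extendByZero_mem K β _ hy, hd]
          have e2 : ¬ ((⟨x⁻¹ * (g : H) * x, hy⟩ : K) * g⁻¹ ∈ Z.subgroupOf K) := by
            intro h
            apply hx
            apply hself
            rw [Subgroup.mem_subgroupOf] at h
            exact h
          rw [if_neg e2, mul_zero]
        · exact h7_extendByZero_not_mem K β _ hy
    simp only [h1]
    rw [← Finset.sum_filter]
    have hfc : (Finset.univ.filter (fun x : H => x ∈ K)).card = Fintype.card K :=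
      (Fintype.card_of_subtype _ (by simp)).symm
    rw [Finset.sum_const, hfc, nsmul_eq_mul, Nat.card_eq_fintype_card]
    have : (Fintype.card K : ℂ) ≠ 0 := by exact_mod_cast Fintype.card_ne_zero
    field_simp
  rw [he] at hc
  have hcard : (Fintype.card ↥(annih (Z.subgroupOf K)) : ℂ) ≠ 0 := by
    have : 0 < Fintype.card ↥(annih (Z.subgroupOf K)) := Fintype.card_pos
    exact_mod_cast this.ne'
  rcases mul_eq_zero.mp hc with h | h
  · exact absurd h hcard
  · exact h

end Cfsg.Agent.Lib.helper2
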