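import Mathlib
import Cfsg.Prelude.Def_Characters
import Cfsg.Agent.Lib.helper2.GlaubCyc2
import Cfsg.Agent.Lib.Helper25.CharAbelian

set_option autoImplicit false
open Cfsg
open scoped ComplexConjugate

namespace Cfsg.Agent.Lib.helper2

open Cfsg.Agent.Lib.helper7 Cfsg.Agent.Lib.Helper11 Cfsg.Agent.Lib.Helper25

/-- a nontrivial twist moves a character with irreducible restriction -/
theorem fr_twist_ne {S : Type*} [Group S] [Fintype S] (M : Subgroup S) [hM : M.Normal]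
    [Fintype M] (hab : ∀ x y : S, x * y * x⁻¹ * y⁻¹ ∈ M) (ψ : S → ℂ)
    (hψ : Cfsg.IsIrrCharacter S ψ) (hres : Cfsg.IsIrrCharacter M (fun n : M => ψ n))
    (l : ↥(annih M)) (hl : l ≠ 1) :
    (fun x : S => (((l : S →* ℂˣ) x : ℂˣ) : ℂ) * ψ x) ≠ ψ := by
  classical
  haveI : Fintype ↥(annih M) := Fintype.ofFinite _
  have hcl := isCharacter_isClassFunction (h7_irr_isCharacter hψ)
  have h2 := gc_sum_twist M hab ψ ψ hcl hcl
  rw [h7_irr_norm hres] at h2
  simp only [gc_twist_inner _ ψ ψ hψ hψ] at h2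
  have h3 : ∑ l : ↥(annih M),
      (if (fun x : S => (((l : S →* ℂˣ) x : ℂˣ) : ℂ) * ψ x) = ψ then 1 else 0 : ℕ) = 1 := by
    have : ((∑ l : ↥(annih M),
      (if (fun x : S => (((l : S →* ℂˣ) x : ℂˣ) : ℂ) * ψ x) = ψ then 1 else 0 : ℕ) : ℕ) : ℂ) = 1 := by
      rw [← h2]
      push_cast
      rfl
    exact_mod_cast this
  have h4 : (fun x : S => ((((1 : ↥(annih M)) : S →* ℂˣ) x : ℂˣ) : ℂ) * ψ x) = ψ := by
    funext x
    simp
  intro hcon
  rw [← Finset.add_sum_erase Finset.univ _ (Finset.mem_univ (1 : ↥(annih M))), if_pos h4] at h3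
  have h6 : ∑ x ∈ Finset.univ.erase (1 : ↥(annih M)),
      (if (fun y : S => (((x : S →* ℂˣ) y : ℂˣ) : ℂ) * ψ y) = ψ then 1 else 0 : ℕ) = 0 := by
    omega
  have h7 := (Finset.sum_eq_zero_iff.mp h6) l (Finset.mem_erase.mpr ⟨hl, Finset.mem_univ _⟩)
  rw [if_pos hcon] at h7
  exact one_ne_zero h7

/-- twisting is injective on a character with irreducible restriction -/
theorem fr_twist_inj {S : Type*} [Group S] [Fintype S] (M : Subgroup S) [hM : M.Normal]
    [Fintype M] (hab : ∀ x y : S, x * y * x⁻¹ * y⁻¹ ∈ M) (ψ : S → ℂ)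
    (hψ : Cfsg.IsIrrCharacter S ψ) (hres : Cfsg.IsIrrCharacter M (fun n : M => ψ n))
    (l l' : ↥(annih M))
    (h : (fun x : S => (((l : S →* ℂˣ) x : ℂˣ) : ℂ) * ψ x) =
      (fun x : S => (((l' : S →* ℂˣ) x : ℂˣ) : ℂ) * ψ x)) : l = l' := by
  by_contra hne
  have hne' : l'⁻¹ * l ≠ 1 := by
    intro h1
    apply hne
    have := congrArg (fun z => l' * z) h1
    simpa using this
  apply fr_twist_ne M hab ψ hψ hres (l'⁻¹ * l) hne'
  funext x
  have hx := congrFun h x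
  have : ((((l'⁻¹ * l : ↥(annih M)) : S →* ℂˣ) x : ℂˣ) : ℂ) =
      ((((l' : S →* ℂˣ) x : ℂˣ) : ℂ))⁻¹ * (((l : S →* ℂˣ) x : ℂˣ) : ℂ) := by
    simp
  rw [this, mul_assoc, hx, ← mul_assoc, inv_mul_cancel₀ (Units.ne_zero _), one_mul]

/-- Gallagher decomposition over an abelian quotient -/
theorem fr_gal_decomp {S : Type*} [Group S] [Fintype S] (M : Subgroup S) [hM : M.Normal]
    [Fintype M] (hab : ∀ x y : S, x * y * x⁻¹ * y⁻¹ ∈ M) [Fintype ↥(annih M)] (ψ : S → ℂ)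
    (hψ : Cfsg.IsIrrCharacter S ψ) (hres : Cfsg.IsIrrCharacter M (fun n : M => ψ n))
    (Ψ : S → ℂ) (hΨ : Cfsg.IsCharacter S Ψ) (e : ℕ)
    (hΨres : ∀ n : M, Ψ n = (e : ℂ) * ψ n) :
    ∃ a : ↥(annih M) → ℕ, ∑ l, a l = e ∧
      Cfsg.classInner Ψ Ψ = ∑ l, ((a l : ℕ) : ℂ) ^ 2 := by
  classical
  haveI : Fintype (Cfsg.IrrCharacter S) := Fintype.ofFinite _
  obtain ⟨m, hm, hexp⟩ := isCharacter_expansion hΨ
  have hclΨ := isCharacter_isClassFunction hΨ
  have hclψ := isCharacter_isClassFunction (h7_irr_isCharacter hψ)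
  let ι : ↥(annih M) → Cfsg.IrrCharacter S := fun l =>
    ⟨fun x : S => (((l : S →* ℂˣ) x : ℂˣ) : ℂ) * ψ x, isIrr_linChar_mul (l : S →* ℂˣ) ψ hψ⟩
  have hι : Function.Injective ι := by
    intro l l' h
    exact fr_twist_inj M hab ψ hψ hres l l' (congrArg Subtype.val h)
  -- sum of multiplicities
  have hsum : ∑ l, m (ι l) = e := by
    have h1 := gc_sum_twist M hab ψ Ψ hclψ hclΨ
    have h2 : ∀ l : ↥(annih M),
        Cfsg.classInner (fun x : S => (((l : S →* ℂˣ) x : ℂˣ) : ℂ) * ψ x) Ψ = (m (ι l) : ℂ) :=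
      fun l => classInner_symm_of_nat _ _ _ (hm (ι l))
    simp only [h2] at h1
    have h3 : Cfsg.classInner (fun n : M => ψ n) (fun n : M => Ψ n) = (e : ℂ) := by
      have : (fun n : M => Ψ n) = (e : ℂ) • (fun n : M => ψ n) := by
        funext n
        rw [hΨres n]
        rfl
      rw [this, h7_classInner_smul_right, h7_irr_norm hres, mul_one, Complex.conj_natCast]
    rw [h3] at h1
    exact_mod_cast h1
  -- degrees
  have hdeg : ∀ μ : Cfsg.IrrCharacter S, ∃ d : ℕ, 0 < d ∧ (μ : S → ℂ) 1 = (d : ℂ) :=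
    fun μ => irr_one_eq_finrank μ
  choose d hdpos hd using hdeg
  obtain ⟨D, hDpos, hD⟩ := irr_one_eq_finrank (⟨ψ, hψ⟩ : Cfsg.IrrCharacter S)
  have hdι : ∀ l, d (ι l) = D := by
    intro l
    have h1 : ((ι l : Cfsg.IrrCharacter S) : S → ℂ) 1 = ψ 1 := by
      show (((l : S →* ℂˣ) 1 : ℂˣ) : ℂ) * ψ 1 = ψ 1
      rw [map_one, Units.val_one, one_mul]
    have h2 : ((d (ι l) : ℕ) : ℂ) = (D : ℂ) := by
      rw [← hd (ι l), h1]
      exact hD
    exact_mod_cast h2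
  have htot : ∑ μ, m μ * d μ = e * D := by
    have h1 := congrFun hexp 1
    have h2 := hΨres 1
    simp only [OneMemClass.coe_one] at h2
    rw [h2] at h1
    have h3 : ψ 1 = (D : ℂ) := hD
    rw [h3, Finset.sum_apply] at h1
    have h4 : ((∑ μ, m μ * d μ : ℕ) : ℂ) = ((e * D : ℕ) : ℂ) := by
      push_cast
      rw [h1]
      apply Finset.sum_congr rfl
      intro μ _
      rw [Pi.smul_apply, smul_eq_mul, hd μ]
    exact_mod_cast h4
  have himg : ∑ μ ∈ Finset.univ.image ι, m μ * d μ = e * D := by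
    rw [Finset.sum_image (fun a _ b _ h => hι h)]
    simp only [hdι]
    rw [← Finset.sum_mul, hsum]
  have hzero : ∀ μ, μ ∉ Finset.univ.image ι → m μ = 0 := by
    intro μ hμ
    have h1 := Finset.sum_add_sum_compl (Finset.univ.image ι) (fun μ => m μ * d μ)
    rw [himg, htot] at h1
    have h2 : ∑ μ ∈ (Finset.univ.image ι)ᶜ, m μ * d μ = 0 := by omega
    have h3 := (Finset.sum_eq_zero_iff.mp h2) μ (Finset.mem_compl.mpr hμ)
    rcases Nat.mul_eq_zero.mp h3 with h | h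
    · exact h
    · exact absurd h (hdpos μ).ne'
  refine ⟨fun l => m (ι l), hsum, ?_⟩
  rw [classInner_parseval Ψ hclΨ]
  simp only [hm, Complex.conj_natCast]
  rw [← Finset.sum_subset (Finset.subset_univ (Finset.univ.image ι))]
  · rw [Finset.sum_image (fun a _ b _ h => hι h)]
    apply Finset.sum_congr rfl
    intro l _
    ring
  · intro μ _ hμ
    rw [hzero μ hμ]
    simp

end Cfsg.Agent.Lib.helper2
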