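import Mathlib
import Cfsg.Prelude.Def_Characters

set_option autoImplicit false
open Cfsg
open scoped ComplexConjugate

namespace Cfsg.Agent.Lib.helper2

/-- under a fixed-point-free action modulo `N`, every element of `G` is a commutator with `s`
up to `N` -/
theorem fr_comm_surj {Γ : Type*} [Group Γ] [Finite Γ] (G N : Subgroup Γ) [hG : G.Normal]
    [hN : N.Normal] (s : Γ)
    (hs : ∀ g : Γ, g ∈ G → s * g * s⁻¹ * g⁻¹ ∈ N → g ∈ N) (g : Γ) (hg : g ∈ G) :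
    ∃ h : Γ, h ∈ G ∧ ∃ m₀ : Γ, m₀ ∈ N ∧ g = h * s * h⁻¹ * s⁻¹ * m₀ := by
  classical
  haveI : (N.subgroupOf G).Normal := inferInstance
  let κ : G → G := fun h => ⟨(h : Γ) * s * (h : Γ)⁻¹ * s⁻¹, by
    have h1 : s * (h : Γ)⁻¹ * s⁻¹ ∈ G := hG.conj_mem _ (G.inv_mem h.2) s
    have h2 := G.mul_mem h.2 h1
    have : (h : Γ) * s * (h : Γ)⁻¹ * s⁻¹ = (h : Γ) * (s * (h : Γ)⁻¹ * s⁻¹) := by group
    rw [this]; exact h2⟩
  let f : G ⧸ N.subgroupOf G → G ⧸ N.subgroupOf G := fun q =>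
    QuotientGroup.mk (κ q.out)
  have hf : Function.Injective f := by
    intro q q' hqq
    have h1 : (κ q.out)⁻¹ * κ q'.out ∈ N.subgroupOf G := QuotientGroup.eq.mp hqq
    rw [Subgroup.mem_subgroupOf] at h1
    set a : Γ := ((q.out : G) : Γ) with ha
    set b : Γ := ((q'.out : G) : Γ) with hb
    have h2 : (a * s * a⁻¹ * s⁻¹)⁻¹ * (b * s * b⁻¹ * s⁻¹) ∈ N := h1
    have h3 : a⁻¹ * b ∈ N := by
      apply hs _ (G.mul_mem (G.inv_mem q.out.2) q'.out.2)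
      -- s (a⁻¹ b) s⁻¹ (a⁻¹ b)⁻¹ = inverse of conjugate
      have h4 := hN.conj_mem _ h2 (s * a⁻¹ * s⁻¹)
      have h5 := N.inv_mem h4
      have e : ((s * a⁻¹ * s⁻¹) * ((a * s * a⁻¹ * s⁻¹)⁻¹ * (b * s * b⁻¹ * s⁻¹)) * (s * a⁻¹ * s⁻¹)⁻¹)⁻¹ =
          s * (a⁻¹ * b) * s⁻¹ * (a⁻¹ * b)⁻¹ := by group
      rw [e] at h5
      exact h5
    have h6 : (q.out)⁻¹ * q'.out ∈ N.subgroupOf G := by
      rw [Subgroup.mem_subgroupOf]
      exact h3
    have h7 : (QuotientGroup.mk q.out : G ⧸ N.subgroupOf G) = QuotientGroup.mk q'.out :=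
      QuotientGroup.eq.mpr h6
    rw [QuotientGroup.out_eq', QuotientGroup.out_eq'] at h7
    exact h7
  have hsurj : Function.Surjective f := Finite.surjective_of_injective hf
  obtain ⟨q, hq⟩ := hsurj (QuotientGroup.mk ⟨g, hg⟩)
  have h1 : (κ q.out)⁻¹ * ⟨g, hg⟩ ∈ N.subgroupOf G := QuotientGroup.eq.mp hq
  rw [Subgroup.mem_subgroupOf] at h1
  refine ⟨(q.out : G), q.out.2, _, h1, ?_⟩
  show g = ((q.out : G) : Γ) * s * ((q.out : G) : Γ)⁻¹ * s⁻¹ *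
    ((((q.out : G) : Γ) * s * ((q.out : G) : Γ)⁻¹ * s⁻¹)⁻¹ * g)
  group

/-- coset sums of a class function under a fixed-point-free action modulo `N` -/
theorem fr_coset_sum {Γ : Type*} [Group Γ] [Fintype Γ] (G N : Subgroup Γ) [hG : G.Normal]
    [hN : N.Normal] [Fintype G] [Fintype N] (hNG : N ≤ G) (s : Γ)
    (hs : ∀ g : Γ, g ∈ G → s * g * s⁻¹ * g⁻¹ ∈ N → g ∈ N)
    (F : Γ → ℂ) (hF : ∀ x y : Γ, F (y * x * y⁻¹) = F x) :
    (Fintype.card N : ℂ) * ∑ g : G, F ((g : Γ) * s) =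
      (Fintype.card G : ℂ) * ∑ m : N, F ((m : Γ) * s) := by
  classical
  -- each translated N-sum equals the base N-sum
  have hstar : ∀ g : G, ∑ m : N, F ((g : Γ) * (m : Γ) * s) = ∑ m : N, F ((m : Γ) * s) := by
    intro g
    obtain ⟨h, hh, m₀, hm₀, hgeq⟩ := fr_comm_surj G N s hs (g : Γ) g.2
    let c : Γ := s * h⁻¹ * s⁻¹
    let E : N ≃ N := (Equiv.mulLeft (⟨m₀, hm₀⟩ : N)).trans (MulAut.conjNormal c).toEquiv
    rw [← Equiv.sum_comp E (fun m : N => F ((m : Γ) * s))]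
    apply Finset.sum_congr rfl
    intro m _
    have e1 : ((E m : N) : Γ) = c * (m₀ * (m : Γ)) * c⁻¹ := rfl
    rw [e1, hgeq, ← hF _ h⁻¹]
    congr 1
    show h⁻¹ * (h * s * h⁻¹ * s⁻¹ * m₀ * (m : Γ) * s) * h⁻¹⁻¹ =
      s * h⁻¹ * s⁻¹ * (m₀ * (m : Γ)) * (s * h⁻¹ * s⁻¹)⁻¹ * s
    group
  -- double sum
  have h1 : ∑ g : G, ∑ m : N, F ((g : Γ) * (m : Γ) * s) =
      (Fintype.card N : ℂ) * ∑ g : G, F ((g : Γ) * s) := by
    rw [Finset.sum_comm]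
    have : ∀ m : N, ∑ g : G, F ((g : Γ) * (m : Γ) * s) = ∑ g : G, F ((g : Γ) * s) := by
      intro m
      rw [← Equiv.sum_comp (Equiv.mulRight (⟨(m : Γ), hNG m.2⟩ : G))
        (fun g : G => F ((g : Γ) * s))]
      rfl
    simp only [this, Finset.sum_const, Finset.card_univ, nsmul_eq_mul]
  rw [← h1]
  simp only [hstar, Finset.sum_const, Finset.card_univ, nsmul_eq_mul]

end Cfsg.Agent.Lib.helper2
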