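import Mathlib

set_option autoImplicit false

namespace Cfsg.Agent.Lib.helper2

/-- integer vectors with prescribed sum and square sum `n ∑ a² + 1 = m² + n` are constant up to
one entry, which differs by `±1` -/
theorem gf_arith {ι : Type*} [Fintype ι] [DecidableEq ι] (a : ι → ℕ) (n m : ℕ)
    (hn : Fintype.card ι = n) (hn2 : 2 ≤ n) (hm : ∑ i, a i = m)
    (hsq : n * ∑ i, (a i) ^ 2 + 1 = m ^ 2 + n) :
    ∃ ε : ℤ, (ε = 1 ∨ ε = -1) ∧ ∃ i₀ : ι, ∃ q : ℕ,
      ∀ i, (a i : ℤ) = q + if i = i₀ then ε else 0 := by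
  classical
  set q : ℕ := m / n with hq
  set r : ℕ := m % n with hr
  have hmqr : m = n * q + r := (Nat.div_add_mod m n).symm
  have hrn : r < n := Nat.mod_lt _ (by omega)
  -- the key identity over ℤ
  have hterm : ∀ i, (0 : ℤ) ≤ ((a i : ℤ) - q) * ((a i : ℤ) - q - 1) := by
    intro i
    have : ((a i : ℤ) - q) ≤ 0 ∨ 1 ≤ ((a i : ℤ) - q) := by omega
    rcases this with h | h
    · exact mul_nonneg_of_nonpos_of_nonpos h (by linarith)
    · exact mul_nonneg (by linarith) (by linarith)
  have hsumZ : (∑ i, (a i : ℤ)) = m := by exact_mod_cast hm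
  have hsqZ : (n : ℤ) * ∑ i, (a i : ℤ) ^ 2 + 1 = (m : ℤ) ^ 2 + n := by exact_mod_cast hsq
  have hcard : (∑ _i : ι, (1 : ℤ)) = n := by
    simp [hn]
  have hkey : (n : ℤ) * ∑ i, ((a i : ℤ) - q) * ((a i : ℤ) - q - 1) =
      ((r : ℤ) - 1) * ((r : ℤ) - ((n : ℤ) - 1)) := by
    have e1 : ∑ i, ((a i : ℤ) - q) * ((a i : ℤ) - q - 1) =
        ∑ i, (a i : ℤ) ^ 2 - (2 * q + 1) * ∑ i, (a i : ℤ) + (q * (q + 1)) * ∑ _i : ι, (1 : ℤ) := by
      rw [Finset.mul_sum, Finset.mul_sum, ← Finset.sum_sub_distrib, ← Finset.sum_add_distrib]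
      refine Finset.sum_congr rfl fun i _ => ?_
      ring
    rw [e1, hsumZ, hcard]
    have hmZ : (m : ℤ) = n * q + r := by exact_mod_cast hmqr
    have : (n : ℤ) * ∑ i, (a i : ℤ) ^ 2 = (m : ℤ) ^ 2 + n - 1 := by linarith
    rw [mul_add, mul_sub, this, hmZ]
    ring
  have hnonneg : (0 : ℤ) ≤ ∑ i, ((a i : ℤ) - q) * ((a i : ℤ) - q - 1) :=
    Finset.sum_nonneg fun i _ => hterm i
  have hnpos : (0 : ℤ) < n := by exact_mod_cast (by omega : 0 < n)
  -- r ≠ 0
  have hr0 : r ≠ 0 := by
    intro h0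
    rw [h0] at hkey
    simp only [Nat.cast_zero, zero_sub] at hkey
    have h1 : (n : ℤ) * ∑ i, ((a i : ℤ) - q) * ((a i : ℤ) - q - 1) = (n : ℤ) - 1 := by
      rw [hkey]; ring
    have h2 : (n : ℤ) ∣ (n : ℤ) - 1 := Dvd.intro _ h1
    have h3 : (n : ℤ) ∣ 1 := by
      have := Int.dvd_sub (dvd_refl (n : ℤ)) h2
      simpa using this
    have h4 : n ∣ 1 := by exact_mod_cast h3
    have := Nat.le_of_dvd one_pos h4
    omega
  -- hence the sum vanishes
  have hRle : ((r : ℤ) - 1) * ((r : ℤ) - ((n : ℤ) - 1)) ≤ 0 := by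
    apply mul_nonpos_of_nonneg_of_nonpos
    · have : 1 ≤ r := Nat.one_le_iff_ne_zero.mpr hr0
      have : (1 : ℤ) ≤ r := by exact_mod_cast this
      linarith
    · have : (r : ℤ) + 1 ≤ n := by exact_mod_cast hrn
      linarith
  have hsum0 : ∑ i, ((a i : ℤ) - q) * ((a i : ℤ) - q - 1) = 0 := by
    have h1 : (n : ℤ) * ∑ i, ((a i : ℤ) - q) * ((a i : ℤ) - q - 1) ≤ 0 := by rw [hkey]; exact hRle
    have h2 : ∑ i, ((a i : ℤ) - q) * ((a i : ℤ) - q - 1) ≤ 0 := by
      by_contra hcon
      push Not at hcon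
      have := mul_pos hnpos hcon
      linarith
    exact le_antisymm h2 hnonneg
  have hval : ∀ i, a i = q ∨ a i = q + 1 := by
    intro i
    have h1 := (Finset.sum_eq_zero_iff_of_nonneg (fun i _ => hterm i)).mp hsum0 i (Finset.mem_univ i)
    rcases mul_eq_zero.mp h1 with h | h
    · left; omega
    · right; omega
  have hR0 : ((r : ℤ) - 1) * ((r : ℤ) - ((n : ℤ) - 1)) = 0 := by
    rw [← hkey, hsum0, mul_zero]
  -- count the entries equal to q + 1
  have hcount : (Finset.univ.filter (fun i => a i = q + 1)).card = r := by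
    have h1 : ∑ i, a i = ∑ i, (q + if a i = q + 1 then 1 else 0) := by
      refine Finset.sum_congr rfl fun i _ => ?_
      rcases hval i with h | h
      · rw [h]; simp
      · rw [h]; simp
    rw [Finset.sum_add_distrib, Finset.sum_const, Finset.card_univ, hn, smul_eq_mul,
      Finset.sum_boole] at h1
    rw [hm, hmqr] at h1
    simp only [Nat.cast_id] at h1
    omega
  rcases mul_eq_zero.mp hR0 with h | h
  · -- r = 1
    have hr1 : r = 1 := by omega
    rw [hr1, Finset.card_eq_one] at hcount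
    obtain ⟨i₀, hi₀⟩ := hcount
    refine ⟨1, Or.inl rfl, i₀, q, ?_⟩
    intro i
    have hmem : a i = q + 1 ↔ i = i₀ := by
      have : i ∈ Finset.univ.filter (fun i => a i = q + 1) ↔ i ∈ ({i₀} : Finset ι) := by rw [hi₀]
      simpa using this
    by_cases hi : i = i₀
    · rw [if_pos hi, hmem.mpr hi]; push_cast; ring
    · rw [if_neg hi]
      rcases hval i with h' | h'
      · rw [h']; simp
      · exact absurd (hmem.mp h') hi
  · -- r = n - 1
    have hrn1 : r + 1 = n := by omega
    have hcount' : (Finset.univ.filter (fun i => a i = q)).card = 1 := by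
      have h1 : (Finset.univ.filter (fun i => a i = q)).card +
          (Finset.univ.filter (fun i => a i = q + 1)).card = n := by
        rw [← hn, ← Finset.card_univ, ← Finset.card_union_of_disjoint]
        · congr 1
          ext i
          simp only [Finset.mem_union, Finset.mem_filter, Finset.mem_univ, true_and, iff_true]
          exact hval i
        · rw [Finset.disjoint_filter]
          intro i _ h1 h2
          omega
      omega
    rw [Finset.card_eq_one] at hcount'
    obtain ⟨i₀, hi₀⟩ := hcount'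
    refine ⟨-1, Or.inr rfl, i₀, q + 1, ?_⟩
    intro i
    have hmem : a i = q ↔ i = i₀ := by
      have : i ∈ Finset.univ.filter (fun i => a i = q) ↔ i ∈ ({i₀} : Finset ι) := by rw [hi₀]
      simpa using this
    by_cases hi : i = i₀
    · rw [if_pos hi, hmem.mpr hi]; push_cast; ring
    · rw [if_neg hi]
      rcases hval i with h' | h'
      · exact absurd (hmem.mp h') hi
      · rw [h']; simp

end Cfsg.Agent.Lib.helper2
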