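import Mathlib
import Cfsg.Prelude.Def_Characters
import Cfsg.Agent.Lib.helper2.FrobRam1
import Cfsg.Agent.Lib.helper2.FrobRam2
import Cfsg.Agent.Lib.helper2.GlaubF3

set_option autoImplicit false
open Cfsg
open scoped ComplexConjugate

namespace Cfsg.Agent.Lib.helper2

open Cfsg.Agent.Lib.helper7 Cfsg.Agent.Lib.Helper11 Cfsg.Agent.Lib.Helper25

theorem fr_core {Γ : Type*} [Group Γ] [Fintype Γ] (G N S : Subgroup Γ) [hG : G.Normal]
    [hN : N.Normal] [Fintype G] [Fintype N] [Fintype S] (hNG : N ≤ G) (hNS : N ≤ S)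
    (hSG : ∀ x : Γ, x ∈ S → x ∈ G → x ∈ N)
    (habΓ : ∀ x y : Γ, x * y * x⁻¹ * y⁻¹ ∈ G)
    (habS : ∀ x y : S, x * y * x⁻¹ * y⁻¹ ∈ N.subgroupOf S)
    (hfrob : ∀ x : Γ, x ∉ G → ∀ g : Γ, g ∈ G → x * g * x⁻¹ * g⁻¹ ∈ N → g ∈ N)
    (X : Γ → ℂ) (hX : Cfsg.IsIrrCharacter Γ X)
    (hXG : Cfsg.IsIrrCharacter G (fun g : G => X g))
    (T : S → ℂ) (hT : Cfsg.IsIrrCharacter S T)
    (hTM : Cfsg.IsIrrCharacter (N.subgroupOf S) (fun m : N.subgroupOf S => T m))
    (e : ℕ) (hXN : ∀ m : N.subgroupOf S, X ((m : S) : Γ) = (e : ℂ) * T m)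
    (n : ℕ) (hn : (N.subgroupOf S).index = n) (hn2 : 2 ≤ n) :
    (n : ℤ) ∣ (e : ℤ) - 1 ∨ (n : ℤ) ∣ (e : ℤ) + 1 := by
  classical
  set M : Subgroup S := N.subgroupOf S with hMdef
  haveI : M.Normal := by rw [hMdef]; infer_instance
  haveI : Fintype M := Fintype.ofFinite _
  haveI : Fintype ↥(annih M) := Fintype.ofFinite _
  have hXc := h7_irr_isCharacter hX
  have hΨ : Cfsg.IsCharacter S (fun x : S => X x) := isCharacter_restrict hXc S
  obtain ⟨a, hasum, hnorm⟩ := fr_gal_decomp M habS T hT hTM (fun x : S => X x) hΨ e hXN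
  let f : Γ → ℂ := fun x => X x * conj (X x)
  have hf : ∀ x y : Γ, f (y * x * y⁻¹) = f x := by
    intro x y
    simp only [f]
    rw [isCharacter_isClassFunction hXc x y]
  have hMc : (Nat.card M : ℂ) ≠ 0 := by exact_mod_cast Nat.card_pos.ne'
  have hSc : (Nat.card S : ℂ) ≠ 0 := by exact_mod_cast Nat.card_pos.ne'
  have hGc : (Fintype.card G : ℂ) ≠ 0 := by exact_mod_cast Fintype.card_ne_zero
  -- Claim A
  have hA : ∀ x : S, x ∈ M → ∑ m : M, f (((m : S) : Γ) * (x : Γ)) =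
      (e : ℂ) ^ 2 * (Nat.card M : ℂ) := by
    intro x hx
    have h1 : ∑ m : M, f (((m : S) : Γ) * (x : Γ)) = ∑ m : M, f ((m : S) : Γ) := by
      rw [← Equiv.sum_comp (Equiv.mulRight (⟨x, hx⟩ : M)) (fun m : M => f ((m : S) : Γ))]
      rfl
    rw [h1]
    have h2 := h7_irr_norm hTM
    unfold Cfsg.classInner at h2
    have h3 : ∑ m : M, T m * conj (T m) = (Nat.card M : ℂ) := by
      field_simp at h2
      exact h2
    calc ∑ m : M, f ((m : S) : Γ) = ∑ m : M, (e : ℂ) ^ 2 * (T m * conj (T m)) := by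
          apply Finset.sum_congr rfl
          intro m _
          simp only [f]
          rw [hXN m, map_mul, Complex.conj_natCast]
          ring
      _ = _ := by rw [← Finset.mul_sum, h3]
  -- Claim B
  have hB : ∀ x : S, x ∉ M → ∑ m : M, f (((m : S) : Γ) * (x : Γ)) = (Nat.card M : ℂ) := by
    intro x hx
    have hxG : (x : Γ) ∉ G := fun h => hx (by
      rw [hMdef, Subgroup.mem_subgroupOf]
      exact hSG x x.2 h)
    let E : M ≃ N := (Subgroup.subgroupOfEquivOfLe hNS).toEquiv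
    have h1 : ∑ m : M, f (((m : S) : Γ) * (x : Γ)) = ∑ m : N, f ((m : Γ) * (x : Γ)) := by
      rw [← Equiv.sum_comp E (fun m : N => f ((m : Γ) * (x : Γ)))]
      rfl
    rw [h1]
    have h4 := fr_coset_sum G N hNG (x : Γ) (hfrob x hxG) f hf
    have h5 := gc_coset_orth_self G habΓ (x : Γ) X hX hXG
    have h6 : ∑ g : G, f ((g : Γ) * (x : Γ)) = (Nat.card G : ℂ) := h5
    rw [h6, Nat.card_eq_fintype_card] at h4
    have h7 : (Nat.card M : ℂ) = (Fintype.card N : ℂ) := by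
      rw [Nat.card_congr E, Nat.card_eq_fintype_card]
    rw [h7]
    have h8 : (Fintype.card G : ℂ) * (Fintype.card N : ℂ) =
        (Fintype.card G : ℂ) * ∑ m : N, f ((m : Γ) * (x : Γ)) := by
      rw [← h4]; ring
    exact (mul_left_cancel₀ hGc h8).symm
  -- double sum
  have hdouble : (Nat.card M : ℂ) * ∑ x : S, f (x : Γ) =
      ∑ x : S, ∑ m : M, f (((m : S) : Γ) * (x : Γ)) := by
    rw [Finset.sum_comm]
    have : ∀ m : M, ∑ x : S, f (((m : S) : Γ) * (x : Γ)) = ∑ x : S, f (x : Γ) := by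
      intro m
      rw [← Equiv.sum_comp (Equiv.mulLeft (m : S)) (fun x : S => f (x : Γ))]
      rfl
    simp only [this, Finset.sum_const, Finset.card_univ, nsmul_eq_mul]
    rw [Nat.card_eq_fintype_card]
  have hsumS : ∑ x : S, ∑ m : M, f (((m : S) : Γ) * (x : Γ)) =
      (Nat.card S : ℂ) * (Nat.card M : ℂ) +
        (Nat.card M : ℂ) * ((e : ℂ) ^ 2 * (Nat.card M : ℂ) - (Nat.card M : ℂ)) := by
    have h1 : ∀ x : S, ∑ m : M, f (((m : S) : Γ) * (x : Γ)) =
        (Nat.card M : ℂ) + if x ∈ M then ((e : ℂ) ^ 2 * (Nat.card M : ℂ) - (Nat.card M : ℂ)) else 0 := by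
      intro x
      by_cases hx : x ∈ M
      · rw [if_pos hx, hA x hx]; ring
      · rw [if_neg hx, hB x hx]; ring
    simp only [h1]
    rw [Finset.sum_add_distrib, ← Finset.sum_filter]
    have hfc : (Finset.univ.filter (fun x : S => x ∈ M)).card = Fintype.card M :=
      (Fintype.card_of_subtype _ (by simp)).symm
    simp only [Finset.sum_const, Finset.card_univ, nsmul_eq_mul, Nat.card_eq_fintype_card]
    rw [hfc]
  have hcardS : (Nat.card S : ℂ) = (n : ℂ) * (Nat.card M : ℂ) := by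
    rw [← hn, ← Nat.cast_mul, Subgroup.index_mul_card]
  have hSf : ∑ x : S, f (x : Γ) = (Nat.card S : ℂ) + (e : ℂ) ^ 2 * (Nat.card M : ℂ) - (Nat.card M : ℂ) := by
    have h1 := hdouble.trans hsumS
    have h2 : (Nat.card M : ℂ) * ∑ x : S, f (x : Γ) = (Nat.card M : ℂ) *
        ((Nat.card S : ℂ) + (e : ℂ) ^ 2 * (Nat.card M : ℂ) - (Nat.card M : ℂ)) := by
      rw [h1]; ring
    exact mul_left_cancel₀ hMc h2
  have hn0 : (n : ℂ) ≠ 0 := by
    have : 0 < n := by omega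
    exact_mod_cast this.ne'
  have hnormval : (n : ℂ) * ∑ l, ((a l : ℕ) : ℂ) ^ 2 + 1 = (e : ℂ) ^ 2 + (n : ℂ) := by
    rw [← hnorm]
    unfold Cfsg.classInner
    have : ∑ g : S, (fun x : S => X x) g * conj ((fun x : S => X x) g) = ∑ x : S, f (x : Γ) := rfl
    rw [this, hSf, hcardS]
    field_simp
    ring
  have hsq : n * ∑ l, (a l) ^ 2 + 1 = e ^ 2 + n := by
    exact_mod_cast hnormval
  have hcard : Fintype.card ↥(annih M) = n := by
    have := gc_card_annih M habS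
    rw [hn] at this
    exact_mod_cast this
  obtain ⟨ε, hε, i₀, q, hq⟩ := gf_arith a n e hcard hn2 hasum hsq
  have hsumZ : (e : ℤ) = (n : ℤ) * q + ε := by
    have h1 : ((∑ l, a l : ℕ) : ℤ) = (e : ℤ) := by exact_mod_cast hasum
    rw [← h1]
    push_cast
    simp only [hq]
    rw [Finset.sum_add_distrib, Finset.sum_ite_eq' Finset.univ i₀]
    simp only [Finset.sum_const, Finset.card_univ, nsmul_eq_mul, Finset.mem_univ, if_true]
    rw [hcard]
  rcases hε with h | h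
  · left
    exact ⟨q, by rw [hsumZ, h]; ring⟩
  · right
    exact ⟨q, by rw [hsumZ, h]; ring⟩

end Cfsg.Agent.Lib.helper2
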