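import Mathlib
import Cfsg.Prelude.Def_Characters
import Cfsg.Agent.Lib.helper2.FrobRam3
import Cfsg.Agent.Lib.helper7.ProjExtCyclic
import Cfsg.Agent.Lib.helper7.CliffordSub

set_option autoImplicit false
open Cfsg
open scoped ComplexConjugate

namespace Cfsg.Agent.Lib.helper2

open Cfsg.Agent.Lib.helper7 Cfsg.Agent.Lib.Helper11 Cfsg.Agent.Lib.Helper25

/-- commutators lie in a normal subgroup with cyclic quotient -/
theorem fr_comm_of_cyclic {G : Type*} [Group G] (N : Subgroup G) [hN : N.Normal]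
    (h : IsCyclic (G ⧸ N)) (x y : G) : x * y * x⁻¹ * y⁻¹ ∈ N := by
  rw [← QuotientGroup.eq_one_iff]
  haveI := h
  letI : CommGroup (G ⧸ N) := IsCyclic.commGroup
  simp only [QuotientGroup.mk_mul, QuotientGroup.mk_inv]
  rw [mul_comm ((x : G ⧸ N)) (y : G ⧸ N)]
  group

/-- fully ramified: the restriction is `e` times the character below -/
theorem fr_restrict {G : Type*} [Group G] [Fintype G] (N : Subgroup G) [hN : N.Normal]
    [Fintype N] (θ : N → ℂ) (hθ : Cfsg.IsIrrCharacter N θ) (hinv : ∀ g : G, cj N θ g = θ)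
    (χ : G → ℂ) (hχ : Cfsg.IsIrrCharacter G χ) (e : ℕ)
    (hram : Cfsg.indFun N θ = fun g => (e : ℂ) * χ g) :
    e ≠ 0 ∧ ∀ n : N, χ n = (e : ℂ) * θ n := by
  have hidx : (N.index : ℂ) ≠ 0 := by exact_mod_cast Subgroup.index_ne_zero_of_finite
  have hθ1 : θ 1 ≠ 0 := irr_one_ne_zero (⟨θ, hθ⟩ : Cfsg.IrrCharacter N)
  have hres : ∀ n : N, (e : ℂ) * χ n = (N.index : ℂ) * θ n := by
    intro n
    have := h7_indFun_restrict_invariant N θ hinv n
    rw [hram] at this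
    exact this
  have he : e ≠ 0 := by
    intro h0
    have := hres 1
    rw [h0, Nat.cast_zero, zero_mul] at this
    exact (mul_ne_zero hidx hθ1) this.symm
  have heC : (e : ℂ) ≠ 0 := by exact_mod_cast he
  refine ⟨he, ?_⟩
  have hcl := isCharacter_isClassFunction (h7_irr_isCharacter hχ)
  have h1 := h7_frobenius_reciprocity N θ χ hcl
  have h2 : Cfsg.classInner (Cfsg.indFun N θ) χ = (e : ℂ) := by
    rw [hram]
    have : (fun g => (e : ℂ) * χ g) = (e : ℂ) • χ := rfl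
    rw [this, classInner_smul_left', h7_irr_norm hχ, mul_one]
  rw [h2] at h1
  have h3 : (fun h : N => χ h) = ((N.index : ℂ) / (e : ℂ)) • θ := by
    funext n
    have := hres n
    rw [Pi.smul_apply, smul_eq_mul]
    field_simp
    rw [← this]; ring
  rw [h3, h7_classInner_smul_right, h7_irr_norm hθ, mul_one, map_div₀, Complex.conj_natCast,
    Complex.conj_natCast] at h1
  intro n
  have := congrFun h3 n
  rw [this, Pi.smul_apply, smul_eq_mul, ← h1]

/-- the induced function from an invariant function on `N` is invariant under the big group -/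
theorem fr_ind_conj {Γ : Type*} [Group Γ] (G N : Subgroup Γ) [hG : G.Normal] [hN : N.Normal]
    [Fintype G] (θ : N → ℂ)
    (hinv : ∀ (x : Γ) (n : N), θ ⟨x * n * x⁻¹, hN.conj_mem n n.2 x⟩ = θ n) (x : Γ) (g : G) :
    Cfsg.indFun (N.subgroupOf G) (fun n : N.subgroupOf G => θ ⟨(n : G), n.2⟩)
        ⟨x * g * x⁻¹, hG.conj_mem g g.2 x⟩ =
      Cfsg.indFun (N.subgroupOf G) (fun n : N.subgroupOf G => θ ⟨(n : G), n.2⟩) g := by
  classical
  unfold Cfsg.indFun
  congr 1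
  let E : G ≃ G := (MulAut.conjNormal x : MulAut G).toEquiv
  have hE : ∀ z : G, ((E z : G) : Γ) = x * (z : Γ) * x⁻¹ := fun z => rfl
  have key : ∀ z : G, Cfsg.extendByZero (N.subgroupOf G)
      (fun n : N.subgroupOf G => θ ⟨(n : G), n.2⟩) (E z) =
      Cfsg.extendByZero (N.subgroupOf G) (fun n : N.subgroupOf G => θ ⟨(n : G), n.2⟩) z := by
    intro z
    by_cases hz : z ∈ N.subgroupOf G
    · have hz' : E z ∈ N.subgroupOf G := by
        rw [Subgroup.mem_subgroupOf, hE]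
        exact hN.conj_mem _ hz x
      rw [h7_extendByZero_mem _ _ _ hz, h7_extendByZero_mem _ _ _ hz']
      exact hinv x ⟨(z : Γ), hz⟩
    · have hz' : E z ∉ N.subgroupOf G := by
        intro h
        apply hz
        rw [Subgroup.mem_subgroupOf] at h ⊢
        rw [hE] at h
        have := hN.conj_mem _ h x⁻¹
        have e : x⁻¹ * (x * (z : Γ) * x⁻¹) * x⁻¹⁻¹ = (z : Γ) := by group
        rw [e] at this
        exact this
      rw [h7_extendByZero_not_mem _ _ _ hz, h7_extendByZero_not_mem _ _ _ hz']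
  rw [← Equiv.sum_comp E]
  apply Finset.sum_congr rfl
  intro y _
  rw [← key (y⁻¹ * g * y)]
  congr 1
  apply Subtype.ext
  rw [hE]
  show ((E y : G) : Γ)⁻¹ * (x * (g : Γ) * x⁻¹) * ((E y : G) : Γ) = x * ((y : Γ)⁻¹ * (g : Γ) * (y : Γ)) * x⁻¹
  rw [hE]
  group

/-- the complement subgroup `S = N ⟨x₀⟩` -/
theorem fr_S_facts {Γ : Type*} [Group Γ] [Finite Γ] (G N : Subgroup Γ) [hG : G.Normal]
    [hN : N.Normal] (hNG : N ≤ G)
    (hfrob : ∀ x : Γ, x ∉ G → ∀ g : Γ, g ∈ G → x * g * x⁻¹ * g⁻¹ ∈ N → g ∈ N)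
    (x₀ : Γ) (hx₀ : x₀ ∉ G)
    (hgen : ∀ q : Γ ⧸ G, q ∈ Subgroup.zpowers (QuotientGroup.mk x₀ : Γ ⧸ G)) :
    (∀ x : Γ, x ∈ N ⊔ Subgroup.zpowers x₀ → x ∈ G → x ∈ N) ∧
      IsCyclic (↥(N ⊔ Subgroup.zpowers x₀) ⧸ N.subgroupOf (N ⊔ Subgroup.zpowers x₀)) ∧
      (N.subgroupOf (N ⊔ Subgroup.zpowers x₀)).index = G.index := by
  set S : Subgroup Γ := N ⊔ Subgroup.zpowers x₀ with hS
  have hNS : N ≤ S := le_sup_left
  have hx₀S : x₀ ∈ S := le_sup_right (a := N) (Subgroup.mem_zpowers x₀)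
  have hmem : ∀ y : Γ, y ∈ S → ∃ m : Γ, m ∈ N ∧ ∃ i : ℤ, y = m * x₀ ^ i := by
    intro y hy
    have h1 : y ∈ (↑(N ⊔ Subgroup.zpowers x₀) : Set Γ) := hy
    rw [Subgroup.normal_mul] at h1
    obtain ⟨m, hm, z, hz, rfl⟩ := Set.mem_mul.mp h1
    obtain ⟨i, rfl⟩ := Subgroup.mem_zpowers_iff.mp hz
    exact ⟨m, hm, i, rfl⟩
  have hSG : ∀ x : Γ, x ∈ S → x ∈ G → x ∈ N := by
    intro y hy hyG
    obtain ⟨m, hm, i, rfl⟩ := hmem y hy
    have h1 : x₀ ^ i ∈ G := by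
      have := G.mul_mem (G.inv_mem (hNG hm)) hyG
      rwa [inv_mul_cancel_left] at this
    have h2 : x₀ ^ i ∈ N := by
      apply hfrob x₀ hx₀ _ h1
      have : x₀ * x₀ ^ i * x₀⁻¹ * (x₀ ^ i)⁻¹ = 1 := by group
      rw [this]
      exact N.one_mem
    exact N.mul_mem hm h2
  refine ⟨hSG, ?_, ?_⟩
  · refine ⟨⟨QuotientGroup.mk ⟨x₀, hx₀S⟩, ?_⟩⟩
    intro q
    obtain ⟨y, rfl⟩ := QuotientGroup.mk_surjective q
    obtain ⟨m, hm, i, hy⟩ := hmem y y.2
    refine ⟨i, ?_⟩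
    show (QuotientGroup.mk (⟨x₀, hx₀S⟩ : S) : S ⧸ N.subgroupOf S) ^ i = QuotientGroup.mk y
    rw [← QuotientGroup.mk_zpow]
    apply QuotientGroup.eq.mpr
    rw [Subgroup.mem_subgroupOf]
    show (x₀ ^ i)⁻¹ * (y : Γ) ∈ N
    rw [hy]
    have := hN.conj_mem m hm (x₀ ^ i)⁻¹
    rw [inv_inv] at this
    rw [← mul_assoc]
    exact this
  · have h1 : N.subgroupOf S = G.subgroupOf S := by
      ext y
      rw [Subgroup.mem_subgroupOf, Subgroup.mem_subgroupOf]
      exact ⟨fun h => hNG h, fun h => hSG y y.2 h⟩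
    rw [h1]
    have htop : S ⊔ G = ⊤ := by
      rw [eq_top_iff]
      intro y _
      obtain ⟨i, hi⟩ := Subgroup.mem_zpowers_iff.mp (hgen (QuotientGroup.mk y))
      rw [← QuotientGroup.mk_zpow] at hi
      have h2 : (x₀ ^ i)⁻¹ * y ∈ G := QuotientGroup.eq.mp hi
      have h3 : y = x₀ ^ i * ((x₀ ^ i)⁻¹ * y) := by group
      rw [h3]
      exact (S ⊔ G).mul_mem (le_sup_left (a := S) (S.zpow_mem hx₀S i)) (le_sup_right (a := S) h2)
    have h4 : G.relIndex (S ⊔ G) = G.relIndex S := Subgroup.relIndex_sup_right S G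
    rw [htop, Subgroup.relIndex_top_right] at h4
    exact h4.symm

end Cfsg.Agent.Lib.helper2
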