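import Mathlib
import Cfsg.Agent.Lib.Helper25.Hall4.Defs
import Cfsg.Agent.Lib.Helper25.Hall4.Tools
import Cfsg.Agent.Lib.Helper19.Hall4ORB

set_option autoImplicit false
set_option linter.unusedSectionVars false
set_option linter.unusedVariables false

/-! Hall4 piece E1 (helper2): even degree: the four-point stabiliser has exactly two orbits of odd
length on the remaining points. -/

namespace Cfsg.Agent.Lib.helper2.Hall4

open MulAction Cfsg.Agent.Lib.helper4 Cfsg.Agent.Lib.Helper22.LW Cfsg.Agent.Lib.Helper25.Hall4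
open Cfsg.Agent.Lib.Helper19.Hall4

variable {K β : Type*} [Group K] [Finite K] [MulAction K β] [Fintype β] [DecidableEq β] {h : ℕ}

/-- even degree: a type-1 involution has exactly two fixed points -/
theorem fset_eq_of_two (H : Hyp K β h) (hev : Even (Fintype.card β)) {x : K} (hx : x * x = 1)
    {a c d : β} (ha : x • a ≠ a) (hc : x • c = c) (hd : x • d = d) (hcd : c ≠ d) {y : β}
    (hy : x • y = y) : y = c ∨ y = d := by
  have h3 : (Fset x : Finset β).card ≤ 3 := fix_le_three H hx ha
  have hM : Even (Mset x : Finset β).card := card_Mset_even hx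
  have hsum := card_F_add_card_M (β := β) x
  have hF : Even (Fset x : Finset β).card := by
    have h1 : Even ((Fset x : Finset β).card + (Mset x : Finset β).card) := by
      rw [hsum]; exact hev
    exact (Nat.even_add.mp h1).mpr hM
  have h2 : (Fset x : Finset β).card ≤ 2 := by
    rcases hF with ⟨m, hm⟩
    omega
  have hsub : ({c, d} : Finset β) ⊆ Fset x := by
    intro z hz
    simp only [Finset.mem_insert, Finset.mem_singleton] at hz
    rw [mem_Fset]
    rcases hz with rfl | rfl
    · exact hc
    · exact hd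
  have hcard : ({c, d} : Finset β).card = 2 := Finset.card_pair hcd
  have heq : ({c, d} : Finset β) = Fset x :=
    Finset.eq_of_subset_of_card_le hsub (by rw [hcard]; exact h2)
  have : y ∈ ({c, d} : Finset β) := by rw [heq, mem_Fset]; exact hy
  simpa using this

theorem even_two_orbits (H : Hyp K β h) (hev : Even (Fintype.card β)) (hn6 : 6 ≤ Fintype.card β)
    {a b c d : β} (hnd : [a, b, c, d].Nodup) :
    ∃ Q Q' : Finset β, TwoOrb (L4 (K := K) a b c d) (Finset.univ \ {a, b, c, d}) Q Q' := by
  have hnd0 := hnd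
  simp only [List.nodup_cons, List.mem_cons, List.not_mem_nil, or_false, not_or,
    List.nodup_nil, and_true, not_false_eq_true] at hnd
  obtain ⟨⟨hab, hac, had⟩, ⟨hbc, hbd⟩, hcd⟩ := hnd
  obtain ⟨x, hx, hxa, hxb, hxc, hxd⟩ := exists_type1 H hnd0
  have hxa_ne : x • a ≠ a := by rw [hxa]; exact fun h => hab h.symm
  have hfix : ∀ y : β, x • y = y → y = c ∨ y = d :=
    fun y hy => fset_eq_of_two H hev hx hxa_ne hxc hxd hcd hy
  have hmemY : ∀ y : β, y ∈ (Finset.univ \ {a, b, c, d} : Finset β) ↔
      y ≠ a ∧ y ≠ b ∧ y ≠ c ∧ y ≠ d := by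
    intro y
    simp only [Finset.mem_sdiff, Finset.mem_univ, true_and, Finset.mem_insert,
      Finset.mem_singleton, not_or]
  -- the group B
  have h3 := three_points (Cx x ⊓ stabilizer K a) (L4 (K := K) a b c d)
    (Finset.univ \ {a, b, c, d} : Finset β) c d ?_ ?_ ?_ ?_
  · refine two_orbits (L4 (K := K) a b c d) ?_ _ ?_ ?_ ?_ h3
    · rw [card_L4 H.card hnd0]; exact H.odd
    · intro k hk y hy
      obtain ⟨ka, kb, kc, kd⟩ := mem_L4.mp hk
      rw [hmemY] at hy ⊢
      refine ⟨?_, ?_, ?_, ?_⟩
      · intro h1; rw [← ka] at h1; exact hy.1 (smul_left_cancel _ h1)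
      · intro h1; rw [← kb] at h1; exact hy.2.1 (smul_left_cancel _ h1)
      · intro h1; rw [← kc] at h1; exact hy.2.2.1 (smul_left_cancel _ h1)
      · intro h1; rw [← kd] at h1; exact hy.2.2.2 (smul_left_cancel _ h1)
    · have hsub : ({a, b, c, d} : Finset β) ⊆ Finset.univ := Finset.subset_univ _
      have hc4 : ({a, b, c, d} : Finset β).card = 4 := by
        rw [Finset.card_insert_of_notMem, Finset.card_insert_of_notMem, Finset.card_pair hcd]
        · simp only [Finset.mem_insert, Finset.mem_singleton, not_or]; exact ⟨hbc, hbd⟩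
        · simp only [Finset.mem_insert, Finset.mem_singleton, not_or]; exact ⟨hab, hac, had⟩
      rw [Finset.card_sdiff_of_subset hsub, hc4, Finset.card_univ]
      rcases hev with ⟨m, hm⟩
      exact ⟨m - 2, by omega⟩
    · have hsub : ({a, b, c, d} : Finset β) ⊆ Finset.univ := Finset.subset_univ _
      have hc4 : ({a, b, c, d} : Finset β).card ≤ 4 := Finset.card_le_four
      rw [← Finset.card_pos, Finset.card_sdiff_of_subset hsub, Finset.card_univ]
      omega
  · -- B is transitive on Y
    intro y hy y' hy'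
    rw [hmemY] at hy hy'
    have hy_moved : x • y ≠ y := by
      intro h1
      rcases hfix y h1 with h2 | h2
      · exact hy.2.2.1 h2
      · exact hy.2.2.2 h2
    have hy'_moved : x • y' ≠ y' := by
      intro h1
      rcases hfix y' h1 with h2 | h2
      · exact hy'.2.2.1 h2
      · exact hy'.2.2.2 h2
    obtain ⟨c₀, hc₀x, hc₀a, hc₀y⟩ := B_trans H hx (a₀ := a) (b₀ := y) (a := a) (b := y')
      hxa_ne hy_moved hy.1 (by rw [hxa]; exact hy.2.1) hxa_ne hy'_moved hy'.1
      (by rw [hxa]; exact hy'.2.1)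
    refine ⟨c₀, ?_, hc₀y⟩
    rw [Subgroup.mem_inf, mem_Cx, mem_stabilizer_iff]
    exact ⟨hc₀x, hc₀a⟩
  · -- B permutes {c, d}
    intro g hg
    rw [Subgroup.mem_inf, mem_Cx, mem_stabilizer_iff] at hg
    apply hfix
    rw [← mul_smul, ← hg.1, mul_smul, hxc]
  · intro g hg hgc
    rw [Subgroup.mem_inf, mem_Cx, mem_stabilizer_iff] at hg
    have h1 : g • d = c ∨ g • d = d := by
      apply hfix
      rw [← mul_smul, ← hg.1, mul_smul, hxd]
    rcases h1 with h1 | h1
    · exact h1
    · exfalso
      rw [← h1] at hgc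
      exact hcd (smul_left_cancel _ hgc)
  · intro g hg hgc
    rw [Subgroup.mem_inf, mem_Cx, mem_stabilizer_iff] at hg
    rw [mem_L4]
    refine ⟨hg.2, ?_, hgc, ?_⟩
    · rw [← hxa, ← mul_smul, hg.1, mul_smul, hg.2]
    · have h1 : g • d = c ∨ g • d = d := by
        apply hfix
        rw [← mul_smul, ← hg.1, mul_smul, hxd]
      rcases h1 with h1 | h1
      · exfalso
        rw [← hgc] at h1
        exact hcd (smul_left_cancel _ h1).symm
      · exact h1

end Cfsg.Agent.Lib.helper2.Hall4
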