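import Mathlib
import Cfsg.Agent.Lib.Helper28.CD3.Defs

/-!
# Project CD3, piece QDICH (core): transport of the dichotomy DICH1 + DICH2 to the quotient `G ⧸ K`.
-/

set_option autoImplicit false
open scoped commutatorElement

namespace Cfsg.Agent.Lib.Helper28.CD3

universe u

section partA
variable {G : Type u} [Group G] [Finite G]

/-- core of piece QDICH, with DICH1, DICH2 and OVERQ (`cdOver_eq_quot`) as hypotheses -/
theorem cd3qdich_core (K : Subgroup G) [K.Normal]
    (hdich1 : ∀ (X : Type u) [Group X] [Finite X], Group.IsSolvable X → commutator X ≠ ⊥ →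
      (∀ N : Subgroup X, N.Normal → N ≠ ⊥ → commutator X ≤ N) →
      (∃ p : ℕ, p.Prime ∧ IsPGroup p X) ∨
      (∃ p : ℕ, p.Prime ∧ IsPGroup p (commutator X) ∧ ¬ p ∣ (commutator X).index ∧
        (∀ x ∈ commutator X, ∀ y ∈ commutator X, x * y = y * x) ∧
        (∀ g : X, g ∉ commutator X → ∀ d ∈ commutator X, g * d = d * g → d = 1)))
    (hdich2 : ∀ (X : Type u) [Group X] [Finite X] (D : Subgroup X) [D.Normal], D ≠ ⊥ →
      (∀ x ∈ D, ∀ y ∈ D, x * y = y * x) →
      (∀ g : X, g ∉ D → ∀ d ∈ D, g * d = d * g → d = 1) → D.index ∈ Cfsg.charDegrees X)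
    (hoverq : cdOver K = Cfsg.charDegrees (G ⧸ K))
    (hsolv : Group.IsSolvable (G ⧸ K))
    (hK : ¬ commutator G ≤ K)
    (hmax : ∀ N : Subgroup G, N.Normal → K < N → commutator G ≤ N) :
    (∃ p : ℕ, p.Prime ∧ IsPGroup p (G ⧸ K)) ∨ (∃ (N : Subgroup G) (p : ℕ), FrobData G K N p) := by
  classical
  set π := QuotientGroup.mk' K with hπ
  have hπs : Function.Surjective π := QuotientGroup.mk'_surjective K
  have hcomm : commutator (G ⧸ K) = (commutator G).map π := by
    rw [commutator_def, commutator_def, Subgroup.map_commutator, ← MonoidHom.range_eq_map,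
      MonoidHom.range_eq_top.mpr hπs]
  have hker : π.ker = K := QuotientGroup.ker_mk' K
  have hna : commutator (G ⧸ K) ≠ ⊥ := by
    intro h0
    apply hK
    rw [hcomm, (Subgroup.map_eq_bot_iff _), hker] at h0
    exact h0
  have hq : ∀ N : Subgroup (G ⧸ K), N.Normal → N ≠ ⊥ → commutator (G ⧸ K) ≤ N := by
    intro Nb hNb hne
    have hKle : K ≤ Nb.comap π := by
      intro x hx
      rw [Subgroup.mem_comap]
      have : π x = 1 := by rw [← MonoidHom.mem_ker, hker]; exact hx
      rw [this]; exact Nb.one_mem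
    have hlt : K < Nb.comap π := by
      refine lt_of_le_of_ne hKle ?_
      intro heq
      apply hne
      rw [eq_bot_iff]
      intro y hy
      obtain ⟨x, rfl⟩ := hπs y
      have hx : x ∈ Nb.comap π := hy
      rw [← heq, ← hker, MonoidHom.mem_ker] at hx
      rw [Subgroup.mem_bot]; exact hx
    have h1 := hmax (Nb.comap π) (hNb.comap π) hlt
    rw [hcomm]
    exact (Subgroup.map_le_iff_le_comap).mpr h1
  rcases hdich1 (G ⧸ K) hsolv hna hq with hp | ⟨p, hp, hDp, hpidx, hab, hfpf⟩
  · exact Or.inl hp
  right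
  set D := commutator (G ⧸ K) with hD
  haveI hDn : D.Normal := by rw [hD, commutator_def]; infer_instance
  set N := D.comap π with hN
  have hmapN : N.map π = D := Subgroup.map_comap_eq_self_of_surjective hπs D
  have hKle : K ≤ N := by
    intro x hx
    rw [hN, Subgroup.mem_comap]
    have : π x = 1 := by rw [← MonoidHom.mem_ker, hker]; exact hx
    rw [this]; exact D.one_mem
  have hidxN : N.index = D.index := Subgroup.index_comap_of_surjective D hπs
  have hmemK : ∀ x : G, π x = 1 → x ∈ K := by
    intro x hx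
    rw [← hker, MonoidHom.mem_ker]; exact hx
  refine ⟨N, p, ?_⟩
  refine
    { hKn := inferInstance
      hNn := hDn.comap π
      hKN := ?_
      hGN := ?_
      hp := hp
      hidx := ?_
      hpN := ?_
      hab := ?_
      hfpf := ?_
      hN1 := ?_
      hNcd := ?_ }
  · refine lt_of_le_of_ne hKle ?_
    intro heq
    apply hna
    rw [eq_bot_iff]
    intro y hy
    obtain ⟨x, rfl⟩ := hπs y
    have hx : x ∈ N := hy
    rw [← heq, ← hker, MonoidHom.mem_ker] at hx
    rw [Subgroup.mem_bot]; exact hx
  · rw [hN, ← Subgroup.map_le_iff_le_comap, ← hcomm]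
  · have hrel : K.relIndex N = Nat.card D := by
      have h1 := Subgroup.relIndex_comap (⊥ : Subgroup (G ⧸ K)) π N
      rw [hmapN, Subgroup.relIndex_bot_left] at h1
      have h2 : (⊥ : Subgroup (G ⧸ K)).comap π = K := by
        rw [MonoidHom.comap_bot, hker]
      rw [h2] at h1
      exact h1
    haveI : Fact p.Prime := ⟨hp⟩
    obtain ⟨a, ha⟩ := (IsPGroup.iff_card (p := p) (G := D)).mp hDp
    refine ⟨a, ?_, by rw [hrel, ha]⟩
    rcases Nat.eq_zero_or_pos a with h0 | h0
    · exfalso
      rw [h0, pow_zero] at ha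
      apply hna
      exact Subgroup.card_eq_one.mp ha
    · exact h0
  · rw [hidxN]; exact hpidx
  · intro x hx y hy
    apply hmemK
    rw [map_commutatorElement]
    rw [commutatorElement_eq_one_iff_mul_comm]
    exact hab (π x) hx (π y) hy
  · intro g hg x hx hgx
    apply hmemK
    apply hfpf (π g) hg (π x) hx
    have h1 : π ⁅g, x⁆ = 1 := by
      have := (QuotientGroup.eq_one_iff (N := K) ⁅g, x⁆).mpr hgx
      exact this
    rw [map_commutatorElement, commutatorElement_eq_one_iff_mul_comm] at h1
    exact h1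
  · rw [hidxN]
    haveI : Nontrivial (G ⧸ K) := by
      by_contra hnt
      rw [not_nontrivial_iff_subsingleton] at hnt
      apply hna
      exact Subsingleton.elim _ _
    have hlt : D < ⊤ := by
      rw [hD, commutator_def]
      haveI := hsolv
      exact IsSolvable.commutator_lt_top_of_nontrivial (G ⧸ K)
    have hne : D.index ≠ 1 := fun h1 => hlt.ne (Subgroup.index_eq_one.mp h1)
    have hpos : D.index ≠ 0 := Subgroup.index_ne_zero_of_finite
    omega
  · rw [hoverq, hidxN]
    exact hdich2 (G ⧸ K) D hna hab hfpf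

end partA

end Cfsg.Agent.Lib.Helper28.CD3
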