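import Mathlib
import Cfsg.Agent.Lib.Helper28.CD3.Defs
import Cfsg.Agent.Lib.Helper19.CD3BASIC
import Cfsg.Agent.Lib.Helper10.CD3PCOMPL
import Cfsg.Agent.S4456

/-!
# Project CD3, piece COP: in a non-solvable minimal counterexample the two nonlinear degrees are
coprime (Thompson's theorem on degrees divisible by `p`).
-/

set_option autoImplicit false
open scoped commutatorElement

namespace Cfsg.Agent.Lib.Helper28.CD3

universe u

section partA
variable {G : Type u} [Group G] [Finite G]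

/-- a set with three listed elements has at most three elements -/
theorem cd3cop_ncard_le_three (a b c : ℕ) : ({a, b, c} : Set ℕ).ncard ≤ 3 := by
  calc ({a, b, c} : Set ℕ).ncard ≤ ({b, c} : Set ℕ).ncard + 1 := Set.ncard_insert_le _ _
    _ ≤ (({c} : Set ℕ).ncard + 1) + 1 := Nat.add_le_add_right (Set.ncard_insert_le _ _) 1
    _ = 3 := by rw [Set.ncard_singleton]

-- piece COP  (uses Cfsg.Agent.S4456.result = Thompson, PCOMPL, MinCE.hsub)
theorem coprime_mn {m n : ℕ} (h : MinCE G m n) (hns : ¬ Group.IsSolvable G) : Nat.Coprime m n := by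
  by_contra hnc
  obtain ⟨p, hp, hpm, hpn⟩ := Nat.Prime.not_coprime_iff_dvd.mp hnc
  have hmem : ∀ χ : Cfsg.IrrCharacter G, Cfsg.charDegree (χ : G → ℂ) = 1 ∨
      Cfsg.charDegree (χ : G → ℂ) = m ∨ Cfsg.charDegree (χ : G → ℂ) = n := by
    intro χ
    have h1 : Cfsg.charDegree (χ : G → ℂ) ∈ Cfsg.charDegrees G := ⟨χ, rfl⟩
    rw [h.hcd] at h1
    simpa using h1
  have hdeg : ∀ χ : Cfsg.IrrCharacter G, Cfsg.charDegree (χ : G → ℂ) ≠ 1 →
      p ∣ Cfsg.charDegree (χ : G → ℂ) := by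
    intro χ hχ
    rcases hmem χ with h1 | h1 | h1
    · exact absurd h1 hχ
    · rw [h1]; exact hpm
    · rw [h1]; exact hpn
  obtain ⟨N, hNn, hNcop, k, hk⟩ := Cfsg.Agent.S4456.result p hp hdeg
  haveI := hNn
  have hNtop : N ≠ ⊤ := by
    rintro rfl
    have hm : m ∈ Cfsg.charDegrees G := by rw [h.hcd]; simp
    have hpG : p ∣ Nat.card G := hpm.trans (cd_dvd_card hm)
    rw [Subgroup.card_top] at hNcop
    exact (Nat.Prime.coprime_iff_not_dvd hp).mp hNcop.symm hpG
  have hsubset : Cfsg.charDegrees N ⊆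
      ({ordCompl[p] 1, ordCompl[p] m, ordCompl[p] n} : Set ℕ) := by
    rintro d ⟨θ, rfl⟩
    obtain ⟨χ, hχ⟩ := pcompl_degree p hp N hNcop ⟨k, hk⟩ θ
    rw [hχ]
    rcases hmem χ with h1 | h1 | h1 <;> rw [h1] <;> simp
  have hcard : (Cfsg.charDegrees N).ncard ≤ 3 :=
    (Set.ncard_le_ncard hsubset (Set.toFinite _)).trans (cd3cop_ncard_le_three _ _ _)
  have hN3 := h.hsub N hNtop hcard
  haveI hNsolv : Group.IsSolvable N := ⟨⟨3, hN3⟩⟩
  haveI : Fact p.Prime := ⟨hp⟩
  have hq : IsPGroup p (G ⧸ N) := IsPGroup.of_card (n := k) (by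
    rw [← Subgroup.index_eq_card, hk])
  haveI : Group.IsNilpotent (G ⧸ N) := hq.isNilpotent
  haveI : Group.IsSolvable (G ⧸ N) := inferInstance
  apply hns
  exact (Group.isSolvable_iff_subgroup_quotient N).mpr ⟨hNsolv, inferInstance⟩

end partA

end Cfsg.Agent.Lib.Helper28.CD3
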