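import Mathlib
import Cfsg.Agent.Lib.Helper28.CD3.Defs
import Cfsg.Agent.Lib.helper2.CD3QDICHcore
import Cfsg.Agent.Lib.Helper9.CD3DICH1
import Cfsg.Agent.Lib.Helper19.CD3DICH2
import Cfsg.Agent.Lib.helper23.CD3OVERQ

/-!
# Project CD3, piece QDICH: wrapper of `cd3qdich_core` with DICH1 (helper9), DICH2 (helper19) and
OVERQ (helper23).
-/

set_option autoImplicit false
open scoped commutatorElement

namespace Cfsg.Agent.Lib.Helper28.CD3

universe u

section partA
variable {G : Type u} [Group G] [Finite G]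

-- piece QDICH (transport of DICH1 + DICH2 to `G ⧸ K`)
theorem quot_dichotomy (K : Subgroup G) [K.Normal] (hsolv : Group.IsSolvable (G ⧸ K))
    (hK : ¬ commutator G ≤ K)
    (hmax : ∀ N : Subgroup G, N.Normal → K < N → commutator G ≤ N) :
    (∃ p : ℕ, p.Prime ∧ IsPGroup p (G ⧸ K)) ∨ (∃ (N : Subgroup G) (p : ℕ), FrobData G K N p) :=
  cd3qdich_core K (fun X _ _ hs hna hq => dich_group X hs hna hq)
    (fun X _ _ D _ hD hab hfpf => dich_degree X D hD hab hfpf) (cdOver_eq_quot K) hsolv hK hmax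

end partA

end Cfsg.Agent.Lib.Helper28.CD3
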