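import Mathlib
import Cfsg.Agent.Lib.Helper28.BP2.Defs

/-!
# BP2 = S5736, row T2: `binS_map_equiv` (transport of `BinS` along a group isomorphism).
-/

set_option autoImplicit false

namespace Cfsg.Agent.Lib.Helper28.BP2

open Cfsg.Agent.Lib.helper14

universe u v w

section Toolbox

variable {G : Type u} [Group G]

/-- one direction of T2, for every isomorphism. -/
theorem bp2t2_map {G' : Type v} [Group G'] (e : G ≃* G') (H : Subgroup G) (h : BinS H) :
    BinS (H.map e.toMonoidHom) := by
  intro n x y hn hpair
  have hmem : ∀ z : G', z ∈ H.map e.toMonoidHom ↔ e.symm z ∈ H := fun z =>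
    Subgroup.mem_map_equiv
  obtain ⟨g, hg⟩ := h n (fun i => e.symm (x i)) (fun i => e.symm (y i)) hn (by
    intro i j hij
    obtain ⟨g', hi, hj⟩ := hpair i j hij
    refine ⟨e.symm g', ?_, ?_⟩
    · have := (hmem _).mp hi
      simpa [map_mul, map_inv] using this
    · have := (hmem _).mp hj
      simpa [map_mul, map_inv] using this)
  refine ⟨e g, fun i => ?_⟩
  rw [hmem]
  have := hg i
  simpa [map_mul, map_inv] using this

/-- **T2**.  transport along a group isomorphism. -/
theorem binS_map_equiv {G' : Type v} [Group G'] (e : G ≃* G') (H : Subgroup G) :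
    BinS (H.map e.toMonoidHom) ↔ BinS H := by
  constructor
  · intro h
    have h2 := bp2t2_map e.symm (H.map e.toMonoidHom) h
    have hH : (H.map e.toMonoidHom).map e.symm.toMonoidHom = H := by
      ext z
      rw [Subgroup.mem_map_equiv, Subgroup.mem_map_equiv]
      simp
    rwa [hH] at h2
  · exact bp2t2_map e H

end Toolbox

end Cfsg.Agent.Lib.Helper28.BP2
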