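import Mathlib
import Cfsg.Prelude.Def_GeometricClasses
import Cfsg.Agent.Lib.Helper27.ASC.Defs
import Cfsg.Agent.Lib.Helper20.ASGCMEM

/-!
# Project LX (leader: helper7), piece T2Q2 : `tensor2_q2`

Over the field with two elements a tensor decomposition `2 ⊗ k` is an `F_4`-structure:
`ω = !![0,1;1,1]` satisfies `ω² = ω + 1`, `K₀ = F[ω] = {!![a,b;b,a+b]}` is a field with four elements, equal to
`{0, 1} ∪ {M | M² = M + 1}`, hence normalised by `GL_2(F_2)`; `K` is its image under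
`a ↦ P * reindex (a ⊗ₖ 1) * P⁻¹`.
-/

set_option autoImplicit false
set_option linter.unusedVariables false
set_option linter.unusedSectionVars false

namespace Cfsg.Agent.Lib.helper7.LX

open Cfsg Cfsg.Geo Cfsg.Agent.Lib.Helper27.ASC
open scoped MatrixGroups Matrix Kronecker

variable {n : ℕ} {F : Type*} [Field F]

/-- the subalgebra `F[ω]`, `ω = !![0,1;1,1]`, of `M_2(F)` : the matrices `!![a,b;b,a+b]` -/
def lxt2q2K0 (F : Type*) [Field F] : Subalgebra F (Matrix (Fin 2) (Fin 2) F) where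
  carrier := {M | M 1 0 = M 0 1 ∧ M 1 1 = M 0 0 + M 0 1}
  mul_mem' := by
    rintro A B ⟨hA1, hA2⟩ ⟨hB1, hB2⟩
    simp only [Set.mem_ofPred_eq, Matrix.mul_apply, Fin.sum_univ_two] at *
    rw [hA1, hA2, hB1, hB2]
    constructor <;> ring
  add_mem' := by
    rintro A B ⟨hA1, hA2⟩ ⟨hB1, hB2⟩
    simp only [Set.mem_ofPred_eq, Matrix.add_apply] at *
    rw [hA1, hA2, hB1, hB2]
    constructor <;> ring
  algebraMap_mem' := by
    intro r
    simp [Matrix.algebraMap_matrix_apply]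

theorem lxt2q2_mem_K0 (M : Matrix (Fin 2) (Fin 2) F) :
    M ∈ lxt2q2K0 F ↔ M 1 0 = M 0 1 ∧ M 1 1 = M 0 0 + M 0 1 := Iff.rfl

theorem lxt2q2_K0_comm (A B : Matrix (Fin 2) (Fin 2) F) (hA : A ∈ lxt2q2K0 F) (hB : B ∈ lxt2q2K0 F) :
    A * B = B * A := by
  obtain ⟨hA1, hA2⟩ := hA
  obtain ⟨hB1, hB2⟩ := hB
  ext i j
  fin_cases i <;> fin_cases j <;>
    simp only [Fin.zero_eta, Fin.mk_one, Matrix.mul_apply, Fin.sum_univ_two, Fin.isValue,
      hA1, hA2, hB1, hB2] <;> ring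

section two

variable [Fintype F]

theorem lxt2q2_zero_or_one (hq : Fintype.card F = 2) (x : F) : x = 0 ∨ x = 1 := by
  classical
  by_contra h
  push Not at h
  have h3 : ({0, 1, x} : Finset F).card = 3 := by
    rw [Finset.card_insert_of_notMem, Finset.card_insert_of_notMem, Finset.card_singleton]
    · simpa using h.2.symm
    · simp only [Finset.mem_insert, Finset.mem_singleton, not_or]
      exact ⟨zero_ne_one, h.1.symm⟩
  have := Finset.card_le_univ ({0, 1, x} : Finset F)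
  omega

theorem lxt2q2_two (hq : Fintype.card F = 2) : (1 : F) + 1 = 0 := by
  rcases lxt2q2_zero_or_one hq ((1 : F) + 1) with h | h
  · exact h
  · exfalso
    have : (1 : F) = 0 := by
      have h2 : (1 : F) + 1 - 1 = 1 - 1 := by rw [h]
      simp at h2
    exact one_ne_zero this

/-- over `F_2` the matrices with `M² = M + 1` lie in `F[ω]` -/
theorem lxt2q2_mem_of_sq (hq : Fintype.card F = 2) (M : Matrix (Fin 2) (Fin 2) F)
    (h : M * M = M + 1) : M ∈ lxt2q2K0 F := by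
  have h2 := lxt2q2_two hq
  have h00 := congrFun (congrFun h 0) 0
  have h01 := congrFun (congrFun h 0) 1
  have h10 := congrFun (congrFun h 1) 0
  have h11 := congrFun (congrFun h 1) 1
  simp only [Matrix.mul_apply, Fin.sum_univ_two, Matrix.add_apply, Matrix.one_apply_eq,
    Matrix.one_apply_ne, ne_eq, zero_ne_one, one_ne_zero, not_false_eq_true, add_zero,
    Fin.isValue] at h00 h01 h10 h11
  rw [lxt2q2_mem_K0]
  clear h
  generalize M 0 0 = p at *
  generalize M 0 1 = q at *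
  generalize M 1 0 = r at *
  generalize M 1 1 = s at *
  rcases lxt2q2_zero_or_one hq p with rfl | rfl <;>
  rcases lxt2q2_zero_or_one hq q with rfl | rfl <;>
  rcases lxt2q2_zero_or_one hq r with rfl | rfl <;>
  rcases lxt2q2_zero_or_one hq s with rfl | rfl <;>
  simp [h2] at h00 h01 h10 h11 ⊢

/-- over `F_2` the elements of `F[ω]` are `0`, `1` and the two roots of `x² = x + 1` -/
theorem lxt2q2_cases (hq : Fintype.card F = 2) (M : Matrix (Fin 2) (Fin 2) F)
    (hM : M ∈ lxt2q2K0 F) : M = 0 ∨ M = 1 ∨ M * M = M + 1 := by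
  have h2 := lxt2q2_two hq
  obtain ⟨h1, h3⟩ := hM
  rcases lxt2q2_zero_or_one hq (M 0 1) with hb | hb
  · rcases lxt2q2_zero_or_one hq (M 0 0) with ha | ha
    · left
      ext i j
      fin_cases i <;> fin_cases j <;> simp [ha, hb, h1, h3]
    · right; left
      ext i j
      fin_cases i <;> fin_cases j <;> simp [ha, hb, h1, h3]
  · right; right
    rcases lxt2q2_zero_or_one hq (M 0 0) with ha | ha <;>
    · ext i j
      fin_cases i <;> fin_cases j <;>
        simp [Matrix.mul_apply, Fin.sum_univ_two, ha, hb, h1, h3, h2]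

/-- inverses in `F[ω]` over `F_2` -/
theorem lxt2q2_inv (hq : Fintype.card F = 2) (M : Matrix (Fin 2) (Fin 2) F)
    (hM : M ∈ lxt2q2K0 F) (h0 : M ≠ 0) : ∃ y ∈ lxt2q2K0 F, M * y = 1 := by
  rcases lxt2q2_cases hq M hM with h | h | h
  · exact absurd h h0
  · exact ⟨1, Subalgebra.one_mem _, by rw [h, mul_one]⟩
  · refine ⟨M - 1, Subalgebra.sub_mem _ hM (Subalgebra.one_mem _), ?_⟩
    rw [mul_sub, mul_one, h, add_sub_cancel_left]

/-- `F[ω]` is normalised by `GL_2(F_2)` -/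
theorem lxt2q2_conj (hq : Fintype.card F = 2) (a : GL (Fin 2) F) (M : Matrix (Fin 2) (Fin 2) F)
    (hM : M ∈ lxt2q2K0 F) :
    (a : Matrix (Fin 2) (Fin 2) F) * M * ((a⁻¹ : GL (Fin 2) F) : Matrix (Fin 2) (Fin 2) F) ∈
      lxt2q2K0 F := by
  have hinv : ((a⁻¹ : GL (Fin 2) F) : Matrix (Fin 2) (Fin 2) F) * (a : Matrix (Fin 2) (Fin 2) F) = 1 := by
    rw [← Units.val_mul, inv_mul_cancel, Units.val_one]
  have hinv' : (a : Matrix (Fin 2) (Fin 2) F) * ((a⁻¹ : GL (Fin 2) F) : Matrix (Fin 2) (Fin 2) F) = 1 := by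
    rw [← Units.val_mul, mul_inv_cancel, Units.val_one]
  rcases lxt2q2_cases hq M hM with h | h | h
  · rw [h, mul_zero, zero_mul]; exact Subalgebra.zero_mem _
  · rw [h, mul_one, hinv']; exact Subalgebra.one_mem _
  · apply lxt2q2_mem_of_sq hq
    set A := (a : Matrix (Fin 2) (Fin 2) F)
    set B := ((a⁻¹ : GL (Fin 2) F) : Matrix (Fin 2) (Fin 2) F)
    calc A * M * B * (A * M * B) = A * M * (B * A) * M * B := by simp only [mul_assoc]
      _ = A * (M * M) * B := by rw [hinv, mul_one]; simp only [mul_assoc]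
      _ = A * M * B + 1 := by rw [h, mul_add, add_mul, mul_one, hinv']

end two

/-- `F[ω]` has dimension two -/
noncomputable def lxt2q2Equiv (F : Type*) [Field F] : lxt2q2K0 F ≃ₗ[F] F × F where
  toFun M := ((M : Matrix (Fin 2) (Fin 2) F) 0 0, (M : Matrix (Fin 2) (Fin 2) F) 0 1)
  map_add' := by intro A B; rfl
  map_smul' := by intro c A; rfl
  invFun ab := ⟨!![ab.1, ab.2; ab.2, ab.1 + ab.2], by rw [lxt2q2_mem_K0]; simp⟩
  left_inv := by
    intro M
    obtain ⟨M, h1, h3⟩ := M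
    apply Subtype.ext
    ext i j
    fin_cases i <;> fin_cases j <;> simp [h1, h3]
  right_inv := by
    intro ab
    simp

theorem lxt2q2_finrank (F : Type*) [Field F] : Module.finrank F (lxt2q2K0 F) = 2 := by
  rw [LinearEquiv.finrank_eq (lxt2q2Equiv F), Module.finrank_prod, Module.finrank_self]

/-- the algebra homomorphism `a ↦ P * reindex (a ⊗ₖ 1) * P⁻¹` -/
noncomputable def lxt2q2Phi {k : ℕ} (e : Fin n ≃ Fin 2 × Fin k) (P : GL (Fin n) F) :
    Matrix (Fin 2) (Fin 2) F →ₐ[F] Matrix (Fin n) (Fin n) F where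
  toFun a := (P : Matrix (Fin n) (Fin n) F) *
    Matrix.reindexAlgEquiv F F e.symm (a ⊗ₖ (1 : Matrix (Fin k) (Fin k) F)) *
    ((P⁻¹ : GL (Fin n) F) : Matrix (Fin n) (Fin n) F)
  map_one' := by
    rw [Matrix.one_kronecker_one, map_one, mul_one, ← Units.val_mul, mul_inv_cancel, Units.val_one]
  map_mul' a b := by
    have h1 : (a * b) ⊗ₖ (1 : Matrix (Fin k) (Fin k) F) = (a ⊗ₖ 1) * (b ⊗ₖ 1) := by
      rw [← Matrix.mul_kronecker_mul, mul_one]
    have h2 : ((P⁻¹ : GL (Fin n) F) : Matrix (Fin n) (Fin n) F) * (P : Matrix (Fin n) (Fin n) F) = 1 := by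
      rw [← Units.val_mul, inv_mul_cancel, Units.val_one]
    rw [h1, map_mul]
    set X := Matrix.reindexAlgEquiv F F e.symm (a ⊗ₖ (1 : Matrix (Fin k) (Fin k) F))
    set Y := Matrix.reindexAlgEquiv F F e.symm (b ⊗ₖ (1 : Matrix (Fin k) (Fin k) F))
    set Pm := (P : Matrix (Fin n) (Fin n) F)
    set Pi := ((P⁻¹ : GL (Fin n) F) : Matrix (Fin n) (Fin n) F)
    calc Pm * (X * Y) * Pi = Pm * X * 1 * Y * Pi := by rw [mul_one]; simp only [mul_assoc]
      _ = Pm * X * Pi * (Pm * Y * Pi) := by rw [← h2]; simp only [mul_assoc]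
  map_zero' := by
    rw [Matrix.zero_kronecker, map_zero, mul_zero, zero_mul]
  map_add' a b := by
    rw [Matrix.add_kronecker, map_add, mul_add, add_mul]
  commutes' r := by
    rw [Algebra.algebraMap_eq_smul_one, Matrix.smul_kronecker, Matrix.one_kronecker_one, map_smul,
      map_one, Matrix.mul_smul, Matrix.smul_mul, mul_one, ← Units.val_mul, mul_inv_cancel,
      Units.val_one, Algebra.algebraMap_eq_smul_one]

theorem lxt2q2Phi_apply {k : ℕ} (e : Fin n ≃ Fin 2 × Fin k) (P : GL (Fin n) F)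
    (a : Matrix (Fin 2) (Fin 2) F) :
    lxt2q2Phi e P a = (P : Matrix (Fin n) (Fin n) F) *
      Matrix.reindexAlgEquiv F F e.symm (a ⊗ₖ (1 : Matrix (Fin k) (Fin k) F)) *
      ((P⁻¹ : GL (Fin n) F) : Matrix (Fin n) (Fin n) F) := rfl

theorem lxt2q2Phi_injective {k : ℕ} (hk : 0 < k) (e : Fin n ≃ Fin 2 × Fin k) (P : GL (Fin n) F) :
    Function.Injective (lxt2q2Phi e P) := by
  intro a b hab
  rw [lxt2q2Phi_apply, lxt2q2Phi_apply] at hab
  have h2 : ((P⁻¹ : GL (Fin n) F) : Matrix (Fin n) (Fin n) F) * (P : Matrix (Fin n) (Fin n) F) = 1 := by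
    rw [← Units.val_mul, inv_mul_cancel, Units.val_one]
  have h3 : Matrix.reindexAlgEquiv F F e.symm (a ⊗ₖ (1 : Matrix (Fin k) (Fin k) F)) =
      Matrix.reindexAlgEquiv F F e.symm (b ⊗ₖ (1 : Matrix (Fin k) (Fin k) F)) := by
    have h4 := congrArg (fun X => ((P⁻¹ : GL (Fin n) F) : Matrix (Fin n) (Fin n) F) * X *
      (P : Matrix (Fin n) (Fin n) F)) hab
    simp only [mul_assoc, h2, mul_one] at h4
    simp only [← mul_assoc, h2, one_mul] at h4
    exact h4
  have h5 := (Matrix.reindexAlgEquiv F F e.symm).injective h3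
  ext i j
  have h6 := congrFun (congrFun h5 (i, ⟨0, hk⟩)) (j, ⟨0, hk⟩)
  simpa [Matrix.kroneckerMap_apply] using h6

/-- a set of invertible matrices closed under inverses that conjugates `K` into itself lies in the normaliser -/
theorem lxt2q2_le_normalizer (K : Subalgebra F (Matrix (Fin n) (Fin n) F)) (T : Subgroup (GL (Fin n) F))
    (h : ∀ g ∈ T, ∀ x ∈ K, (g : Matrix (Fin n) (Fin n) F) * x *
      ((g⁻¹ : GL (Fin n) F) : Matrix (Fin n) (Fin n) F) ∈ K) :
    T ≤ subalgebraNormalizer K := by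
  intro g hg x
  constructor
  · exact h g hg x
  · intro hx
    have h1 := h g⁻¹ (T.inv_mem hg) _ hx
    rw [inv_inv] at h1
    have h2 : ((g⁻¹ : GL (Fin n) F) : Matrix (Fin n) (Fin n) F) * (g : Matrix (Fin n) (Fin n) F) = 1 := by
      rw [← Units.val_mul, inv_mul_cancel, Units.val_one]
    have h3 : ((g⁻¹ : GL (Fin n) F) : Matrix (Fin n) (Fin n) F) *
        ((g : Matrix (Fin n) (Fin n) F) * x * ((g⁻¹ : GL (Fin n) F) : Matrix (Fin n) (Fin n) F)) *
        (g : Matrix (Fin n) (Fin n) F) = x := by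
      calc ((g⁻¹ : GL (Fin n) F) : Matrix (Fin n) (Fin n) F) *
          ((g : Matrix (Fin n) (Fin n) F) * x * ((g⁻¹ : GL (Fin n) F) : Matrix (Fin n) (Fin n) F)) *
          (g : Matrix (Fin n) (Fin n) F)
          = (((g⁻¹ : GL (Fin n) F) : Matrix (Fin n) (Fin n) F) * (g : Matrix (Fin n) (Fin n) F)) * x *
            (((g⁻¹ : GL (Fin n) F) : Matrix (Fin n) (Fin n) F) * (g : Matrix (Fin n) (Fin n) F)) := by
            simp only [mul_assoc]
        _ = x := by rw [h2, one_mul, mul_one]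
    rw [h3] at h1
    exact h1

/-- T2Q2 : over the field with two elements a tensor decomposition `2 ⊗ k` is an `F_4`-structure. -/
theorem tensor2_q2 [Fintype F] {k : ℕ} (hk : 0 < k) (e : Fin n ≃ Fin 2 × Fin k) (P : GL (Fin n) F)
    (hq : Fintype.card F = 2) :
    ∃ K : Subalgebra F (Matrix (Fin n) (Fin n) F), IsFieldSubalgebra 2 K ∧
      tensorProductSubgroup 2 k e P ≤ subalgebraNormalizer K := by
  refine ⟨(lxt2q2K0 F).map (lxt2q2Phi e P), ⟨?_, ?_, ?_⟩, ?_⟩
  · rintro x ⟨a, ha, rfl⟩ y ⟨b, hb, rfl⟩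
    rw [← map_mul, ← map_mul, lxt2q2_K0_comm a b ha hb]
  · rintro x ⟨a, ha, rfl⟩ hx
    have ha0 : a ≠ 0 := by
      intro h0
      apply hx
      rw [h0, map_zero]
    obtain ⟨b, hb, hab⟩ := lxt2q2_inv hq a ha ha0
    refine ⟨lxt2q2Phi e P b, ⟨b, hb, rfl⟩, ?_⟩
    have h1 := map_mul (lxt2q2Phi e P) a b
    rw [hab, map_one] at h1
    exact h1.symm
  · rw [← LinearEquiv.finrank_eq
      (Subalgebra.equivMapOfInjective (lxt2q2K0 F) (lxt2q2Phi e P)
        (lxt2q2Phi_injective hk e P)).toLinearEquiv]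
    exact lxt2q2_finrank F
  · apply lxt2q2_le_normalizer
    rintro g hg x ⟨m, hm, rfl⟩
    rw [Cfsg.Agent.Lib.Helper19.ASG.mem_tensorProductSubgroup_iff] at hg
    obtain ⟨a, b, hgab⟩ := hg
    refine ⟨(a : Matrix (Fin 2) (Fin 2) F) * m * ((a⁻¹ : GL (Fin 2) F) : Matrix (Fin 2) (Fin 2) F),
      lxt2q2_conj hq a m hm, ?_⟩
    have hP : ((P⁻¹ : GL (Fin n) F) : Matrix (Fin n) (Fin n) F) * (P : Matrix (Fin n) (Fin n) F) = 1 := by
      rw [← Units.val_mul, inv_mul_cancel, Units.val_one]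
    have hg1 : (g : Matrix (Fin n) (Fin n) F) * ((g⁻¹ : GL (Fin n) F) : Matrix (Fin n) (Fin n) F) = 1 := by
      rw [← Units.val_mul, mul_inv_cancel, Units.val_one]
    have ha1 : ((a⁻¹ : GL (Fin 2) F) : Matrix (Fin 2) (Fin 2) F) * (a : Matrix (Fin 2) (Fin 2) F) = 1 := by
      rw [← Units.val_mul, inv_mul_cancel, Units.val_one]
    -- `Φ (a m a⁻¹) * g = g * Φ m`
    have key : lxt2q2Phi e P ((a : Matrix (Fin 2) (Fin 2) F) * m *
        ((a⁻¹ : GL (Fin 2) F) : Matrix (Fin 2) (Fin 2) F)) * (g : Matrix (Fin n) (Fin n) F) =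
        (g : Matrix (Fin n) (Fin n) F) * lxt2q2Phi e P m := by
      rw [lxt2q2Phi_apply, lxt2q2Phi_apply, hgab]
      set Pm := (P : Matrix (Fin n) (Fin n) F)
      set Pi := ((P⁻¹ : GL (Fin n) F) : Matrix (Fin n) (Fin n) F)
      set R := Matrix.reindexAlgEquiv F F e.symm with hR
      have e1 : ∀ X Y : Matrix (Fin 2 × Fin k) (Fin 2 × Fin k) F,
          Pm * R X * Pi * (Pm * R Y * Pi) = Pm * R (X * Y) * Pi := by
        intro X Y
        rw [map_mul]
        calc Pm * R X * Pi * (Pm * R Y * Pi) = Pm * R X * (Pi * Pm) * R Y * Pi := by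
              simp only [mul_assoc]
          _ = Pm * (R X * R Y) * Pi := by rw [hP, mul_one]; simp only [mul_assoc]
      have ham : (a : Matrix (Fin 2) (Fin 2) F) * m *
          ((a⁻¹ : GL (Fin 2) F) : Matrix (Fin 2) (Fin 2) F) * (a : Matrix (Fin 2) (Fin 2) F) =
          (a : Matrix (Fin 2) (Fin 2) F) * m := by
        rw [mul_assoc ((a : Matrix (Fin 2) (Fin 2) F) * m), ha1, mul_one]
      rw [e1, e1, ← Matrix.mul_kronecker_mul, ← Matrix.mul_kronecker_mul, one_mul, mul_one, ham]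
    symm
    calc (g : Matrix (Fin n) (Fin n) F) * lxt2q2Phi e P m *
          ((g⁻¹ : GL (Fin n) F) : Matrix (Fin n) (Fin n) F)
        = lxt2q2Phi e P ((a : Matrix (Fin 2) (Fin 2) F) * m *
            ((a⁻¹ : GL (Fin 2) F) : Matrix (Fin 2) (Fin 2) F)) *
            ((g : Matrix (Fin n) (Fin n) F) * ((g⁻¹ : GL (Fin n) F) : Matrix (Fin n) (Fin n) F)) := by
          rw [← key, mul_assoc]
      _ = _ := by rw [hg1, mul_one]; rfl

end Cfsg.Agent.Lib.helper7.LX
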