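import Mathlib
import Cfsg.Agent.Lib.Helper18.OPE.Defs
import Cfsg.Agent.Lib.helper2.OPECM2abs

set_option autoImplicit false
set_option linter.unusedVariables false
set_option linter.unusedSectionVars false

/-!
# Project OPE, row CM2 (`ap_count`): the core on the standard hyperbolic space, with the statements of STDFACTS, FROZEN, QTYSUM, QTYIFF, QTYUNIQ
and AP3 as hypotheses.
-/

namespace Cfsg.Agent.Lib.Helper18.OPE

open Polynomial Module Cfsg.Agent.Lib.Helper13.S5955 Cfsg.Agent.Lib.helper15.S5972 Cfsg.Agent.Lib.Helper18.ONE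

/-- the core of CM2 -/
theorem opecm2_core {F : Type*} [Field F] [Fintype F] (d h : ℕ) (hh1 : 1 ≤ h) (hh : h < d)
    (W' : HYP d (2 * h - 2) F)
    (hfacts : finrank F (Fin d ⊕ Fin d → F) = 2 * d ∧
      QTy (Cfsg.Agent.Lib.Helper16.qfPlus d F) (⊤ : Submodule F (Fin d ⊕ Fin d → F)) 1 ∧
      (∀ u, (∀ v, stdP d F u v = 0) → u = 0))
    (hfrozen : ∀ m : ℕ, Even m → ∀ W : Submodule F (Fin d ⊕ Fin d → F),
      ((Module.finrank F ↥W = m ∧
          (∀ u ∈ W, u ≠ 0 → ∃ v ∈ W, QuadraticMap.polar (Cfsg.quadFormPlus d F) u v ≠ 0) ∧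
          ∃ U : Submodule F (Fin d ⊕ Fin d → F), U ≤ W ∧ 2 * Module.finrank F ↥U = m ∧
            ∀ u ∈ U, Cfsg.quadFormPlus d F u = 0) ↔
        (finrank F W = m ∧ SND (stdP d F) W ∧ QTy (Cfsg.Agent.Lib.Helper16.qfPlus d F) W 1)) ∧
      ((Module.finrank F ↥W = m ∧
          Cfsg.Geo.IsNondegenerateOn (QuadraticMap.polar (Cfsg.quadFormPlus d F)) W ∧
          ¬ Cfsg.Geo.IsPlusTypeOn (Cfsg.quadFormPlus d F) W) ↔
        (finrank F W = m ∧ SND (stdP d F) W ∧ QTy (Cfsg.Agent.Lib.Helper16.qfPlus d F) W (-1))))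
    (hsum : ∀ W₁ W₂ : Submodule F (Fin d ⊕ Fin d → F), SND (stdP d F) W₁ → SND (stdP d F) W₂ →
      SOrth (stdP d F) W₁ W₂ → Even (finrank F W₁) → Even (finrank F W₂) → ∀ s₁ s₂ : ℤ,
      QTy (Cfsg.Agent.Lib.Helper16.qfPlus d F) W₁ s₁ → QTy (Cfsg.Agent.Lib.Helper16.qfPlus d F) W₂ s₂ →
      QTy (Cfsg.Agent.Lib.Helper16.qfPlus d F) (W₁ ⊔ W₂) (s₁ * s₂))
    (hiff : ∀ W : Submodule F (Fin d ⊕ Fin d → F), SND (stdP d F) W → Even (finrank F W) →
      QTy (Cfsg.Agent.Lib.Helper16.qfPlus d F) W 1 ∨ QTy (Cfsg.Agent.Lib.Helper16.qfPlus d F) W (-1))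
    (huniq : ∀ W : Submodule F (Fin d ⊕ Fin d → F), QTy (Cfsg.Agent.Lib.Helper16.qfPlus d F) W 1 →
      QTy (Cfsg.Agent.Lib.Helper16.qfPlus d F) W (-1) → False)
    (hplanes : ∀ (N : Submodule F (Fin d ⊕ Fin d → F)) (a : ℕ), SND (stdP d F) N → 2 ≤ a → finrank F N = 2 * a →
      QTy (Cfsg.Agent.Lib.Helper16.qfPlus d F) N 1 →
      2 * (Fintype.card F + 1) * Nat.card {P : Submodule F (Fin d ⊕ Fin d → F) // P ≤ N ∧
          SND (stdP d F) P ∧ finrank F P = 2 ∧ QTy (Cfsg.Agent.Lib.Helper16.qfPlus d F) P (-1)} =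
        Fintype.card F ^ (2 * a - 2) * (Fintype.card F ^ a - 1) * (Fintype.card F ^ (a - 1) - 1)) :
    2 * (Fintype.card F + 1) * Nat.card {W : ELL d (2 * h) F // W'.1 ≤ W.1} =
      Fintype.card F ^ (2 * (d - h)) * (Fintype.card F ^ (d - h + 1) - 1) *
        (Fintype.card F ^ (d - h) - 1) := by
  obtain ⟨hW'dim, hW'nd, hW'ty⟩ := ((hfrozen (2 * h - 2) ⟨h - 1, by omega⟩ W'.1).1).mp W'.2
  have hnd : SND (stdP d F) ⊤ := fun u _ hu => hfacts.2.2 u (fun v => hu v trivial)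
  have hVev : Even (finrank F (Fin d ⊕ Fin d → F)) := ⟨d, by rw [hfacts.1]; ring⟩
  have hW'ev : Even (finrank F W'.1) := ⟨h - 1, by omega⟩
  obtain ⟨hNnd, hNdim, hNty, _⟩ := opecm2_perp (Cfsg.Agent.Lib.Helper16.qfPlus d F) hsum hiff huniq hnd hVev
    hfacts.2.1 W'.1 hW'nd hW'ev hW'ty
  -- step 1: the frozen subtype in the abstract vocabulary
  have h1 : Nat.card {W : ELL d (2 * h) F // W'.1 ≤ W.1} =
      Nat.card {W : Submodule F (Fin d ⊕ Fin d → F) // W'.1 ≤ W ∧ finrank F W = 2 * h ∧ SND (stdP d F) W ∧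
        QTy (Cfsg.Agent.Lib.Helper16.qfPlus d F) W (-1)} := by
    apply Nat.card_congr
    refine (Equiv.subtypeSubtypeEquivSubtypeInter _ _).trans (Equiv.subtypeEquivRight ?_)
    intro W
    have hf := (hfrozen (2 * h) ⟨h, by ring⟩ W).2
    constructor
    · rintro ⟨hW, hle⟩
      exact ⟨hle, hf.mp hW⟩
    · rintro ⟨hle, hW⟩
      exact ⟨hf.mpr hW, hle⟩
  -- step 2: the abstract bijection
  have h2 := opecm2_abs (Cfsg.Agent.Lib.Helper16.qfPlus d F) hsum hiff huniq hnd W'.1 hW'nd h hh1 hW'dim hW'ty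
  -- step 3: AP3
  have h3 := hplanes _ (d - h + 1) hNnd (by omega) (by rw [hfacts.1] at hNdim; omega) hNty
  have e1 : 2 * (d - h + 1) - 2 = 2 * (d - h) := by omega
  have e2 : d - h + 1 - 1 = d - h := by omega
  rw [e1, e2] at h3
  rw [h1]
  exact (congrArg (fun n => 2 * (Fintype.card F + 1) * n) h2).trans h3

end Cfsg.Agent.Lib.Helper18.OPE
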