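import Mathlib
import Cfsg.Agent.Lib.Helper24.GaloisNorm

set_option autoImplicit false
set_option linter.style.haveILetI false
set_option linter.unusedVariables false

namespace Cfsg.Agent.Lib.helper2

open Polynomial

theorem gt_sum_aux (n : ℕ) (hn : 0 < n) (L : Type) [Field L] [Algebra ℚ L]
    [IsCyclotomicExtension {n} ℚ L] (f : ℤ[X]) :
    ∃ q : ℚ, ∑ ξ : primitiveRoots n ℂ, aeval (ξ : ℂ) f = (q : ℂ) := by
  haveI : NeZero n := ⟨hn.ne'⟩
  have hirr : Irreducible (cyclotomic n ℚ) := cyclotomic.irreducible_rat hn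
  have hμ : IsPrimitiveRoot (IsCyclotomicExtension.zeta n ℚ L) n :=
    IsCyclotomicExtension.zeta_spec n ℚ L
  set μ := IsCyclotomicExtension.zeta n ℚ L with hμdef
  set x : L := aeval μ f with hx
  haveI := IsCyclotomicExtension.finiteDimensional {n} ℚ L
  haveI := IsCyclotomicExtension.isGalois {n} ℚ L
  have hσ : ∀ σ : L →ₐ[ℚ] ℂ, σ x = aeval (σ μ) f := by
    intro σ
    rw [hx]
    have := Polynomial.aeval_algHom_apply (σ.restrictScalars ℤ) μ f
    exact this.symm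
  have hsum : algebraMap ℚ ℂ (Algebra.trace ℚ L x) = ∑ ξ : primitiveRoots n ℂ, aeval (ξ : ℂ) f := by
    rw [trace_eq_sum_embeddings ℂ]
    refine Fintype.sum_equiv (hμ.embeddingsEquivPrimitiveRoots ℂ hirr) _ _ fun σ => ?_
    rw [IsPrimitiveRoot.embeddingsEquivPrimitiveRoots_apply_coe]
    exact hσ σ
  exact ⟨Algebra.trace ℚ L x, by rw [← hsum]; rfl⟩

/-- The sum of the Galois conjugates `f(ζ^k)`, `k` prime to `n`, is rational. -/
theorem gt_sum_range (n : ℕ) (hn : 0 < n) (f : ℤ[X]) (ζ : ℂ) (hζ : IsPrimitiveRoot ζ n) :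
    ∃ q : ℚ, ∑ k ∈ (Finset.range n).filter (Nat.Coprime n), aeval (ζ ^ k) f = (q : ℂ) := by
  haveI : NeZero n := ⟨hn.ne'⟩
  haveI : IsCyclotomicExtension {n} ℚ (CyclotomicField n ℚ) :=
    CyclotomicField.isCyclotomicExtension n ℚ
  obtain ⟨q, hq⟩ := gt_sum_aux n hn (CyclotomicField n ℚ) f
  refine ⟨q, ?_⟩
  rw [← hq, Finset.sum_coe_sort (primitiveRoots n ℂ) (fun ξ => aeval (ξ : ℂ) f)]
  refine Finset.sum_bij (fun i _ ↦ ζ ^ i) ?_ ?_ ?_ ?_
  · simp only [and_imp, Finset.mem_filter, Finset.mem_range]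
    rintro i - hi
    rw [mem_primitiveRoots hn]
    exact hζ.pow_of_coprime i hi.symm
  · simp only [and_imp, Finset.mem_filter, Finset.mem_range]
    rintro i hi - j hj - H
    exact hζ.pow_inj hi hj H
  · simp only [exists_prop, Finset.mem_filter, Finset.mem_range]
    intro ξ hξ
    rw [mem_primitiveRoots hn, hζ.isPrimitiveRoot_iff] at hξ
    rcases hξ with ⟨i, hin, hi, H⟩
    exact ⟨i, ⟨hin, hi.symm⟩, H⟩
  · intro i _
    rfl

/-- If `f(ζ)` is rational then `f(ζ^k) = f(ζ)` for every `k` prime to `n`. -/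
theorem gt_conj_eq (n : ℕ) (hn : 0 < n) (f : ℤ[X]) (ζ : ℂ) (hζ : IsPrimitiveRoot ζ n) (q : ℚ)
    (hq : aeval ζ f = (q : ℂ)) (k : ℕ) (hk : Nat.Coprime k n) : aeval (ζ ^ k) f = (q : ℂ) := by
  haveI : NeZero n := ⟨hn.ne'⟩
  set F : ℚ[X] := f.map (Int.castRingHom ℚ) - C q with hF
  have hFeval : ∀ z : ℂ, aeval z F = aeval z f - (q : ℂ) := by
    intro z
    rw [hF, map_sub, aeval_C, ← algebraMap_int_eq, aeval_map_algebraMap]
    rfl
  have h0 : aeval ζ F = 0 := by rw [hFeval, hq, sub_self]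
  have hdvd : minpoly ℚ ζ ∣ F := minpoly.dvd ℚ ζ h0
  rw [← Polynomial.cyclotomic_eq_minpoly_rat hζ hn] at hdvd
  obtain ⟨R, hR⟩ := hdvd
  have hroot : aeval (ζ ^ k) (cyclotomic n ℚ) = 0 := by
    rw [aeval_def, eval₂_eq_eval_map, map_cyclotomic]
    haveI : NeZero ((n : ℕ) : ℂ) := ⟨by exact_mod_cast hn.ne'⟩
    exact (Polynomial.isRoot_cyclotomic_iff).mpr (hζ.pow_of_coprime k hk)
  have h1 : aeval (ζ ^ k) F = 0 := by rw [hR, map_mul, hroot, zero_mul]
  rw [hFeval] at h1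
  exact sub_eq_zero.mp h1

end Cfsg.Agent.Lib.helper2
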