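import Mathlib
import Cfsg.Agent.Lib.helper17.SLP.Defs
import Cfsg.Agent.Lib.helper17.SL3.Defs
import Cfsg.Agent.Lib.helper17.SL3.Defs2
import Cfsg.Agent.Lib.helper2.SL3D4core
import Cfsg.Agent.Lib.Helper28.SL3K1

/-!
# Project SL3, row D4 (helper2): `rd_weylT`, verbatim.
-/

set_option autoImplicit false

namespace Cfsg.Agent.Lib.helper17.SL3

open Cfsg.Agent.Lib.helper17.SLP
open Polynomial

universe u v

section D

variable {F : Type u} [Field F] [Fintype F] {G : Type v} [Group G]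

theorem rd_weylT (ζ : Fˣ) (hζ : ∀ y : Fˣ, y ∈ Subgroup.zpowers ζ) (x : F → G) (d w c : G)
    (H : Hyp ζ x d w c) :
    (∀ τ ∈ TT d c, w * τ * w⁻¹ ∈ TT d c) ∧ (∀ τ ∈ TT d c, (c * w * c⁻¹) * τ * (c * w * c⁻¹)⁻¹ ∈ TT d c) ∧
      w ^ 2 ∈ TT d c ∧ (c * w * c⁻¹) ^ 2 ∈ TT d c :=
  sl3d4_core ζ x d w c H (wsq_mem ζ hζ x d w c H)

end D

end Cfsg.Agent.Lib.helper17.SL3
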