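import Cfsg.Agent.Lib.Helper21.TS.XA
import Cfsg.Agent.Lib.Helper28.Transport
import Cfsg.Agent.S5646
import Cfsg.Agent.Lib.helper7.TP.Main
import Cfsg.Agent.Lib.Helper9.TSTRISO
import Cfsg.Agent.Lib.helper3.TSTRCTX
import Cfsg.Agent.Lib.helper3.TSTRPSI
import Cfsg.Agent.Lib.Helper20.TSMODEL

/-!
# Project TS (S5666), piece FINAL: `ts_final`

S5666 from the NT world in the model with `J1 = gramMatrix f₁`, `J2 = gramMatrix f₂`:
`ts_ctx`, `ts_iso`, `ts_tv` + `S5646.sp_gen` (generation), `ts_model`, `isMaximalIn_map` + `tensor_eq_map`.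
-/

set_option autoImplicit false
set_option linter.unusedSectionVars false
set_option linter.unusedVariables false

namespace Cfsg.Agent.Lib.Helper21.TS

open Matrix
open scoped Kronecker
open Cfsg.Agent.Lib.helper7.TP

variable {a b : ℕ} {F : Type*} [Field F]
  {J1 : Matrix (Fin a) (Fin a) F} {J2 : Matrix (Fin b) (Fin b) F}

/-- an alternating non-degenerate Gram matrix (`2 ≠ 0`) on `F^n`, `n ≠ 0`, has `n ≥ 2`. -/
theorem tsfinal_two_le {n : ℕ} {J : Matrix (Fin n) (Fin n) F} (two : (2 : F) ≠ 0) (alt : Jᵀ = -J)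
    (hdet : J.det ≠ 0) (hn : n ≠ 0) : 2 ≤ n := by
  by_contra h
  have h1 : n = 1 := by omega
  subst h1
  apply hdet
  rw [Matrix.det_fin_one]
  have h2 := congrFun (congrFun alt 0) 0
  rw [Matrix.transpose_apply, Matrix.neg_apply] at h2
  have h3 : (2 : F) * J 0 0 = 0 := by linear_combination h2
  rcases mul_eq_zero.mp h3 with h4 | h4
  · exact absurd h4 two
  · exact h4

/-- generation: a subgroup of `Sp(V)` containing all model transvections is `Sp(V)`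
(through the concrete group and `S5646.sp_gen`). -/
theorem tsfinal_gen {m : ℕ} (C : Ctx J1 J2) (e : (Fin m ⊕ Fin m) ≃ Fin a × Fin b)
    (P : Matrix.GeneralLinearGroup (Fin m ⊕ Fin m) F) {c : F} (hc : c ≠ 0)
    (hT : ∀ x y : Fin a × Fin b → F,
      Cfsg.sympForm m F ((P : Matrix (Fin m ⊕ Fin m) (Fin m ⊕ Fin m) F) *ᵥ (x ∘ e))
        ((P : Matrix (Fin m ⊕ Fin m) (Fin m ⊕ Fin m) F) *ᵥ (y ∘ e)) = c * bf (JV J1 J2) x y)
    (M : Subgroup (Matrix.GeneralLinearGroup (Fin a × Fin b) F)) (hMS : M ≤ SpV J1 J2)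
    (hTT : ∀ v : Fin a × Fin b → F, TT J1 J2 M v) : SpV J1 J2 ≤ M := by
  have h1 : Cfsg.spGL m F ≤ M.map (Cfsg.Agent.Lib.Helper28.Transport.tmap e.symm P) := by
    apply Cfsg.Agent.S5646.sp_gen
    intro v' c' g' hg'
    obtain ⟨v, c₁, hv⟩ := ts_tv C e P hc hT v' c'
    obtain ⟨g, hgM, hg⟩ := hTT v c₁
    refine ⟨g, hgM, ?_⟩
    apply Units.ext
    rw [hv g hg, hg']
  intro g hg
  obtain ⟨g0, hg0, heq⟩ := h1 ((ts_iso e P hc hT g).mp hg)
  rw [← Cfsg.Agent.Lib.Helper28.Transport.tmap_injective e.symm P heq]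
  exact hg0

/-- FINAL [M-L]. S5666 from the NT world in the model with `J1 = gramMatrix f₁`, `J2 = gramMatrix f₂`.
(`ts_ctx`; `hT` gives `c`, rewrite with `ts_fog`; `φ = tmap e.symm P`; `hGEN`: for `M ≤ Sp(V)` with all `TT`, `M.map φ` contains every `sympTransvection` (`ts_tv`),
so `spGL ≤ M.map φ` (`S5646.sp_gen`), so `Sp(V) ≤ M` (`ts_iso`, `tmap_injective`); `ts_model`; then `helper7.TP.isMaximalIn_map` / `utptransfer_isMaximalIn_map`
with `tensor_eq_map`, `ts_iso`, `ts_tmap_surj`.  `2 ≤ n₁`: `f₁` alternating non-degenerate and `n₁ n₂ = 2m ≥ 14`; `hex` ⟹ `5 ≤ |F| ∨ 4 ≤ n₂` (`|F|` odd, `≥ 3`).) -/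
theorem ts_final [Fintype F] (m : ℕ) (hm : 7 ≤ m) (hodd : Odd (Fintype.card F)) (n₁ n₂ : ℕ) (hn₂ : 3 ≤ n₂)
    (hex : ¬ (Fintype.card F = 3 ∧ n₂ = 3)) (e : (Fin m ⊕ Fin m) ≃ Fin n₁ × Fin n₂)
    (P : Matrix.GeneralLinearGroup (Fin m ⊕ Fin m) F)
    (f₁ : (Fin n₁ → F) → (Fin n₁ → F) → F) (f₂ : (Fin n₂ → F) → (Fin n₂ → F) → F)
    (hf₁ : Cfsg.Geo.IsSymplecticForm f₁) (hf₂ : Cfsg.Geo.IsSymmetricForm f₂)
    (hT : Cfsg.Geo.IsTensorFormStructure id (Cfsg.sympForm m F) f₁ f₂ e P)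
    (hNT : ∀ M : Subgroup (Matrix.GeneralLinearGroup (Fin n₁ × Fin n₂) F),
      T0 (Cfsg.Geo.gramMatrix f₁) (Cfsg.Geo.gramMatrix f₂) ≤ M →
      M ≤ SpV (Cfsg.Geo.gramMatrix f₁) (Cfsg.Geo.gramMatrix f₂) →
      NTp (Cfsg.Geo.gramMatrix f₁) (Cfsg.Geo.gramMatrix f₂) M →
      M ≤ T0 (Cfsg.Geo.gramMatrix f₁) (Cfsg.Geo.gramMatrix f₂)) :
    Cfsg.Geo.IsMaximalIn (Cfsg.spGL m F)
      (Cfsg.Geo.tensorProductSubgroup n₁ n₂ e P ⊓ Cfsg.spGL m F) := by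
  have C : Ctx (Cfsg.Geo.gramMatrix f₁) (Cfsg.Geo.gramMatrix f₂) := ts_ctx hodd f₁ f₂ hf₁ hf₂
  obtain ⟨c, hc, hT'⟩ := hT
  have hT2 : ∀ x y : Fin n₁ × Fin n₂ → F,
      Cfsg.sympForm m F ((P : Matrix (Fin m ⊕ Fin m) (Fin m ⊕ Fin m) F) *ᵥ (x ∘ e))
        ((P : Matrix (Fin m ⊕ Fin m) (Fin m ⊕ Fin m) F) *ᵥ (y ∘ e)) =
        c * bf (JV (Cfsg.Geo.gramMatrix f₁) (Cfsg.Geo.gramMatrix f₂)) x y := by
    intro x y
    rw [hT' x y, ts_fog]
    rfl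
  -- numerics
  have hcard : m + m = n₁ * n₂ := by
    have := Fintype.card_congr e
    simpa [Fintype.card_sum, Fintype.card_prod, Fintype.card_fin] using this
  have hn1 : 2 ≤ n₁ := by
    apply tsfinal_two_le C.two C.alt C.det1
    rintro rfl
    omega
  have hex' : 5 ≤ Fintype.card F ∨ 4 ≤ n₂ := by
    have h2 : 1 < Fintype.card F := Fintype.one_lt_card
    obtain ⟨k, hk⟩ := hodd
    by_cases h3 : Fintype.card F = 3
    · right
      have : n₂ ≠ 3 := fun h => hex ⟨h3, h⟩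
      omega
    · left
      omega
  have hmodel := ts_model C hn1 hn₂ hex' hNT
    (fun M hMS hTT => tsfinal_gen C e P hc hT2 M hMS hTT)
  have := isMaximalIn_map (Cfsg.Agent.Lib.Helper28.Transport.tmap e.symm P)
    (Cfsg.Agent.Lib.Helper28.Transport.tmap_injective e.symm P) (K0 n₁ n₂ F)
    (SpV (Cfsg.Geo.gramMatrix f₁) (Cfsg.Geo.gramMatrix f₂)) (Cfsg.spGL m F)
    (fun g => ts_iso e P hc hT2 g)
    (fun h _ => by
      obtain ⟨g, hg⟩ := ts_tmap_surj e P h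
      exact ⟨g, hg⟩)
    hmodel
  rw [Cfsg.Agent.Lib.Helper28.Transport.tensor_eq_map]
  exact this

end Cfsg.Agent.Lib.Helper21.TS
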