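import Cfsg.Agent.Lib.Helper27.WSP.Defs
import Cfsg.Agent.Lib.Helper25.CharLinear
import Cfsg.Agent.Lib.Helper29.SLM.SLMG

set_option autoImplicit false
set_option linter.unusedSectionVars false
set_option linter.unusedVariables false

namespace Cfsg.Agent.Lib.Helper27.WSP

open Matrix

/-! ## R : representation theory -/
section R

/-- R2 : transport of an irreducible representation to coordinates -/
theorem exists_irreducible_fin {G : Type*} [Group G] {U : Type*} [AddCommGroup U] [Module ℂ U]
    [FiniteDimensional ℂ U] (ρ : Representation ℂ G U) (hirr : ρ.IsIrreducible) (k : ℕ)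
    (hk : Module.finrank ℂ U = k) :
    ∃ τ : Representation ℂ G (Fin k → ℂ), τ.IsIrreducible := by
  have e : U ≃ₗ[ℂ] (Fin k → ℂ) := (Module.finBasisOfFinrankEq ℂ U hk).equivFun
  refine ⟨Cfsg.Agent.Lib.helper15.SLM.h29_transport ρ e, ?_⟩
  have := hirr
  refine Cfsg.Agent.Lib.Helper25.isIrreducible_of_equiv ρ _ e ?_
  intro g v
  rw [Cfsg.Agent.Lib.helper15.SLM.h29_transport_apply, LinearEquiv.symm_apply_apply]

end R

end Cfsg.Agent.Lib.Helper27.WSP
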