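import Cfsg.Agent.Lib.Helper27.WSP.Defs
import Cfsg.Agent.Lib.Helper25.CharLinear
import Cfsg.Agent.Lib.Helper29.SLM.SLMG
import Cfsg.Agent.Lib.helper2.WSPR2

set_option autoImplicit false
set_option linter.unusedSectionVars false
set_option linter.unusedVariables false

namespace Cfsg.Agent.Lib.Helper27.WSP

open Matrix

/-! ## R : representation theory -/
section R

/-- a one-dimensional invariant subspace of a representation of a perfect group consists of fixed
vectors -/
theorem h2_fixed_of_finrank_one {G : Type*} [Group G] (hperf : commutator G = ⊤)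
    {T : Type*} [AddCommGroup T] [Module ℂ T] [FiniteDimensional ℂ T]
    (σ : Representation ℂ G T) (h1 : Module.finrank ℂ T = 1) (g : G) (u : T) : σ g u = u := by
  have hsc : ∀ g : G, σ g = LinearMap.trace ℂ T (σ g) • LinearMap.id := fun g =>
    Cfsg.Agent.Lib.Helper25.end_eq_trace_smul_of_finrank_one h1 (σ g)
  have hid : LinearMap.trace ℂ T (LinearMap.id : T →ₗ[ℂ] T) = 1 := by
    rw [LinearMap.trace_id, h1]
    simp
  let χ : G →* ℂ :=
    { toFun := fun g => LinearMap.trace ℂ T (σ g)
      map_one' := by
        show LinearMap.trace ℂ T (σ 1) = 1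
        rw [map_one]
        exact hid
      map_mul' := by
        intro a b
        show LinearMap.trace ℂ T (σ (a * b)) = LinearMap.trace ℂ T (σ a) * LinearMap.trace ℂ T (σ b)
        rw [map_mul]
        conv_lhs => rw [hsc a, hsc b]
        rw [smul_mul_smul_comm, map_smul]
        have : (LinearMap.id : T →ₗ[ℂ] T) * LinearMap.id = LinearMap.id := by
          rw [Module.End.mul_eq_comp, LinearMap.id_comp]
        rw [this, hid, smul_eq_mul, mul_one] }
  have hker : g ∈ (MonoidHom.toHomUnits χ).ker := by
    apply Abelianization.commutator_subset_ker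
    rw [hperf]
    exact Subgroup.mem_top g
  rw [MonoidHom.mem_ker] at hker
  have hχ : χ g = 1 := by
    have := congrArg Units.val hker
    simpa using this
  have hχ' : LinearMap.trace ℂ T (σ g) = 1 := hχ
  rw [hsc g, hχ', one_smul, LinearMap.id_apply]

/-- the key induction for R1 -/
theorem h2_invariant_eq_top {G : Type*} [Group G] (hperf : commutator G = ⊤)
    {U : Type*} [AddCommGroup U] [Module ℂ U] [FiniteDimensional ℂ U]
    (ρ : Representation ℂ G U)
    (hLB : ∀ (d : ℕ) (τ : Representation ℂ G (Fin d → ℂ)), τ.IsIrreducible → 2 ≤ d →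
      Module.finrank ℂ U ≤ d)
    (hfix : ∀ u : U, (∀ g, ρ g u = u) → u = 0) :
    ∀ (n : ℕ) (U' : Submodule ℂ U), (∀ g, ∀ v ∈ U', ρ g v ∈ U') → U' ≠ ⊥ →
      Module.finrank ℂ U' = n → U' = ⊤ := by
  intro n
  induction n using Nat.strong_induction_on with
  | _ n ih =>
    intro U' hinv hne hn
    by_cases hex : ∃ T : Submodule ℂ U, (∀ g, ∀ v ∈ T, ρ g v ∈ T) ∧ T ≠ ⊥ ∧ T < U'
    · obtain ⟨T, hTinv, hTne, hTlt⟩ := hex
      have hlt : Module.finrank ℂ T < n := hn ▸ Submodule.finrank_lt_finrank_of_lt hTlt
      have hT := ih _ hlt T hTinv hTne rfl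
      rw [eq_top_iff, ← hT]
      exact hTlt.le
    · -- U' is a minimal invariant subspace
      have hmin : ∀ T : Submodule ℂ U, (∀ g, ∀ v ∈ T, ρ g v ∈ T) → T ≤ U' → T = ⊥ ∨ T = U' := by
        intro T hTinv hTle
        by_contra hcon
        push Not at hcon
        exact hex ⟨T, hTinv, hcon.1, lt_of_le_of_ne hTle hcon.2⟩
      let S : Subrepresentation ρ := ⟨U', fun g v hv => hinv g v hv⟩
      let σ : Representation ℂ G U' := S.toRepresentation
      have hσ : ∀ g (v : U'), ((σ g v : U') : U) = ρ g (v : U) := fun g v => rfl
      have hnt : Nontrivial U' := by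
        rw [Submodule.nontrivial_iff_ne_bot]
        exact hne
      have hn1 : 1 ≤ n := by
        rw [← hn]
        exact Module.finrank_pos
      -- σ is irreducible
      have hirr : σ.IsIrreducible := by
        apply Cfsg.Agent.Lib.helper15.SLM.h29_isIrreducible_of_forall
        intro T' hT'
        have h1 := hmin (T'.map U'.subtype) (by
          rintro g _ ⟨v, hv, rfl⟩
          exact ⟨σ g v, hT' g v hv, hσ g v⟩) (by
          rintro _ ⟨v, _, rfl⟩
          exact v.2)
        rcases h1 with h1 | h1
        · left
          rw [eq_bot_iff]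
          intro v hv
          have hv' : (v : U) ∈ T'.map U'.subtype := ⟨v, hv, rfl⟩
          rw [h1, Submodule.mem_bot] at hv'
          rw [Submodule.mem_bot]
          exact Subtype.ext hv'
        · right
          rw [eq_top_iff]
          intro v _
          have hv : (v : U) ∈ T'.map U'.subtype := by
            rw [h1]
            exact v.2
          obtain ⟨w, hw, hwv⟩ := hv
          have : w = v := Subtype.ext hwv
          rwa [← this]
      rcases Nat.lt_or_ge n 2 with h2 | h2
      · -- dimension one: fixed vectors
        exfalso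
        have h1 : Module.finrank ℂ U' = 1 := by omega
        obtain ⟨u, hu0⟩ := exists_ne (0 : U')
        apply hu0
        have hfixu : ∀ g, ρ g (u : U) = (u : U) := by
          intro g
          rw [← hσ, h2_fixed_of_finrank_one hperf σ h1 g u]
        have := hfix (u : U) hfixu
        exact Subtype.ext this
      · obtain ⟨τ, hτ⟩ := exists_irreducible_fin σ hirr n hn
        have hle := hLB n τ hτ h2
        apply Submodule.eq_top_of_finrank_eq
        have := Submodule.finrank_le U'
        omega

/-- R1 : a representation of a perfect group without fixed vectors, whose dimension is at most the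
smallest degree of the irreducible representations of degree at least two, is irreducible -/
theorem irreducible_of_bound {G : Type*} [Group G] (hperf : commutator G = ⊤)
    {U : Type*} [AddCommGroup U] [Module ℂ U] [FiniteDimensional ℂ U]
    (ρ : Representation ℂ G U) (hU : 0 < Module.finrank ℂ U)
    (hLB : ∀ (d : ℕ) (τ : Representation ℂ G (Fin d → ℂ)), τ.IsIrreducible → 2 ≤ d →
      Module.finrank ℂ U ≤ d)
    (hfix : ∀ u : U, (∀ g, ρ g u = u) → u = 0) : ρ.IsIrreducible := by
  have : Nontrivial U := Module.nontrivial_of_finrank_pos (R := ℂ) hU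
  apply Cfsg.Agent.Lib.helper15.SLM.h29_isIrreducible_of_forall
  intro U' hU'
  by_cases hne : U' = ⊥
  · exact Or.inl hne
  · exact Or.inr (h2_invariant_eq_top hperf ρ hLB hfix _ U' hU' hne rfl)

end R

end Cfsg.Agent.Lib.Helper27.WSP
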