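import Mathlib
import Cfsg.Agent.Lib.Helper28.IPB.Defs
import Cfsg.Agent.Lib.helper7.CharTools
import Cfsg.Agent.Lib.helper7.Gallagher
import Cfsg.Agent.Lib.Helper20.PM2SQ
import Cfsg.Agent.Lib.Helper25.PrincipalNPC
import Cfsg.Agent.Lib.Helper25.Gagola
import Cfsg.Agent.Lib.Helper19.CD3BASIC
import Cfsg.Agent.Lib.helper23.PSLZCHI

/-!
# Project IPB, piece C3A: a nonabelian simple group has no irreducible character of degree 2.
-/

set_option autoImplicit false
open scoped commutatorElement ComplexConjugate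

namespace Cfsg.Agent.Lib.Helper28.IPB

universe u

/-- in a simple group a normal subgroup containing a nontrivial element is everything -/
theorem ipbc3a_normal_top {S : Type u} [Group S] [IsSimpleGroup S] (N : Subgroup S) [N.Normal]
    (t : S) (ht : t ∈ N) (ht1 : t ≠ 1) : N = ⊤ := by
  rcases Subgroup.Normal.eq_bot_or_eq_top (inferInstance : N.Normal) with h | h
  · exfalso
    rw [h, Subgroup.mem_bot] at ht
    exact ht1 ht
  · exact h

-- piece C3A
theorem no_deg_two_of_simple (S : Type u) [Group S] [Finite S] [IsSimpleGroup S]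
    (hna : ¬ ∀ x y : S, x * y = y * x) : 2 ∉ Cfsg.charDegrees S := by
  classical
  haveI : Fintype S := Fintype.ofFinite _
  rintro ⟨χ, hχ⟩
  have h1 : (χ : S → ℂ) 1 = 2 := by
    rw [Cfsg.Agent.Lib.Helper25.pq_degree_cast χ, hχ]
    norm_num
  -- two noncommuting elements
  push Not at hna
  obtain ⟨x, y, hxy⟩ := hna
  -- the commutator subgroup is everything
  have hcomm : commutator S = ⊤ := by
    apply ipbc3a_normal_top (commutator S) ⁅x, y⁆
      (Subgroup.commutator_mem_commutator (Subgroup.mem_top x) (Subgroup.mem_top y))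
    intro h
    rw [commutatorElement_eq_one_iff_mul_comm] at h
    exact hxy h
  -- the alternating square is a linear character, hence trivial
  have hχc := Cfsg.Agent.Lib.helper7.h7_irr_isCharacter χ.2
  have hlam := Cfsg.Agent.Lib.helper7.PM2.pm2_altSq hχc
  have hlam1 : (fun g : S => ((χ : S → ℂ) g ^ 2 - (χ : S → ℂ) (g ^ 2)) / 2) 1 = 1 := by
    simp only [one_pow, h1]
    norm_num
  set μ := Cfsg.Agent.Lib.helper7.h7_homOfLinear ⟨hlam, hlam1⟩ with hμ
  have hμtriv : ∀ g : S, μ g = 1 := by
    intro g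
    have h2 : commutator S ≤ μ.ker := Abelianization.commutator_subset_ker μ
    have h3 : g ∈ μ.ker := h2 (by rw [hcomm]; exact Subgroup.mem_top g)
    exact h3
  have hlamtriv : ∀ g : S, ((χ : S → ℂ) g ^ 2 - (χ : S → ℂ) (g ^ 2)) / 2 = 1 := by
    intro g
    have h2 := Cfsg.Agent.Lib.helper7.h7_homOfLinear_apply ⟨hlam, hlam1⟩ g
    rw [← hμ, hμtriv g] at h2
    simpa using h2.symm
  -- an involution
  have hdvd : 2 ∣ Nat.card S := Cfsg.Agent.Lib.Helper28.CD3.cd_dvd_card ⟨χ, hχ⟩
  haveI : Fact (Nat.Prime 2) := ⟨Nat.prime_two⟩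
  obtain ⟨t, ht⟩ := exists_prime_orderOf_dvd_card' 2 hdvd
  have ht1 : t ≠ 1 := by
    intro h
    rw [h, orderOf_one] at ht
    norm_num at ht
  have ht2 : t ^ 2 = 1 := by
    rw [← ht]
    exact pow_orderOf_eq_one t
  -- the value at t squares to 4
  have hsq : (χ : S → ℂ) t ^ 2 = 4 := by
    have h2 := hlamtriv t
    rw [ht2, h1] at h2
    have h3 : (χ : S → ℂ) t ^ 2 - 2 = 2 := by
      field_simp at h2
      linear_combination h2
    linear_combination h3
  have hval : (χ : S → ℂ) t = 2 ∨ (χ : S → ℂ) t = -2 := by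
    have h2 : ((χ : S → ℂ) t - 2) * ((χ : S → ℂ) t + 2) = 0 := by
      linear_combination hsq
    rcases mul_eq_zero.mp h2 with h | h
    · left
      linear_combination h
    · right
      linear_combination h
  have hnorm : (χ : S → ℂ) t * conj ((χ : S → ℂ) t) = (χ : S → ℂ) 1 * (χ : S → ℂ) 1 := by
    rw [h1]
    rcases hval with h | h
    · rw [h, map_ofNat]
    · rw [h, map_neg, map_ofNat]
      norm_num
  -- χ is faithful
  have hfaith : ∀ g : S, (χ : S → ℂ) g = (χ : S → ℂ) 1 → g = 1 := by
    intro g hg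
    by_contra hg1
    have hker : Cfsg.Agent.Lib.Helper25.irrKer χ = ⊤ :=
      ipbc3a_normal_top _ g ((Cfsg.Agent.Lib.Helper25.mem_irrKer χ g).mpr hg) hg1
    have hall : ∀ z : S, (χ : S → ℂ) z = 2 := by
      intro z
      have : z ∈ Cfsg.Agent.Lib.Helper25.irrKer χ := by
        rw [hker]
        exact Subgroup.mem_top z
      rw [(Cfsg.Agent.Lib.Helper25.mem_irrKer χ z).mp this, h1]
    have hn := Cfsg.Agent.Lib.helper7.h7_irr_norm χ.2
    unfold Cfsg.classInner at hn
    have hsum : ∑ z : S, (χ : S → ℂ) z * conj ((χ : S → ℂ) z) = (Nat.card S : ℂ) * 4 := by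
      rw [Finset.sum_congr rfl (fun z _ => by rw [hall z])]
      rw [Finset.sum_const, Finset.card_univ, nsmul_eq_mul, Nat.card_eq_fintype_card]
      congr 1
      rw [map_ofNat]
      norm_num
    rw [hsum] at hn
    have hc : (Nat.card S : ℂ) ≠ 0 := by exact_mod_cast Nat.card_pos.ne'
    field_simp at hn
    norm_num at hn
  -- t is central, so the group is abelian
  have htc := Cfsg.Agent.Lib.helper15.PSL.center_of_norm_eq χ hfaith t hnorm
  have hcen : Subgroup.center S = ⊤ := ipbc3a_normal_top _ t htc ht1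
  apply hxy
  have hx : x ∈ Subgroup.center S := by
    rw [hcen]
    exact Subgroup.mem_top x
  exact ((Subgroup.mem_center_iff.mp hx) y).symm

end Cfsg.Agent.Lib.Helper28.IPB
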