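import Mathlib
import Cfsg.Agent.Lib.Helper28.IPB.Defs
import Cfsg.Agent.Lib.Helper28.IPB.Basic
import Cfsg.Agent.Lib.Helper28.IPB.Tools
import Cfsg.Agent.Lib.helper2.IPBC3A
import Cfsg.Agent.Lib.Helper28.CD3.Main

/-!
# Project IPB, piece C3: a finite group all of whose irreducible character degrees are at most 4
is solvable.
-/

set_option autoImplicit false
open scoped commutatorElement

namespace Cfsg.Agent.Lib.Helper28.IPB

universe u

/-- the induction behind C3 -/
theorem ipbc3_aux : ∀ (n : ℕ) (X : Type u) [Group X] [Finite X], Nat.card X ≤ n → DegLe X 4 →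
    Group.IsSolvable X := by
  intro n
  induction n with
  | zero =>
    intro X _ _ h _
    exfalso
    have : 0 < Nat.card X := Nat.card_pos
    omega
  | succ n ih =>
    intro X _ _ hcard hX
    by_cases hN : ∃ N : Subgroup X, N.Normal ∧ N ≠ ⊥ ∧ N ≠ ⊤
    · obtain ⟨N, hNn, hNb, hNt⟩ := hN
      haveI := hNn
      have hmul : Nat.card N * N.index = Nat.card X := Subgroup.card_mul_index N
      have hNpos : 0 < Nat.card N := Nat.card_pos
      have hipos : 0 < N.index := Nat.pos_of_ne_zero Subgroup.index_ne_zero_of_finite
      have hN1 : 1 < Nat.card N := by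
        rcases Nat.lt_or_ge 1 (Nat.card N) with h | h
        · exact h
        · exfalso
          apply hNb
          have h1 : Nat.card N = 1 := by omega
          exact Subgroup.card_eq_one.mp h1
      have hi1 : 1 < N.index := by
        rcases Nat.lt_or_ge 1 N.index with h | h
        · exact h
        · exfalso
          apply hNt
          have h1 : N.index = 1 := by omega
          exact Subgroup.index_eq_one.mp h1
      have hcN : Nat.card N ≤ n := by
        have : Nat.card N < Nat.card X := by
          rw [← hmul]
          nlinarith
        omega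
      have hcQ : Nat.card (X ⧸ N) ≤ n := by
        have h1 : Nat.card (X ⧸ N) = N.index := (Subgroup.index_eq_card N).symm
        have : N.index < Nat.card X := by
          rw [← hmul]
          nlinarith
        omega
      haveI hs1 : Group.IsSolvable N := ih N hcN (degLe_sub hX N)
      haveI hs2 : Group.IsSolvable (X ⧸ N) := ih (X ⧸ N) hcQ (degLe_quot hX N)
      exact (Group.isSolvable_iff_subgroup_quotient N).mpr ⟨hs1, hs2⟩
    · push Not at hN
      by_cases hab : ∀ x y : X, x * y = y * x
      · exact Group.isSolvable_of_comm hab
      · -- X is a nonabelian simple group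
        have hnt : Nontrivial X := by
          by_contra h
          rw [not_nontrivial_iff_subsingleton] at h
          apply hab
          intro x y
          exact Subsingleton.elim _ _
        haveI := hnt
        haveI : IsSimpleGroup X := ⟨fun N hNn => by
          by_cases hb : N = ⊥
          · exact Or.inl hb
          · exact Or.inr (hN N hNn hb)⟩
        have h2 := no_deg_two_of_simple X hab
        have hsub : Cfsg.charDegrees X ⊆ ({1, 3, 4} : Set ℕ) := by
          intro d hd
          have h4 : d ≤ 4 := cd_le_of_degLe hX hd
          have h0 : 0 < d := Cfsg.Agent.Lib.Helper28.CD3.cd_pos hd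
          have hne : d ≠ 2 := fun h => h2 (h ▸ hd)
          simp only [Set.mem_insert_iff, Set.mem_singleton_iff]
          omega
        have hfin : ({1, 3, 4} : Set ℕ).Finite := by
          exact Set.toFinite _
        have hnc : (Cfsg.charDegrees X).ncard ≤ 3 := by
          calc (Cfsg.charDegrees X).ncard ≤ ({1, 3, 4} : Set ℕ).ncard := Set.ncard_le_ncard hsub hfin
            _ ≤ 3 := by
              have : ({1, 3, 4} : Set ℕ) = ((({1, 3, 4} : Finset ℕ)) : Set ℕ) := by
                ext x
                simp
              rw [this, Set.ncard_coe_finset]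
              decide
        have hd := Cfsg.Agent.Lib.Helper28.CD3.main_below (Nat.card X + 1) X (Nat.lt_succ_self _) hnc
        exact ⟨⟨3, hd⟩⟩

-- piece C3
theorem solvable_of_degLe_four (X : Type u) [Group X] [Finite X] (hX : DegLe X 4) :
    Group.IsSolvable X :=
  ipbc3_aux (Nat.card X) X le_rfl hX

end Cfsg.Agent.Lib.Helper28.IPB
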