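import Mathlib
import Cfsg.Agent.Lib.Helper28.IPB.Defs
import Cfsg.Agent.Lib.helper7.CharTools
import Cfsg.Agent.Lib.helper7.Induction
import Cfsg.Agent.Lib.Helper25.CharBound
import Cfsg.Agent.Lib.Helper25.PrincipalNPC

/-!
# Project IPB, piece T2B: an irreducible character vanishing off a subgroup `C` has
`|X : C| ≤ θ(1)^2`.
-/

set_option autoImplicit false
open scoped commutatorElement ComplexConjugate

namespace Cfsg.Agent.Lib.Helper28.IPB

universe u

-- piece T2B
theorem index_le_of_vanish {X : Type u} [Group X] [Finite X] (C : Subgroup X)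
    (θ : Cfsg.IrrCharacter X) (hv : ∀ x : X, x ∉ C → (θ : X → ℂ) x = 0) :
    C.index ≤ Cfsg.charDegree (θ : X → ℂ) ^ 2 := by
  classical
  haveI : Fintype X := Fintype.ofFinite _
  haveI : Fintype C := Fintype.ofFinite _
  set d := Cfsg.charDegree (θ : X → ℂ) with hd
  have hd1 : (θ : X → ℂ) 1 = (d : ℂ) := Cfsg.Agent.Lib.Helper25.pq_degree_cast θ
  have hXc : (Nat.card X : ℂ) ≠ 0 := by exact_mod_cast Nat.card_pos.ne'
  have hnorm := Cfsg.Agent.Lib.helper7.h7_irr_norm θ.2
  unfold Cfsg.classInner at hnorm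
  -- the sum of |θ|^2 over X is |X|
  have hsum : ∑ g : X, (θ : X → ℂ) g * conj ((θ : X → ℂ) g) = (Nat.card X : ℂ) := by
    have := hnorm
    field_simp at this
    exact this
  -- real version
  have hre : ∑ g : X, Complex.normSq ((θ : X → ℂ) g) = (Nat.card X : ℝ) := by
    have h1 : ((∑ g : X, Complex.normSq ((θ : X → ℂ) g) : ℝ) : ℂ) = (Nat.card X : ℂ) := by
      rw [← hsum]
      push_cast
      apply Finset.sum_congr rfl
      intro g _
      rw [Complex.mul_conj]
    exact_mod_cast h1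
  -- each term is at most d^2 on C and 0 off C
  have hbound : ∀ g : X, Complex.normSq ((θ : X → ℂ) g) ≤ if g ∈ C then (d : ℝ) ^ 2 else 0 := by
    intro g
    by_cases hg : g ∈ C
    · rw [if_pos hg, Complex.normSq_eq_norm_sq]
      have h1 := Cfsg.Agent.Lib.Helper25.irr_norm_le θ g
      rw [hd1] at h1
      have h2 : ‖(d : ℂ)‖ = (d : ℝ) := by simp
      rw [h2] at h1
      have h0 : (0 : ℝ) ≤ ‖(θ : X → ℂ) g‖ := norm_nonneg _
      nlinarith
    · rw [if_neg hg, hv g hg]
      simp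
  have hle : (Nat.card X : ℝ) ≤ (Nat.card C : ℝ) * (d : ℝ) ^ 2 := by
    rw [← hre]
    calc ∑ g : X, Complex.normSq ((θ : X → ℂ) g)
        ≤ ∑ g : X, (if g ∈ C then (d : ℝ) ^ 2 else 0) := Finset.sum_le_sum (fun g _ => hbound g)
      _ = ∑ c : C, (d : ℝ) ^ 2 := Cfsg.Agent.Lib.helper7.h7_sum_subgroup C (fun _ => (d : ℝ) ^ 2)
      _ = (Nat.card C : ℝ) * (d : ℝ) ^ 2 := by
          rw [Finset.sum_const, Finset.card_univ, nsmul_eq_mul, Nat.card_eq_fintype_card]
  have hnat : Nat.card X ≤ Nat.card C * d ^ 2 := by exact_mod_cast hle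
  have hmul : Nat.card C * C.index = Nat.card X := Subgroup.card_mul_index C
  have hCpos : 0 < Nat.card C := Nat.card_pos
  rw [← hmul] at hnat
  exact Nat.le_of_mul_le_mul_left hnat hCpos

end Cfsg.Agent.Lib.Helper28.IPB
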