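import Mathlib
import Cfsg.Agent.Lib.Helper19.ORE.Defs

/-!
# Project ORE (S2444), row M1: `bridge`.

From `SolP (toLin' g) 1 1 0` (linear automorphisms `A y` of determinant `1` with
`A * toLin' g = y * A * y⁻¹`) to `g = a * b * a⁻¹ * b⁻¹` in `SL_n(F)`, with `a := A⁻¹`, `b := y`
as matrices.
-/

set_option autoImplicit false

namespace Cfsg.Agent.Lib.Helper19.ORE

open Polynomial Module

universe u v w v₁ v₂ v₃ v₄

section General
variable {F : Type u} [Field F]

/-- a linear automorphism of `Fin n → F` of determinant `1` comes from `SL_n(F)`. -/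
theorem orem1_lift (n : ℕ) (e : (Fin n → F) ≃ₗ[F] (Fin n → F)) (he : LinearEquiv.det e = 1) :
    ∃ s : Matrix.SpecialLinearGroup (Fin n) F, Matrix.SpecialLinearGroup.toLin' s = e := by
  have hdet : (LinearMap.toMatrix' (e : (Fin n → F) →ₗ[F] (Fin n → F))).det = 1 := by
    rw [LinearMap.det_toMatrix', ← LinearEquiv.coe_det, he, Units.val_one]
  let s : Matrix.SpecialLinearGroup (Fin n) F :=
    ⟨LinearMap.toMatrix' (e : (Fin n → F) →ₗ[F] (Fin n → F)), hdet⟩
  refine ⟨s, ?_⟩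
  apply LinearEquiv.toLinearMap_injective
  rw [Matrix.SpecialLinearGroup.toLin'_to_linearMap]
  exact Matrix.toLin'_toMatrix' _

/-- **M1**.  `a := A⁻¹`, `b := y` as matrices (`LinearMap.toMatrix'`, `LinearMap.det_toMatrix'`):
`g = A⁻¹ (y A y⁻¹)`. -/
theorem bridge (n : ℕ) (g : Matrix.SpecialLinearGroup (Fin n) F)
    (h : SolP (Matrix.SpecialLinearGroup.toLin' g) 1 1 0) :
    ∃ a b : Matrix.SpecialLinearGroup (Fin n) F, g = a * b * a⁻¹ * b⁻¹ := by
  obtain ⟨A, y, hAy, hA, hy, -⟩ := h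
  have hA' : LinearEquiv.det A⁻¹ = 1 := by rw [map_inv, hA, inv_one]
  obtain ⟨a, ha⟩ := orem1_lift n A⁻¹ hA'
  obtain ⟨b, hb⟩ := orem1_lift n y hy
  refine ⟨a, b, ?_⟩
  apply Matrix.SpecialLinearGroup.toLin'_injective
  rw [map_mul, map_mul, map_mul, map_inv, map_inv, ha, hb, inv_inv]
  have : Matrix.SpecialLinearGroup.toLin' g = A⁻¹ * (y * A * y⁻¹) := by
    rw [← hAy, ← mul_assoc, inv_mul_cancel, one_mul]
  rw [this]; group

end General

end Cfsg.Agent.Lib.Helper19.ORE
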