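import Mathlib
import Cfsg.Agent.Lib.Helper28.T9.Defs
import Cfsg.Agent.Lib.Helper13.T9B
import Cfsg.Agent.Lib.Helper13.T9PL2
import Cfsg.Agent.Lib.Helper1.S91CNT

/-!
# Project T9 (S5559), piece PL3 : the nine conjugates of `a` under the plane subgroup.
-/

set_option autoImplicit false

namespace Cfsg.Agent.Lib.Helper28.T9

universe u v

section abstract

variable {X : Type u} [Group X] {V : Type v} [AddCommGroup V] [DistribMulAction X V] {E : Set X}

/-- PIECE PL3 : the nine conjugates of `a` under the plane subgroup. -/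
theorem plane_orbit (h : Cfg X V E) (a b c : X) (ha : a ∈ E) (hb : b ∈ E) (hc : c ∈ E)
    (hnc : (a * b) * (a * c) ≠ (a * c) * (a * b)) :
    {e : X | ∃ g ∈ Subgroup.closure ({a * b, a * c} : Set X), e = g⁻¹ * a * g}.ncard = 9 ∧
    {e : X | ∃ g ∈ Subgroup.closure ({a * b, a * c} : Set X), e = g⁻¹ * a * g} ⊆ E := by
  classical
  obtain ⟨hcard, z, hzR, hz1, hz3, haz, -, hcent, -⟩ := plane_struct h a b c ha hb hc hnc
  set R : Subgroup X := Subgroup.closure ({a * b, a * c} : Set X) with hR
  have haa : a * a = 1 := h.sq a ha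
  have hai : a⁻¹ = a := inv_eq_of_mul_eq_one_left haa
  refine ⟨?_, ?_⟩
  · -- the count
    have hset : {e : X | ∃ g ∈ R, e = g⁻¹ * a * g} = {e : X | ∃ k ∈ R, e = k * a * k⁻¹} := by
      ext e
      constructor
      · rintro ⟨g, hg, rfl⟩
        exact ⟨g⁻¹, R.inv_mem hg, by rw [inv_inv]⟩
      · rintro ⟨k, hk, rfl⟩
        exact ⟨k⁻¹, R.inv_mem hk, by rw [inv_inv]⟩
    rw [hset, ← Nat.card_coe_set_eq]
    have h1 := Cfsg.Agent.Lib.helper2.S91.cnt_orbit R a
    have h2 : Nat.card ↥{e : X | ∃ k ∈ R, e = k * a * k⁻¹} =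
        Nat.card {g : X // ∃ k ∈ R, g = k * a * k⁻¹} := rfl
    rw [h2, h1]
    -- the stabiliser is zpowers z
    have hK : R ⊓ Subgroup.centralizer {a} = Subgroup.zpowers z := by
      apply le_antisymm
      · intro g hg
        obtain ⟨hgR, hgc⟩ := Subgroup.mem_inf.mp hg
        rw [Subgroup.mem_centralizer_iff] at hgc
        exact hcent g hgR (hgc a (Set.mem_singleton a))
      · rw [Subgroup.zpowers_le]
        refine Subgroup.mem_inf.mpr ⟨hzR, ?_⟩
        rw [Subgroup.mem_centralizer_iff]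
        intro y hy
        rw [Set.mem_singleton_iff] at hy
        subst hy
        -- a z a = z ⇒ a z = z a
        have : y * z = (y * z * y) * y := by rw [mul_assoc (y * z), haa, mul_one]
        rw [this, haz]
    rw [hK]
    have hordz : orderOf z = 3 := by
      have hdvd : orderOf z ∣ 3 := orderOf_dvd_of_pow_eq_one hz3
      rcases (Nat.dvd_prime (by norm_num : Nat.Prime 3)).mp hdvd with h1 | h1
      · exact absurd (orderOf_eq_one_iff.mp h1) hz1
      · exact h1
    have hzle : Subgroup.zpowers z ≤ R := by rw [Subgroup.zpowers_le]; exact hzR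
    have h3 := Subgroup.relIndex_mul_relIndex (⊥ : Subgroup X) (Subgroup.zpowers z) R bot_le hzle
    rw [Subgroup.relIndex_bot_left, Subgroup.relIndex_bot_left, Nat.card_zpowers, hordz, hcard] at h3
    omega
  · rintro e ⟨g, -, rfl⟩
    exact conj_mem h a ha g

end abstract

end Cfsg.Agent.Lib.Helper28.T9
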