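import Mathlib
import Cfsg.Agent.S0012
import Cfsg.Agent.S0029
import Cfsg.Agent.Lib.Helper28.T9.Defs

/-!
# Project T9 (S5559), piece R3 : the Frattini module `Q/Φ(Q)` with the conjugation action.
-/

set_option autoImplicit false

namespace Cfsg.Agent.Lib.Helper28.T9

universe u

theorem h2_comm_mem {G : Type*} [Group G] (a b : G) : a * b * a⁻¹ * b⁻¹ ∈ commutator G := by
  have := Subgroup.commutator_mem_commutator (Subgroup.mem_top a) (Subgroup.mem_top b)
  rwa [commutatorElement_def] at this

section r3

variable {H : Type u} [Group H] (Q : Subgroup H) [hQn : Q.Normal]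

/-- the Frattini quotient of `Q` -/
abbrev h2_FQ : Type u := ↥Q ⧸ frattini ↥Q

/-- conjugation by `g` on the Frattini quotient of the normal subgroup `Q` -/
noncomputable def h2_conjQ (g : H) : h2_FQ Q →* h2_FQ Q :=
  QuotientGroup.map (frattini ↥Q) (frattini ↥Q) ((MulAut.conjNormal g : MulAut ↥Q) : ↥Q →* ↥Q)
    (by
      intro x hx
      rw [Subgroup.mem_comap]
      have hchar : (frattini ↥Q).Characteristic := frattini_characteristic
      have := (Subgroup.characteristic_iff_le_comap.mp hchar) (MulAut.conjNormal g : MulAut ↥Q)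
      exact this hx)

theorem h2_conjQ_mk (g : H) (q : ↥Q) :
    h2_conjQ Q g (QuotientGroup.mk q) = QuotientGroup.mk (MulAut.conjNormal g q) := rfl

theorem h2_conjQ_one (x : h2_FQ Q) : h2_conjQ Q 1 x = x := by
  induction x using QuotientGroup.induction_on with
  | H q =>
    rw [h2_conjQ_mk]
    congr 1
    ext
    simp [MulAut.conjNormal_apply]

theorem h2_conjQ_mul (g h : H) (x : h2_FQ Q) :
    h2_conjQ Q (g * h) x = h2_conjQ Q g (h2_conjQ Q h x) := by
  induction x using QuotientGroup.induction_on with
  | H q =>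
    rw [h2_conjQ_mk, h2_conjQ_mk, h2_conjQ_mk]
    congr 1
    ext
    simp [MulAut.conjNormal_apply, mul_assoc]

end r3

/-- PIECE R3 : existence of the Frattini module: `V = Q/Φ(Q)` written additively, with the
conjugation action of `H`; the kernel of the action is `Q` (`S0029` + `C_H(Q) ≤ Q` + maximality of
`Q` among normal 2-subgroups). -/
theorem exists_module {H : Type u} [Group H] [Finite H] (Q : Subgroup H) [Q.Normal]
    (hQ : IsPGroup 2 Q) (hcent : Subgroup.centralizer (Q : Set H) ≤ Q)
    (hmax : ∀ N : Subgroup H, N.Normal → IsPGroup 2 N → N ≤ Q) :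
    ∃ (V : Type u) (_ : AddCommGroup V) (_ : DistribMulAction H V) (θ : ↥Q → V),
      (∀ v : V, v + v = 0) ∧ (∀ q q' : ↥Q, θ (q * q') = θ q + θ q') ∧ Function.Surjective θ ∧
      (∀ (g : H) (q : ↥Q) (hq : g * (q : H) * g⁻¹ ∈ Q), θ ⟨g * (q : H) * g⁻¹, hq⟩ = g • θ q) ∧
      kerAct H V = Q := by
  classical
  haveI : Fact (Nat.Prime 2) := ⟨Nat.prime_two⟩
  have hfr := Cfsg.Agent.S0012.result (G := ↥Q) 2 hQ
  obtain ⟨hcomm, hsq⟩ := hfr
  -- commutativity of the quotient
  have hmulcomm : ∀ x y : h2_FQ Q, x * y = y * x := by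
    intro x y
    induction x using QuotientGroup.induction_on with
    | H a =>
      induction y using QuotientGroup.induction_on with
      | H b =>
        rw [← QuotientGroup.mk_mul, ← QuotientGroup.mk_mul, QuotientGroup.eq]
        apply hcomm
        have : (a * b)⁻¹ * (b * a) = b⁻¹ * a⁻¹ * (b⁻¹)⁻¹ * (a⁻¹)⁻¹ := by
          simp [mul_assoc]
        rw [this]
        exact h2_comm_mem _ _
  let instC : CommGroup (h2_FQ Q) := { (inferInstance : Group (h2_FQ Q)) with mul_comm := hmulcomm }
  let V : Type u := Additive (h2_FQ Q)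
  let instA : AddCommGroup V := Additive.addCommGroup
  let instD : DistribMulAction H V :=
    { smul := fun g v => Additive.ofMul (h2_conjQ Q g v.toMul)
      one_smul := fun v => by
        change Additive.ofMul (h2_conjQ Q 1 v.toMul) = v
        rw [h2_conjQ_one]; rfl
      mul_smul := fun g h v => by
        change Additive.ofMul (h2_conjQ Q (g * h) v.toMul) =
          Additive.ofMul (h2_conjQ Q g (Additive.ofMul (h2_conjQ Q h v.toMul)).toMul)
        rw [h2_conjQ_mul]; rfl
      smul_zero := fun g => by
        change Additive.ofMul (h2_conjQ Q g (1 : h2_FQ Q)) = (0 : V)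
        rw [map_one]; rfl
      smul_add := fun g v w => by
        change Additive.ofMul (h2_conjQ Q g (v.toMul * w.toMul)) =
          Additive.ofMul (h2_conjQ Q g v.toMul * h2_conjQ Q g w.toMul)
        rw [map_mul] }
  have hsmul : ∀ (g : H) (v : V), g • v = Additive.ofMul (h2_conjQ Q g v.toMul) := fun _ _ => rfl
  let θ : ↥Q → V := fun q => Additive.ofMul (QuotientGroup.mk q : h2_FQ Q)
  refine ⟨V, instA, instD, θ, ?_, ?_, ?_, ?_, ?_⟩
  · -- v + v = 0
    intro v
    have : ∀ x : h2_FQ Q, x * x = 1 := by
      intro x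
      induction x using QuotientGroup.induction_on with
      | H a =>
        rw [← QuotientGroup.mk_mul, QuotientGroup.eq_one_iff]
        have := hsq a
        rwa [pow_two] at this
    change Additive.ofMul (v.toMul * v.toMul) = 0
    rw [this]; rfl
  · intro q q'
    rfl
  · intro v
    obtain ⟨q, hq⟩ := QuotientGroup.mk_surjective (v.toMul)
    exact ⟨q, by change Additive.ofMul (QuotientGroup.mk q : h2_FQ Q) = v; rw [hq]; rfl⟩
  · intro g q hq
    rw [hsmul]
    change Additive.ofMul (QuotientGroup.mk _ : h2_FQ Q) = Additive.ofMul (h2_conjQ Q g (QuotientGroup.mk q))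
    rw [h2_conjQ_mk]
    congr 2
  · -- the kernel
    -- characterisation of acting trivially
    have hker_iff : ∀ g : H, g ∈ kerAct H V ↔
        ∀ q : ↥Q, (MulAut.conjNormal g q) * q⁻¹ ∈ frattini ↥Q := by
      intro g
      rw [mem_kerAct]
      constructor
      · intro h q
        have h1 := h (θ q)
        rw [hsmul] at h1
        have h2 : h2_conjQ Q g (QuotientGroup.mk q) = (QuotientGroup.mk q : h2_FQ Q) := by
          have := congrArg Additive.toMul h1
          exact this
        rw [h2_conjQ_mk] at h2
        have h3 := (QuotientGroup.eq (s := frattini ↥Q)).mp h2.symm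
        -- q⁻¹ * conj ∈ Φ ; conjugate by q
        have hn : (frattini ↥Q).Normal := inferInstance
        have := hn.conj_mem _ h3 q
        simpa [mul_assoc] using this
      · intro h v
        obtain ⟨q, hq⟩ := QuotientGroup.mk_surjective (v.toMul)
        rw [hsmul, ← hq, h2_conjQ_mk]
        change Additive.ofMul _ = v
        have : (QuotientGroup.mk (MulAut.conjNormal g q) : h2_FQ Q) = QuotientGroup.mk q := by
          rw [QuotientGroup.eq]
          have hn : (frattini ↥Q).Normal := inferInstance
          have h1 := h q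
          have h2 := hn.conj_mem _ h1 q⁻¹
          have h3 := (frattini ↥Q).inv_mem h2
          simpa [mul_assoc] using h3
        rw [this, hq]; rfl
    apply le_antisymm
    · -- kernel ≤ Q : it is a normal 2-subgroup
      apply hmax _ (kerAct_normal H V)
      -- IsPGroup 2
      rintro ⟨g, hg⟩
      obtain ⟨n, m, hm, hnm⟩ := Nat.exists_eq_two_pow_mul_odd (orderOf_pos g).ne'
      refine ⟨n, ?_⟩
      -- g' := g ^ 2^n has odd order
      set g' : H := g ^ (2 ^ n) with hg'
      have hg'K : g' ∈ kerAct H V := (kerAct H V).pow_mem hg _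
      have hord : orderOf g' = m := by
        rw [hg', orderOf_pow' g (by positivity : (2 ^ n : ℕ) ≠ 0), hnm, Nat.gcd_eq_right (Dvd.intro _ rfl),
          Nat.mul_div_cancel_left _ (by positivity)]
      -- A := zpowers g'
      have hA : Subgroup.zpowers g' ≤ Subgroup.centralizer (Q : Set H) := by
        apply Cfsg.Agent.S0029.result (Subgroup.zpowers g') Q
        · rw [Subgroup.normalizer_eq_top]; exact le_top
        · rw [Nat.card_zpowers, hord]
          obtain ⟨k, hk⟩ := (IsPGroup.iff_card (p := 2)).mp
            (hQ.to_subgroup (frattini ↥Q) |> fun h => (h : IsPGroup 2 ↥(frattini ↥Q)))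
          rw [hk]
          exact Nat.Coprime.pow_right _ (Nat.coprime_two_right.mpr hm)
        · intro a ha k hk
          have haK : a ∈ kerAct H V := by
            obtain ⟨i, rfl⟩ := Subgroup.mem_zpowers_iff.mp ha
            exact (kerAct H V).zpow_mem hg'K i
          have := (hker_iff a).mp haK ⟨k, hk⟩
          refine ⟨_, this, ?_⟩
          simp [MulAut.conjNormal_apply]
      have hg'Q : g' ∈ Q := hcent (hA (Subgroup.mem_zpowers g'))
      -- a 2-element of odd order is trivial
      obtain ⟨j, hj⟩ := hQ ⟨g', hg'Q⟩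
      have hj' : g' ^ (2 ^ j) = 1 := by
        have := congrArg Subtype.val hj
        simpa using this
      have hdvd : orderOf g' ∣ 2 ^ j := orderOf_dvd_of_pow_eq_one hj'
      rw [hord] at hdvd
      have hm1 : m = 1 := by
        have hcop : Nat.Coprime m (2 ^ j) := Nat.Coprime.pow_right _ (Nat.coprime_two_right.mpr hm)
        exact Nat.Coprime.eq_one_of_dvd hcop hdvd
      have : g' = 1 := by
        rw [← orderOf_eq_one_iff, hord, hm1]
      ext
      simpa [hg'] using this
    · -- Q ≤ kernel
      intro q0 hq0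
      rw [hker_iff]
      intro q
      apply hcomm
      have : (MulAut.conjNormal q0 q) * q⁻¹ = (⟨q0, hq0⟩ : ↥Q) * q * (⟨q0, hq0⟩ : ↥Q)⁻¹ * q⁻¹ := by
        ext
        simp [MulAut.conjNormal_apply]
      rw [this]
      exact h2_comm_mem _ _

end Cfsg.Agent.Lib.Helper28.T9
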