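import Mathlib
import Cfsg.Prelude.Def_SporadicB
import Cfsg.Agent.Lib.Helper28.T9.Defs

/-!
# Project T9 (S5559), piece R4 : the property `(*)` on the Frattini module.
-/

set_option autoImplicit false

namespace Cfsg.Agent.Lib.Helper28.T9

universe u

/-- a 2-element that cubes to one is trivial -/
theorem h2_two_three {H : Type*} [Group H] (Q : Subgroup H) (hQ : IsPGroup 2 Q) (y : H) (hy : y ∈ Q)
    (h3 : y ^ 3 = 1) : y = 1 := by
  obtain ⟨j, hj⟩ := hQ ⟨y, hy⟩
  have hj' : y ^ (2 ^ j) = 1 := by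
    have := congrArg Subtype.val hj
    simpa using this
  have h1 : orderOf y ∣ 2 ^ j := orderOf_dvd_of_pow_eq_one hj'
  have h2 : orderOf y ∣ 3 := orderOf_dvd_of_pow_eq_one h3
  have hcop : Nat.Coprime (2 ^ j) 3 := Nat.Coprime.pow_left _ (by norm_num)
  have : orderOf y = 1 := Nat.eq_one_of_dvd_coprimes hcop h1 h2
  exact orderOf_eq_one_iff.mp this

/-- PIECE R4 : the property `(*)` on the Frattini module.  (For `q ∈ Q` put `u = a q a⁻¹ q⁻¹ ∈ Q`;
`a u = q a q⁻¹ ∈ E`, `u² = 1`, `a u = u a`, `(a u b)³ = 1` because its image mod `Q` has order 3,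
hence `u (x u x⁻¹) (x² u x⁻²) = 1` with `x = a b`; apply `θ`.) -/
theorem star_of_module {H : Type u} [Group H] [Finite H] {E : Set H}
    (hE : Cfsg.IsThreeTranspositionClass E) (Q : Subgroup H) [Q.Normal] (hQ : IsPGroup 2 Q)
    (V : Type u) [AddCommGroup V] [DistribMulAction H V] (θ : ↥Q → V)
    (two : ∀ v : V, v + v = 0) (θmul : ∀ q q' : ↥Q, θ (q * q') = θ q + θ q')
    (θsurj : Function.Surjective θ)
    (θeq : ∀ (g : H) (q : ↥Q) (hq : g * (q : H) * g⁻¹ ∈ Q), θ ⟨g * (q : H) * g⁻¹, hq⟩ = g • θ q)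
    (a b : H) (ha : a ∈ E) (hb : b ∈ E) (hab : a ≠ b) (hab3 : (a * b) ^ 3 = 1)
    (v : V) (hv : (a * b) • v = v) : a • v = v := by
  have hQn : Q.Normal := inferInstance
  obtain ⟨⟨hord, hprod⟩, ⟨d, hd, hEd⟩, -⟩ := hE
  -- involutions
  have hsq : ∀ e ∈ E, e * e = 1 := by
    intro e he
    have := hord e he
    have h2 : e ^ 2 = 1 := by rw [← this]; exact pow_orderOf_eq_one e
    rwa [pow_two] at h2
  have hinv : ∀ e ∈ E, e⁻¹ = e := fun e he => inv_eq_of_mul_eq_one_left (hsq e he)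
  -- closed under conjugation
  have hconj : ∀ e ∈ E, ∀ g : H, g * e * g⁻¹ ∈ E := by
    intro e he g
    rw [hEd] at he ⊢
    have he' : IsConj d e := he
    exact he'.trans (isConj_iff.mpr ⟨g, rfl⟩)
  have haa := hsq a ha
  have hbb := hsq b hb
  have hai := hinv a ha
  have hbi := hinv b hb
  -- θ facts
  have θone : θ 1 = 0 := by
    have := θmul 1 1
    rw [mul_one] at this
    have h : θ 1 + 0 = θ 1 + θ 1 := by rw [add_zero]; exact this
    exact (add_left_cancel h).symm
  have negV : ∀ w : V, -w = w := fun w => neg_eq_of_add_eq_zero_left (two w)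
  have θinv : ∀ q : ↥Q, θ q⁻¹ = θ q := by
    intro q
    have := θmul q q⁻¹
    rw [mul_inv_cancel, θone] at this
    have h : θ q⁻¹ = -θ q := (neg_eq_of_add_eq_zero_right this.symm).symm
    rw [h, negV]
  obtain ⟨q, rfl⟩ := θsurj v
  set x : H := a * b with hx
  have hxinv : x⁻¹ = b * a := by rw [hx, mul_inv_rev, hai, hbi]
  have hx3 : x * x * x = 1 := by
    have := hab3
    rw [pow_succ, pow_two] at this
    exact this
  -- a' and u
  set a' : H := (q : H) * a * (q : H)⁻¹ with ha'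
  have ha'E : a' ∈ E := hconj a ha q
  have ha'a' := hsq a' ha'E
  have hu1 : a * (q : H) * a⁻¹ ∈ Q := hQn.conj_mem _ q.2 a
  set u : H := a * a' with hu
  have hu_eq : u = (a * (q : H) * a⁻¹) * (q : H)⁻¹ := by
    rw [hu, ha', hai]; group
  have huQ : u ∈ Q := by
    rw [hu_eq]; exact Q.mul_mem hu1 (Q.inv_mem q.2)
  -- u² = 1
  have hu2 : u * u = 1 := by
    rcases hprod a ha a' ha'E with h | h
    · rwa [pow_two] at h
    · have := h2_two_three Q hQ u huQ h
      rw [this, mul_one]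
  -- a' commutes with a:  a a' = a' a
  have hcomm : a * a' = a' * a := by
    have h1 : a * a' * (a * a') = 1 := hu2
    have h2 : (a * a')⁻¹ = a * a' := inv_eq_of_mul_eq_one_left h1
    rw [mul_inv_rev, hai, hinv a' ha'E] at h2
    exact h2.symm
  have hua : u * a = a' := by
    rw [hu, hcomm, mul_assoc, haa, mul_one]
  -- (u x)³ = 1
  have hux : u * x = a' * b := by rw [hx, ← mul_assoc, hua]
  have hux3 : (u * x) ^ 3 = 1 := by
    rcases hprod a' ha'E b hb with h | h
    · exfalso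
      rw [← hux, pow_two] at h
      -- x² ∈ Q
      have hxux : x * u * x⁻¹ ∈ Q := hQn.conj_mem _ huQ x
      have hx2 : x * x ∈ Q := by
        have : x * x = (x * u * x⁻¹)⁻¹ * u⁻¹ * (u * x * (u * x)) := by group
        rw [this, h, mul_one]
        exact Q.mul_mem (Q.inv_mem hxux) (Q.inv_mem huQ)
      have hxQ : x ∈ Q := by
        have : x = (x * x)⁻¹ * (x * x * x) := by group
        rw [this, hx3, mul_one]
        exact Q.inv_mem hx2
      have hx1 : x = 1 := h2_two_three Q hQ x hxQ hab3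
      apply hab
      have : a * b = 1 := hx1
      have h3 : a = b⁻¹ := eq_inv_of_mul_eq_one_left this
      rw [h3, hbi]
    · rwa [hux]
  -- the relation
  have hrel : u * (x * u * x⁻¹) * (x * x * u * (x * x)⁻¹) = 1 := by
    have h1 : u * (x * u * x⁻¹) * (x * x * u * (x * x)⁻¹) = (u * x) ^ 3 * (x * x * x)⁻¹ := by
      rw [pow_succ, pow_two]; group
    rw [h1, hux3, hx3]; simp
  -- apply θ
  let uQ : ↥Q := ⟨u, huQ⟩
  have hm1 : x * (uQ : H) * x⁻¹ ∈ Q := hQn.conj_mem _ huQ x
  have hm2 : (x * x) * (uQ : H) * (x * x)⁻¹ ∈ Q := hQn.conj_mem _ huQ (x * x)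
  have hθrel : θ uQ + x • θ uQ + (x * x) • θ uQ = 0 := by
    rw [← θeq x uQ hm1, ← θeq (x * x) uQ hm2, ← θmul, ← θmul, ← θone]
    congr 1
    ext
    exact hrel
  -- θ u = a • v + v
  have hθu : θ uQ = a • θ q + θ q := by
    have h1 : uQ = ⟨a * (q : H) * a⁻¹, hu1⟩ * q⁻¹ := by
      ext
      exact hu_eq
    rw [h1, θmul, θeq a q hu1, θinv]
  set w : V := θ uQ with hw
  -- x fixes w
  have hxinvv : x⁻¹ • θ q = θ q := by
    have := congrArg (fun z => x⁻¹ • z) hv
    simp only [inv_smul_smul] at this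
    exact this.symm
  have hxw : x • w = w := by
    rw [hθu, smul_add, hv, ← mul_smul]
    have : x * a = a * x⁻¹ := by
      rw [hxinv, hx, mul_assoc]
    rw [this, mul_smul, hxinvv]
  have hxxw : (x * x) • w = w := by rw [mul_smul, hxw, hxw]
  rw [hxw, hxxw] at hθrel
  have hw0 : w = 0 := by
    have := two w
    rw [this, zero_add] at hθrel
    exact hθrel
  rw [hθu] at hw0
  have := eq_neg_of_add_eq_zero_left hw0
  rw [this, negV]

end Cfsg.Agent.Lib.Helper28.T9
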