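import Mathlib
import Cfsg.Agent.Lib.Helper28.T9.Defs
import Cfsg.Agent.Lib.Helper13.T9B
import Cfsg.Agent.Lib.Helper20.WongId

/-!
# Project T9 (S5559), piece R5a : a configuration on a single line is `S₃`.
-/

set_option autoImplicit false

namespace Cfsg.Agent.Lib.Helper28.T9

universe u

section recog

variable {X : Type u} [Group X] [Finite X] {V : Type u} [AddCommGroup V] [DistribMulAction X V]
  {E : Set X}

/-- PIECE R5a : a configuration on a single line is `S₃`
(`Cfsg.Agent.Lib.Helper20.WongId.rec_S3` may help). -/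
theorem line_case (h : Cfg X V E) (a b : X) (ha : a ∈ E) (hb : b ∈ E) (hab : a ≠ b)
    (hline : ∀ c ∈ E, c = a ∨ c = b ∨ c = a * b * a) :
    Nonempty (X ≃* Equiv.Perm (Fin 3)) := by
  classical
  have haa : a * a = 1 := h.sq a ha
  have hbb : b * b = 1 := h.sq b hb
  have hai : a⁻¹ = a := inv_eq_of_mul_eq_one_left haa
  have hbi : b⁻¹ = b := inv_eq_of_mul_eq_one_left hbb
  have ha1 : a ≠ 1 := h.ne_one a ha
  set x : X := a * b with hx
  have hx3 : x ^ 3 = 1 := h.cube a ha b hb
  have hx1 : x ≠ 1 := by
    intro h1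
    apply hab
    have : a = b⁻¹ := eq_inv_of_mul_eq_one_left h1
    rw [this, hbi]
  have hordx : orderOf x = 3 := by
    have hdvd : orderOf x ∣ 3 := orderOf_dvd_of_pow_eq_one hx3
    rcases (Nat.dvd_prime (by norm_num : Nat.Prime 3)).mp hdvd with h1 | h1
    · exact absurd (orderOf_eq_one_iff.mp h1) hx1
    · exact h1
  have horda : orderOf a = 2 := by
    have hdvd : orderOf a ∣ 2 := orderOf_dvd_of_pow_eq_one (by rw [pow_two]; exact haa)
    rcases (Nat.dvd_prime Nat.prime_two).mp hdvd with h1 | h1
    · exact absurd (orderOf_eq_one_iff.mp h1) ha1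
    · exact h1
  have hxinv : x⁻¹ = b * a := by rw [hx, mul_inv_rev, hai, hbi]
  have hxx : x * x = b * a := by
    have : x * x * x = 1 := by rw [← hx3, pow_succ, pow_two]
    have h2 : x * x = x⁻¹ := eq_inv_of_mul_eq_one_left this
    rw [h2, hxinv]
  -- the subgroup P' = zpowers x
  have hxP : x ∈ Subgroup.zpowers x := Subgroup.mem_zpowers x
  have hxiP : b * a ∈ Subgroup.zpowers x := by rw [← hxinv]; exact (Subgroup.zpowers x).inv_mem hxP
  have h1P : (1 : X) ∈ Subgroup.zpowers x := (Subgroup.zpowers x).one_mem
  -- prodSub E ≤ zpowers x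
  have hle : prodSub E ≤ Subgroup.zpowers x := by
    unfold prodSub
    rw [Subgroup.closure_le]
    rintro g ⟨e, he, f, hf, rfl⟩
    have e1 : a * b * a * a = x := by rw [mul_assoc, haa, mul_one]
    have e2 : a * (a * b * a) = b * a := by rw [← mul_assoc, ← mul_assoc, haa, one_mul]
    have e3 : b * (a * b * a) = x := by
      have : b * (a * b * a) = (b * a) * (b * a) := by group
      rw [this, ← hxinv]
      have h3 : x⁻¹ * x⁻¹ = x := by
        have : x * x * x = 1 := by rw [← hx3, pow_succ, pow_two]
        have h4 : x = (x * x)⁻¹ := eq_inv_of_mul_eq_one_right this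
        rw [mul_inv_rev] at h4
        exact h4.symm
      exact h3
    have e4 : a * b * a * b = b * a := by
      have : a * b * a * b = x * x := by rw [hx]; group
      rw [this, hxx]
    have e5 : a * b * a * (a * b * a) = 1 := by
      have : a * b * a * (a * b * a) = a * b * (a * a) * b * a := by group
      rw [this, haa, mul_one, mul_assoc a b b, hbb, mul_one, haa]
    rcases hline e he with rfl | rfl | rfl <;> rcases hline f hf with rfl | rfl | rfl
    · rw [haa]; exact h1P
    · exact hxP
    · rw [e2]; exact hxiP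
    · exact hxiP
    · rw [hbb]; exact h1P
    · rw [e3]; exact hxP
    · rw [e1]; exact hxP
    · rw [e4]; exact hxiP
    · rw [e5]; exact h1P
  have haP : a ∉ Subgroup.zpowers x := by
    intro haP
    have h1 : orderOf a ∣ orderOf x := orderOf_dvd_of_mem_zpowers haP
    rw [horda, hordx] at h1
    omega
  -- index two
  have hidx : (Subgroup.zpowers x).index = 2 := by
    rw [Subgroup.index_eq_two_iff]
    refine ⟨a, fun g => ?_⟩
    have hB2 := mem_or_mul_mem h a ha g⁻¹
    by_cases hg : g ∈ Subgroup.zpowers x
    · refine Or.inr ⟨hg, ?_⟩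
      intro hga
      apply haP
      have : a = g⁻¹ * (g * a) := by group
      rw [this]
      exact (Subgroup.zpowers x).mul_mem ((Subgroup.zpowers x).inv_mem hg) hga
    · refine Or.inl ⟨?_, hg⟩
      rcases hB2 with h1 | h1
      · exact absurd ((Subgroup.zpowers x).inv_mem_iff.mp (hle h1)) hg
      · have h2 := (Subgroup.zpowers x).inv_mem (hle h1)
        rw [mul_inv_rev, inv_inv, hai] at h2
        exact h2
  have hcardX : Nat.card X = 6 := by
    have := (Subgroup.zpowers x).card_mul_index
    rw [hidx, Nat.card_zpowers, hordx] at this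
    omega
  -- T = zpowers a is not normal
  apply Cfsg.Agent.Lib.Helper20.WongId.rec_S3 hcardX (Subgroup.zpowers a)
  · rw [Nat.card_zpowers, horda]
  · intro hn
    have hc : b * a * b⁻¹ ∈ Subgroup.zpowers a := hn.conj_mem a (Subgroup.mem_zpowers a) b
    rw [hbi] at hc
    -- zpowers a = {1, a}
    have hmem : ∀ y ∈ Subgroup.zpowers a, y = 1 ∨ y = a := by
      intro y hy
      obtain ⟨k, rfl⟩ := Subgroup.mem_zpowers_iff.mp hy
      rcases Int.even_or_odd k with ⟨m, rfl⟩ | ⟨m, rfl⟩
      · left
        rw [← two_mul, zpow_mul, zpow_two, haa, one_zpow]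
      · right
        rw [zpow_add, zpow_mul, zpow_two, haa, one_zpow, one_mul, zpow_one]
    rcases hmem _ hc with h1 | h1
    · apply ha1
      have h2 : a = b * (b * a * b) * b := by
        have e1 : b * (b * a * b) * b = (b * b) * a * (b * b) := by group
        rw [e1, hbb, one_mul, mul_one]
      rw [h2, h1, mul_one, hbb]
    · -- b a b = a ⇒ a b = b a ⇒ (ab)² = 1 ⇒ ab = 1
      apply hx1
      have hcomm : b * a = a * b := by
        have : b * a = (b * a * b) * b := by rw [mul_assoc (b * a), hbb, mul_one]
        rw [this, h1]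
      have hxe : x⁻¹ = x := by rw [hxinv, hcomm]
      have h5 : x * x * x = 1 := by rw [← hx3, pow_succ, pow_two]
      have h6 : x * x = 1 := by
        have := mul_inv_cancel x
        rwa [hxe] at this
      rw [h6, one_mul] at h5
      exact h5

end recog

end Cfsg.Agent.Lib.Helper28.T9
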