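import Mathlib
import Cfsg.Agent.Lib.Helper28.T9.Defs
import Cfsg.Agent.Lib.Helper13.T9B
import Cfsg.Agent.Lib.Helper13.T9PL1
import Cfsg.Agent.Lib.Helper13.T9PL2
import Cfsg.Agent.Lib.helper2.T9PL3

/-!
# Project T9 (S5559), piece R5b : a configuration with at most nine points containing three
non-collinear points is generated by them and has order 54.
-/

set_option autoImplicit false

namespace Cfsg.Agent.Lib.Helper28.T9

universe u

section aux

variable {X : Type u} [Group X] {V : Type u} [AddCommGroup V] [DistribMulAction X V]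
  {E : Set X}

/-- `P = prodSub E` has index two -/
theorem h2_index_prodSub (h : Cfg X V E) (a : X) (ha : a ∈ E) : (prodSub E).index = 2 := by
  have haa : a * a = 1 := h.sq a ha
  have hai : a⁻¹ = a := inv_eq_of_mul_eq_one_left haa
  have haP := not_mem_prodSub h a ha
  rw [Subgroup.index_eq_two_iff]
  refine ⟨a, fun g => ?_⟩
  have hB2 := mem_or_mul_mem h a ha g⁻¹
  by_cases hg : g ∈ prodSub E
  · refine Or.inr ⟨hg, ?_⟩
    intro hga
    apply haP
    have : a = g⁻¹ * (g * a) := by group
    rw [this]
    exact (prodSub E).mul_mem ((prodSub E).inv_mem hg) hga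
  · refine Or.inl ⟨?_, hg⟩
    rcases hB2 with h1 | h1
    · exact absurd ((prodSub E).inv_mem_iff.mp h1) hg
    · have h2 := (prodSub E).inv_mem h1
      rw [mul_inv_rev, inv_inv, hai] at h2
      exact h2

end aux

section recog

variable {X : Type u} [Group X] [Finite X] {V : Type u} [AddCommGroup V] [DistribMulAction X V]
  {E : Set X}

/-- PIECE R5b : a configuration with at most nine points containing three non-collinear points
is generated by them and has order 54.  (PL2, PL3 and `k54_bound`.) -/
theorem plane_case (h : Cfg X V E) (hf : Faith X V) (h9 : E.ncard ≤ 9) (a b c : X) (ha : a ∈ E)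
    (hb : b ∈ E) (hc : c ∈ E) (hab : a ≠ b) (hca : c ≠ a) (hcb : c ≠ b) (hcl : c ≠ a * b * a) :
    Subgroup.closure ({a, b, c} : Set X) = ⊤ ∧ Nat.card X = 54 := by
  classical
  have hnc := noncomm h hf a b c ha hb hc hab hca hcb hcl
  obtain ⟨hcard, -⟩ := plane_struct h a b c ha hb hc hnc
  obtain ⟨hO9, hOE⟩ := plane_orbit h a b c ha hb hc hnc
  set R : Subgroup X := Subgroup.closure ({a * b, a * c} : Set X) with hR
  have haa : a * a = 1 := h.sq a ha
  have hai : a⁻¹ = a := inv_eq_of_mul_eq_one_left haa
  -- E is the orbit
  have hEfin : E.Finite := Set.toFinite E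
  have hEO : {e : X | ∃ g ∈ R, e = g⁻¹ * a * g} = E :=
    Set.eq_of_subset_of_ncard_le hOE (by rw [hO9]; exact h9) hEfin
  -- a normalises R
  have hnorm : ∀ r ∈ R, a * r * a ∈ R := by
    intro r hr
    induction hr using Subgroup.closure_induction with
    | mem x hx =>
      rcases hx with rfl | hx
      · have : a * (a * b) * a = (a * b)⁻¹ := by
          rw [mul_inv_rev, hai, h13_inv_eq h b hb, ← mul_assoc, haa, one_mul]
        rw [this]
        exact R.inv_mem (Subgroup.subset_closure (by simp))
      · rw [Set.mem_singleton_iff] at hx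
        subst hx
        have : a * (a * c) * a = (a * c)⁻¹ := by
          rw [mul_inv_rev, hai, h13_inv_eq h c hc, ← mul_assoc, haa, one_mul]
        rw [this]
        exact R.inv_mem (Subgroup.subset_closure (by simp))
    | one => rw [mul_one, haa]; exact R.one_mem
    | mul x y _ _ hx hy =>
      have : a * (x * y) * a = (a * x * a) * (a * y * a) := by
        have : (a * x * a) * (a * y * a) = a * x * (a * a) * y * a := by group
        rw [this, haa, mul_one]; group
      rw [this]
      exact R.mul_mem hx hy
    | inv x _ hx =>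
      have : a * x⁻¹ * a = (a * x * a)⁻¹ := by
        rw [mul_inv_rev, mul_inv_rev, hai, mul_assoc]
      rw [this]
      exact R.inv_mem hx
  -- prodSub E = R
  have hPR : prodSub E = R := by
    apply le_antisymm
    · unfold prodSub
      rw [Subgroup.closure_le]
      rintro _ ⟨e, he, f, hf', rfl⟩
      rw [← hEO] at he hf'
      obtain ⟨g, hg, rfl⟩ := he
      obtain ⟨k, hk, rfl⟩ := hf'
      have : g⁻¹ * a * g * (k⁻¹ * a * k) = g⁻¹ * (a * (g * k⁻¹) * a) * k := by group
      rw [this]
      exact R.mul_mem (R.mul_mem (R.inv_mem hg) (hnorm _ (R.mul_mem hg (R.inv_mem hk)))) hk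
    · rw [hR, Subgroup.closure_le]
      rintro x hx
      rcases hx with rfl | hx
      · exact h13_mul_mem a b ha hb
      · rw [Set.mem_singleton_iff] at hx
        subst hx
        exact h13_mul_mem a c ha hc
  refine ⟨?_, ?_⟩
  · -- generation
    rw [eq_top_iff, ← h.gen, Subgroup.closure_le]
    have haS : a ∈ Subgroup.closure ({a, b, c} : Set X) := Subgroup.subset_closure (by simp)
    have hbS : b ∈ Subgroup.closure ({a, b, c} : Set X) := Subgroup.subset_closure (by simp)
    have hcS : c ∈ Subgroup.closure ({a, b, c} : Set X) := Subgroup.subset_closure (by simp)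
    have hRS : R ≤ Subgroup.closure ({a, b, c} : Set X) := by
      rw [hR, Subgroup.closure_le]
      rintro x hx
      rcases hx with rfl | hx
      · exact Subgroup.mul_mem _ haS hbS
      · rw [Set.mem_singleton_iff] at hx
        subst hx
        exact Subgroup.mul_mem _ haS hcS
    intro e he
    rw [← hEO] at he
    obtain ⟨g, hg, rfl⟩ := he
    exact Subgroup.mul_mem _ (Subgroup.mul_mem _ (Subgroup.inv_mem _ (hRS hg)) haS) (hRS hg)
  · have h1 := (prodSub E).card_mul_index
    rw [h2_index_prodSub h a ha, hPR, hcard] at h1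
    omega

end recog

end Cfsg.Agent.Lib.Helper28.T9
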