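import Cfsg.Agent.Lib.Helper28.TOO.Defs2
import Cfsg.Agent.Lib.helper6.TSSIEG
import Cfsg.Agent.Lib.Helper28.TOOGH4
import Cfsg.Agent.Lib.Helper13.TOOGA6

/-!
# TOO / GA7 (helper2): `xpl_mem_T1`

The long root element `1 + c • N_W` of `(B, J2)` is the commutator of the Siegel elements `ρ_{w₁,z}` and `ρ_{w₂,t z'}`
(`z, z' ∈ W^⊥`, `f(z,z') ≠ 0`, from `toogh4_exists_psi`, `5 ≤ b`): `ρ_{w₁,z} ρ_{w₂,z''} = (1 - f(z,z'') N_W) ρ_{w₂,z''} ρ_{w₁,z}`.
-/

set_option autoImplicit false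
set_option linter.unusedVariables false
set_option linter.unusedSectionVars false
set_option linter.unusedSimpArgs false

namespace Cfsg.Agent.Lib.Helper28.TOO

open Matrix
open scoped Kronecker
open Cfsg.Agent.Lib.helper7.TP Cfsg.Agent.Lib.Helper21.TS

variable {a b : ℕ} {F : Type*} [Field F]
variable {J1 : Matrix (Fin a) (Fin a) F} {J2 : Matrix (Fin b) (Fin b) F}

/-- the commutation rule of two Siegel elements with perpendicular singular centres. -/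
theorem tooga7_comm {n : ℕ} {J : Matrix (Fin n) (Fin n) F} (hJ : Jᵀ = J) (two : (2 : F) ≠ 0)
    (w₁ w₂ z z' : Fin n → F) (h11 : bf J w₁ w₁ = 0) (h12 : bf J w₁ w₂ = 0) (h22 : bf J w₂ w₂ = 0)
    (hz1 : bf J w₁ z = 0) (hz2 : bf J w₂ z = 0) (hz1' : bf J w₁ z' = 0) (hz2' : bf J w₂ z' = 0) :
    sieg J w₁ z * sieg J w₂ z' =
      (1 + (-(bf J z z')) • Nw J w₁ w₂) * (sieg J w₂ z' * sieg J w₁ z) := by
  rw [Matrix.ext_iff_mulVec]
  intro x
  have h21 : bf J w₂ w₁ = 0 := by rw [bf_symm hJ]; exact h12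
  have hz1s : bf J z w₁ = 0 := by rw [bf_symm hJ]; exact hz1
  have hz2s : bf J z w₂ = 0 := by rw [bf_symm hJ]; exact hz2
  have hz1's : bf J z' w₁ = 0 := by rw [bf_symm hJ]; exact hz1'
  have hz2's : bf J z' w₂ = 0 := by rw [bf_symm hJ]; exact hz2'
  have hzz : bf J z' z = bf J z z' := bf_symm hJ z' z
  rw [← Matrix.mulVec_mulVec, ← Matrix.mulVec_mulVec, ← Matrix.mulVec_mulVec,
    Matrix.add_mulVec, Matrix.one_mulVec, Matrix.smul_mulVec, tooga6_Nw_mulVec,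
    sieg_mulVec J w₂ z' x, sieg_mulVec J w₁ z x, sieg_mulVec, sieg_mulVec]
  simp only [bf_add_left, bf_sub_left, bf_smul_left, bf_add_right, bf_sub_right, bf_smul_right,
    h11, h12, h22, h21, hz1, hz2, hz1', hz2', hz1s, hz2s, hz1's, hz2's, hzz]
  funext i
  simp only [Pi.add_apply, Pi.sub_apply, Pi.smul_apply, smul_eq_mul, Pi.neg_apply]
  field_simp
  ring

/-- a Siegel transformation as an element of `GL`. -/
noncomputable def tooga7_siegG {n : ℕ} {J : Matrix (Fin n) (Fin n) F} (hJ : Jᵀ = J) (two : (2 : F) ≠ 0)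
    (w z : Fin n → F) (hw : bf J w w = 0) (hz : bf J w z = 0) : Matrix.GeneralLinearGroup (Fin n) F :=
  ⟨sieg J w z, sieg J w (-z),
    by rw [sieg_mul hJ two hw hz (by rw [bf_neg_right, hz, neg_zero]), add_neg_cancel, tssieg_zero],
    by rw [sieg_mul hJ two hw (by rw [bf_neg_right, hz, neg_zero]) hz, neg_add_cancel, tssieg_zero]⟩

theorem tooga7_siegG_coe {n : ℕ} {J : Matrix (Fin n) (Fin n) F} (hJ : Jᵀ = J) (two : (2 : F) ≠ 0)
    (w z : Fin n → F) (hw : bf J w w = 0) (hz : bf J w z = 0) :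
    ((tooga7_siegG hJ two w z hw hz : Matrix.GeneralLinearGroup (Fin n) F) : Matrix (Fin n) (Fin n) F) =
      sieg J w z := rfl

theorem tooga7_siegG_mem {n : ℕ} {J : Matrix (Fin n) (Fin n) F} (hJ : Jᵀ = J) (two : (2 : F) ≠ 0)
    (w z : Fin n → F) (hw : bf J w w = 0) (hz : bf J w z = 0) :
    tooga7_siegG hJ two w z hw hz ∈ Iso J := by
  rw [mem_Iso_iff_bf]
  intro x y
  rw [tooga7_siegG_coe]
  exact tssieg_iso hJ two hw hz x y

/-- the long root element `1 + c • N_W` lies in `Ω(J)` (`5 ≤ n`). -/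
theorem tooga7_mem_Om {n : ℕ} {J : Matrix (Fin n) (Fin n) F} (hJ : Jᵀ = J) (two : (2 : F) ≠ 0)
    (hdet : J.det ≠ 0) (hn : 5 ≤ n) (w₁ w₂ : Fin n → F) (h : IsTS J w₁ w₂) (c : F) :
    InM (Om J) (1 + c • Nw J w₁ w₂) := by
  obtain ⟨z, z', hzw1, hzw2, hz'w1, hz'w2, hne⟩ := toogh4_exists_psi hJ hdet hn w₁ w₂
  have hz1 : bf J w₁ z = 0 := by rw [bf_symm hJ]; exact hzw1
  have hz2 : bf J w₂ z = 0 := by rw [bf_symm hJ]; exact hzw2
  have hz1' : bf J w₁ z' = 0 := by rw [bf_symm hJ]; exact hz'w1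
  have hz2' : bf J w₂ z' = 0 := by rw [bf_symm hJ]; exact hz'w2
  have hne' : bf J z z' ≠ 0 := by rw [bf_symm hJ]; exact hne
  set t : F := -c / bf J z z' with ht
  have hz1t : bf J w₁ (t • z') = 0 := by rw [bf_smul_right, hz1', mul_zero]
  have hz2t : bf J w₂ (t • z') = 0 := by rw [bf_smul_right, hz2', mul_zero]
  obtain ⟨A, hA⟩ : ∃ A : Matrix.GeneralLinearGroup (Fin n) F, A = tooga7_siegG hJ two w₁ z h.1 hz1 :=
    ⟨_, rfl⟩
  obtain ⟨B, hB⟩ : ∃ B : Matrix.GeneralLinearGroup (Fin n) F,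
      B = tooga7_siegG hJ two w₂ (t • z') h.2.2.1 hz2t := ⟨_, rfl⟩
  have hAm : A ∈ Iso J := by rw [hA]; exact tooga7_siegG_mem hJ two _ _ _ _
  have hBm : B ∈ Iso J := by rw [hB]; exact tooga7_siegG_mem hJ two _ _ _ _
  have hAv : (A : Matrix (Fin n) (Fin n) F) = sieg J w₁ z := by rw [hA]; rfl
  have hBv : (B : Matrix (Fin n) (Fin n) F) = sieg J w₂ (t • z') := by rw [hB]; rfl
  obtain ⟨r, hr⟩ : ∃ r : Matrix.GeneralLinearGroup (Fin n) F, r = A * B * A⁻¹ * B⁻¹ := ⟨_, rfl⟩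
  have hcoef : -(bf J z (t • z')) = c := by
    rw [bf_smul_right, ht]
    field_simp
  have hrel : (A : Matrix (Fin n) (Fin n) F) * (B : Matrix (Fin n) (Fin n) F) =
      (1 + c • Nw J w₁ w₂) * ((B : Matrix (Fin n) (Fin n) F) * (A : Matrix (Fin n) (Fin n) F)) := by
    rw [hAv, hBv, tooga7_comm hJ two w₁ w₂ z (t • z') h.1 h.2.1 h.2.2.1 hz1 hz2 hz1t hz2t, hcoef]
  have h1 : r * (B * A) = A * B := by rw [hr]; group
  have hBAi : ((B * A : Matrix.GeneralLinearGroup (Fin n) F) : Matrix (Fin n) (Fin n) F) *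
      (((B * A)⁻¹ : Matrix.GeneralLinearGroup (Fin n) F) : Matrix (Fin n) (Fin n) F) = 1 := by
    rw [← Units.val_mul, mul_inv_cancel, Units.val_one]
  have hrval : (r : Matrix (Fin n) (Fin n) F) = 1 + c • Nw J w₁ w₂ := by
    have h3 : (r : Matrix (Fin n) (Fin n) F) *
        ((B * A : Matrix.GeneralLinearGroup (Fin n) F) : Matrix (Fin n) (Fin n) F) =
        (1 + c • Nw J w₁ w₂) *
          ((B * A : Matrix.GeneralLinearGroup (Fin n) F) : Matrix (Fin n) (Fin n) F) := by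
      rw [← Units.val_mul, h1, Units.val_mul, Units.val_mul, hrel]
    calc (r : Matrix (Fin n) (Fin n) F)
        = (r : Matrix (Fin n) (Fin n) F) *
            (((B * A : Matrix.GeneralLinearGroup (Fin n) F) : Matrix (Fin n) (Fin n) F) *
              (((B * A)⁻¹ : Matrix.GeneralLinearGroup (Fin n) F) : Matrix (Fin n) (Fin n) F)) := by
          rw [hBAi, Matrix.mul_one]
      _ = (1 + c • Nw J w₁ w₂) *
            (((B * A : Matrix.GeneralLinearGroup (Fin n) F) : Matrix (Fin n) (Fin n) F) *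
              (((B * A)⁻¹ : Matrix.GeneralLinearGroup (Fin n) F) : Matrix (Fin n) (Fin n) F)) := by
          rw [← Matrix.mul_assoc, h3, Matrix.mul_assoc]
      _ = 1 + c • Nw J w₁ w₂ := by rw [hBAi, Matrix.mul_one]
  refine ⟨r, ?_, hrval⟩
  -- `r` is a commutator of elements of `Iso J`
  have hcm : (⟨A, hAm⟩ : Iso J) * ⟨B, hBm⟩ * (⟨A, hAm⟩ : Iso J)⁻¹ * (⟨B, hBm⟩ : Iso J)⁻¹ ∈
      commutator (Iso J) := by
    have h5 := Subgroup.commutator_mem_commutator (H₁ := (⊤ : Subgroup (Iso J))) (H₂ := ⊤)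
      (Subgroup.mem_top (⟨A, hAm⟩ : Iso J)) (Subgroup.mem_top (⟨B, hBm⟩ : Iso J))
    rw [commutatorElement_def] at h5
    exact h5
  unfold Om
  rw [Subgroup.mem_map]
  refine ⟨_, hcm, ?_⟩
  rw [hr]
  rfl

/-- GA7 [M]. -/
theorem xpl_mem_T1 (C : OCtx J1 J2) (hb : 5 ≤ b) (w₁ w₂ : Fin b → F) (h : IsTS J2 w₁ w₂) (c : F) :
    InM (T1 J1 J2) (1 + c • NV (a := a) J2 w₁ w₂) := by
  obtain ⟨r, hr, hrv⟩ := tooga7_mem_Om C.sym2 C.two C.det2 hb w₁ w₂ h c
  refine ⟨Cfsg.Agent.Lib.helper7.TO.kB a b F r, ?_, ?_⟩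
  · exact (le_sup_right : _ ≤ T1 J1 J2) (Subgroup.mem_map_of_mem _ hr)
  · rw [Cfsg.Agent.Lib.helper7.TO.kB_coe, hrv, NV, Matrix.kronecker_add, Matrix.one_kronecker_one,
      Matrix.kronecker_smul]

end Cfsg.Agent.Lib.Helper28.TOO
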