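import Mathlib
import Cfsg.Agent.Lib.helper6.BURNCORE

/-!
# TOO / GB1, the abstract Burnside block (helper2)

`toogb1_burn`: `Γ` a finite subgroup of `GL`, `char F = p`, `2 ≠ 0`, `X = {1 + c N}` (`N² = 0`) a TI, self-normalizing
subgroup of `Γ` with at least `3` elements, `y = 1 + N' ∈ Γ` (`N'² = 0`).  Then `N' = c • N`.

One application of helper6's Frobenius partition (`burncore_sub`) gives `x = 1 + a N`, `a ≠ 0`, with `(x y - 1)² = 0`; pure ring
computations give `N N' N = 0`, `N' N N' = 0`, `N N' + N' N = 0`; then either `y` commutes with `x` (so `y ∈ X` by `hTI`),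
or the commutator `[x, y] = 1 + 2 a N N'` commutes with `x`, lies in `X` by `hTI`, and this forces `N N' = 0`.
(This replaces the rows B1 - B3 of the plan: no `p`-group argument is needed.)
-/

set_option autoImplicit false

namespace Cfsg.Agent.Lib.Helper28.TOO

open Matrix

section ring

variable {R : Type*} [Ring R]

/-- `A² = B² = 0`, `(A + B + AB)² = 0`  ⟹  `ABA = 0`, `BAB = 0`, `AB + BA = 0`. -/
theorem toogb1_ring (A B : R) (hA : A * A = 0) (hB : B * B = 0)
    (hZ : (A + B + A * B) * (A + B + A * B) = 0) :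
    A * B * A = 0 ∧ B * A * B = 0 ∧ A * B + B * A = 0 := by
  have E : A * B + B * A + B * A * B + A * B * A + A * B * A * B = 0 := by
    have h : A * B + B * A + B * A * B + A * B * A + A * B * A * B =
        (A + B + A * B) * (A + B + A * B) - (A * A) - (A * A) * B - B * B - A * (B * B) := by
      noncomm_ring
    rw [h, hZ, hA, hB]
    simp
  have E1 : A * B * A + A * B * A * B = 0 := by
    have h : A * B * A + A * B * A * B =
        A * (A * B + B * A + B * A * B + A * B * A + A * B * A * B) - (A * A) * B - (A * A) * B * A -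
          (A * A) * B * A * B := by
      noncomm_ring
    rw [h, E, hA]
    simp
  have E2 : A * B * A = 0 := by
    have h : A * B * A = (A * B * A + A * B * A * B) * (1 - B) + A * B * A * (B * B) := by
      noncomm_ring
    rw [h, E1, hB]
    simp
  have E3 : B * A * B = 0 := by
    have h : B * A * B =
        B * (A * B + B * A + B * A * B + A * B * A + A * B * A * B) - (B * B) * A - (B * B) * A * B -
          B * (A * B * A) - B * (A * B * A) * B := by
      noncomm_ring
    rw [h, E, hB, E2]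
    simp
  refine ⟨E2, E3, ?_⟩
  have h : A * B + B * A =
      (A * B + B * A + B * A * B + A * B * A + A * B * A * B) - B * A * B - A * B * A - (A * B * A) * B := by
    noncomm_ring
  rw [h, E, E2, E3]
  simp

/-- with the relations, `1 + 2 AB` conjugates `(1 + B)(1 + A)` to `(1 + A)(1 + B)`. -/
theorem toogb1_comm_val (A B : R) (hB : B * B = 0) (R1 : A * B * A = 0) (R3 : A * B + B * A = 0) :
    (1 + (2 : ℤ) • (A * B)) * ((1 + B) * (1 + A)) = (1 + A) * (1 + B) := by
  have h : (1 + (2 : ℤ) • (A * B)) * ((1 + B) * (1 + A)) =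
      (1 + A) * (1 + B) + (A * B + B * A) + (2 : ℤ) • (A * B * A) + (2 : ℤ) • (A * (B * B)) +
        (2 : ℤ) • (A * (B * B) * A) := by
    noncomm_ring
  rw [h, R3, R1, hB]
  simp

/-- `1 + 2 AB` commutes with `1 + A`. -/
theorem toogb1_comm_x (A B : R) (hA : A * A = 0) (R1 : A * B * A = 0) :
    (1 + (2 : ℤ) • (A * B)) * (1 + A) = (1 + A) * (1 + (2 : ℤ) • (A * B)) := by
  have h : (1 + (2 : ℤ) • (A * B)) * (1 + A) =
      (1 + A) * (1 + (2 : ℤ) • (A * B)) + (2 : ℤ) • (A * B * A) - (2 : ℤ) • ((A * A) * B) := by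
    noncomm_ring
  rw [h, R1, hA]
  simp

end ring

variable {ι F : Type*} [Fintype ι] [DecidableEq ι] [Field F]

/-- the Frobenius partition (helper6 `burncore_sub`) in matrix form: some `x = 1 + a N ∈ X`, `a ≠ 0`, has `(x y - 1)² = 0`. -/
theorem toogb1_sq (p : ℕ) [Fact p.Prime] [CharP F p]
    (Γ X : Subgroup (Matrix.GeneralLinearGroup ι F)) [Finite Γ] (hXΓ : X ≤ Γ)
    (N N' : Matrix ι ι F) (hN : N * N = 0)
    (hX : ∀ g : Matrix.GeneralLinearGroup ι F, g ∈ X ↔ ∃ c : F, (g : Matrix ι ι F) = 1 + c • N)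
    (hcard : 3 ≤ Nat.card X)
    (hTI : ∀ g ∈ Γ, (∃ x ∈ X, x ≠ 1 ∧ g * x * g⁻¹ ∈ X) → g ∈ X)
    (y : Matrix.GeneralLinearGroup ι F) (hy : y ∈ Γ) (hyN : (y : Matrix ι ι F) = 1 + N') :
    ∃ x ∈ X, x ≠ 1 ∧ ∃ a : F, a ≠ 0 ∧ (x : Matrix ι ι F) = 1 + a • N ∧
      ((1 + a • N) * (1 + N') - 1) * ((1 + a • N) * (1 + N') - 1) = 0 := by
  have hpow : ∀ (c : F) (n : ℕ), (1 + c • N) ^ n = 1 + ((n : F) * c) • N := by
    intro c n
    induction n with
    | zero => simp
    | succ n ih =>
      rw [pow_succ, ih]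
      simp only [Matrix.add_mul, Matrix.mul_add, Matrix.one_mul, Matrix.mul_one, Matrix.smul_mul,
        Matrix.mul_smul, hN, smul_zero, add_zero]
      rw [Nat.cast_succ, add_mul, one_mul, add_smul, add_assoc]
  have hXp : IsPGroup p X := by
    intro g
    refine ⟨1, ?_⟩
    obtain ⟨c, hc⟩ := (hX g).mp g.2
    apply Subtype.ext
    apply Units.ext
    rw [pow_one]
    show ((g : Matrix.GeneralLinearGroup ι F) ^ p : Matrix.GeneralLinearGroup ι F).val = 1
    rw [Units.val_pow_eq_pow_val, hc, hpow, CharP.cast_eq_zero, zero_mul, zero_smul, add_zero]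
  have hab : ∀ x ∈ X, ∀ x' ∈ X, x * x' = x' * x := by
    intro x hx x' hx'
    obtain ⟨c, hc⟩ := (hX x).mp hx
    obtain ⟨c', hc'⟩ := (hX x').mp hx'
    apply Units.ext
    rw [Units.val_mul, Units.val_mul, hc, hc']
    simp only [Matrix.add_mul, Matrix.mul_add, Matrix.one_mul, Matrix.mul_one, Matrix.smul_mul,
      Matrix.mul_smul, hN, smul_zero, add_zero]
    abel
  obtain ⟨x, hx, hx1, γ, hγΓ, hγ⟩ :=
    Cfsg.Agent.Lib.helper6.Burn.burncore_sub p Γ X hXΓ hXp hab hTI hcard y hy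
  obtain ⟨a, ha⟩ := (hX x).mp hx
  have ha0 : a ≠ 0 := by
    intro h
    apply hx1
    apply Units.ext
    rw [ha, h, zero_smul, add_zero]
    rfl
  obtain ⟨c, hc⟩ := (hX _).mp hγ
  refine ⟨x, hx, hx1, a, ha0, ha, ?_⟩
  have hγi : ((γ⁻¹ : Matrix.GeneralLinearGroup ι F) : Matrix ι ι F) * (γ : Matrix ι ι F) = 1 := by
    rw [← Units.val_mul, inv_mul_cancel, Units.val_one]
  have hγi' : (γ : Matrix ι ι F) * ((γ⁻¹ : Matrix.GeneralLinearGroup ι F) : Matrix ι ι F) = 1 := by
    rw [← Units.val_mul, mul_inv_cancel, Units.val_one]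
  have hxy : (1 + a • N) * (1 + N') =
      (γ : Matrix ι ι F) * (1 + c • N) * ((γ⁻¹ : Matrix.GeneralLinearGroup ι F) : Matrix ι ι F) := by
    rw [← hc, ← ha, ← hyN]
    simp only [Units.val_mul]
    calc (x : Matrix ι ι F) * (y : Matrix ι ι F)
        = ((γ : Matrix ι ι F) * ((γ⁻¹ : Matrix.GeneralLinearGroup ι F) : Matrix ι ι F)) *
            ((x : Matrix ι ι F) * (y : Matrix ι ι F)) *
            ((γ : Matrix ι ι F) * ((γ⁻¹ : Matrix.GeneralLinearGroup ι F) : Matrix ι ι F)) := by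
          rw [hγi', Matrix.one_mul, Matrix.mul_one]
      _ = _ := by simp only [Matrix.mul_assoc]
  have hsub : (1 + a • N) * (1 + N') - 1 =
      (γ : Matrix ι ι F) * (c • N) * ((γ⁻¹ : Matrix.GeneralLinearGroup ι F) : Matrix ι ι F) := by
    rw [hxy, Matrix.mul_add, Matrix.add_mul, Matrix.mul_one, hγi', add_sub_cancel_left]
  rw [hsub]
  calc (γ : Matrix ι ι F) * (c • N) * ((γ⁻¹ : Matrix.GeneralLinearGroup ι F) : Matrix ι ι F) *
        ((γ : Matrix ι ι F) * (c • N) * ((γ⁻¹ : Matrix.GeneralLinearGroup ι F) : Matrix ι ι F))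
      = (γ : Matrix ι ι F) * ((c • N) * (((γ⁻¹ : Matrix.GeneralLinearGroup ι F) : Matrix ι ι F) *
          (γ : Matrix ι ι F)) * (c • N)) * ((γ⁻¹ : Matrix.GeneralLinearGroup ι F) : Matrix ι ι F) := by
        simp only [Matrix.mul_assoc]
    _ = 0 := by
        simp only [hγi, Matrix.mul_one, Matrix.smul_mul, Matrix.mul_smul, hN, smul_zero,
          Matrix.mul_zero, Matrix.zero_mul]

/-- **The Burnside block of TOO.** -/
theorem toogb1_burn (p : ℕ) [Fact p.Prime] [CharP F p] (h2 : (2 : F) ≠ 0)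
    (Γ X : Subgroup (Matrix.GeneralLinearGroup ι F)) [Finite Γ] (hXΓ : X ≤ Γ)
    (N N' : Matrix ι ι F) (hN : N * N = 0) (hN' : N' * N' = 0)
    (hX : ∀ g : Matrix.GeneralLinearGroup ι F, g ∈ X ↔ ∃ c : F, (g : Matrix ι ι F) = 1 + c • N)
    (hcard : 3 ≤ Nat.card X)
    (hTI : ∀ g ∈ Γ, (∃ x ∈ X, x ≠ 1 ∧ g * x * g⁻¹ ∈ X) → g ∈ X)
    (y : Matrix.GeneralLinearGroup ι F) (hy : y ∈ Γ) (hyN : (y : Matrix ι ι F) = 1 + N') :
    ∃ c : F, N' = c • N := by
  obtain ⟨x, hx, hx1, a, ha0, hxa, hZ⟩ := toogb1_sq p Γ X hXΓ N N' hN hX hcard hTI y hy hyN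
  -- the relations for `A = a • N`, `B = N'`
  set A : Matrix ι ι F := a • N with hAdef
  have hA : A * A = 0 := by
    rw [hAdef, Matrix.smul_mul, Matrix.mul_smul, hN, smul_zero, smul_zero]
  have hZ' : (A + N' + A * N') * (A + N' + A * N') = 0 := by
    have h : (1 + A) * (1 + N') - 1 = A + N' + A * N' := by noncomm_ring
    rw [← h]
    exact hZ
  obtain ⟨R1, R2, R3⟩ := toogb1_ring A N' hA hN' hZ'
  have hxA : (x : Matrix ι ι F) = 1 + A := hxa
  by_cases hAB : A * N' = 0
  · -- `y` commutes with `x`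
    have hBA : N' * A = 0 := by rw [hAB, zero_add] at R3; exact R3
    have hcomm : y * x = x * y := by
      apply Units.ext
      rw [Units.val_mul, Units.val_mul, hxA, hyN]
      have h : (1 + N') * (1 + A) = (1 + A) * (1 + N') + N' * A - A * N' := by noncomm_ring
      rw [h, hBA, hAB]
      simp
    have hyX : y ∈ X := by
      apply hTI y hy
      refine ⟨x, hx, hx1, ?_⟩
      rw [hcomm, mul_assoc, mul_inv_cancel, mul_one]
      exact hx
    obtain ⟨c, hc⟩ := (hX y).mp hyX
    refine ⟨c, ?_⟩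
    rw [hyN] at hc
    exact add_left_cancel hc
  · exfalso
    obtain ⟨m, hm⟩ : ∃ m : Matrix.GeneralLinearGroup ι F, m = x * y * x⁻¹ * y⁻¹ := ⟨_, rfl⟩
    have hmΓ : m ∈ Γ := by
      rw [hm]
      exact Γ.mul_mem (Γ.mul_mem (Γ.mul_mem (hXΓ hx) hy) (Γ.inv_mem (hXΓ hx))) (Γ.inv_mem hy)
    have h1 : m * (y * x) = x * y := by rw [hm]; group
    have hyxi : ((y * x : Matrix.GeneralLinearGroup ι F) : Matrix ι ι F) *
        (((y * x)⁻¹ : Matrix.GeneralLinearGroup ι F) : Matrix ι ι F) = 1 := by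
      rw [← Units.val_mul, mul_inv_cancel, Units.val_one]
    have hmval : (m : Matrix ι ι F) = 1 + (2 : ℤ) • (A * N') := by
      have h3 : (m : Matrix ι ι F) * ((y * x : Matrix.GeneralLinearGroup ι F) : Matrix ι ι F) =
          (1 + (2 : ℤ) • (A * N')) * ((y * x : Matrix.GeneralLinearGroup ι F) : Matrix ι ι F) := by
        rw [← Units.val_mul, h1, Units.val_mul, Units.val_mul, hxA, hyN]
        exact (toogb1_comm_val A N' hN' R1 R3).symm
      calc (m : Matrix ι ι F)
          = (m : Matrix ι ι F) * (((y * x : Matrix.GeneralLinearGroup ι F) : Matrix ι ι F) *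
              (((y * x)⁻¹ : Matrix.GeneralLinearGroup ι F) : Matrix ι ι F)) := by
            rw [hyxi, Matrix.mul_one]
        _ = (1 + (2 : ℤ) • (A * N')) * (((y * x : Matrix.GeneralLinearGroup ι F) : Matrix ι ι F) *
              (((y * x)⁻¹ : Matrix.GeneralLinearGroup ι F) : Matrix ι ι F)) := by
            rw [← Matrix.mul_assoc, h3, Matrix.mul_assoc]
        _ = 1 + (2 : ℤ) • (A * N') := by rw [hyxi, Matrix.mul_one]
    have hmx : m * x = x * m := by
      apply Units.ext
      rw [Units.val_mul, Units.val_mul, hmval, hxA]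
      exact toogb1_comm_x A N' hA R1
    have hmX : m ∈ X := by
      apply hTI m hmΓ
      refine ⟨x, hx, hx1, ?_⟩
      rw [hmx, mul_assoc, mul_inv_cancel, mul_one]
      exact hx
    obtain ⟨c, hc⟩ := (hX m).mp hmX
    rw [hmval] at hc
    have hc' : (2 : ℤ) • (A * N') = c • N := add_left_cancel hc
    -- multiply by `N'` on the left
    have h4 : N' * ((2 : ℤ) • (A * N')) = c • (N' * N) := by
      rw [hc', Matrix.mul_smul]
    have h5 : N' * ((2 : ℤ) • (A * N')) = 0 := by
      rw [mul_smul_comm, ← Matrix.mul_assoc, R2, smul_zero]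
    rw [h5] at h4
    have h6 : c = 0 ∨ N' * N = 0 := by
      rcases smul_eq_zero.mp h4.symm with h | h
      · exact Or.inl h
      · exact Or.inr h
    have h2A : (2 : ℤ) • (A * N') = (2 : F) • (A * N') := by
      rw [two_smul, two_smul]
    rcases h6 with h6 | h6
    · rw [h6, zero_smul, h2A] at hc'
      rcases smul_eq_zero.mp hc' with h | h
      · exact h2 h
      · exact hAB h
    · apply hAB
      have h7 : N' * A = 0 := by rw [hAdef, Matrix.mul_smul, h6, smul_zero]
      rw [h7, add_zero] at R3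
      exact R3

end Cfsg.Agent.Lib.Helper28.TOO
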