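import Cfsg.Agent.Lib.Helper28.TOO.Defs2
import Cfsg.Agent.Lib.helper2.TOOGB1burn

/-!
# TOO / GB1 core (helper2): `eq_of_hTI` with the instances of GA6 / GA7 / GA8 as hypotheses.
-/

set_option autoImplicit false
set_option linter.unusedVariables false
set_option linter.unusedSectionVars false

namespace Cfsg.Agent.Lib.Helper28.TOO

open Matrix
open scoped Kronecker
open Cfsg.Agent.Lib.helper7.TP Cfsg.Agent.Lib.Helper21.TS

variable {a b : ℕ} {F : Type*} [Field F]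
variable {J1 : Matrix (Fin a) (Fin a) F} {J2 : Matrix (Fin b) (Fin b) F}

/-- a non-zero vector of `L_W`. -/
theorem toogb1_Lpl_ne (ha : 1 ≤ a) (w₁ w₂ : Fin b → F) (hw : IsTS J2 w₁ w₂) :
    ∃ v ∈ Lpl (a := a) w₁ w₂, v ≠ 0 := by
  have hw1 : w₁ ≠ 0 := by
    intro h
    have := hw.2.2.2 1 0 (by rw [h]; simp)
    exact one_ne_zero this.1
  obtain ⟨j, hj⟩ : ∃ j, w₁ j ≠ 0 := by
    by_contra hcon
    push Not at hcon
    exact hw1 (funext hcon)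
  refine ⟨ten (Pi.single ⟨0, ha⟩ 1) w₁, ⟨Pi.single ⟨0, ha⟩ 1, 0, ?_⟩, ?_⟩
  · have : ten (0 : Fin a → F) w₂ = 0 := by funext p; simp [ten]
    rw [this, add_zero]
  · intro h
    have := congrFun h (⟨0, ha⟩, j)
    simp [ten] at this
    exact hj this

/-- GB1 with GA6 (for `W` and `W₀`), GA7, GA8 as hypotheses. -/
theorem toogb1_core [Fintype F] (p : ℕ) [Fact p.Prime] [CharP F p] (hF : 3 ≤ Fintype.card F)
    (C : OCtx J1 J2) (ha : 1 ≤ a)
    (M : Subgroup (Matrix.GeneralLinearGroup (Fin a × Fin b) F)) (hT : T1 J1 J2 ≤ M)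
    (g : Matrix.GeneralLinearGroup (Fin a × Fin b) F) (hg : g ∈ M)
    (w₀₁ w₀₂ w₁ w₂ : Fin b → F) (h₀ : IsTS J2 w₀₁ w₀₂) (hw : IsTS J2 w₁ w₂)
    (hsq : NV (a := a) J2 w₁ w₂ * NV (a := a) J2 w₁ w₂ = 0)
    (hker : ∀ v : Fin a × Fin b → F,
      NV (a := a) J2 w₁ w₂ *ᵥ v = 0 ↔ v ∈ perp (JV J1 J2) (Lpl (a := a) w₁ w₂))
    (hrange : ∀ v : Fin a × Fin b → F,
      (∃ v' : Fin a × Fin b → F, NV (a := a) J2 w₁ w₂ *ᵥ v' = v) ↔ v ∈ Lpl (a := a) w₁ w₂)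
    (hsq0 : NV (a := a) J2 w₀₁ w₀₂ * NV (a := a) J2 w₀₁ w₀₂ = 0)
    (hker0 : ∀ v : Fin a × Fin b → F,
      NV (a := a) J2 w₀₁ w₀₂ *ᵥ v = 0 ↔ v ∈ perp (JV J1 J2) (Lpl (a := a) w₀₁ w₀₂))
    (hrange0 : ∀ v : Fin a × Fin b → F,
      (∃ v' : Fin a × Fin b → F, NV (a := a) J2 w₀₁ w₀₂ *ᵥ v' = v) ↔ v ∈ Lpl (a := a) w₀₁ w₀₂)
    (hx : ∀ c : F, InM (T1 J1 J2) (1 + c • NV (a := a) J2 w₁ w₂))
    (hx0 : InM (T1 J1 J2) (1 + (1 : F) • NV (a := a) J2 w₀₁ w₀₂))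
    (hpi : perp (JV J1 J2) (img g (Lpl (a := a) w₀₁ w₀₂)) =
      img g (perp (JV J1 J2) (Lpl (a := a) w₀₁ w₀₂)))
    (hTI : ∀ m ∈ FixG M (perp (JV J1 J2) (Lpl (a := a) w₁ w₂) ⊓ perp (JV J1 J2) (img g (Lpl (a := a) w₀₁ w₀₂))),
      ∀ c c' : F, c ≠ 0 →
      (m : Matrix (Fin a × Fin b) (Fin a × Fin b) F) * (1 + c • NV (a := a) J2 w₁ w₂) *
        ((m⁻¹ : Matrix.GeneralLinearGroup (Fin a × Fin b) F) : Matrix (Fin a × Fin b) (Fin a × Fin b) F) =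
      1 + c' • NV (a := a) J2 w₁ w₂ →
      ∃ c'' : F, (m : Matrix (Fin a × Fin b) (Fin a × Fin b) F) = 1 + c'' • NV (a := a) J2 w₁ w₂) :
    img g (Lpl (a := a) w₀₁ w₀₂) = Lpl (a := a) w₁ w₂ := by
  classical
  set N : Matrix (Fin a × Fin b) (Fin a × Fin b) F := NV (a := a) J2 w₁ w₂ with hNdef
  set N₀ : Matrix (Fin a × Fin b) (Fin a × Fin b) F := NV (a := a) J2 w₀₁ w₀₂ with hN₀def
  set gm : Matrix (Fin a × Fin b) (Fin a × Fin b) F := (g : Matrix (Fin a × Fin b) (Fin a × Fin b) F) with hgm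
  set gi : Matrix (Fin a × Fin b) (Fin a × Fin b) F :=
    ((g⁻¹ : Matrix.GeneralLinearGroup (Fin a × Fin b) F) : Matrix (Fin a × Fin b) (Fin a × Fin b) F) with hgi
  have hgig : gi * gm = 1 := by
    rw [hgi, hgm, ← Units.val_mul, inv_mul_cancel, Units.val_one]
  have hggi : gm * gi = 1 := by
    rw [hgi, hgm, ← Units.val_mul, mul_inv_cancel, Units.val_one]
  set N' : Matrix (Fin a × Fin b) (Fin a × Fin b) F := gm * N₀ * gi with hN'def
  have hN'sq : N' * N' = 0 := by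
    calc N' * N' = gm * (N₀ * (gi * gm) * N₀) * gi := by
          rw [hN'def]; simp only [Matrix.mul_assoc]
      _ = 0 := by rw [hgig, Matrix.mul_one, hsq0, Matrix.mul_zero, Matrix.zero_mul]
  -- `N ≠ 0`, `N₀ ≠ 0`
  have hNne : N ≠ 0 := by
    intro h0
    obtain ⟨v, hvL, hv0⟩ := toogb1_Lpl_ne (J2 := J2) ha w₁ w₂ hw
    obtain ⟨v', hv'⟩ := (hrange v).mpr hvL
    rw [h0, Matrix.zero_mulVec] at hv'
    exact hv0 hv'.symm
  have hN₀ne : N₀ ≠ 0 := by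
    intro h0
    obtain ⟨v, hvL, hv0⟩ := toogb1_Lpl_ne (J2 := J2) ha w₀₁ w₀₂ h₀
    obtain ⟨v', hv'⟩ := (hrange0 v).mpr hvL
    rw [h0, Matrix.zero_mulVec] at hv'
    exact hv0 hv'.symm
  -- the groups
  set U : Submodule F (Fin a × Fin b → F) :=
    perp (JV J1 J2) (Lpl (a := a) w₁ w₂) ⊓ perp (JV J1 J2) (img g (Lpl (a := a) w₀₁ w₀₂)) with hU
  set Γ : Subgroup (Matrix.GeneralLinearGroup (Fin a × Fin b) F) := FixG M U with hΓ
  set X : Subgroup (Matrix.GeneralLinearGroup (Fin a × Fin b) F) := Xpl (a := a) J2 w₁ w₂ hsq with hXdef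
  have hXmem : ∀ m : Matrix.GeneralLinearGroup (Fin a × Fin b) F,
      m ∈ X ↔ ∃ c : F, (m : Matrix (Fin a × Fin b) (Fin a × Fin b) F) = 1 + c • N := fun m => Iff.rfl
  haveI : Finite (Matrix.GeneralLinearGroup (Fin a × Fin b) F) := inferInstance
  haveI : Finite Γ := inferInstance
  have hXΓ : X ≤ Γ := by
    intro m hm
    obtain ⟨c, hc⟩ := (hXmem m).mp hm
    rw [hΓ, mem_FixG]
    constructor
    · obtain ⟨m', hm', hm'c⟩ := hx c
      have : m' = m := Units.ext (by rw [hm'c, hc])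
      rw [← this]
      exact hT hm'
    · intro u hu
      have hu1 : u ∈ perp (JV J1 J2) (Lpl (a := a) w₁ w₂) := hu.1
      have hNu : N *ᵥ u = 0 := (hker u).mpr hu1
      rw [hc, Matrix.add_mulVec, Matrix.one_mulVec, Matrix.smul_mulVec, hNu, smul_zero, add_zero]
  -- the element `y`
  obtain ⟨x₀, hx₀T, hx₀v⟩ := hx0
  rw [one_smul] at hx₀v
  have hyval : ((g * x₀ * g⁻¹ : Matrix.GeneralLinearGroup (Fin a × Fin b) F) :
      Matrix (Fin a × Fin b) (Fin a × Fin b) F) = 1 + N' := by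
    rw [Units.val_mul, Units.val_mul, hx₀v, hN'def]
    rw [Matrix.mul_add, Matrix.mul_one, Matrix.add_mul]
    congr 1
  have hyΓ : g * x₀ * g⁻¹ ∈ Γ := by
    rw [hΓ, mem_FixG]
    constructor
    · exact M.mul_mem (M.mul_mem hg (hT hx₀T)) (M.inv_mem hg)
    · intro u hu
      have hu2 : u ∈ perp (JV J1 J2) (img g (Lpl (a := a) w₀₁ w₀₂)) := hu.2
      rw [hpi, mem_img] at hu2
      obtain ⟨s, hs, hsu⟩ := hu2
      have hN₀s : N₀ *ᵥ s = 0 := (hker0 s).mpr hs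
      have hN'u : N' *ᵥ u = 0 := by
        rw [← hsu, hN'def, Matrix.mulVec_mulVec]
        calc (gm * N₀ * gi * gm) *ᵥ s = (gm * N₀ * (gi * gm)) *ᵥ s := by
              simp only [Matrix.mul_assoc]
          _ = 0 := by
              rw [hgig, Matrix.mul_one, ← Matrix.mulVec_mulVec, hN₀s, Matrix.mulVec_zero]
      rw [hyval, Matrix.add_mulVec, Matrix.one_mulVec, hN'u, add_zero]
  -- `|X| ≥ 3`
  have hcard : 3 ≤ Nat.card X := by
    let f : F → X := fun c => ⟨(hx c).choose, (hXmem _).mpr ⟨c, (hx c).choose_spec.2⟩⟩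
    have hf : Function.Injective f := by
      intro c c' hcc
      have h1 : (hx c).choose = (hx c').choose := congrArg Subtype.val hcc
      have h2 : (1 : Matrix (Fin a × Fin b) (Fin a × Fin b) F) + c • N = 1 + c' • N := by
        rw [← (hx c).choose_spec.2, ← (hx c').choose_spec.2, h1]
      have h3 : (c - c') • N = 0 := by
        rw [sub_smul, add_left_cancel h2, sub_self]
      rcases smul_eq_zero.mp h3 with h | h
      · exact sub_eq_zero.mp h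
      · exact absurd h hNne
    have h1 := Nat.card_le_card_of_injective f hf
    rw [Nat.card_eq_fintype_card] at h1
    omega
  -- hTI in Burnside form
  have hTI' : ∀ m ∈ Γ, (∃ x ∈ X, x ≠ 1 ∧ m * x * m⁻¹ ∈ X) → m ∈ X := by
    rintro m hm ⟨x, hxX, hx1, hconj⟩
    obtain ⟨c, hc⟩ := (hXmem x).mp hxX
    obtain ⟨c', hc'⟩ := (hXmem _).mp hconj
    have hc0 : c ≠ 0 := by
      intro h
      apply hx1
      apply Units.ext
      rw [hc, h, zero_smul, add_zero]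
      rfl
    rw [Units.val_mul, Units.val_mul, hc] at hc'
    obtain ⟨c'', hc''⟩ := hTI m hm c c' hc0 hc'
    exact (hXmem m).mpr ⟨c'', hc''⟩
  obtain ⟨c, hc⟩ := toogb1_burn p C.two Γ X hXΓ N N' hsq hN'sq hXmem hcard hTI' (g * x₀ * g⁻¹) hyΓ hyval
  have hc0 : c ≠ 0 := by
    intro h
    apply hN₀ne
    rw [h, zero_smul] at hc
    calc N₀ = (gi * gm) * N₀ * (gi * gm) := by rw [hgig, Matrix.one_mul, Matrix.mul_one]
      _ = gi * (gm * N₀ * gi) * gm := by simp only [Matrix.mul_assoc]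
      _ = 0 := by rw [← hN'def, hc, Matrix.mul_zero, Matrix.zero_mul]
  ext v
  rw [mem_img]
  constructor
  · rintro ⟨s, hs, hsv⟩
    obtain ⟨v'', hv''⟩ := (hrange0 s).mpr hs
    apply (hrange v).mp
    refine ⟨c • (gm *ᵥ v''), ?_⟩
    rw [Matrix.mulVec_smul, ← Matrix.smul_mulVec, ← hc, hN'def, Matrix.mulVec_mulVec]
    calc (gm * N₀ * gi * gm) *ᵥ v'' = (gm * N₀ * (gi * gm)) *ᵥ v'' := by
          simp only [Matrix.mul_assoc]
      _ = v := by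
          rw [hgig, Matrix.mul_one, ← Matrix.mulVec_mulVec, hv'', hsv]
  · intro hv
    obtain ⟨v', hv'⟩ := (hrange v).mpr hv
    refine ⟨N₀ *ᵥ (gi *ᵥ (c⁻¹ • v')), (hrange0 _).mp ⟨_, rfl⟩, ?_⟩
    have h1 : gm *ᵥ (N₀ *ᵥ (gi *ᵥ (c⁻¹ • v'))) = N' *ᵥ (c⁻¹ • v') := by
      rw [hN'def, Matrix.mulVec_mulVec, Matrix.mulVec_mulVec]
    rw [h1, hc, Matrix.mulVec_smul, Matrix.smul_mulVec, smul_smul, inv_mul_cancel₀ hc0, one_smul, hv']

end Cfsg.Agent.Lib.Helper28.TOO
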