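import Cfsg.Agent.Lib.Helper28.TOO.Defs2
import Cfsg.Agent.Lib.helper2.TOOGB1core
import Cfsg.Agent.Lib.helper2.TOOGA7
import Cfsg.Agent.Lib.Helper13.TOOGA6
import Cfsg.Agent.Lib.Helper27.TOOGA8

/-!
# TOO / GB1 (helper2): `eq_of_hTI` verbatim (core in `TOOGB1core`, Burnside block in `TOOGB1burn`).
-/

set_option autoImplicit false
set_option linter.unusedVariables false
set_option linter.unusedSectionVars false

namespace Cfsg.Agent.Lib.Helper28.TOO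

open Matrix
open scoped Kronecker
open Cfsg.Agent.Lib.helper7.TP Cfsg.Agent.Lib.Helper21.TS

variable {a b : ℕ} {F : Type*} [Field F]
variable {J1 : Matrix (Fin a) (Fin a) F} {J2 : Matrix (Fin b) (Fin b) F}

/-- GB1 [M-L]. with hTI, `S = g L_{W₀}` equals `L_W`. -/
theorem eq_of_hTI [Fintype F] (p : ℕ) [Fact p.Prime] [CharP F p] (hF : 3 ≤ Fintype.card F)
    (C : OCtx J1 J2) (ha : 1 ≤ a) (hb : 5 ≤ b)
    (M : Subgroup (Matrix.GeneralLinearGroup (Fin a × Fin b) F)) (hT : T1 J1 J2 ≤ M) (hMO : M ≤ OV J1 J2)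
    (g : Matrix.GeneralLinearGroup (Fin a × Fin b) F) (hg : g ∈ M)
    (w₀₁ w₀₂ w₁ w₂ : Fin b → F) (h₀ : IsTS J2 w₀₁ w₀₂) (hw : IsTS J2 w₁ w₂)
    (hTI : ∀ m ∈ FixG M (perp (JV J1 J2) (Lpl (a := a) w₁ w₂) ⊓ perp (JV J1 J2) (img g (Lpl (a := a) w₀₁ w₀₂))),
      ∀ c c' : F, c ≠ 0 →
      (m : Matrix (Fin a × Fin b) (Fin a × Fin b) F) * (1 + c • NV (a := a) J2 w₁ w₂) *
        ((m⁻¹ : Matrix.GeneralLinearGroup (Fin a × Fin b) F) : Matrix (Fin a × Fin b) (Fin a × Fin b) F) =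
      1 + c' • NV (a := a) J2 w₁ w₂ →
      ∃ c'' : F, (m : Matrix (Fin a × Fin b) (Fin a × Fin b) F) = 1 + c'' • NV (a := a) J2 w₁ w₂) :
    img g (Lpl (a := a) w₀₁ w₀₂) = Lpl (a := a) w₁ w₂ :=
  toogb1_core p hF C ha M hT g hg w₀₁ w₀₂ w₁ w₂ h₀ hw
    (NV_sq C w₁ w₂ hw) (NV_ker C w₁ w₂ hw) (NV_range C w₁ w₂ hw)
    (NV_sq C w₀₁ w₀₂ h₀) (NV_ker C w₀₁ w₀₂ h₀) (NV_range C w₀₁ w₀₂ h₀)
    (fun c => xpl_mem_T1 C hb w₁ w₂ hw c) (xpl_mem_T1 C hb w₀₁ w₀₂ h₀ 1)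
    (perp_img g (hMO hg) _) hTI

end Cfsg.Agent.Lib.Helper28.TOO
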