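import Mathlib
import Cfsg.Prelude.Def_GeometricClasses
import Cfsg.Agent.Lib.Helper29.C6P.DefsS

set_option autoImplicit false
set_option linter.unusedVariables false
set_option linter.unusedSectionVars false

/-!
# Project C6P, part S, row S6 (`s_gens`): the abstract core.  A set `P` of `4 × 4` matrices closed under products, containing `ι • 1`
(`ι * ι = -1`), all of whose members square to `± 1` and commute or anticommute pairwise, in which every non-scalar member anticommutes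
with some member, and in which the common centraliser of an anticommuting pair of involutions contains a non-scalar member,
contains `g₁, h₁, g₂, h₂` with the Pauli relations.
-/

namespace Cfsg.Agent.Lib.Helper10.C6P

open Cfsg Cfsg.Geo
open scoped MatrixGroups

variable {F : Type*} [Field F]

/-- scaling keeps commutation -/
theorem c6ps6_smul_comm (c : F) (a x : Matrix (Fin 4) (Fin 4) F) (h : a * x = x * a) :
    (c • a) * x = x * (c • a) := by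
  rw [smul_mul_assoc, mul_smul_comm, h]

/-- scaling keeps anticommutation -/
theorem c6ps6_smul_anti (c : F) (a x : Matrix (Fin 4) (Fin 4) F) (h : a * x = -(x * a)) :
    (c • a) * x = -(x * (c • a)) := by
  rw [smul_mul_assoc, mul_smul_comm, h, smul_neg]

/-- scaling by a nonzero scalar keeps non-scalarity -/
theorem c6ps6_smul_ns (c : F) (hc : c ≠ 0) (a : Matrix (Fin 4) (Fin 4) F)
    (h : ∀ d : F, a ≠ d • (1 : Matrix (Fin 4) (Fin 4) F)) :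
    ∀ d : F, c • a ≠ d • (1 : Matrix (Fin 4) (Fin 4) F) := by
  intro d hd
  apply h (c⁻¹ * d)
  rw [mul_smul, ← hd, smul_smul, inv_mul_cancel₀ hc, one_smul]

/-- normalisation: a member of `P` has a nonzero scalar multiple in `P` which is an involution -/
theorem c6ps6_norm (P : Set (Matrix (Fin 4) (Fin 4) F))
    (hmul : ∀ a ∈ P, ∀ b ∈ P, a * b ∈ P)
    (ι : F) (hι : ι * ι = -1) (hιP : ι • (1 : Matrix (Fin 4) (Fin 4) F) ∈ P)
    (hsq : ∀ a ∈ P, a * a = 1 ∨ a * a = -1) (a : Matrix (Fin 4) (Fin 4) F) (ha : a ∈ P) :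
    ∃ c : F, c ≠ 0 ∧ c • a ∈ P ∧ (c • a) * (c • a) = 1 := by
  rcases hsq a ha with h1 | h1
  · exact ⟨1, one_ne_zero, by rwa [one_smul], by rw [one_smul, h1]⟩
  · refine ⟨ι, ?_, ?_, ?_⟩
    · intro h0
      rw [h0, mul_zero] at hι
      exact (neg_ne_zero.mpr one_ne_zero) hι.symm
    · have := hmul _ hιP a ha
      rwa [smul_mul_assoc, one_mul] at this
    · rw [smul_mul_smul_comm, hι, h1]
      simp

/-- the correction step: `k` (anti)commutes with `u`; `u, v` anticommute; then `k` or `k * v` commutes with `u`, and relations with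
every `y` commuting with `v` are kept. -/
theorem c6ps6_fix (P : Set (Matrix (Fin 4) (Fin 4) F))
    (hmul : ∀ a ∈ P, ∀ b ∈ P, a * b ∈ P)
    (k u v : Matrix (Fin 4) (Fin 4) F) (hk : k ∈ P) (hv : v ∈ P) (huv : u * v = -(v * u))
    (hku : k * u = u * k ∨ k * u = -(u * k)) :
    ∃ k' ∈ P, k' * u = u * k' ∧ ∀ y : Matrix (Fin 4) (Fin 4) F, y * v = v * y →
      ((k * y = y * k → k' * y = y * k') ∧ (k * y = -(y * k) → k' * y = -(y * k'))) := by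
  rcases hku with h1 | h1
  · exact ⟨k, hk, h1, fun y _ => ⟨id, id⟩⟩
  · refine ⟨k * v, hmul k hk v hv, ?_, ?_⟩
    · have hvu : v * u = -(u * v) := by rw [huv, neg_neg]
      rw [mul_assoc, hvu, mul_neg, ← mul_assoc, h1, neg_mul, neg_neg, mul_assoc]
    · intro y hy
      constructor
      · intro hky
        rw [mul_assoc, ← hy, ← mul_assoc, hky, mul_assoc]
      · intro hky
        rw [mul_assoc, ← hy, ← mul_assoc, hky, neg_mul, mul_assoc]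

/-- the abstract core of S6 -/
theorem c6ps6_abs (P : Set (Matrix (Fin 4) (Fin 4) F))
    (hmul : ∀ a ∈ P, ∀ b ∈ P, a * b ∈ P)
    (ι : F) (hι : ι * ι = -1) (hιP : ι • (1 : Matrix (Fin 4) (Fin 4) F) ∈ P)
    (hsq : ∀ a ∈ P, a * a = 1 ∨ a * a = -1)
    (hpm : ∀ a ∈ P, ∀ b ∈ P, a * b = b * a ∨ a * b = -(b * a))
    (hanti : ∀ a ∈ P, (∀ c : F, a ≠ c • (1 : Matrix (Fin 4) (Fin 4) F)) → ∃ h ∈ P, h * a = -(a * h))
    (hns : ∃ a ∈ P, ∀ c : F, a ≠ c • (1 : Matrix (Fin 4) (Fin 4) F))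
    (hcent : ∀ g1 ∈ P, ∀ h1 ∈ P, g1 * g1 = 1 → h1 * h1 = 1 → g1 * h1 = -(h1 * g1) →
        ∃ g ∈ P, g * g1 = g1 * g ∧ g * h1 = h1 * g ∧ ∀ c : F, g ≠ c • (1 : Matrix (Fin 4) (Fin 4) F)) :
    ∃ g1 ∈ P, ∃ h1 ∈ P, ∃ g2 ∈ P, ∃ h2 ∈ P, PauliRel g1 h1 g2 h2 := by
  -- g1
  obtain ⟨a, haP, hans⟩ := hns
  obtain ⟨c1, hc1, hg1P, hg1sq⟩ := c6ps6_norm P hmul ι hι hιP hsq a haP
  have hg1ns := c6ps6_smul_ns c1 hc1 a hans
  obtain ⟨g1, hg1⟩ : ∃ g1, g1 = c1 • a := ⟨_, rfl⟩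
  rw [← hg1] at hg1P hg1sq hg1ns
  -- h1
  obtain ⟨h, hhP, hha⟩ := hanti g1 hg1P hg1ns
  obtain ⟨c2, hc2, hh1P, hh1sq⟩ := c6ps6_norm P hmul ι hι hιP hsq h hhP
  have hh1g1 := c6ps6_smul_anti c2 h g1 hha
  obtain ⟨h1, hh1⟩ : ∃ h1, h1 = c2 • h := ⟨_, rfl⟩
  rw [← hh1] at hh1P hh1sq hh1g1
  have hg1h1 : g1 * h1 = -(h1 * g1) := by rw [hh1g1, neg_neg]
  -- g2
  obtain ⟨g, hgP, hgg1, hgh1, hgns⟩ := hcent g1 hg1P h1 hh1P hg1sq hh1sq hg1h1
  obtain ⟨c3, hc3, hg2P, hg2sq⟩ := c6ps6_norm P hmul ι hι hιP hsq g hgP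
  have hg2ns := c6ps6_smul_ns c3 hc3 g hgns
  have hg2g1 := c6ps6_smul_comm c3 g g1 hgg1
  have hg2h1 := c6ps6_smul_comm c3 g h1 hgh1
  obtain ⟨g2, hg2⟩ : ∃ g2, g2 = c3 • g := ⟨_, rfl⟩
  rw [← hg2] at hg2P hg2sq hg2ns hg2g1 hg2h1
  -- h2
  obtain ⟨k, hkP, hkg2⟩ := hanti g2 hg2P hg2ns
  obtain ⟨k1, hk1P, hk1g1, hk1y⟩ := c6ps6_fix P hmul k g1 h1 hkP hh1P hg1h1 (hpm k hkP g1 hg1P)
  have hk1g2 : k1 * g2 = -(g2 * k1) := (hk1y g2 hg2h1).2 hkg2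
  obtain ⟨k2, hk2P, hk2h1, hk2y⟩ := c6ps6_fix P hmul k1 h1 g1 hk1P hg1P hh1g1 (hpm k1 hk1P h1 hh1P)
  have hk2g2 : k2 * g2 = -(g2 * k2) := (hk2y g2 hg2g1).2 hk1g2
  have hk2g1 : k2 * g1 = g1 * k2 := (hk2y g1 rfl).1 hk1g1
  obtain ⟨c4, hc4, hh2P, hh2sq⟩ := c6ps6_norm P hmul ι hι hιP hsq k2 hk2P
  have hh2g2 := c6ps6_smul_anti c4 k2 g2 hk2g2
  have hh2g1 := c6ps6_smul_comm c4 k2 g1 hk2g1
  have hh2h1 := c6ps6_smul_comm c4 k2 h1 hk2h1
  obtain ⟨h2, hh2⟩ : ∃ h2, h2 = c4 • k2 := ⟨_, rfl⟩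
  rw [← hh2] at hh2P hh2sq hh2g2 hh2g1 hh2h1
  refine ⟨g1, hg1P, h1, hh1P, g2, hg2P, h2, hh2P, ?_⟩
  exact
    { g1sq := hg1sq
      h1sq := hh1sq
      g2sq := hg2sq
      h2sq := hh2sq
      a1 := hg1h1
      a2 := by rw [hh2g2, neg_neg]
      c12 := hg2g1.symm
      c1h2 := hh2g1.symm
      ch12 := hg2h1.symm
      chh := hh2h1.symm }

end Cfsg.Agent.Lib.Helper10.C6P
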