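import Mathlib
import Cfsg.Prelude.Def_GeometricClasses
import Cfsg.Agent.Lib.Helper29.C6P.DefsS
import Cfsg.Agent.Lib.helper2.C6PS6abs

set_option autoImplicit false
set_option linter.unusedVariables false
set_option linter.unusedSectionVars false

/-!
# Project C6P, part S, row S6 (`s_gens`): the core, against the statements of S3, S4, S5 (SkelS) as hypotheses.
-/

namespace Cfsg.Agent.Lib.Helper10.C6P

open Cfsg Cfsg.Geo
open scoped MatrixGroups

variable {F : Type*} [Field F]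

/-- the correction step with an explicit exponent -/
theorem c6ps6_fix' (k u v : Matrix (Fin 4) (Fin 4) F) (huv : u * v = -(v * u))
    (hku : k * u = u * k ∨ k * u = -(u * k)) :
    ∃ e : Bool, (k * (if e then v else 1)) * u = u * (k * (if e then v else 1)) ∧
      ∀ y : Matrix (Fin 4) (Fin 4) F, y * v = v * y →
        (k * y = y * k → (k * (if e then v else 1)) * y = y * (k * (if e then v else 1))) := by
  rcases hku with h1 | h1
  · refine ⟨false, by simpa using h1, fun y _ hy => by simpa using hy⟩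
  · refine ⟨true, ?_, ?_⟩
    · have hvu : v * u = -(u * v) := by rw [huv, neg_neg]
      simp only [if_true]
      rw [mul_assoc, hvu, mul_neg, ← mul_assoc, h1, neg_mul, neg_neg, mul_assoc]
    · intro y hy hky
      simp only [if_true]
      rw [mul_assoc, ← hy, ← mul_assoc, hky, mul_assoc]

variable [Fintype F]

/-- the count: the common centraliser in `R` of two anticommuting members contains a non-scalar element -/
theorem c6ps6_count (R : Subgroup (GL (Fin 4) F))
    (hZ : Nat.card (Subgroup.center R) = 4) (hR6 : Nat.card R = 2 ^ 6)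
    (hS3a : ∀ g ∈ R, (∀ h ∈ R, g * h = h * g) ↔ ∃ c : F, (g : Matrix (Fin 4) (Fin 4) F) = c • (1 : Matrix (Fin 4) (Fin 4) F))
    (hS4b : ∀ g ∈ R, ∀ h ∈ R, (g : Matrix (Fin 4) (Fin 4) F) * (h : Matrix (Fin 4) (Fin 4) F) = (h : Matrix (Fin 4) (Fin 4) F) * g ∨
      (g : Matrix (Fin 4) (Fin 4) F) * (h : Matrix (Fin 4) (Fin 4) F) = -((h : Matrix (Fin 4) (Fin 4) F) * g))
    (γ η : GL (Fin 4) F) (hγ : γ ∈ R) (hη : η ∈ R)
    (hγη : (γ : Matrix (Fin 4) (Fin 4) F) * (η : Matrix (Fin 4) (Fin 4) F) = -((η : Matrix (Fin 4) (Fin 4) F) * γ)) :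
    ∃ g ∈ R, (g : Matrix (Fin 4) (Fin 4) F) * (γ : Matrix (Fin 4) (Fin 4) F) = (γ : Matrix (Fin 4) (Fin 4) F) * g ∧
      (g : Matrix (Fin 4) (Fin 4) F) * (η : Matrix (Fin 4) (Fin 4) F) = (η : Matrix (Fin 4) (Fin 4) F) * g ∧
      ∀ c : F, (g : Matrix (Fin 4) (Fin 4) F) ≠ c • (1 : Matrix (Fin 4) (Fin 4) F) := by
  by_contra hcon
  push Not at hcon
  have hηγ : (η : Matrix (Fin 4) (Fin 4) F) * (γ : Matrix (Fin 4) (Fin 4) F) = -((γ : Matrix (Fin 4) (Fin 4) F) * η) := by
    rw [hγη, neg_neg]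
  -- the correcting words
  let x : Bool → Bool → GL (Fin 4) F := fun a b => (if a then η else 1) * (if b then γ else 1)
  have hx : ∀ a b, x a b ∈ R := by
    intro a b
    apply R.mul_mem
    · cases a
      · simpa using R.one_mem
      · simpa using hη
    · cases b
      · simpa using R.one_mem
      · simpa using hγ
  have hclaim : ∀ r : R, ∃ t : Subgroup.center R × Bool × Bool,
      ((t.1 : R) : GL (Fin 4) F) = (r : GL (Fin 4) F) * x t.2.1 t.2.2 := by
    intro r
    obtain ⟨e1, hk1γ, hk1y⟩ := c6ps6_fix' ((r : GL (Fin 4) F) : Matrix (Fin 4) (Fin 4) F) γ η hγη (hS4b r r.2 γ hγ)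
    have hk1 : (((r : GL (Fin 4) F) * (if e1 then η else 1) : GL (Fin 4) F) : Matrix (Fin 4) (Fin 4) F) =
        ((r : GL (Fin 4) F) : Matrix (Fin 4) (Fin 4) F) * (if e1 then (η : Matrix (Fin 4) (Fin 4) F) else 1) := by
      cases e1 <;> simp
    have hk1R : (r : GL (Fin 4) F) * (if e1 then η else 1) ∈ R := by
      apply R.mul_mem r.2
      cases e1
      · simpa using R.one_mem
      · simpa using hη
    have hpm1 := hS4b _ hk1R η hη
    rw [hk1] at hpm1
    obtain ⟨e2, hk2η, hk2y⟩ := c6ps6_fix' (((r : GL (Fin 4) F) : Matrix (Fin 4) (Fin 4) F) * (if e1 then (η : Matrix (Fin 4) (Fin 4) F) else 1))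
      (η : Matrix (Fin 4) (Fin 4) F) (γ : Matrix (Fin 4) (Fin 4) F) hηγ hpm1
    have hk2γ := hk2y γ rfl hk1γ
    have hk2 : (((r : GL (Fin 4) F) * x e1 e2 : GL (Fin 4) F) : Matrix (Fin 4) (Fin 4) F) =
        ((r : GL (Fin 4) F) : Matrix (Fin 4) (Fin 4) F) * (if e1 then (η : Matrix (Fin 4) (Fin 4) F) else 1) *
          (if e2 then (γ : Matrix (Fin 4) (Fin 4) F) else 1) := by
      cases e1 <;> cases e2 <;> simp [x, mul_assoc]
    have hk2R : (r : GL (Fin 4) F) * x e1 e2 ∈ R := R.mul_mem r.2 (hx e1 e2)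
    rw [← hk2] at hk2η hk2γ
    obtain ⟨c, hc⟩ := hcon _ hk2R hk2γ hk2η
    have hcomm := (hS3a _ hk2R).mpr ⟨c, hc⟩
    have hcen : (⟨(r : GL (Fin 4) F) * x e1 e2, hk2R⟩ : R) ∈ Subgroup.center R := by
      rw [Subgroup.mem_center_iff]
      intro h
      apply Subtype.ext
      exact (hcomm h h.2).symm
    exact ⟨(⟨⟨_, hk2R⟩, hcen⟩, e1, e2), rfl⟩
  choose φ hφ using hclaim
  have hinj : Function.Injective φ := by
    intro r r' hrr
    have h1 := hφ r
    have h2 := hφ r'
    rw [hrr, h2] at h1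
    exact Subtype.ext (mul_right_cancel h1).symm
  have hle := Nat.card_le_card_of_injective φ hinj
  rw [Nat.card_prod, Nat.card_prod, hZ, hR6] at hle
  simp at hle

end Cfsg.Agent.Lib.Helper10.C6P
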