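import Mathlib
import Cfsg.Prelude.Def_GeometricClasses
import Cfsg.Agent.Lib.Helper29.C6P.DefsS
import Cfsg.Agent.Lib.helper2.C6PS6abs
import Cfsg.Agent.Lib.helper2.C6PS6core

set_option autoImplicit false
set_option linter.unusedVariables false
set_option linter.unusedSectionVars false

/-!
# Project C6P, part S, row S6 (`s_gens`): the core `c6ps6_core`, with the conclusions of S3, S4, S5 (SkelS) as hypotheses.
-/

namespace Cfsg.Agent.Lib.Helper10.C6P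

open Cfsg Cfsg.Geo
open scoped MatrixGroups

variable {F : Type*} [Field F] [Fintype F]

/-- a square root of `-1` exists: else the centre (scalars `c • 1` with `c ^ 4 = 1`) would have at most two elements -/
theorem c6ps6_iota (R : Subgroup (GL (Fin 4) F)) (hZ : Nat.card (Subgroup.center R) = 4)
    (hS3a : ∀ g ∈ R, (∀ h ∈ R, g * h = h * g) ↔ ∃ c : F, (g : Matrix (Fin 4) (Fin 4) F) = c • (1 : Matrix (Fin 4) (Fin 4) F))
    (hS3c : ∀ g ∈ R, ∀ c : F, (g : Matrix (Fin 4) (Fin 4) F) = c • (1 : Matrix (Fin 4) (Fin 4) F) → c ^ 4 = 1) :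
    ∃ ι : F, ι * ι = -1 := by
  classical
  by_contra hcon
  push Not at hcon
  have hz : ∀ z : Subgroup.center R, (((z : R) : GL (Fin 4) F) : Matrix (Fin 4) (Fin 4) F) = 1 ∨
      (((z : R) : GL (Fin 4) F) : Matrix (Fin 4) (Fin 4) F) = (-1 : F) • (1 : Matrix (Fin 4) (Fin 4) F) := by
    intro z
    have hcomm : ∀ h ∈ R, ((z : R) : GL (Fin 4) F) * h = h * ((z : R) : GL (Fin 4) F) := by
      intro h hh
      have := Subgroup.mem_center_iff.mp z.2 ⟨h, hh⟩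
      exact (congrArg Subtype.val this).symm
    obtain ⟨c, hc⟩ := (hS3a _ (z : R).2).mp hcomm
    have h4 := hS3c _ (z : R).2 c hc
    have h2 : (c * c) * (c * c) = 1 := by rw [← h4]; ring
    rcases mul_self_eq_one_iff.mp h2 with h | h
    · rcases mul_self_eq_one_iff.mp h with h' | h'
      · left; rw [hc, h', one_smul]
      · right; rw [hc, h']
    · exact absurd h (hcon c)
  let f : Subgroup.center R → Bool := fun z =>
    if (((z : R) : GL (Fin 4) F) : Matrix (Fin 4) (Fin 4) F) = 1 then true else false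
  have hinj : Function.Injective f := by
    intro z z' hzz
    have hm : (((z : R) : GL (Fin 4) F) : Matrix (Fin 4) (Fin 4) F) = (((z' : R) : GL (Fin 4) F) : Matrix (Fin 4) (Fin 4) F) := by
      by_cases h1 : (((z : R) : GL (Fin 4) F) : Matrix (Fin 4) (Fin 4) F) = 1
      · by_cases h2 : (((z' : R) : GL (Fin 4) F) : Matrix (Fin 4) (Fin 4) F) = 1
        · rw [h1, h2]
        · simp only [f, h1, h2, if_true, if_false] at hzz
          exact absurd hzz (by decide)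
      · by_cases h2 : (((z' : R) : GL (Fin 4) F) : Matrix (Fin 4) (Fin 4) F) = 1
        · simp only [f, h1, h2, if_true, if_false] at hzz
          exact absurd hzz (by decide)
        · rw [(hz z).resolve_left h1, (hz z').resolve_left h2]
    exact Subtype.ext (Subtype.ext (Units.ext hm))
  have hle := Nat.card_le_card_of_injective f hinj
  rw [hZ] at hle
  simp at hle

/-- a non-scalar member exists -/
theorem c6ps6_ns (R : Subgroup (GL (Fin 4) F)) (hZ : Nat.card (Subgroup.center R) = 4) (hR6 : Nat.card R = 2 ^ 6)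
    (hS3a : ∀ g ∈ R, (∀ h ∈ R, g * h = h * g) ↔ ∃ c : F, (g : Matrix (Fin 4) (Fin 4) F) = c • (1 : Matrix (Fin 4) (Fin 4) F)) :
    ∃ g ∈ R, ∀ c : F, (g : Matrix (Fin 4) (Fin 4) F) ≠ c • (1 : Matrix (Fin 4) (Fin 4) F) := by
  by_contra hcon
  push Not at hcon
  have htop : Subgroup.center R = ⊤ := by
    rw [eq_top_iff]
    intro r _
    rw [Subgroup.mem_center_iff]
    intro h
    apply Subtype.ext
    exact ((hS3a _ r.2).mpr (hcon _ r.2) h h.2).symm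
  rw [htop, Subgroup.card_top, hR6] at hZ
  norm_num at hZ

/-- the core of S6 -/
theorem c6ps6_core (R : Subgroup (GL (Fin 4) F))
    (hZ : Nat.card (Subgroup.center R) = 4) (hR6 : Nat.card R = 2 ^ 6)
    (hS3 : (∀ g ∈ R, (∀ h ∈ R, g * h = h * g) ↔ ∃ c : F, (g : Matrix (Fin 4) (Fin 4) F) = c • (1 : Matrix (Fin 4) (Fin 4) F)) ∧
      (∀ c : F, c ^ 4 = 1 → ∃ g ∈ R, (g : Matrix (Fin 4) (Fin 4) F) = c • (1 : Matrix (Fin 4) (Fin 4) F)) ∧
      (∀ g ∈ R, ∀ c : F, (g : Matrix (Fin 4) (Fin 4) F) = c • (1 : Matrix (Fin 4) (Fin 4) F) → c ^ 4 = 1))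
    (hS4 : (∀ g ∈ R, (g : Matrix (Fin 4) (Fin 4) F) * (g : Matrix (Fin 4) (Fin 4) F) = 1 ∨
        (g : Matrix (Fin 4) (Fin 4) F) * (g : Matrix (Fin 4) (Fin 4) F) = -1) ∧
      (∀ g ∈ R, ∀ h ∈ R, (g : Matrix (Fin 4) (Fin 4) F) * (h : Matrix (Fin 4) (Fin 4) F) = (h : Matrix (Fin 4) (Fin 4) F) * g ∨
        (g : Matrix (Fin 4) (Fin 4) F) * (h : Matrix (Fin 4) (Fin 4) F) = -((h : Matrix (Fin 4) (Fin 4) F) * g)))
    (hS5 : ∀ g : GL (Fin 4) F, g ∈ R → (∀ c : F, (g : Matrix (Fin 4) (Fin 4) F) ≠ c • (1 : Matrix (Fin 4) (Fin 4) F)) →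
      ∃ h ∈ R, (h : Matrix (Fin 4) (Fin 4) F) * (g : Matrix (Fin 4) (Fin 4) F) = -((g : Matrix (Fin 4) (Fin 4) F) * h)) :
    ∃ g1 ∈ R, ∃ h1 ∈ R, ∃ g2 ∈ R, ∃ h2 ∈ R,
      PauliRel (g1 : Matrix (Fin 4) (Fin 4) F) (h1 : Matrix (Fin 4) (Fin 4) F)
        (g2 : Matrix (Fin 4) (Fin 4) F) (h2 : Matrix (Fin 4) (Fin 4) F) := by
  obtain ⟨hS3a, hS3b, hS3c⟩ := hS3
  obtain ⟨hS4a, hS4b⟩ := hS4
  obtain ⟨ι, hι⟩ := c6ps6_iota R hZ hS3a hS3c
  have hmem : ∀ m : Matrix (Fin 4) (Fin 4) F, m ∈ matrixSet R ↔ ∃ g ∈ R, (g : Matrix (Fin 4) (Fin 4) F) = m := by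
    intro m
    exact Iff.rfl
  have hmain := c6ps6_abs (matrixSet R)
    (by
      intro a ha b hb
      obtain ⟨g, hg, rfl⟩ := (hmem a).mp ha
      obtain ⟨h, hh, rfl⟩ := (hmem b).mp hb
      exact (hmem _).mpr ⟨g * h, R.mul_mem hg hh, rfl⟩)
    ι hι
    (by
      have h4 : ι ^ 4 = 1 := by
        have : ι ^ 4 = (ι * ι) * (ι * ι) := by ring
        rw [this, hι]; ring
      obtain ⟨g, hg, hgι⟩ := hS3b ι h4
      exact (hmem _).mpr ⟨g, hg, hgι⟩)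
    (by
      intro a ha
      obtain ⟨g, hg, rfl⟩ := (hmem a).mp ha
      exact hS4a g hg)
    (by
      intro a ha b hb
      obtain ⟨g, hg, rfl⟩ := (hmem a).mp ha
      obtain ⟨h, hh, rfl⟩ := (hmem b).mp hb
      exact hS4b g hg h hh)
    (by
      intro a ha hns
      obtain ⟨g, hg, rfl⟩ := (hmem a).mp ha
      obtain ⟨h, hh, hhg⟩ := hS5 g hg hns
      exact ⟨_, (hmem _).mpr ⟨h, hh, rfl⟩, hhg⟩)
    (by
      obtain ⟨g, hg, hns⟩ := c6ps6_ns R hZ hR6 hS3a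
      exact ⟨_, (hmem _).mpr ⟨g, hg, rfl⟩, hns⟩)
    (by
      intro g1 hg1 h1 hh1 _ _ hgh
      obtain ⟨γ, hγ, rfl⟩ := (hmem g1).mp hg1
      obtain ⟨η, hη, rfl⟩ := (hmem h1).mp hh1
      obtain ⟨g, hg, h1', h2', h3'⟩ := c6ps6_count R hZ hR6 hS3a hS4b γ η hγ hη hgh
      exact ⟨_, (hmem _).mpr ⟨g, hg, rfl⟩, h1', h2', h3'⟩)
  obtain ⟨g1, hg1, h1, hh1, g2, hg2, h2, hh2, hrel⟩ := hmain
  obtain ⟨γ1, hγ1, rfl⟩ := (hmem g1).mp hg1
  obtain ⟨η1, hη1, rfl⟩ := (hmem h1).mp hh1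
  obtain ⟨γ2, hγ2, rfl⟩ := (hmem g2).mp hg2
  obtain ⟨η2, hη2, rfl⟩ := (hmem h2).mp hh2
  exact ⟨γ1, hγ1, η1, hη1, γ2, hγ2, η2, hη2, hrel⟩

end Cfsg.Agent.Lib.Helper10.C6P
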