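import Mathlib
import Cfsg.Prelude.Def_Characters
import Cfsg.Agent.Lib.helper2.BSWChar7
import Cfsg.Agent.Lib.helper2.BSWCharDefs

set_option autoImplicit false
set_option linter.unusedSectionVars false
open scoped ComplexConjugate

namespace Cfsg.Agent.Lib.helper2

open Cfsg.Agent.Lib.helper7 Cfsg.Agent.Lib.Helper25 Cfsg.Agent.Lib.Helper11

section std2

variable {G : Type*} [Group G] [Fintype G] {t s : G} {K : Subgroup G} [Fintype K]
  [Fintype (Cfsg.IrrCharacter G)] [Fintype (Cfsg.IrrCharacter K)]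
  [DecidableEq (Cfsg.IrrCharacter G)] [DecidableEq (Cfsg.IrrCharacter K)]
  {ν : Cfsg.IrrCharacter K}

/-- the arithmetic consequences in the standard configuration -/
structure BswAr (D : BswSD K ν) : Prop where
  f : bswDeg D.b = 2 * (Nat.card K : ℤ) + D.β
  card : (Nat.card G : ℤ) =
    2 * (Nat.card K : ℤ) * ((2 * (Nat.card K : ℤ) + D.β) * ((Nat.card K : ℤ) + D.β))
  α : D.α = -D.β
  d : ∀ l, bswDeg (D.a l) = 2 * ((Nat.card K : ℤ) + D.β)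
  γ : D.γ = D.β
  γ' : D.γ' = D.β
  y : bswDeg D.c = (Nat.card K : ℤ) + D.β
  y' : bswDeg D.c' = (Nat.card K : ℤ) + D.β

theorem BswSD.arith (D : BswSD K ν) (h : BswHyp t K s) (L : BswLoc t K s) (Nν : BswNu K ν)
    (l₀ : {μ : Cfsg.IrrCharacter K // irrConj μ ≠ μ}) (he : 2 ≤ Nat.card K) : BswAr D := by
  obtain ⟨n, hn⟩ := D.cong h L Nν
  have hN : Nat.card G = 2 * Nat.card K * Nat.card {a : G // orderOf a = 2} := by
    rw [← L.card_invol]; ring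
  obtain ⟨hf, hi, hα, hd₀⟩ := bsw_arith_f (Nat.card K) (Nat.card G)
    (Nat.card {a : G // orderOf a = 2}) he (bswDeg D.b) (bswDeg (D.a l₀)) n D.β D.α D.hβ D.hα
    (bswDeg_pos _) (bswDeg_pos _) (D.deg_l h l₀) (D.E_l h L Nν l₀) hn hN
  have hd : ∀ l, bswDeg (D.a l) = 2 * ((Nat.card K : ℤ) + D.β) := by
    intro l
    have h1 := D.deg_l h l
    rw [hα, hf] at h1
    rcases D.hβ with hb | hb <;> rw [hb] at h1 ⊢ <;> linarith
  have hcard : (Nat.card G : ℤ) =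
      2 * (Nat.card K : ℤ) * ((2 * (Nat.card K : ℤ) + D.β) * ((Nat.card K : ℤ) + D.β)) := by
    rw [← hi, hN]
    push_cast
    ring
  have hez : (2 : ℤ) ≤ (Nat.card K : ℤ) := by exact_mod_cast he
  have hb : D.γ * bswDeg D.c + D.γ' * bswDeg D.c' = 2 * D.β * ((Nat.card K : ℤ) + D.β) := by
    have h1 := D.deg_ν h
    rw [hf] at h1
    rcases D.hβ with hb | hb <;> rw [hb] at h1 ⊢ <;> linarith
  have hGC : (Nat.card G : ℂ) ≠ 0 := by exact_mod_cast Nat.card_pos.ne'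
  have hE : ((Nat.card K : ℂ) + (D.β : ℂ)) ≠ 0 := by
    have h1 : ((Nat.card K : ℂ) + (D.β : ℂ)) = (((Nat.card K : ℤ) + D.β : ℤ) : ℂ) := by
      push_cast; ring
    rw [h1]
    have : (0 : ℤ) < (Nat.card K : ℤ) + D.β := by
      rcases D.hβ with hb | hb <;> rw [hb] <;> linarith
    exact_mod_cast this.ne'
  have hq : (D.γ : ℂ) / (bswDeg D.c : ℂ) + (D.γ' : ℂ) / (bswDeg D.c' : ℂ) =
      2 * (D.β : ℂ) / ((Nat.card K : ℂ) + (D.β : ℂ)) := by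
    have h1 := D.E_l h L Nν l₀
    have h2 := D.E_ν h L Nν
    rw [← h2] at h1
    have h3 := mul_left_cancel₀ hGC h1
    have h4 : ((bswDeg (D.a l₀) : ℤ) : ℂ) = 2 * ((Nat.card K : ℂ) + (D.β : ℂ)) := by
      rw [hd l₀]; push_cast; ring
    have h5 : (D.α : ℂ) = - (D.β : ℂ) := by rw [hα]; push_cast; ring
    rw [h4, h5] at h3
    have h6 : 4 * (-(D.β : ℂ)) / (2 * ((Nat.card K : ℂ) + (D.β : ℂ))) =
        - (2 * (D.β : ℂ) / ((Nat.card K : ℂ) + (D.β : ℂ))) := by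
      field_simp
      ring
    rw [h6] at h3
    linear_combination h3
  obtain ⟨hγ, hγ', hy, hy'⟩ := bsw_arith_y (Nat.card K) he (bswDeg D.c) (bswDeg D.c') D.β D.γ D.γ'
    D.hβ D.hγ D.hγ' (bswDeg_pos _) (bswDeg_pos _) hb hq
  exact ⟨hf, hcard, hα, hd, hγ, hγ', hy, hy'⟩

/-- the number of nonreal irreducible characters of `K` -/
theorem BswNu.card_T (Nν : BswNu K ν) (h : BswHyp t K s) :
    (Fintype.card {μ : Cfsg.IrrCharacter K // irrConj μ ≠ μ} : ℂ) = (Nat.card K : ℂ) - 2 := by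
  have h1 := Nν.sum (fun _ => (1 : ℂ))
  simp only [Finset.sum_const, Finset.card_univ, nsmul_eq_mul, mul_one] at h1
  rw [bsw_ab_card (bsw_K_comm' h)] at h1
  linear_combination -h1

/-- the value at `x` of `(1 - l)^G` in the standard configuration, for `x` outside the conjugates
of `K` -/
theorem BswSD.out_l (D : BswSD K ν) (l : {μ : Cfsg.IrrCharacter K // irrConj μ ≠ μ}) {x : G}
    (hx : bswOut K x) :
    1 + (D.β : ℂ) * (D.b : G → ℂ) x + (D.α : ℂ) * (D.a l : G → ℂ) x = 0 := by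
  have h1 := bsw_expand_apply (bswPhi_genChar (K := K) l.1) x
  rw [bswPhi_out l.1 hx] at h1
  obtain ⟨hao, hab, -, -⟩ := D.haa l
  have h2 := bsw_sum_V3 (trivIrr G) D.b (D.a l) D.hbo hao hab 1 D.β D.α (bswC K l.1) (D.hΦ l)
    (fun χ => (χ : G → ℂ) x)
  have h3 : ∑ χ : Cfsg.IrrCharacter G, (bswCoeff (bswPhi K l.1) χ : ℂ) * (χ : G → ℂ) x =
      ∑ χ : Cfsg.IrrCharacter G, (χ : G → ℂ) x * (bswC K l.1 χ : ℂ) :=
    Finset.sum_congr rfl fun χ _ => by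
      rw [show bswC K l.1 = bswCoeff (bswPhi K l.1) from rfl]; ring
  rw [h3, h2, trivIrr_apply] at h1
  push_cast at h1
  linear_combination -h1

theorem BswSD.out_ν (D : BswSD K ν) {x : G} (hx : bswOut K x) :
    1 + (D.β : ℂ) * (D.b : G → ℂ) x - (D.γ : ℂ) * (D.c : G → ℂ) x -
      (D.γ' : ℂ) * (D.c' : G → ℂ) x = 0 := by
  have h1 := bsw_expand_apply (bswPhi_genChar (K := K) ν) x
  rw [bswPhi_out ν hx] at h1
  have h2 := bsw_sum_V4 (trivIrr G) D.b D.c D.c' D.hbo D.hco D.hc'o D.hcb D.hc'b D.hcc'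
    1 D.β (-D.γ) (-D.γ') (bswC K ν) D.hν (fun χ => (χ : G → ℂ) x)
  have h3 : ∑ χ : Cfsg.IrrCharacter G, (bswCoeff (bswPhi K ν) χ : ℂ) * (χ : G → ℂ) x =
      ∑ χ : Cfsg.IrrCharacter G, (χ : G → ℂ) x * (bswC K ν χ : ℂ) :=
    Finset.sum_congr rfl fun χ _ => by
      rw [show bswC K ν = bswCoeff (bswPhi K ν) from rfl]; ring
  rw [h3, h2, trivIrr_apply] at h1
  push_cast at h1
  linear_combination -h1

/-- the structure-constant sum in the standard configuration -/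
theorem BswSD.S_formula (D : BswSD K ν) (h : BswHyp t K s) (L : BswLoc t K s) (Nν : BswNu K ν)
    (x : G) :
    ∑ χ : Cfsg.IrrCharacter G, (χ : G → ℂ) t * (χ : G → ℂ) t * (χ : G → ℂ) x / (χ : G → ℂ) 1 =
      1 + (D.b : G → ℂ) x / (bswDeg D.b : ℂ) + (D.c : G → ℂ) x / (bswDeg D.c : ℂ) +
        (D.c' : G → ℂ) x / (bswDeg D.c' : ℂ) +
        2 * ∑ l : {μ : Cfsg.IrrCharacter K // irrConj μ ≠ μ},
          (D.a l : G → ℂ) x / (bswDeg (D.a l) : ℂ) := by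
  set τ : K := bswTau h with hτ
  set F : Cfsg.IrrCharacter G → ℂ := fun χ => (χ : G → ℂ) t * (χ : G → ℂ) x / (χ : G → ℂ) 1
    with hF
  set W : Cfsg.IrrCharacter K → ℂ := fun μ => ∑ χ : Cfsg.IrrCharacter G, F χ * (bswC K μ χ : ℂ)
    with hW
  -- step 1: expand one factor
  have h1 : ∑ χ : Cfsg.IrrCharacter G,
      (χ : G → ℂ) t * (χ : G → ℂ) t * (χ : G → ℂ) x / (χ : G → ℂ) 1 =
      - ∑ μ : Cfsg.IrrCharacter K, (μ : K → ℂ) τ * W μ := by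
    have h2 : ∀ χ : Cfsg.IrrCharacter G,
        (χ : G → ℂ) t * (χ : G → ℂ) t * (χ : G → ℂ) x / (χ : G → ℂ) 1 =
        - ∑ μ : Cfsg.IrrCharacter K, (μ : K → ℂ) τ * (F χ * (bswC K μ χ : ℂ)) := by
      intro χ
      have h3 := bsw_restrict_formula h χ τ (bswTau_ne_one h)
      change (χ : G → ℂ) t = _ at h3
      have h4 : (χ : G → ℂ) t * (χ : G → ℂ) t * (χ : G → ℂ) x / (χ : G → ℂ) 1 =
          (χ : G → ℂ) t * F χ := by
        rw [hF]; ring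
      rw [h4]
      nth_rewrite 1 [h3]
      rw [neg_mul, Finset.sum_mul]
      congr 1
      exact Finset.sum_congr rfl fun μ _ => by ring
    rw [Finset.sum_congr rfl fun χ _ => h2 χ, Finset.sum_neg_distrib, Finset.sum_comm]
    congr 1
    refine Finset.sum_congr rfl fun μ _ => ?_
    rw [hW, Finset.mul_sum]
  -- step 2: the values of W
  have hFo : F (trivIrr G) = 1 := by
    rw [hF]; simp only [trivIrr_apply]; norm_num
  have hFb : F D.b = (D.β : ℂ) * (D.b : G → ℂ) x / (bswDeg D.b : ℂ) := by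
    rw [hF]; simp only; rw [D.t_b h Nν, bswDeg_spec]
  have hFc : F D.c = (D.γ : ℂ) * (ν : K → ℂ) τ * (D.c : G → ℂ) x / (bswDeg D.c : ℂ) := by
    rw [hF]; simp only; rw [D.t_c h Nν, bswDeg_spec]
  have hFc' : F D.c' = (D.γ' : ℂ) * (ν : K → ℂ) τ * (D.c' : G → ℂ) x / (bswDeg D.c' : ℂ) := by
    rw [hF]; simp only; rw [D.t_c' h Nν, bswDeg_spec]
  have hFa : ∀ l : {μ : Cfsg.IrrCharacter K // irrConj μ ≠ μ}, F (D.a l) =
      -2 * (D.α : ℂ) * (l.1 : K → ℂ) τ * (D.a l : G → ℂ) x / (bswDeg (D.a l) : ℂ) := by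
    intro l
    rw [hF]; simp only; rw [D.t_a h L Nν l, bswDeg_spec]
  have hWt : W (trivIrr K) = 0 := by
    rw [hW]; simp only [bswC_triv h]; simp
  have hWν : W ν = 1 + (D.β : ℂ) * F D.b - (D.γ : ℂ) * F D.c - (D.γ' : ℂ) * F D.c' := by
    rw [hW]; simp only
    rw [bsw_sum_V4 (trivIrr G) D.b D.c D.c' D.hbo D.hco D.hc'o D.hcb D.hc'b D.hcc'
      1 D.β (-D.γ) (-D.γ') (bswC K ν) D.hν F, hFo]
    push_cast
    ring
  have hWl : ∀ l : {μ : Cfsg.IrrCharacter K // irrConj μ ≠ μ}, W l.1 =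
      1 + (D.β : ℂ) * F D.b + (D.α : ℂ) * F (D.a l) := by
    intro l
    obtain ⟨hao, hab, -, -⟩ := D.haa l
    rw [hW]; simp only
    rw [bsw_sum_V3 (trivIrr G) D.b (D.a l) D.hbo hao hab 1 D.β D.α (bswC K l.1) (D.hΦ l) F, hFo]
    push_cast
    ring
  have hβ2 := bsw_sign_sq D.hβ
  have hα2 := bsw_sign_sq D.hα
  have hγ2 := bsw_sign_sq D.hγ
  have hγ'2 := bsw_sign_sq D.hγ'
  have hν2 := bsw_mu_tau_sq h ν
  rw [h1, Nν.sum, hWt, hWν, hFb, hFc, hFc']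
  have hsum : ∑ l : {μ : Cfsg.IrrCharacter K // irrConj μ ≠ μ}, (l.1 : K → ℂ) τ * W l.1 =
      (1 + (D.b : G → ℂ) x / (bswDeg D.b : ℂ)) *
        ∑ l : {μ : Cfsg.IrrCharacter K // irrConj μ ≠ μ}, (l.1 : K → ℂ) τ -
      2 * ∑ l : {μ : Cfsg.IrrCharacter K // irrConj μ ≠ μ},
          (D.a l : G → ℂ) x / (bswDeg (D.a l) : ℂ) := by
    rw [Finset.mul_sum, Finset.mul_sum, ← Finset.sum_sub_distrib]
    refine Finset.sum_congr rfl fun l _ => ?_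
    rw [hWl l, hFb, hFa l]
    have hl2 := bsw_mu_tau_sq h l.1
    have e1 : (D.β : ℂ) * ((D.β : ℂ) * (D.b : G → ℂ) x / (bswDeg D.b : ℂ)) =
        (D.b : G → ℂ) x / (bswDeg D.b : ℂ) := by
      rw [← mul_div_assoc, ← mul_assoc, hβ2, one_mul]
    have e2 : (l.1 : K → ℂ) τ * ((D.α : ℂ) * (-2 * (D.α : ℂ) * (l.1 : K → ℂ) τ *
        (D.a l : G → ℂ) x / (bswDeg (D.a l) : ℂ))) =
        -2 * ((D.a l : G → ℂ) x / (bswDeg (D.a l) : ℂ)) := by
      have : (l.1 : K → ℂ) τ * ((D.α : ℂ) * (-2 * (D.α : ℂ) * (l.1 : K → ℂ) τ *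
          (D.a l : G → ℂ) x / (bswDeg (D.a l) : ℂ))) =
          -2 * (((D.α : ℂ) * (D.α : ℂ)) * ((l.1 : K → ℂ) τ * (l.1 : K → ℂ) τ)) *
            ((D.a l : G → ℂ) x / (bswDeg (D.a l) : ℂ)) := by ring
      rw [this, hα2, hl2]
      ring
    rw [e1]
    linear_combination e2
  rw [hsum]
  have hsv := Nν.sum_val h (bswTau_ne_one h)
  rw [← hτ] at hsv
  have e1 : (D.β : ℂ) * ((D.β : ℂ) * (D.b : G → ℂ) x / (bswDeg D.b : ℂ)) =
      (D.b : G → ℂ) x / (bswDeg D.b : ℂ) := by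
    rw [← mul_div_assoc, ← mul_assoc, hβ2, one_mul]
  have e3 : (ν : K → ℂ) τ * ((D.γ : ℂ) * ((D.γ : ℂ) * (ν : K → ℂ) τ * (D.c : G → ℂ) x /
      (bswDeg D.c : ℂ))) = (D.c : G → ℂ) x / (bswDeg D.c : ℂ) := by
    have : (ν : K → ℂ) τ * ((D.γ : ℂ) * ((D.γ : ℂ) * (ν : K → ℂ) τ * (D.c : G → ℂ) x /
        (bswDeg D.c : ℂ))) = ((D.γ : ℂ) * (D.γ : ℂ)) * ((ν : K → ℂ) τ * (ν : K → ℂ) τ) *
          ((D.c : G → ℂ) x / (bswDeg D.c : ℂ)) := by ring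
    rw [this, hγ2, hν2]; ring
  have e4 : (ν : K → ℂ) τ * ((D.γ' : ℂ) * ((D.γ' : ℂ) * (ν : K → ℂ) τ * (D.c' : G → ℂ) x /
      (bswDeg D.c' : ℂ))) = (D.c' : G → ℂ) x / (bswDeg D.c' : ℂ) := by
    have : (ν : K → ℂ) τ * ((D.γ' : ℂ) * ((D.γ' : ℂ) * (ν : K → ℂ) τ * (D.c' : G → ℂ) x /
        (bswDeg D.c' : ℂ))) = ((D.γ' : ℂ) * (D.γ' : ℂ)) * ((ν : K → ℂ) τ * (ν : K → ℂ) τ) *
          ((D.c' : G → ℂ) x / (bswDeg D.c' : ℂ)) := by ring
    rw [this, hγ'2, hν2]; ring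
  rw [e1]
  linear_combination e3 + e4 - (1 + (D.b : G → ℂ) x / (bswDeg D.b : ℂ)) * hsv

end std2

end Cfsg.Agent.Lib.helper2
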