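import Mathlib
import Cfsg.Prelude.Def_Characters
import Cfsg.Agent.Lib.helper2.BSWChar8

set_option autoImplicit false
set_option linter.unusedSectionVars false
open scoped ComplexConjugate

namespace Cfsg.Agent.Lib.helper2

open Cfsg.Agent.Lib.helper7 Cfsg.Agent.Lib.Helper25 Cfsg.Agent.Lib.Helper11

theorem bsw_alg_plus (e X : ℂ) (h1 : e + 1 ≠ 0) (h2 : 2 * e + 1 ≠ 0) :
    2 * e * ((2 * e + 1) * (e + 1)) * (1 + X / (2 * e + 1) + (e - 1) * (1 + X) / (e + 1)) =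
      (2 * e) ^ 2 * ((2 * e + 1) + e * X) := by
  field_simp
  ring

theorem bsw_alg_minus (e X : ℂ) (h1 : e - 1 ≠ 0) (h2 : 2 * e - 1 ≠ 0) :
    2 * e * ((2 * e - 1) * (e - 1)) * (1 + X / (2 * e - 1) + (e - 1) * (-1 + X) / (e - 1)) =
      (2 * e) ^ 2 * ((e - 1) * X) := by
  field_simp
  ring

section std3

variable {G : Type*} [Group G] [Fintype G] {t s : G} {K : Subgroup G} [Fintype K]
  [Fintype (Cfsg.IrrCharacter G)] [Fintype (Cfsg.IrrCharacter K)]
  [DecidableEq (Cfsg.IrrCharacter G)] [DecidableEq (Cfsg.IrrCharacter K)]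
  {ν : Cfsg.IrrCharacter K}

/-- the structure-constant sum outside the conjugates of `K` -/
theorem BswSD.S_out (D : BswSD K ν) (h : BswHyp t K s) (L : BswLoc t K s) (Nν : BswNu K ν)
    (A : BswAr D) (he : 2 ≤ Nat.card K) {x : G} (hx : bswOut K x) :
    ∑ χ : Cfsg.IrrCharacter G, (χ : G → ℂ) t * (χ : G → ℂ) t * (χ : G → ℂ) x / (χ : G → ℂ) 1 =
      1 + (D.b : G → ℂ) x / (2 * (Nat.card K : ℂ) + (D.β : ℂ)) +
        ((Nat.card K : ℂ) - 1) * ((D.β : ℂ) + (D.b : G → ℂ) x) /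
          ((Nat.card K : ℂ) + (D.β : ℂ)) := by
  rw [D.S_formula h L Nν x]
  have hβ2 := bsw_sign_sq D.hβ
  have hez : (2 : ℤ) ≤ (Nat.card K : ℤ) := by exact_mod_cast he
  have hE : ((Nat.card K : ℂ) + (D.β : ℂ)) ≠ 0 := by
    have h1 : ((Nat.card K : ℂ) + (D.β : ℂ)) = (((Nat.card K : ℤ) + D.β : ℤ) : ℂ) := by
      push_cast; ring
    rw [h1]
    have : (0 : ℤ) < (Nat.card K : ℤ) + D.β := by
      rcases D.hβ with hb | hb <;> rw [hb] <;> linarith
    exact_mod_cast this.ne'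
  have hf : ((bswDeg D.b : ℤ) : ℂ) = 2 * (Nat.card K : ℂ) + (D.β : ℂ) := by
    rw [A.f]; push_cast; ring
  have hy : ((bswDeg D.c : ℤ) : ℂ) = (Nat.card K : ℂ) + (D.β : ℂ) := by
    rw [A.y]; push_cast; ring
  have hy' : ((bswDeg D.c' : ℤ) : ℂ) = (Nat.card K : ℂ) + (D.β : ℂ) := by
    rw [A.y']; push_cast; ring
  have hd : ∀ l, ((bswDeg (D.a l) : ℤ) : ℂ) = 2 * ((Nat.card K : ℂ) + (D.β : ℂ)) := by
    intro l
    rw [A.d l]; push_cast; ring
  have hα : (D.α : ℂ) = - (D.β : ℂ) := by rw [A.α]; push_cast; ring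
  have hγ : (D.γ : ℂ) = (D.β : ℂ) := by rw [A.γ]
  have hγ' : (D.γ' : ℂ) = (D.β : ℂ) := by rw [A.γ']
  have hal : ∀ l, (D.a l : G → ℂ) x = (D.β : ℂ) + (D.b : G → ℂ) x := by
    intro l
    have h1 := D.out_l l hx
    rw [hα] at h1
    linear_combination (-(D.β : ℂ)) * h1 + ((D.b : G → ℂ) x - (D.a l : G → ℂ) x) * hβ2
  have hcc : (D.c : G → ℂ) x + (D.c' : G → ℂ) x = (D.β : ℂ) + (D.b : G → ℂ) x := by
    have h1 := D.out_ν hx
    rw [hγ, hγ'] at h1
    linear_combination (-(D.β : ℂ)) * h1 - ((D.c : G → ℂ) x + (D.c' : G → ℂ) x - (D.b : G → ℂ) x) * hβ2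
  have hsum : ∑ l : {μ : Cfsg.IrrCharacter K // irrConj μ ≠ μ},
      (D.a l : G → ℂ) x / (bswDeg (D.a l) : ℂ) =
      ((Nat.card K : ℂ) - 2) * (((D.β : ℂ) + (D.b : G → ℂ) x) /
        (2 * ((Nat.card K : ℂ) + (D.β : ℂ)))) := by
    rw [Finset.sum_congr rfl fun l _ => by rw [hal l, hd l], Finset.sum_const, Finset.card_univ,
      nsmul_eq_mul, Nν.card_T h]
  rw [hsum, hf, hy, hy']
  have : (D.c : G → ℂ) x / ((Nat.card K : ℂ) + (D.β : ℂ)) +
      (D.c' : G → ℂ) x / ((Nat.card K : ℂ) + (D.β : ℂ)) =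
      ((D.β : ℂ) + (D.b : G → ℂ) x) / ((Nat.card K : ℂ) + (D.β : ℂ)) := by
    rw [← add_div, hcc]
  have e5 : ((D.β : ℂ) + (D.b : G → ℂ) x) / (2 * ((Nat.card K : ℂ) + (D.β : ℂ))) =
      ((D.β : ℂ) + (D.b : G → ℂ) x) / ((Nat.card K : ℂ) + (D.β : ℂ)) / 2 := by
    field_simp
  rw [e5]
  linear_combination this

/-- the case `β = 1`: the character data for `q = 2e + 1` -/
theorem BswSD.plus (D : BswSD K ν) (h : BswHyp t K s) (L : BswLoc t K s) (Nν : BswNu K ν)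
    (A : BswAr D) (he : 2 ≤ Nat.card K) (hβ : D.β = 1) : BswCharPlus K (D.b : G → ℂ) := by
  have hez : (2 : ℤ) ≤ (Nat.card K : ℤ) := by exact_mod_cast he
  refine ⟨D.b.2, ?_, ?_, ?_, ?_⟩
  · rw [← bswDeg_spec, A.f, hβ]
    push_cast
    ring
  · have h1 := A.card
    rw [hβ] at h1
    have h2 : (Nat.card G : ℤ) =
        ((2 * Nat.card K * (Nat.card K + 1) * (2 * Nat.card K + 1) : ℕ) : ℤ) := by
      rw [h1]; push_cast; ring
    exact_mod_cast h2
  · intro x hxK hx1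
    have := D.val_b h Nν ⟨x, hxK⟩ (fun h' => hx1 (congrArg Subtype.val h'))
    rw [hβ] at this
    simpa using this
  · intro x hx
    have h1 := bsw_beta_formula t h.ht h.hconj x
    rw [D.S_out h L Nν A he hx, L.card_H, hβ] at h1
    have hN : (Nat.card G : ℂ) =
        2 * (Nat.card K : ℂ) * ((2 * (Nat.card K : ℂ) + 1) * ((Nat.card K : ℂ) + 1)) := by
      have h2 := A.card
      rw [hβ] at h2
      have : ((Nat.card G : ℤ) : ℂ) = ((2 * (Nat.card K : ℤ) *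
          ((2 * (Nat.card K : ℤ) + 1) * ((Nat.card K : ℤ) + 1)) : ℤ) : ℂ) := by rw [h2]
      push_cast at this
      exact this
    rw [hN] at h1
    have hK0 : (Nat.card K : ℂ) ≠ 0 := by exact_mod_cast Nat.card_pos.ne'
    have hK1 : (Nat.card K : ℂ) + 1 ≠ 0 := by
      have : ((Nat.card K : ℂ) + 1) = (((Nat.card K : ℤ) + 1 : ℤ) : ℂ) := by push_cast; ring
      rw [this]
      have : (0 : ℤ) < (Nat.card K : ℤ) + 1 := by linarith
      exact_mod_cast this.ne'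
    have hK2 : 2 * (Nat.card K : ℂ) + 1 ≠ 0 := by
      have : (2 * (Nat.card K : ℂ) + 1) = ((2 * (Nat.card K : ℤ) + 1 : ℤ) : ℂ) := by
        push_cast; ring
      rw [this]
      have : (0 : ℤ) < 2 * (Nat.card K : ℤ) + 1 := by linarith
      exact_mod_cast this.ne'
    push_cast at h1 ⊢
    have h4 : ((2 * (Nat.card K : ℂ)) ^ 2) ≠ 0 := pow_ne_zero _ (mul_ne_zero two_ne_zero hK0)
    have h5 := bsw_alg_plus (Nat.card K : ℂ) ((D.b : G → ℂ) x) hK1 hK2
    apply mul_left_cancel₀ h4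
    linear_combination h1 + h5

/-- the case `β = -1`: the character data for `q = 2e - 1` -/
theorem BswSD.minus (D : BswSD K ν) (h : BswHyp t K s) (L : BswLoc t K s) (Nν : BswNu K ν)
    (A : BswAr D) (he : 2 ≤ Nat.card K) (hβ : D.β = -1) : BswCharMinus K (D.b : G → ℂ) := by
  have hez : (2 : ℤ) ≤ (Nat.card K : ℤ) := by exact_mod_cast he
  have he1 : 1 ≤ Nat.card K := by omega
  have he2 : 1 ≤ 2 * Nat.card K := by omega
  refine ⟨D.b.2, ?_, ?_, ?_, ?_⟩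
  · rw [← bswDeg_spec, A.f, hβ]
    push_cast [Nat.cast_sub he2]
    ring
  · have h1 := A.card
    rw [hβ] at h1
    have h2 : (Nat.card G : ℤ) =
        ((2 * Nat.card K * (Nat.card K - 1) * (2 * Nat.card K - 1) : ℕ) : ℤ) := by
      rw [h1]; push_cast [Nat.cast_sub he1, Nat.cast_sub he2]; ring
    exact_mod_cast h2
  · intro x hxK hx1
    have := D.val_b h Nν ⟨x, hxK⟩ (fun h' => hx1 (congrArg Subtype.val h'))
    rw [hβ] at this
    simpa using this
  · intro x hx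
    have h1 := bsw_beta_formula t h.ht h.hconj x
    rw [D.S_out h L Nν A he hx, L.card_H, hβ] at h1
    have hN : (Nat.card G : ℂ) =
        2 * (Nat.card K : ℂ) * ((2 * (Nat.card K : ℂ) - 1) * ((Nat.card K : ℂ) - 1)) := by
      have h2 := A.card
      rw [hβ] at h2
      have : ((Nat.card G : ℤ) : ℂ) = ((2 * (Nat.card K : ℤ) *
          ((2 * (Nat.card K : ℤ) + -1) * ((Nat.card K : ℤ) + -1)) : ℤ) : ℂ) := by rw [h2]
      push_cast at this
      rw [this]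
      ring
    rw [hN] at h1
    have hK0 : (Nat.card K : ℂ) ≠ 0 := by exact_mod_cast Nat.card_pos.ne'
    have hK1 : (Nat.card K : ℂ) - 1 ≠ 0 := by
      have : ((Nat.card K : ℂ) - 1) = (((Nat.card K : ℤ) - 1 : ℤ) : ℂ) := by push_cast; ring
      rw [this]
      have : (0 : ℤ) < (Nat.card K : ℤ) - 1 := by linarith
      exact_mod_cast this.ne'
    have hK2 : 2 * (Nat.card K : ℂ) - 1 ≠ 0 := by
      have : (2 * (Nat.card K : ℂ) - 1) = ((2 * (Nat.card K : ℤ) - 1 : ℤ) : ℂ) := by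
        push_cast; ring
      rw [this]
      have : (0 : ℤ) < 2 * (Nat.card K : ℤ) - 1 := by linarith
      exact_mod_cast this.ne'
    push_cast [Nat.cast_sub he1] at h1 ⊢
    have h4 : ((2 * (Nat.card K : ℂ)) ^ 2) ≠ 0 := pow_ne_zero _ (mul_ne_zero two_ne_zero hK0)
    have h5 := bsw_alg_minus (Nat.card K : ℂ) ((D.b : G → ℂ) x) hK1 hK2
    apply mul_left_cancel₀ h4
    linear_combination h1 + h5

end std3

end Cfsg.Agent.Lib.helper2
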