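import Mathlib
import Cfsg.Prelude.Def_Characters
import Cfsg.Agent.Lib.helper2.BSWChar9

set_option autoImplicit false
set_option linter.unusedSectionVars false
open scoped ComplexConjugate

namespace Cfsg.Agent.Lib.helper2

open Cfsg.Agent.Lib.helper7 Cfsg.Agent.Lib.Helper25 Cfsg.Agent.Lib.Helper11

section main

variable {G : Type*} [Group G] [Fintype G] {t s : G} {K : Subgroup G} [Fintype K]
  [Fintype (Cfsg.IrrCharacter G)] [Fintype (Cfsg.IrrCharacter K)]
  [DecidableEq (Cfsg.IrrCharacter G)] [DecidableEq (Cfsg.IrrCharacter K)]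

/-- the character theory of the Brauer-Suzuki-Wall set-up for `|K| > 2`, modulo the exclusion of
the exceptional lattice configuration -/
theorem bsw_char_of_not_ghost (h : BswHyp t K s) (L : BswLoc t K s) (he : 3 ≤ Nat.card K)
    (hghost : ∀ {ν : Cfsg.IrrCharacter K}, BswNu K ν →
      BswGhost (trivIrr G) (fun l : {μ : Cfsg.IrrCharacter K // irrConj μ ≠ μ} => bswC K l.1)
        (fun χ => - bswC K ν χ) → False) :
    (∃ X : G → ℂ, BswCharPlus K X) ∨ (∃ X : G → ℂ, BswCharMinus K X) := by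
  obtain ⟨ν, hν1, hνr, huniq⟩ := bsw_exists_nu h L
  have Nν : BswNu K ν := ⟨hν1, hνr, huniq⟩
  have hne : Nonempty {μ : Cfsg.IrrCharacter K // irrConj μ ≠ μ} := by
    by_contra hcon
    rw [not_nonempty_iff] at hcon
    have h1 := Nν.card_T h
    rw [Fintype.card_eq_zero] at h1
    have h2 : ((Nat.card K : ℕ) : ℂ) = ((2 : ℕ) : ℂ) := by
      push_cast at h1 ⊢
      linear_combination -h1
    have h3 : Nat.card K = 2 := by exact_mod_cast h2
    omega
  haveI := hne
  have he2 : 2 ≤ Nat.card K := by omega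
  rcases bsw_config h L ν hν1 hνr with hstd | hgh
  · obtain ⟨b, c, c', a, β, α, γ, γ', hβ, hα, hγ, hγ', hbo, hco, hc'o, hcb, hc'b, hcc', haa, ha,
      hΦ, hΘ⟩ := hstd
    let D : BswSD K ν := ⟨b, c, c', a, β, α, γ, γ', hβ, hα, hγ, hγ', hbo, hco, hc'o, hcb, hc'b,
      hcc', haa, ha, hΦ, hΘ⟩
    have A := D.arith h L Nν (Classical.arbitrary _) he2
    rcases D.hβ with hb | hb
    · exact Or.inl ⟨_, D.plus h L Nν A he2 hb⟩
    · exact Or.inr ⟨_, D.minus h L Nν A he2 hb⟩
  · exact (hghost Nν hgh).elim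

end main

end Cfsg.Agent.Lib.helper2
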