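import Mathlib
import Cfsg.Prelude.Def_Sporadic_a
import Cfsg.Agent.Lib.helper3.Steiner

set_option autoImplicit false

namespace Cfsg.Agent.Lib.helper2

open Cfsg Cfsg.Agent.Lib.helper3

variable {α : Type*} [Fintype α] [DecidableEq α] {B : Set (Finset α)}

theorem stn22_card (hα : Fintype.card α = 22) (hB : IsSteinerSystem 3 6 B) :
    (blocks B).card = 77 := by
  have h := steiner_block_count hB
  rw [hα, ncard_eq_card_blocks] at h
  have h1 : Nat.choose 6 3 = 20 := by decide
  have h2 : Nat.choose 22 3 = 1540 := by decide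
  rw [h1, h2] at h
  omega

theorem stn22_through_one (hα : Fintype.card α = 22) (hB : IsSteinerSystem 3 6 B) (p : α) :
    ((blocks B).filter (fun b => p ∈ b)).card = 21 := by
  have h := steiner_count_through hB {p} (by simp)
  rw [hα] at h
  simp only [Finset.card_singleton, Finset.singleton_subset_iff] at h
  have h1 : Nat.choose (6 - 1) (3 - 1) = 10 := by decide
  have h2 : Nat.choose (22 - 1) (3 - 1) = 210 := by decide
  rw [h1, h2] at h
  omega

theorem stn22_through_two (hα : Fintype.card α = 22) (hB : IsSteinerSystem 3 6 B) {p q : α}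
    (hpq : p ≠ q) :
    ((blocks B).filter (fun b => p ∈ b ∧ q ∈ b)).card = 5 := by
  have h := steiner_count_through hB {p, q} (by rw [Finset.card_pair hpq]; omega)
  rw [hα, Finset.card_pair hpq] at h
  have h1 : Nat.choose (6 - 2) (3 - 2) = 4 := by decide
  have h2 : Nat.choose (22 - 2) (3 - 2) = 20 := by decide
  rw [h1, h2] at h
  have h3 : (blocks B).filter (fun b => p ∈ b ∧ q ∈ b) = (blocks B).filter (fun b => {p, q} ⊆ b) := by
    ext b
    simp [Finset.insert_subset_iff]
  rw [h3]
  omega


theorem stn22_interCounts (hα : Fintype.card α = 22) (hB : IsSteinerSystem 3 6 B) {b : Finset α}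
    (hb : b ∈ B) : interCount B b 0 = 16 ∧ interCount B b 1 = 0 ∧ interCount B b 2 = 60 := by
  have e0 := steiner_inter_eq hB hb 0 (by omega)
  have e1 := steiner_inter_eq hB hb 1 (by omega)
  have e2 := steiner_inter_eq hB hb 2 (by omega)
  have n3 := interCount_eq_zero hB hb (i := 3) (by omega) (by omega)
  have n4 := interCount_eq_zero hB hb (i := 4) (by omega) (by omega)
  have n5 := interCount_eq_zero hB hb (i := 5) (by omega) (by omega)
  have n6 := interCount_self hB hb (by omega)
  rw [hα] at e0 e1 e2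
  simp only [Finset.sum_range_succ, Finset.sum_range_zero, n3, n4, n5, n6] at e0 e1 e2
  norm_num [Nat.choose] at e0 e1 e2
  omega

theorem stn22_inter (hα : Fintype.card α = 22) (hB : IsSteinerSystem 3 6 B) {b c : Finset α}
    (hb : b ∈ B) (hc : c ∈ B) (hbc : b ≠ c) : (b ∩ c).card = 0 ∨ (b ∩ c).card = 2 := by
  have hpos := interCount_pos (b := b) hB hc
  have hle : (b ∩ c).card ≤ 6 := by
    rw [← steiner_card hB hb]; exact Finset.card_le_card Finset.inter_subset_left
  obtain ⟨h0, h1, h2⟩ := stn22_interCounts hα hB hb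
  by_contra hcon
  push Not at hcon
  have h3 : 3 ≤ (b ∩ c).card ∨ (b ∩ c).card = 1 := by omega
  rcases h3 with h3 | h3
  · exact hbc (steiner_eq_of_le_inter hB hb hc h3).symm
  · rw [h3, h1] at hpos; exact absurd hpos (by omega)

theorem stn22_disjoint_count (hα : Fintype.card α = 22) (hB : IsSteinerSystem 3 6 B) {b : Finset α}
    (hb : b ∈ B) : ((blocks B).filter (fun c => Disjoint b c)).card = 16 := by
  have h := (stn22_interCounts hα hB hb).1
  unfold interCount at h
  rw [← h]
  congr 1
  ext c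
  simp only [Finset.mem_filter, Finset.card_eq_zero, Finset.disjoint_iff_inter_eq_empty]


theorem stn22_inter_card_sum (b d : Finset α) :
    ((b ∩ d).card : ℤ) = ∑ p ∈ b, if p ∈ d then (1 : ℤ) else 0 := by
  rw [← Finset.filter_mem_eq_inter, Finset.card_filter]
  push_cast
  rfl

theorem stn22_sum_inter (S : Finset (Finset α)) (b : Finset α) :
    ∑ d ∈ S, ((b ∩ d).card : ℤ) = ∑ p ∈ b, ((S.filter (fun d => p ∈ d)).card : ℤ) := by
  simp_rw [stn22_inter_card_sum]
  rw [Finset.sum_comm]
  apply Finset.sum_congr rfl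
  intro p _
  rw [Finset.card_filter]
  push_cast
  rfl

theorem stn22_sum_inter_mul (S : Finset (Finset α)) (b c : Finset α) :
    ∑ d ∈ S, ((b ∩ d).card : ℤ) * ((c ∩ d).card : ℤ) =
      ∑ p ∈ b, ∑ q ∈ c, ((S.filter (fun d => p ∈ d ∧ q ∈ d)).card : ℤ) := by
  simp_rw [stn22_inter_card_sum, Finset.sum_mul_sum]
  rw [Finset.sum_comm]
  apply Finset.sum_congr rfl
  intro p _
  rw [Finset.sum_comm]
  apply Finset.sum_congr rfl
  intro q _
  rw [Finset.card_filter]
  push_cast
  apply Finset.sum_congr rfl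
  intro d _
  by_cases h1 : p ∈ d <;> by_cases h2 : q ∈ d <;> simp [h1, h2]

theorem stn22_sum_f (hα : Fintype.card α = 22) (hB : IsSteinerSystem 3 6 B) {b : Finset α}
    (hb : b ∈ B) : ∑ d ∈ blocks B, ((b ∩ d).card : ℤ) = 126 := by
  rw [stn22_sum_inter]
  simp_rw [stn22_through_one hα hB]
  rw [Finset.sum_const, steiner_card hB hb]
  norm_num

theorem stn22_sum_fg (hα : Fintype.card α = 22) (hB : IsSteinerSystem 3 6 B) {b c : Finset α}
    (hb : b ∈ B) (hc : c ∈ B) :
    ∑ d ∈ blocks B, ((b ∩ d).card : ℤ) * ((c ∩ d).card : ℤ) = 180 + 16 * ((b ∩ c).card : ℤ) := by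
  rw [stn22_sum_inter_mul]
  have h1 : ∀ p ∈ b, ∀ q ∈ c, (((blocks B).filter (fun d => p ∈ d ∧ q ∈ d)).card : ℤ) =
      5 + (if p = q then (16 : ℤ) else 0) := by
    intro p _ q _
    by_cases hpq : p = q
    · subst hpq
      simp only [and_self, if_true]
      rw [stn22_through_one hα hB]; norm_num
    · rw [stn22_through_two hα hB hpq, if_neg hpq]; norm_num
  rw [Finset.sum_congr rfl (fun p hp => Finset.sum_congr rfl (fun q hq => h1 p hp q hq))]
  simp_rw [Finset.sum_add_distrib, Finset.sum_const, steiner_card hB hb, steiner_card hB hc]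
  have h2 : ∑ p ∈ b, ∑ q ∈ c, (if p = q then (16 : ℤ) else 0) = 16 * ((b ∩ c).card : ℤ) := by
    simp_rw [Finset.sum_ite_eq]
    rw [← Finset.sum_filter, Finset.filter_mem_eq_inter, Finset.sum_const]
    simp [mul_comm]
  rw [h2]
  norm_num

theorem stn22_common_disjoint (hα : Fintype.card α = 22) (hB : IsSteinerSystem 3 6 B) {b c : Finset α}
    (hb : b ∈ B) (hc : c ∈ B) (hbc : b ≠ c) :
    ((blocks B).filter (fun d => Disjoint b d ∧ Disjoint c d)).card = 2 * (b ∩ c).card := by
  have hk := stn22_inter hα hB hb hc hbc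
  have hb6 := steiner_card hB hb
  have hc6 := steiner_card hB hc
  have hpt : ∀ d ∈ blocks B, (if Disjoint b d ∧ Disjoint c d then (4 : ℤ) else 0) =
      (4 - 2 * ((b ∩ d).card : ℤ) - 2 * ((c ∩ d).card : ℤ) +
          ((b ∩ d).card : ℤ) * ((c ∩ d).card : ℤ)) +
        (if d = b then 4 * (2 - ((b ∩ c).card : ℤ)) else 0) +
        (if d = c then 4 * (2 - ((b ∩ c).card : ℤ)) else 0) := by
    intro d hd
    rw [mem_blocks] at hd
    by_cases hdb : d = b
    · subst hdb
      have hdc : d ≠ c := hbc
      have hnd : ¬ Disjoint d d := by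
        rw [disjoint_self]; intro h; rw [Finset.bot_eq_empty] at h; rw [h] at hb6; simp at hb6
      rw [if_neg (fun h => hnd h.1), if_pos rfl, if_neg hdc, Finset.inter_self, hb6,
        Finset.inter_comm c d]
      push_cast; ring
    · by_cases hdc : d = c
      · subst hdc
        have hnd : ¬ Disjoint d d := by
          rw [disjoint_self]; intro h; rw [Finset.bot_eq_empty] at h; rw [h] at hc6; simp at hc6
        rw [if_neg (fun h => hnd h.2), if_neg hdb, if_pos rfl, Finset.inter_self, hc6]
        push_cast; ring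
      · rw [if_neg hdb, if_neg hdc]
        have h1 := stn22_inter hα hB hb hd (Ne.symm hdb)
        have h2 := stn22_inter hα hB hc hd (Ne.symm hdc)
        have e1 : Disjoint b d ↔ (b ∩ d).card = 0 := by
          rw [Finset.card_eq_zero, Finset.disjoint_iff_inter_eq_empty]
        have e2 : Disjoint c d ↔ (c ∩ d).card = 0 := by
          rw [Finset.card_eq_zero, Finset.disjoint_iff_inter_eq_empty]
        simp only [e1, e2]
        rcases h1 with h1 | h1 <;> rcases h2 with h2 | h2 <;> simp [h1, h2]
  have hsum := Finset.sum_congr rfl hpt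
  rw [Finset.sum_add_distrib, Finset.sum_add_distrib, Finset.sum_ite_eq', Finset.sum_ite_eq',
    if_pos (mem_blocks.2 hb), if_pos (mem_blocks.2 hc)] at hsum
  rw [Finset.sum_add_distrib, Finset.sum_sub_distrib, Finset.sum_sub_distrib,
    ← Finset.mul_sum, ← Finset.mul_sum, stn22_sum_f hα hB hb, stn22_sum_f hα hB hc,
    stn22_sum_fg hα hB hb hc, Finset.sum_const, stn22_card hα hB,
    ← Finset.sum_filter, Finset.sum_const] at hsum
  have : ((((blocks B).filter (fun d => Disjoint b d ∧ Disjoint c d)).card : ℕ) : ℤ) =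
      2 * ((b ∩ c).card : ℤ) := by
    simp only [nsmul_eq_mul] at hsum
    push_cast at hsum
    linarith
  exact_mod_cast this


theorem stn22_point_disjoint (hα : Fintype.card α = 22) (hB : IsSteinerSystem 3 6 B) {b : Finset α}
    (hb : b ∈ B) {p : α} (hp : p ∉ b) :
    ((blocks B).filter (fun c => p ∈ c ∧ Disjoint b c)).card = 6 := by
  have h1 := stn22_sum_inter ((blocks B).filter (fun d => p ∈ d)) b
  have h2 : ∀ q ∈ b, (((((blocks B).filter (fun d => p ∈ d)).filter (fun d => q ∈ d)).card : ℕ) : ℤ)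
      = 5 := by
    intro q hq
    have hpq : p ≠ q := fun h => hp (h ▸ hq)
    rw [Finset.filter_filter, stn22_through_two hα hB hpq]; norm_num
  rw [Finset.sum_congr rfl h2, Finset.sum_const, steiner_card hB hb] at h1
  have hpt : ∀ d ∈ (blocks B).filter (fun d => p ∈ d),
      ((b ∩ d).card : ℤ) = 2 - (if Disjoint b d then (2 : ℤ) else 0) := by
    intro d hd
    rw [Finset.mem_filter, mem_blocks] at hd
    have hne : b ≠ d := fun h => hp (h ▸ hd.2)
    have e1 : Disjoint b d ↔ (b ∩ d).card = 0 := by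
      rw [Finset.card_eq_zero, Finset.disjoint_iff_inter_eq_empty]
    simp only [e1]
    rcases stn22_inter hα hB hb hd.1 hne with h | h <;> simp [h]
  rw [Finset.sum_congr rfl hpt, Finset.sum_sub_distrib, Finset.sum_const,
    stn22_through_one hα hB, ← Finset.sum_filter, Finset.sum_const, Finset.filter_filter] at h1
  have : ((((blocks B).filter (fun c => p ∈ c ∧ Disjoint b c)).card : ℕ) : ℤ) = 6 := by
    simp only [nsmul_eq_mul] at h1
    push_cast at h1
    linarith
  exact_mod_cast this

theorem stn22_card_set (S : Set B) [Fintype S] (P : Finset α → Prop) [DecidablePred P]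
    (h : ∀ x : B, x ∈ S ↔ P x) : Fintype.card S = ((blocks B).filter P).card := by
  rw [← Nat.card_eq_fintype_card, Nat.card_coe_set_eq,
    ← Set.ncard_image_of_injective S Subtype.val_injective]
  have : (Subtype.val '' S : Set (Finset α)) = ↑((blocks B).filter P) := by
    ext c
    simp only [Set.mem_image, Finset.coe_filter, Set.mem_ofPred_eq, mem_blocks]
    constructor
    · rintro ⟨x, hx, rfl⟩
      exact ⟨x.2, (h x).1 hx⟩
    · rintro ⟨hc, hP⟩
      exact ⟨⟨c, hc⟩, (h ⟨c, hc⟩).2 hP, rfl⟩
  rw [this, Set.ncard_coe_finset]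

theorem stn22_card_type [Fintype B] (hα : Fintype.card α = 22) (hB : IsSteinerSystem 3 6 B) :
    Fintype.card B = 77 := by
  rw [← Nat.card_eq_fintype_card, Nat.card_coe_set_eq, ncard_eq_card_blocks,
    stn22_card hα hB]

theorem stn22_disjoint_ne (hB : IsSteinerSystem 3 6 B) {b c : Finset α} (hb : b ∈ B)
    (h : Disjoint b c) : b ≠ c := by
  rintro rfl
  rw [disjoint_self, Finset.bot_eq_empty] at h
  have := steiner_card hB hb
  rw [h] at this
  simp at this

theorem stn22_adj_iff (hB : IsSteinerSystem 3 6 B) (v w : B) :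
    (blockGraph B).Adj v w ↔ Disjoint (v : Finset α) (w : Finset α) := by
  unfold blockGraph
  rw [SimpleGraph.fromRel_adj]
  constructor
  · rintro ⟨_, h | h⟩
    · exact h
    · exact h.symm
  · intro h
    refine ⟨?_, Or.inl h⟩
    intro hvw
    exact stn22_disjoint_ne hB v.2 h (congrArg Subtype.val hvw)

end Cfsg.Agent.Lib.helper2
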