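import Mathlib
import Cfsg.Prelude.Def_Sporadic_a
import Cfsg.Agent.Lib.helper2.Stn22

set_option autoImplicit false

namespace Cfsg.Agent.Lib.helper2

open Cfsg Cfsg.Agent.Lib.helper3

variable {α : Type*} [Fintype α] [DecidableEq α] {B : Set (Finset α)}

theorem stn22_card_pb [Fintype B] (S : Set (Option (α ⊕ B))) [Fintype S] (n : ℕ) (A : Finset α)
    (P : Finset α → Prop) [DecidablePred P]
    (h0 : none ∈ S ↔ n = 1) (hn : n ≤ 1)
    (hA : ∀ a, some (Sum.inl a) ∈ S ↔ a ∈ A)
    (hP : ∀ x : B, some (Sum.inr x) ∈ S ↔ P x) :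
    Fintype.card S = n + A.card + ((blocks B).filter P).card := by
  classical
  have e1 : Fintype.card S = ∑ x : Option (α ⊕ B), if x ∈ S then 1 else 0 := by
    rw [← Finset.card_filter, ← Fintype.card_subtype]
  rw [e1, Fintype.sum_option, Fintype.sum_sum_type]
  have e2 : (if none ∈ S then 1 else 0) = n := by
    by_cases h : none ∈ S
    · rw [if_pos h, h0.1 h]
    · rw [if_neg h]
      have : n ≠ 1 := fun h' => h (h0.2 h')
      omega
  have e3 : (∑ a : α, if some (Sum.inl a) ∈ S then 1 else 0) = A.card := by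
    simp_rw [hA]
    rw [← Finset.card_filter]
    congr 1
    ext a; simp
  have e4 : (∑ x : B, if some (Sum.inr x) ∈ S then 1 else 0) = ((blocks B).filter P).card := by
    simp_rw [hP]
    rw [← Finset.card_filter, ← Fintype.card_subtype]
    exact stn22_card_set {x : B | P x} P (fun x => Iff.rfl)
  rw [e2, e3, e4, add_assoc]


theorem stn22_pb_none_none : ¬ (pointBlockGraph B).Adj none none := by
  simp [pointBlockGraph, pointBlockRel]

theorem stn22_pb_none_inl (a : α) : (pointBlockGraph B).Adj none (some (Sum.inl a)) := by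
  simp [pointBlockGraph, pointBlockRel]

theorem stn22_pb_inl_none (a : α) : (pointBlockGraph B).Adj (some (Sum.inl a)) none := by
  simp [pointBlockGraph, pointBlockRel]

theorem stn22_pb_none_inr (b : B) : ¬ (pointBlockGraph B).Adj none (some (Sum.inr b)) := by
  simp [pointBlockGraph, pointBlockRel]

theorem stn22_pb_inr_none (b : B) : ¬ (pointBlockGraph B).Adj (some (Sum.inr b)) none := by
  simp [pointBlockGraph, pointBlockRel]

theorem stn22_pb_inl_inl (a a' : α) :
    ¬ (pointBlockGraph B).Adj (some (Sum.inl a)) (some (Sum.inl a')) := by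
  simp [pointBlockGraph, pointBlockRel]

theorem stn22_pb_inl_inr (a : α) (b : B) :
    (pointBlockGraph B).Adj (some (Sum.inl a)) (some (Sum.inr b)) ↔ a ∈ (b : Finset α) := by
  simp [pointBlockGraph, pointBlockRel]

theorem stn22_pb_inr_inl (a : α) (b : B) :
    (pointBlockGraph B).Adj (some (Sum.inr b)) (some (Sum.inl a)) ↔ a ∈ (b : Finset α) := by
  simp [pointBlockGraph, pointBlockRel]

theorem stn22_pb_inr_inr (hB : IsSteinerSystem 3 6 B) (b c : B) :
    (pointBlockGraph B).Adj (some (Sum.inr b)) (some (Sum.inr c)) ↔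
      Disjoint (b : Finset α) (c : Finset α) := by
  simp only [pointBlockGraph, pointBlockRel, SimpleGraph.fromRel_adj]
  constructor
  · rintro ⟨_, h | h⟩
    · exact h
    · exact h.symm
  · intro h
    refine ⟨?_, Or.inl h⟩
    intro hvw
    have : b = c := by simpa using hvw
    exact stn22_disjoint_ne hB b.2 h (congrArg Subtype.val this)

end Cfsg.Agent.Lib.helper2
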