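import Mathlib
import Cfsg.Agent.Lib.Helper19.S5954.Defs
import Cfsg.Agent.Lib.helper2.S5954TSQRT
import Cfsg.Agent.Lib.helper17.S5954TEVEN

set_option autoImplicit false
set_option linter.unusedVariables false
set_option linter.unusedSectionVars false

/-!
# Project S5954, part T, row TNEC (`t_two_nec_abs`): if `z` is not a square in `N1`, every invariant nondegenerate subspace
has even dimension (TSQRT + TEVENONLY).
-/

namespace Cfsg.Agent.Lib.Helper19.S5954

open Polynomial Module Cfsg.Agent.Lib.Helper13.S5955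

variable {F : Type*} [Field F] {V : Type*} [AddCommGroup V] [Module F V]

/-- TNEC -/
theorem t_two_nec_abs [Fintype F] [FiniteDimensional F V] {q : ℕ} (hq : Fintype.card F = q ^ 2) (h2 : (2 : F) ≠ 0)
    {R : ℕ} (hR : 0 < R) {σ : F →+* F} (hσ : ∀ a, σ a = a ^ q) {B : V →ₛₗ[σ] V →ₗ[F] F} {x : Module.End F V}
    (h : HCtx R σ B x) (z : F) (hsq : x * x = z • 1) (hz : z ^ (q + 1) = 1)
    (hns : ∀ w : F, w ^ (q + 1) = 1 → w * w ≠ z) (W : Submodule F V) (hW : SInv x W) (hWnd : HND B W) :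
    Even (finrank F W) := by
  obtain ⟨μ, hμz, hμ⟩ := n1_sqrt hq h2 z hz
  rcases hμ with h1 | h1
  · exact absurd hμz (hns μ h1)
  · have hμ' : σ μ * μ = -1 := by rw [hσ, ← pow_succ, h1]
    exact t_even_only hR h h2 μ (by rw [hμz]; exact hsq) hμ' W hW hWnd

end Cfsg.Agent.Lib.Helper19.S5954
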