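import Mathlib
import Cfsg.Agent.Lib.Helper5.UNI.Defs
import Cfsg.Agent.Lib.helper3.BNLen
import Cfsg.Agent.Lib.helper8.ChevW0
import Cfsg.Agent.Lib.helper8.ChevBN3

/-!
# Project UNI (S2314), row G3 `uni_nJ_exists`: core

`unig3_core` is the assembly of row G3 with the STATEMENTS of the rows it cites
(C3 `uni_exists_wJ`, G1a `uni_nW_mem`, G1b `uni_U_inf_conj`, G2b `uni_h1J`, G2c `uni_h2J`)
as hypotheses, already specialised to `J`.  The last conjunct is helper8's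
`h8N_le_normalizer_H`.
-/

set_option autoImplicit false

namespace Cfsg.Agent.Lib.Helper5.UNI

open Cfsg.Lie Cfsg.Lie.ChevalleyDatum Cfsg.Agent.Lib.helper8 Cfsg.Agent.Lib.helper3

universe u

variable {F : Type u} [Field F]

/-- the elements `n_{p_j}`, `j ∈ J`, of `GL` are the images of the `σ j` -/
theorem unig3_closure_le (D : ChevalleyDatum) (hB : H8Base.{u} D) (σ : ℕ → ↥(D.group F))
    (hσv : ∀ i, i < D.rank → ((σ i : ↥(D.group F)) : GL D.Idx F) = h8nU D hB (D.simple i) 1)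
    (J : Finset ℕ) :
    Subgroup.closure {g : GL D.Idx F | ∃ j ∈ (J : Set ℕ), j < D.rank ∧
      (g : Matrix D.Idx D.Idx F) = D.nMat F (D.simple j) 1} ≤
      (Subgroup.closure (σ '' (J : Set ℕ))).map (D.group F).subtype := by
  rw [MonoidHom.map_closure, Subgroup.closure_le]
  rintro g ⟨j, hjJ, hj, hg⟩
  apply Subgroup.subset_closure
  refine ⟨σ j, ⟨j, hjJ, rfl⟩, ?_⟩
  rw [Subgroup.coe_subtype, hσv j hj]
  apply Units.ext
  rw [h8nU_val, hg]

/-- G3 (core): the longest element of `W_J` in the group, from the statements of the rows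
C3, G1a, G1b, G2b, G2c. -/
theorem unig3_core (D : ChevalleyDatum) (hB : H8Base.{u} D) (P : Cfsg.BNPair ↥(D.group F))
    (σ : ℕ → ↥(D.group F)) (hA : H8ReflAll D) (hBN : H8BN D)
    (hPB : P.B = (D.borelSubgroup F).subgroupOf (D.group F))
    (hσv : ∀ i, i < D.rank → ((σ i : ↥(D.group F)) : GL D.Idx F) = h8nU D hB (D.simple i) 1)
    (J : Finset ℕ)
    (hC3 : ∃ w : List ℕ, IsLongWord D (J : Set ℕ) w)
    (hG1A : ∀ w : List ℕ, (∀ i ∈ w, i < D.rank ∧ i ∈ (J : Set ℕ)) →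
      (h8nWU D hB w : GL D.Idx F) ∈ Subgroup.closure {g : GL D.Idx F | ∃ j ∈ (J : Set ℕ),
        j < D.rank ∧ (g : Matrix D.Idx D.Idx F) = D.nMat F (D.simple j) 1})
    (hG1B : ∀ w : List ℕ, IsLongWord D (J : Set ℕ) w → ∀ x : GL D.Idx F,
      x ∈ D.posUnipotent F →
      (h8nWU D hB w : GL D.Idx F)⁻¹ * x * h8nWU D hB w ∈ D.borelSubgroup F →
      x ∈ D.unipotentRadical F (J : Set ℕ))
    (hG2B : ∀ w : List ℕ, IsLongWord D (J : Set ℕ) w → ∀ n : ↥(D.group F),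
      (n : GL D.Idx F) = h8nWU D hB w → ∀ j ∈ J, ¬ Pp P (σ j) n⁻¹)
    (hG2C : ∀ w : List ℕ, IsLongWord D (J : Set ℕ) w → ∀ n : ↥(D.group F),
      (n : GL D.Idx F) = h8nWU D hB w →
      ∀ m ∈ subN P (σ '' (J : Set ℕ)), (∀ j ∈ J, ¬ Pp P (σ j) m) →
        ∀ j ∈ J, Pp P (σ j) (m * n)) :
    ∃ n : ↥(D.group F), n ∈ subN P (σ '' (J : Set ℕ)) ∧
      (∀ j ∈ J, ¬ Pp P (σ j) n⁻¹) ∧
      (∀ m ∈ subN P (σ '' (J : Set ℕ)), (∀ j ∈ J, ¬ Pp P (σ j) m) →
        ∀ j ∈ J, Pp P (σ j) (m * n)) ∧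
      (∀ x ∈ (D.posUnipotent F).subgroupOf (D.group F), n⁻¹ * x * n ∈ P.B →
        x ∈ (D.unipotentRadical F (J : Set ℕ)).subgroupOf (D.group F)) ∧
      (D.diagonalSubgroup F).subgroupOf (D.group F) ≤ P.B.map (MulAut.conj n).toMonoidHom := by
  obtain ⟨w, hw⟩ := hC3
  have hwr : ∀ i ∈ w, i < D.rank := fun i hi => (hw.1 i hi).1
  have hnN : (h8nWU D hB w : GL D.Idx F) ∈ D.monomialSubgroup F := h8nWU_mem_N D hB hA w hwr
  have hnG : (h8nWU D hB w : GL D.Idx F) ∈ D.group F := h8_N_le_group D hB hnN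
  refine ⟨⟨h8nWU D hB w, hnG⟩, ?_, hG2B w hw _ rfl, hG2C w hw _ rfl, ?_, ?_⟩
  · -- membership in `N_J`
    have h1 := unig3_closure_le D hB σ hσv J (hG1A w hw.1)
    obtain ⟨y, hy, hyn⟩ := Subgroup.mem_map.mp h1
    have : y = ⟨h8nWU D hB w, hnG⟩ := Subtype.ext hyn
    rw [← this]
    exact Subgroup.mem_sup_left hy
  · intro x hx hxB
    rw [hPB] at hxB
    rw [Subgroup.mem_subgroupOf] at hx hxB ⊢
    exact hG1B w hw (x : GL D.Idx F) hx hxB
  · intro h hh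
    rw [Subgroup.mem_subgroupOf] at hh
    obtain ⟨dep, par, horb⟩ := hBN.orb
    have hnorm := h8N_le_normalizer_H (F := F) D hB hA dep par horb hnN
    have hinv : (h8nWU D hB w : GL D.Idx F)⁻¹ ∈
        Subgroup.normalizer (D.diagonalSubgroup F : Set (GL D.Idx F)) := Subgroup.inv_mem _ hnorm
    have h2 := (Subgroup.mem_normalizer_iff.mp hinv (h : GL D.Idx F)).mp hh
    rw [inv_inv] at h2
    refine Subgroup.mem_map.mpr ⟨(⟨h8nWU D hB w, hnG⟩ : ↥(D.group F))⁻¹ * h * ⟨h8nWU D hB w, hnG⟩,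
      ?_, ?_⟩
    · rw [hPB, Subgroup.mem_subgroupOf]
      exact h8H_le_B D h2
    · simp [MulAut.conj_apply, mul_assoc]

end Cfsg.Agent.Lib.Helper5.UNI
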