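import Mathlib
import Cfsg.Agent.Lib.Helper9.A2S.Defs

set_option autoImplicit false

namespace Cfsg.Agent.Lib.Helper9.A2S

open Equiv

/-- a sign preserving isomorphism carrying `K` onto `T` restricts to the even parts -/
theorem h2_even_equiv_of_map {α γ : Type*} [Fintype α] [DecidableEq α] [Fintype γ] [DecidableEq γ]
    (ψ : Perm γ ≃* Perm α) (hsign : ∀ x : Perm γ, Perm.sign (ψ x) = Perm.sign x)
    (K : Subgroup (Perm γ)) (T : Subgroup (Perm α)) (hKT : K.map (ψ : Perm γ →* Perm α) = T) :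
    Nonempty (↥(T ⊓ alternatingGroup α) ≃* ↥(K ⊓ alternatingGroup γ)) := by
  have hmap : (K ⊓ alternatingGroup γ).map (ψ : Perm γ →* Perm α) = T ⊓ alternatingGroup α := by
    ext y
    constructor
    · rintro ⟨x, hx, rfl⟩
      rw [SetLike.mem_coe, Subgroup.mem_inf] at hx
      rw [Subgroup.mem_inf]
      refine ⟨?_, ?_⟩
      · rw [← hKT]; exact ⟨x, hx.1, rfl⟩
      · rw [Perm.mem_alternatingGroup]
        have := hx.2
        rw [Perm.mem_alternatingGroup] at this
        change Perm.sign (ψ x) = 1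
        rw [hsign, this]
    · intro hy
      rw [Subgroup.mem_inf] at hy
      have h1 := hy.1
      rw [← hKT] at h1
      obtain ⟨x, hx, rfl⟩ := h1
      refine ⟨x, ?_, rfl⟩
      rw [SetLike.mem_coe, Subgroup.mem_inf]
      refine ⟨hx, ?_⟩
      rw [Perm.mem_alternatingGroup]
      have := hy.2
      rw [Perm.mem_alternatingGroup] at this
      change Perm.sign (ψ x) = 1 at this
      rw [hsign] at this
      exact this
  exact ⟨((ψ.subgroupMap (K ⊓ alternatingGroup γ)).trans (MulEquiv.subgroupCongr hmap)).symm⟩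

/-- A2S-TR -/
theorem even_part_transfer {α γ : Type*} [Fintype α] [DecidableEq α] [Fintype γ] [DecidableEq γ]
    (h : Fintype.card γ = Fintype.card α) (K : Subgroup (Perm γ)) (hK : IsPGroup 2 ↥K)
    (hcard : Nat.card ↥K = 2 ^ padicValNat 2 (Fintype.card γ).factorial) (T : Sylow 2 (Perm α)) :
    Nonempty (↥((T : Subgroup (Perm α)) ⊓ alternatingGroup α) ≃* ↥(K ⊓ alternatingGroup γ)) := by
  have : Fact (Nat.Prime 2) := ⟨Nat.prime_two⟩
  let e : γ ≃ α := Fintype.equivOfCardEq h
  let φ : Perm γ ≃* Perm α := e.permCongrHom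
  have hφsign : ∀ x : Perm γ, Perm.sign (φ x) = Perm.sign x := fun x => Perm.sign_permCongr e x
  -- the image of K is a Sylow subgroup
  let K' : Subgroup (Perm α) := K.map (φ : Perm γ →* Perm α)
  have hK'card : Nat.card ↥K' = 2 ^ (Nat.card (Perm α)).factorization 2 := by
    have h1 : Nat.card ↥K' = Nat.card ↥K :=
      (Nat.card_congr (φ.subgroupMap K).toEquiv).symm
    rw [h1, hcard, Nat.card_eq_fintype_card, Fintype.card_perm, ← h,
      Nat.factorization_def _ Nat.prime_two]
  let Q : Sylow 2 (Perm α) := Sylow.ofCard K' hK'card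
  obtain ⟨g, hg⟩ := MulAction.exists_smul_eq (Perm α) Q T
  -- the combined isomorphism
  let ψ : Perm γ ≃* Perm α := φ.trans (MulAut.conj g)
  have hψsign : ∀ x : Perm γ, Perm.sign (ψ x) = Perm.sign x := by
    intro x
    change Perm.sign (g * φ x * g⁻¹) = Perm.sign x
    rw [Perm.sign_mul, Perm.sign_mul, Perm.sign_inv, mul_right_comm, ← hφsign x]
    have : Perm.sign g * Perm.sign g = 1 := Int.units_mul_self _
    rw [this, one_mul]
  have hKT : K.map (ψ : Perm γ →* Perm α) = (T : Subgroup (Perm α)) := by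
    have h1 : ((g • Q : Sylow 2 (Perm α)) : Subgroup (Perm α)) = (T : Subgroup (Perm α)) := by
      rw [hg]
    rw [← h1, Sylow.coe_subgroup_smul, Sylow.coe_ofCard]
    ext y
    constructor
    · rintro ⟨x, hx, rfl⟩
      rw [Subgroup.mem_pointwise_smul_iff_inv_smul_mem]
      have h3 : (MulAut.conj g)⁻¹ • ((ψ : Perm γ →* Perm α) x) = φ x := by
        change (MulAut.conj g)⁻¹ (g * φ x * g⁻¹) = φ x
        rw [MulAut.conj_inv_apply]; group
      rw [h3]; exact ⟨x, hx, rfl⟩
    · intro hy
      rw [Subgroup.mem_pointwise_smul_iff_inv_smul_mem] at hy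
      obtain ⟨x, hx, hxy⟩ := hy
      refine ⟨x, hx, ?_⟩
      change g * φ x * g⁻¹ = y
      have h3 : φ x = g⁻¹ * y * g := by
        have h2 : (MulAut.conj g)⁻¹ • y = g⁻¹ * y * g := by
          change (MulAut.conj g)⁻¹ y = _
          rw [MulAut.conj_inv_apply]
        rw [← h2]; exact hxy
      rw [h3]; group
  exact h2_even_equiv_of_map ψ hψsign K (T : Subgroup (Perm α)) hKT

end Cfsg.Agent.Lib.Helper9.A2S
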