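import Mathlib
import Cfsg.Agent.Lib.Helper9.A2S.Defs

set_option autoImplicit false

namespace Cfsg.Agent.Lib.Helper9.A2S

open Equiv

/-- the even part of a Sylow 2-subgroup of `Perm α` has the Sylow order of the alternating group -/
theorem h2_card_sylow_inf_alt {α : Type*} [Fintype α] [DecidableEq α] (hα : 2 ≤ Fintype.card α)
    (T : Sylow 2 (Perm α)) :
    Nat.card ↥((T : Subgroup (Perm α)) ⊓ alternatingGroup α) =
      2 ^ (Nat.card ↥(alternatingGroup α)).factorization 2 := by
  have : Fact (Nat.Prime 2) := ⟨Nat.prime_two⟩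
  have : Nontrivial α := Fintype.one_lt_card_iff_nontrivial.mp (by omega)
  set A := alternatingGroup α with hA
  set H := (T : Subgroup (Perm α)) ⊓ A with hH
  set v := (Nat.card ↥A).factorization 2 with hv
  have hApos : Nat.card ↥A ≠ 0 := Nat.card_pos.ne'
  have hcardPerm : Nat.card (Perm α) = 2 * Nat.card ↥A := by
    rw [Nat.card_eq_fintype_card, Nat.card_eq_fintype_card]
    exact (two_mul_card_alternatingGroup).symm
  have hfac : (Nat.card (Perm α)).factorization 2 = v + 1 := by
    rw [hcardPerm, Nat.factorization_mul (by norm_num) hApos]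
    simp [Nat.Prime.factorization_self Nat.prime_two, hv, add_comm]
  have hT : Nat.card ↥(T : Subgroup (Perm α)) = 2 ^ (v + 1) := by
    rw [← hfac]; exact T.card_eq_multiplicity
  -- |H| * relIndex = |T|
  have hHT : H ≤ (T : Subgroup (Perm α)) := inf_le_left
  have h1 : Nat.card ↥H * H.relIndex (T : Subgroup (Perm α)) = 2 ^ (v + 1) := by
    rw [← hT, Subgroup.relIndex, ← Nat.card_congr (Subgroup.subgroupOfEquivOfLe hHT).toEquiv]
    exact Subgroup.card_mul_index _
  have h2 : H.relIndex (T : Subgroup (Perm α)) ∣ 2 := by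
    have h3 : H.relIndex (T : Subgroup (Perm α)) = A.relIndex (T : Subgroup (Perm α)) := by
      rw [hH, inf_comm]; exact Subgroup.inf_relIndex_right A (T : Subgroup (Perm α))
    rw [h3]
    have hAn : A.Normal := by rw [hA]; infer_instance
    have h4 : A.relIndex (T : Subgroup (Perm α)) ∣ A.index :=
      Subgroup.relIndex_dvd_index_of_normal A (T : Subgroup (Perm α))
    rwa [hA, alternatingGroup.index_eq_two (α := α), ← hA] at h4
  have hHA : Nat.card ↥H ∣ Nat.card ↥A := Subgroup.card_dvd_of_le inf_le_right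
  have hd : H.relIndex (T : Subgroup (Perm α)) = 1 ∨ H.relIndex (T : Subgroup (Perm α)) = 2 :=
    (Nat.dvd_prime Nat.prime_two).mp h2
  rcases hd with hd | hd
  · exfalso
    rw [hd, mul_one] at h1
    rw [h1] at hHA
    exact Nat.pow_succ_factorization_not_dvd hApos Nat.prime_two hHA
  · rw [hd, pow_succ] at h1
    exact Nat.eq_of_mul_eq_mul_right (by norm_num) h1

/-- A2S-SA -/
theorem sylow_alt_equiv {α : Type*} [Fintype α] [DecidableEq α] (hα : 2 ≤ Fintype.card α)
    (P : Sylow 2 ↥(alternatingGroup α)) (T : Sylow 2 (Perm α)) :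
    Nonempty (↥(P : Subgroup ↥(alternatingGroup α)) ≃*
      ↥((T : Subgroup (Perm α)) ⊓ alternatingGroup α)) := by
  have : Fact (Nat.Prime 2) := ⟨Nat.prime_two⟩
  have hHA : (T : Subgroup (Perm α)) ⊓ alternatingGroup α ≤ alternatingGroup α := inf_le_right
  let Q0 : Subgroup ↥(alternatingGroup α) :=
    ((T : Subgroup (Perm α)) ⊓ alternatingGroup α).subgroupOf (alternatingGroup α)
  let e0 : ↥Q0 ≃* ↥((T : Subgroup (Perm α)) ⊓ alternatingGroup α) :=
    Subgroup.subgroupOfEquivOfLe hHA
  have hQ0 : Nat.card ↥Q0 = 2 ^ (Nat.card ↥(alternatingGroup α)).factorization 2 := by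
    rw [Nat.card_congr e0.toEquiv]
    exact h2_card_sylow_inf_alt hα T
  let Q : Sylow 2 ↥(alternatingGroup α) := Sylow.ofCard Q0 hQ0
  exact ⟨(Sylow.equiv P Q).trans e0⟩

end Cfsg.Agent.Lib.Helper9.A2S
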