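import Cfsg.Agent.Lib.Lead.UDK1Q2.Defs

/-!
# Block UDK1Q2, row UP: the core (all other rows enter as hypotheses)

`q2up_core`: a set `X` of vectors over a field with `2 = 0`, `a ≠ 0 → a ^ 3 = 1`, a primitive cube root of unity `w`,
containing `0`, all vectors of weight two, all vectors of weight four, and closed under `y, z ↦ y + f y z • z`
(`f = hermForm n F 2`), contains every vector of even weight.
-/

set_option autoImplicit false

namespace Cfsg.Agent.Lib.Lead.UDK1Q2

open Matrix Cfsg.Agent.Lib.Helper29.ExtrL Cfsg.Agent.Lib.Helper28.UMax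

variable {n : ℕ} {F : Type*} [Field F] [Fintype F] [DecidableEq F]

theorem q2up_two (hF : Fintype.card F = 4) : (2 : F) = 0 := by
  have h : ((Fintype.card F : ℕ) : F) = 0 := Nat.cast_card_eq_zero F
  rw [hF] at h
  have h2 : (2 : F) * 2 = 0 := by
    have h3 : ((4 : ℕ) : F) = 2 * 2 := by norm_num
    rw [← h3]; exact h
  exact mul_self_eq_zero.mp h2

theorem q2up_cube (hF : Fintype.card F = 4) {a : F} (ha : a ≠ 0) : a ^ 3 = 1 := by
  have h := FiniteField.pow_card_sub_one_eq_one a ha
  rw [hF] at h
  exact h

theorem q2up_omega (hF : Fintype.card F = 4) : ∃ w : F, w ≠ 0 ∧ w ≠ 1 ∧ w ^ 2 + w + 1 = 0 := by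
  have hex : ∃ w : F, w ≠ 0 ∧ w ≠ 1 := by
    by_contra hcon
    push Not at hcon
    have hsub : (Finset.univ : Finset F) ⊆ {0, 1} := by
      intro x _
      by_cases hx : x = 0
      · simp [hx]
      · simp [hcon x hx]
    have hc := Finset.card_le_card hsub
    rw [Finset.card_univ, hF] at hc
    have h2 : ({0, 1} : Finset F).card ≤ 2 := Finset.card_le_two
    omega
  obtain ⟨w, hw0, hw1⟩ := hex
  refine ⟨w, hw0, hw1, ?_⟩
  have h3 := q2up_cube hF hw0
  have hfac : (w - 1) * (w ^ 2 + w + 1) = 0 := by
    have : (w - 1) * (w ^ 2 + w + 1) = w ^ 3 - 1 := by ring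
    rw [this, h3, sub_self]
  rcases mul_eq_zero.mp hfac with h | h
  · exact absurd (sub_eq_zero.mp h) hw1
  · exact h

/-- the weight through a support set. -/
theorem q2up_wt_eq (y : Fin n → F) (s : Finset (Fin n)) (h : ∀ i, y i ≠ 0 ↔ i ∈ s) :
    wt y = s.card := by
  unfold wt
  congr 1
  ext i
  simp [h i]

theorem q2up_wt_zero {z : Fin n → F} (h : wt z = 0) : z = 0 := by
  unfold wt at h
  rw [Finset.card_eq_zero] at h
  funext i
  by_contra hi
  have hi' : z i ≠ 0 := hi
  have : i ∈ (Finset.univ.filter fun i => z i ≠ 0) := by simp [hi']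
  rw [h] at this
  simp at this

theorem q2up_wt_two {z : Fin n → F} (h : wt z = 2) :
    ∃ i j : Fin n, i ≠ j ∧ z i ≠ 0 ∧ z j ≠ 0 ∧ z = Pi.single i (z i) + Pi.single j (z j) := by
  unfold wt at h
  rw [Finset.card_eq_two] at h
  obtain ⟨i, j, hij, hs⟩ := h
  have hmem : ∀ k, z k ≠ 0 ↔ (k = i ∨ k = j) := by
    intro k
    have : k ∈ (Finset.univ.filter fun i => z i ≠ 0) ↔ k ∈ ({i, j} : Finset (Fin n)) := by rw [hs]
    simpa using this
  refine ⟨i, j, hij, (hmem i).mpr (Or.inl rfl), (hmem j).mpr (Or.inr rfl), ?_⟩
  funext k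
  by_cases hki : k = i
  · subst hki
    simp [hij]
  · by_cases hkj : k = j
    · subst hkj
      simp [hki]
    · have : z k = 0 := by
        by_contra hne
        rcases (hmem k).mp hne with h | h
        · exact hki h
        · exact hkj h
      simp [hki, hkj, this]

/-- the step `wt z < n`: `z = v + u`, `wt v = wt z - 2`, `wt u = 4`, `f v u = 1`. -/
theorem q2up_step_lt (h2 : (2 : F) = 0) (z : Fin n → F) (h3 : 3 ≤ wt z) {i₀ : Fin n} (hi₀ : z i₀ = 0) :
    ∃ v u : Fin n → F, wt v + 2 = wt z ∧ wt u = 4 ∧ Cfsg.hermForm n F 2 v u = 1 ∧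
      ∀ i, v i + u i = z i := by
  classical
  set S : Finset (Fin n) := Finset.univ.filter fun i => z i ≠ 0 with hS
  have hSc : S.card = wt z := rfl
  obtain ⟨T, hTS, hTc⟩ := Finset.exists_subset_card_eq (s := S) (n := 3) (by rw [hSc]; exact h3)
  have hi₀S : i₀ ∉ S := by simp [hS, hi₀]
  have hi₀T : i₀ ∉ T := fun h => hi₀S (hTS h)
  have hmemS : ∀ i, i ∈ S ↔ z i ≠ 0 := by intro i; simp [hS]
  refine ⟨fun i => if i = i₀ then 1 else if i ∈ T then 0 else z i,
    fun i => if i = i₀ then 1 else if i ∈ T then z i else 0, ?_, ?_, ?_, ?_⟩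
  · rw [q2up_wt_eq _ (insert i₀ (S \ T))]
    · rw [Finset.card_insert_of_notMem (by simp [hi₀S]), Finset.card_sdiff_of_subset hTS, hTc, hSc]
      omega
    · intro i
      by_cases h1 : i = i₀
      · simp [h1]
      · by_cases h2' : i ∈ T
        · simp [h1, h2']
        · simp [h1, h2', hmemS]
  · rw [q2up_wt_eq _ (insert i₀ T)]
    · rw [Finset.card_insert_of_notMem hi₀T, hTc]
    · intro i
      by_cases h1 : i = i₀
      · simp [h1]
      · by_cases h2' : i ∈ T
        · have := (hmemS i).mp (hTS h2')
          simp [h1, h2', this]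
        · simp [h1, h2']
  · unfold Cfsg.hermForm
    have : ∀ i : Fin n, (if i = i₀ then (1 : F) else if i ∈ T then 0 else z i) *
        (if i = i₀ then (1 : F) else if i ∈ T then z i else 0) ^ 2 = if i = i₀ then 1 else 0 := by
      intro i
      by_cases h1 : i = i₀
      · simp [h1]
      · by_cases h2' : i ∈ T
        · simp [h1, h2']
        · simp [h1, h2']
    rw [Finset.sum_congr rfl (fun i _ => this i)]
    simp
  · intro i
    by_cases h1 : i = i₀
    · subst h1
      simp only [if_true]
      rw [hi₀]
      have : (1 : F) + 1 = 2 := by norm_num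
      rw [this, h2]
    · by_cases h2' : i ∈ T
      · simp [h1, h2']
      · simp [h1, h2']

/-- the step `wt z = n`: `z = v + w • u`, `wt v = n - 2`, `wt u = 4`, `f v u = w`. -/
theorem q2up_step_full (h2 : (2 : F) = 0) (hcube : ∀ a : F, a ≠ 0 → a ^ 3 = 1)
    (w : F) (hw0 : w ≠ 0) (hw : w ^ 2 + w + 1 = 0) (hn : 4 ≤ n)
    (z : Fin n → F) (hz : ∀ i, z i ≠ 0) :
    ∃ v u : Fin n → F, wt v + 2 = n ∧ wt u = 4 ∧ Cfsg.hermForm n F 2 v u = w ∧
      ∀ i, v i + w * u i = z i := by
  classical
  set a : Fin n := ⟨0, by omega⟩ with ha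
  set b : Fin n := ⟨1, by omega⟩ with hb
  set c : Fin n := ⟨2, by omega⟩ with hc
  set d : Fin n := ⟨3, by omega⟩ with hd
  have hab : a ≠ b := by simp [ha, hb, Fin.ext_iff]
  have hac : a ≠ c := by simp [ha, hc, Fin.ext_iff]
  have had : a ≠ d := by simp [ha, hd, Fin.ext_iff]
  have hbc : b ≠ c := by simp [hb, hc, Fin.ext_iff]
  have hbd : b ≠ d := by simp [hb, hd, Fin.ext_iff]
  have hcd : c ≠ d := by simp [hc, hd, Fin.ext_iff]
  have hneg : ∀ x : F, -x = x := by
    intro x
    have : x + x = 0 := by rw [← two_mul, h2, zero_mul]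
    exact neg_eq_of_add_eq_zero_left this
  have hw2 : w ^ 2 + w = 1 := by
    have : w ^ 2 + w = -1 := by linear_combination hw
    rw [this, hneg]
  have hw3 : w ^ 3 = 1 := hcube w hw0
  have hw2' : w ^ 2 ≠ 0 := pow_ne_zero 2 hw0
  refine ⟨fun i => if i = a then w * z a else if i = b then w ^ 2 * z b else
      if i = c ∨ i = d then 0 else z i,
    fun i => if i = a then w * z a else if i = b then z b else
      if i = c ∨ i = d then w ^ 2 * z i else 0, ?_, ?_, ?_, ?_⟩
  · rw [q2up_wt_eq _ (Finset.univ \ {c, d})]
    · rw [Finset.card_sdiff_of_subset (Finset.subset_univ _), Finset.card_univ, Fintype.card_fin,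
        Finset.card_pair hcd]
      omega
    · intro i
      by_cases h1 : i = a
      · subst h1
        simp [hac, had, hw0, hz]
      · by_cases h1' : i = b
        · subst h1'
          simp [hab.symm, hbc, hbd, hw0, hz]
        · by_cases h1'' : i = c ∨ i = d
          · rcases h1'' with h | h
            · subst h; simp [hac.symm, hbc.symm]
            · subst h; simp [had.symm, hbd.symm]
          · have h3 := h1''
            push Not at h3
            simp [h1, h1', h3.1, h3.2, hz]
  · rw [q2up_wt_eq _ ({a, b, c, d} : Finset (Fin n))]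
    · rw [Finset.card_insert_of_notMem (by simp [hab, hac, had]),
        Finset.card_insert_of_notMem (by simp [hbc, hbd]), Finset.card_pair hcd]
    · intro i
      by_cases h1 : i = a
      · subst h1
        simp [hw0, hz]
      · by_cases h1' : i = b
        · subst h1'
          simp [hab.symm, hz]
        · by_cases h1'' : i = c ∨ i = d
          · rcases h1'' with h | h
            · subst h; simp [hac.symm, hbc.symm, hw0, hz]
            · subst h; simp [had.symm, hbd.symm, hw0, hz]
          · have h3 := h1''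
            push Not at h3
            simp [h1, h1', h3.1, h3.2]
  · unfold Cfsg.hermForm
    have key : ∀ i : Fin n, (if i = a then w * z a else if i = b then w ^ 2 * z b else
          if i = c ∨ i = d then 0 else z i) *
        (if i = a then w * z a else if i = b then z b else
          if i = c ∨ i = d then w ^ 2 * z i else 0) ^ 2 =
        (if i = a then (1 : F) else 0) + (if i = b then w ^ 2 else 0) := by
      intro i
      by_cases h1 : i = a
      · rw [h1]
        have hz3 := hcube (z a) (hz a)
        simp only [if_true, if_neg hab, add_zero]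
        calc w * z a * (w * z a) ^ 2 = w ^ 3 * (z a) ^ 3 := by ring
          _ = 1 := by rw [hw3, hz3, one_mul]
      · by_cases h1' : i = b
        · rw [h1']
          have hz3 := hcube (z b) (hz b)
          simp only [if_neg hab.symm, if_true, zero_add]
          calc w ^ 2 * z b * (z b) ^ 2 = w ^ 2 * (z b) ^ 3 := by ring
            _ = w ^ 2 := by rw [hz3, mul_one]
        · by_cases h1'' : i = c ∨ i = d
          · simp [h1, h1', h1'']
          · simp [h1, h1', h1'']
    rw [Finset.sum_congr rfl (fun i _ => key i), Finset.sum_add_distrib]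
    simp only [Finset.sum_ite_eq', Finset.mem_univ, if_true]
    have : (1 : F) + w ^ 2 = -w := by linear_combination hw
    rw [this, hneg]
  · intro i
    by_cases h1 : i = a
    · rw [h1]
      simp only [if_true]
      calc w * z a + w * (w * z a) = (w ^ 2 + w) * z a := by ring
        _ = z a := by rw [hw2, one_mul]
    · by_cases h1' : i = b
      · rw [h1']
        simp only [if_neg hab.symm, if_true]
        calc w ^ 2 * z b + w * z b = (w ^ 2 + w) * z b := by ring
          _ = z b := by rw [hw2, one_mul]
      · by_cases h1'' : i = c ∨ i = d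
        · simp only [if_neg h1, if_neg h1', if_pos h1'']
          calc (0 : F) + w * (w ^ 2 * z i) = w ^ 3 * z i := by ring
            _ = z i := by rw [hw3, one_mul]
        · simp [h1, h1', h1'']

/-- **row UP, core**: the rows W2 (`h0`, `hw2`), PAT (`htv`) and FLD (`h2`, `hcube`, `w`) as hypotheses. -/
theorem q2up_core (X : Set (Fin n → F)) (h2 : (2 : F) = 0) (hcube : ∀ a : F, a ≠ 0 → a ^ 3 = 1)
    (w : F) (hw0 : w ≠ 0) (hw : w ^ 2 + w + 1 = 0)
    (h0 : (0 : Fin n → F) ∈ X)
    (hw2 : ∀ i j : Fin n, i ≠ j → ∀ a b : F, a ≠ 0 → b ≠ 0 →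
      (Pi.single i a + Pi.single j b : Fin n → F) ∈ X)
    (htv : ∀ y z : Fin n → F, y ∈ X → z ∈ X →
      (fun i => y i + Cfsg.hermForm n F 2 y z * z i) ∈ X)
    (h4 : ∀ z : Fin n → F, wt z = 4 → z ∈ X) :
    ∀ z : Fin n → F, Even (wt z) → z ∈ X := by
  have main : ∀ k : ℕ, ∀ z : Fin n → F, wt z = k → Even k → z ∈ X := by
    intro k
    induction k using Nat.strong_induction_on with
    | _ k ih =>
      intro z hzk hek
      by_cases hk0 : k = 0
      · rw [hk0] at hzk
        rw [q2up_wt_zero hzk]
        exact h0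
      by_cases hk2 : k = 2
      · rw [hk2] at hzk
        obtain ⟨i, j, hij, hi, hj, hzz⟩ := q2up_wt_two hzk
        rw [hzz]
        exact hw2 i j hij _ _ hi hj
      by_cases hk4 : k = 4
      · exact h4 z (by rw [hzk, hk4])
      have hk6 : 6 ≤ k := by
        obtain ⟨m, hm⟩ := hek
        omega
      have hle : wt z ≤ n := by
        unfold wt
        calc _ ≤ (Finset.univ : Finset (Fin n)).card := Finset.card_le_card (Finset.filter_subset _ _)
          _ = n := by rw [Finset.card_univ, Fintype.card_fin]
      by_cases hall : ∀ i, z i ≠ 0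
      · -- full weight
        have hn : wt z = n := by
          rw [q2up_wt_eq z Finset.univ (by intro i; simp [hall i]), Finset.card_univ,
            Fintype.card_fin]
        obtain ⟨v, u, hv, hu, hf, hsum⟩ :=
          q2up_step_full h2 hcube w hw0 hw (by omega) z hall
        have hvX : v ∈ X := by
          refine ih (wt v) (by omega) v rfl ?_
          have : Even (wt v + 2) := by rw [hv, ← hn, hzk]; exact hek
          rcases this with ⟨m, hm⟩
          exact ⟨m - 1, by omega⟩
        have huX : u ∈ X := h4 u hu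
        have := htv v u hvX huX
        rw [hf] at this
        have hzeq : z = fun i => v i + w * u i := by
          funext i; exact (hsum i).symm
        rw [hzeq]; exact this
      · push Not at hall
        obtain ⟨i₀, hi₀⟩ := hall
        obtain ⟨v, u, hv, hu, hf, hsum⟩ := q2up_step_lt h2 z (by omega) hi₀
        have hvX : v ∈ X := by
          refine ih (wt v) (by omega) v rfl ?_
          have : Even (wt v + 2) := by rw [hv, hzk]; exact hek
          rcases this with ⟨m, hm⟩
          exact ⟨m - 1, by omega⟩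
        have huX : u ∈ X := h4 u hu
        have := htv v u hvX huX
        rw [hf] at this
        have hzeq : z = fun i => v i + 1 * u i := by
          funext i; rw [one_mul]; exact (hsum i).symm
        rw [hzeq]; exact this
  intro z hz
  exact main (wt z) z rfl hz

end Cfsg.Agent.Lib.Lead.UDK1Q2
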