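import Cfsg.Agent.Lib.Lead.UDK1Q2.Defs
import Cfsg.Agent.Lib.helper2.UDK1Q2UPcore
import Cfsg.Agent.Lib.helper4.UDK1Q2W2
import Cfsg.Agent.Lib.helper4.UDK1Q2PATcore

/-!
# Block UDK1Q2, row UP (verbatim): all vectors of weight four in `C.X` ⇒ all vectors of even weight in `C.X`
-/

set_option autoImplicit false

namespace Cfsg.Agent.Lib.Lead.UDK1Q2

open Matrix Cfsg.Agent.Lib.Helper29.ExtrL Cfsg.Agent.Lib.Helper28.UMax

variable {n : ℕ} {F : Type*} [Field F] [Fintype F] [DecidableEq F]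

theorem q2_up (C : Ctx n F) (hn : 7 ≤ n) (h4 : ∀ z : Fin n → F, wt z = 4 → z ∈ C.X) :
    ∀ z : Fin n → F, Even (wt z) → z ∈ C.X := by
  obtain ⟨w, hw0, _, hw⟩ := q2up_omega C.hF
  exact q2up_core C.X (q2up_two C.hF) (fun a ha => q2up_cube C.hF ha) w hw0 hw (q2_zero C)
    (fun i j hij a b ha hb => q2_w2 C hij ha hb) (fun y z hy hz => q2_tv C hy hz) h4

end Cfsg.Agent.Lib.Lead.UDK1Q2
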