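import Mathlib
import Cfsg.Prelude.Def_ChevStructure
import Cfsg.Prelude.Def_ChevG2
import Cfsg.Agent.Lib.helper14.G2T.Basic
import Cfsg.Agent.Lib.helper14.G2T.Long
import Cfsg.Agent.Lib.helper8.ChevFix1

/-!
# Project G2T (S2371), row D9 (`cent_sigma`): core.

`g2td9_core`: the centraliser of `σ` in `G₂(F)` is `⟨σ⟩`, with the STATEMENTS of the cited rows
D6 (at `g`), B3 (first half), D4, C3 (at `b`), D7 (at `lam`), D8, D5 (at `σ`) as hypotheses.
-/

set_option autoImplicit false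

namespace Cfsg.Agent.Lib.helper14.G2T

open Cfsg.Lie Cfsg.Lie.ChevalleyDatum Cfsg.Agent.Lib.helper8 Matrix

universe u v

section D

variable {F : Type u} [Field F] [Fintype F] {E : Type v} [Field E] [Fintype E] [Algebra F E]

/-- the `W`-block commutes with base change -/
theorem g2td9_gW_map (M : Matrix chevG2.Idx chevG2.Idx F) :
    gW (M.map (algebraMap F E)) = (gW M).map (algebraMap F E) := by
  ext i j
  simp [gW]

/-- cancel the diagonal factor `diag(d, 1, 1)` -/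
theorem g2td9_cancel (d : E) (hd : d ≠ 0) (Mo X : Matrix (Fin 3) (Fin 3) E) (μ : Fin 3 → E)
    (h : Matrix.diagonal ![d, 1, 1] * Mo * X = Matrix.diagonal μ * (Matrix.diagonal ![d, 1, 1] * Mo)) :
    Mo * X = Matrix.diagonal μ * Mo := by
  have hinv : Matrix.diagonal ![d⁻¹, 1, 1] * Matrix.diagonal ![d, 1, 1] =
      (1 : Matrix (Fin 3) (Fin 3) E) := by
    rw [Matrix.diagonal_mul_diagonal, ← Matrix.diagonal_one]
    congr 1
    funext k
    fin_cases k <;> simp [hd]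
  have hcomm' : Matrix.diagonal μ * Matrix.diagonal ![d, 1, 1] =
      Matrix.diagonal ![d, 1, 1] * Matrix.diagonal μ := by
    rw [Matrix.diagonal_mul_diagonal, Matrix.diagonal_mul_diagonal]
    congr 1
    funext k
    exact mul_comm _ _
  calc Mo * X = (Matrix.diagonal ![d⁻¹, 1, 1] * Matrix.diagonal ![d, 1, 1]) * (Mo * X) := by
        rw [hinv, Matrix.one_mul]
    _ = Matrix.diagonal ![d⁻¹, 1, 1] * (Matrix.diagonal ![d, 1, 1] * Mo * X) := by
        simp only [Matrix.mul_assoc]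
    _ = Matrix.diagonal ![d⁻¹, 1, 1] *
          (Matrix.diagonal μ * (Matrix.diagonal ![d, 1, 1] * Mo)) := by rw [h]
    _ = Matrix.diagonal ![d⁻¹, 1, 1] *
          (Matrix.diagonal ![d, 1, 1] * (Matrix.diagonal μ * Mo)) := by
        rw [← Matrix.mul_assoc (Matrix.diagonal μ), hcomm', Matrix.mul_assoc]
    _ = (Matrix.diagonal ![d⁻¹, 1, 1] * Matrix.diagonal ![d, 1, 1]) *
          (Matrix.diagonal μ * Mo) := by rw [Matrix.mul_assoc]
    _ = Matrix.diagonal μ * Mo := by rw [hinv, Matrix.one_mul]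

/-- **D9 core**. -/
theorem g2td9_core (b : Module.Basis (Fin 3) F E) (lam : E)
    (hlam : orderOf lam = Fintype.card F ^ 2 + Fintype.card F + 1)
    (P : Matrix.SpecialLinearGroup (Fin 3) E) (d : E) (hd : d ≠ 0)
    (hP : (P : Matrix (Fin 3) (Fin 3) E) = Matrix.diagonal ![d, 1, 1] * moore b (Fintype.card F))
    (σ g : GL chevG2.Idx F)
    (hD6 : PhiGL P * h8Psi chevG2 (algebraMap F E) g * (PhiGL P)⁻¹ ∈ chevG2.diagonalSubgroup E)
    (hB3 : ∀ g' : GL chevG2.Idx E, g' ∈ chevG2.diagonalSubgroup E →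
      ∃ c0 c1 : E, c0 ≠ 0 ∧ c1 ≠ 0 ∧ (g' : Matrix chevG2.Idx chevG2.Idx E) = hh c0 c1)
    (hD4 : ∀ (M : Matrix chevG2.Idx chevG2.Idx E) (P' : Matrix (Fin 3) (Fin 3) E) (c0 c1 : E),
      c0 ≠ 0 → c1 ≠ 0 → Phi P' * M = hh c0 c1 * Phi P' →
      P' * gW M = Matrix.diagonal (fun k => chi c0 c1 (wroot k)) * P')
    (hC3 : ∀ (M : Matrix (Fin 3) (Fin 3) F) (μ : Fin 3 → E),
      moore b (Fintype.card F) * M.map (algebraMap F E) =
        Matrix.diagonal μ * moore b (Fintype.card F) →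
      μ 1 = μ 0 ^ Fintype.card F ∧ μ 2 = μ 0 ^ Fintype.card F ^ 2)
    (hD7 : ∀ c0 c1 : E, c0 ≠ 0 → c1 ≠ 0 →
      chi c0 c1 (wroot 1) = chi c0 c1 (wroot 0) ^ Fintype.card F →
      chi c0 c1 (wroot 2) = chi c0 c1 (wroot 0) ^ Fintype.card F ^ 2 →
      ∃ i : ℕ, c0 = (lam * lam ^ Fintype.card F) ^ i ∧ c1 = (lam ^ 2 * lam ^ Fintype.card F) ^ i)
    (hD8 : ∀ c0 c1 : E, c0 ≠ 0 → c1 ≠ 0 → ∀ i : ℕ, hh (c0 ^ i) (c1 ^ i) = hh c0 c1 ^ i)
    (hD5 : ∃ T₀ : GL chevG2.Idx E, T₀ ∈ chevG2.diagonalSubgroup E ∧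
      (T₀ : Matrix chevG2.Idx chevG2.Idx E) =
        hh (lam * lam ^ Fintype.card F) (lam ^ 2 * lam ^ Fintype.card F) ∧
      PhiGL P * h8Psi chevG2 (algebraMap F E) σ * (PhiGL P)⁻¹ = T₀) :
    ∃ i : ℕ, g = σ ^ i := by
  obtain ⟨c0', c1', hc0', hc1', hX⟩ := hB3 _ hD6
  -- the matrix equation `Phi P * g.map ι = hh c₀' c₁' * Phi P`
  have hmat : Phi (P : Matrix (Fin 3) (Fin 3) E) *
      (g : Matrix chevG2.Idx chevG2.Idx F).map (algebraMap F E) =
      hh c0' c1' * Phi (P : Matrix (Fin 3) (Fin 3) E) := by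
    have h1 : (PhiGL P * h8Psi chevG2 (algebraMap F E) g * (PhiGL P)⁻¹) * PhiGL P =
        PhiGL P * h8Psi chevG2 (algebraMap F E) g := by group
    have h2 : ((PhiGL P * h8Psi chevG2 (algebraMap F E) g * (PhiGL P)⁻¹ : GL chevG2.Idx E) :
          Matrix chevG2.Idx chevG2.Idx E) * ((PhiGL P : GL chevG2.Idx E) :
          Matrix chevG2.Idx chevG2.Idx E) =
        ((PhiGL P : GL chevG2.Idx E) : Matrix chevG2.Idx chevG2.Idx E) *
          ((h8Psi chevG2 (algebraMap F E) g : GL chevG2.Idx E) :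
            Matrix chevG2.Idx chevG2.Idx E) := by
      rw [← Units.val_mul, ← Units.val_mul, h1]
    rw [hX, PhiGL_val, h8Psi_val] at h2
    exact h2.symm
  have hblock := hD4 _ _ c0' c1' hc0' hc1' hmat
  rw [g2td9_gW_map, hP] at hblock
  have hcancel := g2td9_cancel d hd _ _ _ hblock
  obtain ⟨h1, h2⟩ := hC3 _ _ hcancel
  obtain ⟨i, hi0, hi1⟩ := hD7 c0' c1' hc0' hc1' h1 h2
  refine ⟨i, ?_⟩
  have hlam0 : lam ≠ 0 := by
    intro h0
    have hpow := pow_orderOf_eq_one lam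
    rw [hlam, h0, zero_pow (by positivity)] at hpow
    exact zero_ne_one hpow
  have hc0 : lam * lam ^ Fintype.card F ≠ 0 := mul_ne_zero hlam0 (pow_ne_zero _ hlam0)
  have hc1 : lam ^ 2 * lam ^ Fintype.card F ≠ 0 :=
    mul_ne_zero (pow_ne_zero _ hlam0) (pow_ne_zero _ hlam0)
  obtain ⟨T₀, -, hT₀, hconj⟩ := hD5
  apply h8Psi_injective chevG2 (algebraMap F E)
  have hXT : PhiGL P * h8Psi chevG2 (algebraMap F E) g * (PhiGL P)⁻¹ = T₀ ^ i := by
    apply Units.ext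
    rw [hX, hi0, hi1, hD8 _ _ hc0 hc1, Units.val_pow_eq_pow_val, hT₀]
  have hfin : PhiGL P * h8Psi chevG2 (algebraMap F E) g * (PhiGL P)⁻¹ =
      PhiGL P * h8Psi chevG2 (algebraMap F E) (σ ^ i) * (PhiGL P)⁻¹ := by
    rw [hXT, ← hconj, map_pow, conj_pow]
  exact mul_left_cancel (mul_right_cancel hfin)

end D

end Cfsg.Agent.Lib.helper14.G2T
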