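import Mathlib
import Cfsg.Agent.Lib.helper14.SGUDefs

set_option autoImplicit false
set_option linter.unusedVariables false
set_option linter.unusedSectionVars false

/-!
# SGU / NSD (helper2)

An irreducible `g` of odd degree cannot kill `v ≠ 0` both at `y` and at `y⁻¹ = y^(r-1)` (`r` odd, `y^r = 1`, `2 ≠ 0`,
no fixed vectors).  General-module versions `sgunsd_*`, then the row statement `nsd` verbatim.
-/

namespace Cfsg.Agent.Lib.helper14.SGU

open Polynomial Module Cfsg.Agent.Lib.Lead.SPU Cfsg.Agent.Lib.Helper19.SPD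

section general

variable {F : Type*} [Field F] {V : Type*} [AddCommGroup V] [Module F V]

theorem sgunsd_kill_of_dvd (y : V →ₗ[F] V) (v : V) {g h : F[X]} (hgh : g ∣ h) (hg : aeval y g v = 0) :
    aeval y h v = 0 := by
  obtain ⟨k, rfl⟩ := hgh
  rw [mul_comm, map_mul, Module.End.mul_apply, hg, map_zero]

theorem sgunsd_dvd_of_kill (y : V →ₗ[F] V) (v : V) (hv : v ≠ 0) {g h : F[X]} (hirr : Irreducible g)
    (hg : aeval y g v = 0) (hh : aeval y h v = 0) : g ∣ h := by
  by_contra hnd
  have hcop : IsCoprime g h := (hirr.coprime_iff_not_dvd).2 hnd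
  obtain ⟨a, b, hab⟩ := hcop
  apply hv
  have h1 : aeval y (a * g + b * h) v = v := by rw [hab]; simp
  rw [← h1, map_add, map_mul, map_mul, LinearMap.add_apply, Module.End.mul_apply, Module.End.mul_apply, hg, hh]
  simp

theorem sgunsd_aeval_reflect (y z : V →ₗ[F] V) (hc : Commute y z) (hyz : y * z = 1) (N : ℕ) (p : F[X])
    (hp : p.natDegree ≤ N) : aeval y (reflect N p) = y ^ N * aeval z p := by
  refine Polynomial.induction_with_natDegree_le
    (fun p => aeval y (reflect N p) = y ^ N * aeval z p) N ?_ ?_ ?_ p hp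
  · simp
  · intro n c hc0 hn
    rw [reflect_C_mul_X_pow, revAt_le hn]
    simp only [map_mul, aeval_C, map_pow, aeval_X]
    have h1 : y ^ N = y ^ (N - n) * y ^ n := by rw [← pow_add, Nat.sub_add_cancel hn]
    have h2 : y ^ n * z ^ n = 1 := by rw [← hc.mul_pow, hyz, one_pow]
    rw [← Algebra.smul_def, ← Algebra.smul_def, mul_smul_comm, h1, mul_assoc, h2, mul_one]
  · intro f g _ _ hf hg
    rw [reflect_add, map_add, map_add, mul_add, hf, hg]

theorem sgunsd_aeval_reverse (y z : V →ₗ[F] V) (hc : Commute y z) (hyz : y * z = 1) (g : F[X]) :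
    aeval y g.reverse = y ^ g.natDegree * aeval z g :=
  sgunsd_aeval_reflect y z hc hyz g.natDegree g le_rfl

theorem sgunsd_eval_one_reverse (g : F[X]) : g.reverse.eval 1 = g.eval 1 := by
  haveI : Invertible (1 : F) := invertibleOne
  have h := eval₂_reverse_mul_pow (RingHom.id F) (1 : F) g
  rw [invOf_one, one_pow, mul_one] at h
  exact h

theorem sgunsd_eval_neg_one_reverse (g : F[X]) :
    g.reverse.eval (-1) * (-1) ^ g.natDegree = g.eval (-1) := by
  haveI : Invertible (1 : F) := invertibleOne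
  haveI : Invertible (-1 : F) := invertibleNeg 1
  have h := eval₂_reverse_mul_pow (RingHom.id F) (-1 : F) g
  have h1 : ⅟(-1 : F) = -1 := by rw [invOf_eq_inv]; simp
  rw [h1] at h
  exact h

theorem sgunsd_main (h2 : (2 : F) ≠ 0) (r : ℕ) (hr : Odd r) (y : V →ₗ[F] V) (hy : y ^ r = 1)
    (g : F[X]) (hg : Irreducible g) (hdeg : Odd g.natDegree) (v : V)
    (hv1 : aeval y g v = 0) (hv2 : aeval (y ^ (r - 1)) g v = 0) (hfix : y v = v → v = 0) : v = 0 := by
  by_contra hv
  have hr1 : 1 ≤ r := hr.pos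
  have hyz : y * y ^ (r - 1) = 1 := by rw [← pow_succ', Nat.sub_add_cancel hr1, hy]
  have hc : Commute y (y ^ (r - 1)) := Commute.pow_right (Commute.refl y) _
  -- the reverse kills `v`
  have hrev : aeval y g.reverse v = 0 := by
    rw [sgunsd_aeval_reverse y _ hc hyz g, Module.End.mul_apply, hv2, map_zero]
  have hdvd : g ∣ g.reverse := sgunsd_dvd_of_kill y v hv hg hv1 hrev
  have hg0 : g ≠ 0 := hg.ne_zero
  obtain ⟨q, hq⟩ := hdvd
  have hrev0 : g.reverse ≠ 0 := by
    intro h; exact hg0 (reverse_eq_zero.1 h)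
  have hq0 : q ≠ 0 := by
    rintro rfl; rw [mul_zero] at hq; exact hrev0 hq
  have hqdeg : q.natDegree = 0 := by
    have h1 : g.reverse.natDegree = g.natDegree + q.natDegree := by
      rw [hq, natDegree_mul hg0 hq0]
    have h2 := reverse_natDegree_le g
    omega
  obtain ⟨c, rfl⟩ := natDegree_eq_zero.1 hqdeg
  -- evaluate at `1` and `-1`
  have e1 : g.eval 1 = g.eval 1 * c := by
    have := sgunsd_eval_one_reverse g
    rw [hq, eval_mul, eval_C] at this
    exact this.symm
  have e2 : g.eval (-1) = - (g.eval (-1) * c) := by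
    have := sgunsd_eval_neg_one_reverse g
    rw [hq, eval_mul, eval_C, hdeg.neg_one_pow] at this
    rw [mul_neg, mul_one] at this
    exact this.symm
  -- a root `a` of `g` makes `y v = a v`
  have hroot : ∀ a : F, g.eval a = 0 → y v = a • v := by
    intro a ha
    have hd : X - C a ∣ g := dvd_iff_isRoot.2 ha
    have hass : Associated (X - C a) g := (irreducible_X_sub_C a).associated_of_dvd hg hd
    have hk : aeval y (X - C a) v = 0 := sgunsd_kill_of_dvd y v hass.dvd' hv1
    simp only [map_sub, aeval_X, aeval_C, LinearMap.sub_apply, Module.algebraMap_end_apply] at hk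
    exact sub_eq_zero.1 hk
  by_cases hc1 : c = 1
  · subst hc1
    rw [mul_one] at e2
    have h3 : (2 : F) * g.eval (-1) = 0 := by
      have : g.eval (-1) + g.eval (-1) = 0 := by nth_rewrite 1 [e2]; simp
      rw [two_mul]; exact this
    have h4 : g.eval (-1) = 0 := (mul_eq_zero.1 h3).resolve_left h2
    have h5 : y v = (-1 : F) • v := hroot _ h4
    have h6 : ∀ n : ℕ, (y ^ n) v = ((-1 : F) ^ n) • v := by
      intro n
      induction n with
      | zero => simp
      | succ n ih => rw [pow_succ, Module.End.mul_apply, h5, map_smul, ih, smul_smul, pow_succ, mul_comm]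
    have h7 := h6 r
    rw [hy, hr.neg_one_pow, Module.End.one_apply] at h7
    have h8 : (2 : F) • v = 0 := by
      rw [two_smul]
      nth_rewrite 1 [h7]
      simp
    exact hv ((smul_eq_zero.1 h8).resolve_left h2)
  · have h3 : g.eval 1 * (1 - c) = 0 := by
      rw [mul_sub, mul_one, ← e1, sub_self]
    have h4 : g.eval 1 = 0 := (mul_eq_zero.1 h3).resolve_right (sub_ne_zero.2 (Ne.symm hc1))
    have h5 : y v = (1 : F) • v := hroot _ h4
    rw [one_smul] at h5
    exact hv (hfix h5)

end general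

variable {F : Type*} [Field F] {d : ℕ}

/-- NSD [M-L] : an irreducible `g` of odd degree cannot kill `v ≠ 0` both at `y` and at `y⁻¹ = y^(r-1)`. -/
theorem nsd (h2 : (2 : F) ≠ 0) (r : ℕ) (hr : Odd r) (y : (Fin d ⊕ Fin d → F) →ₗ[F] (Fin d ⊕ Fin d → F)) (hy : y ^ r = 1)
    (g : F[X]) (hg : Irreducible g) (hdeg : Odd g.natDegree) (v : Fin d ⊕ Fin d → F)
    (hv1 : aeval y g v = 0) (hv2 : aeval (y ^ (r - 1)) g v = 0) (hfix : y v = v → v = 0) : v = 0 :=
  sgunsd_main h2 r hr y hy g hg hdeg v hv1 hv2 hfix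

end Cfsg.Agent.Lib.helper14.SGU
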