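import Mathlib
import Cfsg.Prelude.Def_LieTypeChar
import Cfsg.Agent.Lib.helper14.SQD.Defs
import Cfsg.Agent.Lib.helper14.SQD.DefsU
import Cfsg.Agent.Lib.Helper1.SQDX4
import Cfsg.Agent.Lib.Helper18.SQDX2
import Cfsg.Agent.Lib.Helper18.SQDUF
import Cfsg.Agent.Lib.Helper28.SQDT6
import Cfsg.Agent.Lib.Helper29.SQDH1
import Cfsg.Agent.Lib.Helper22.SQDH2
import Cfsg.Agent.Lib.Helper29.SQDH3

/-!
Project SQD = S4625 (designer helper14), row UO5 core (helper2): `suOdd_good` with the statements of H4, H5, H7,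
UO1, UO2, UO3, UO4, G4b as hypotheses (X11, X2, H1, H2, H3, UF2, T6 cited).
-/

set_option autoImplicit false

namespace Cfsg.Agent.Lib.helper14.SQD

open Cfsg Cfsg.Lie Matrix

universe u v

/-- the unit with matrix `hsM τ G₀ R C` -/
def sqduo5_mkU {k d : ℕ} {F : Type u} [Field F] (τ : F →+* F) (G₀ : Matrix (Fin d) (Fin d) F)
    (R : Matrix (Fin d) (Fin k) F) (C : Matrix (Fin k) (Fin k) F) : GL ((Fin k ⊕ Fin k) ⊕ Fin d) F :=
  have h : hsM τ G₀ R C * hsM τ G₀ (-R) (-C + tadj τ R * G₀ * R) = 1 := by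
    rw [hsM_mul]
    have h1 : R + -R = 0 := add_neg_cancel R
    have h2 : C + (-C + tadj τ R * G₀ * R) + tadj τ R * G₀ * -R = 0 := by
      rw [Matrix.mul_neg]
      abel
    rw [h1, h2, hsM_zero]
  ⟨hsM τ G₀ R C, hsM τ G₀ (-R) (-C + tadj τ R * G₀ * R), h, _root_.mul_eq_one_comm.mp h⟩

theorem sqduo5_mkU_val {k d : ℕ} {F : Type u} [Field F] (τ : F →+* F) (G₀ : Matrix (Fin d) (Fin d) F)
    (R : Matrix (Fin d) (Fin k) F) (C : Matrix (Fin k) (Fin k) F) :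
    ((sqduo5_mkU τ G₀ R C : GL ((Fin k ⊕ Fin k) ⊕ Fin d) F) :
      Matrix ((Fin k ⊕ Fin k) ⊕ Fin d) ((Fin k ⊕ Fin k) ⊕ Fin d) F) = hsM τ G₀ R C := rfl

theorem sqduo5_embGL_injective {ι : Type*} [Fintype ι] [DecidableEq ι] (d : ℕ) {R : Type*} [CommRing R] :
    Function.Injective (embGL (ι := ι) d (R := R)) := by
  intro w w' h
  have h' := congrArg (fun g : GL (ι ⊕ Fin d) R => (g : Matrix (ι ⊕ Fin d) (ι ⊕ Fin d) R)) h
  simp only [embGL_coe] at h'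
  rw [Matrix.fromBlocks_inj] at h'
  exact Units.ext h'.1

section UO
variable {F : Type} [Field F] [Fintype F] [CharP F 2] (e : ℕ) {k : ℕ}

theorem sqduo5_core (hF : Fintype.card F = (2 ^ e) ^ 2)
    (hH4 : ∀ (g : GL (Fin k) F) (R : Matrix (Fin 1) (Fin k) F) (C : Matrix (Fin k) (Fin k) F)
      (w w' : GL ((Fin k ⊕ Fin k) ⊕ Fin 1) F),
      (w : Matrix ((Fin k ⊕ Fin k) ⊕ Fin 1) ((Fin k ⊕ Fin k) ⊕ Fin 1) F) =
        hsM (frobE F e) (1 : Matrix (Fin 1) (Fin 1) F) R C →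
      (w' : Matrix ((Fin k ⊕ Fin k) ⊕ Fin 1) ((Fin k ⊕ Fin k) ⊕ Fin 1) F) =
        hsM (frobE F e) (1 : Matrix (Fin 1) (Fin 1) F)
          (R * tadj (frobE F e) (g : Matrix (Fin k) (Fin k) F))
          ((g : Matrix (Fin k) (Fin k) F) * C * tadj (frobE F e) (g : Matrix (Fin k) (Fin k) F)) →
      embGL 1 (levHom (frobE F e) g) * w * (embGL 1 (levHom (frobE F e) g))⁻¹ = w')
    (hH5 : hsGrp (frobE F e) (1 : Matrix (Fin 1) (Fin 1) F) (suC (k := k) (frobE F e)) ⊓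
      (levGrp (k := k) (frobE F e)).map (embGL 1) = ⊥)
    (hH7 : ∀ (R : Matrix (Fin 1) (Fin k) F) (C : Matrix (Fin k) (Fin k) F),
      hsM (frobE F e) (1 : Matrix (Fin 1) (Fin 1) F) R C * hsM (frobE F e) (1 : Matrix (Fin 1) (Fin 1) F) R C =
        hsM (frobE F e) (1 : Matrix (Fin 1) (Fin 1) F) 0
          (tadj (frobE F e) R * (1 : Matrix (Fin 1) (Fin 1) F) * R))
    (hUO1 : suC (k := k) (frobE F e) 0 0 ∧
      (∀ R C R' C', suC (k := k) (frobE F e) R C → suC (frobE F e) R' C' →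
        suC (frobE F e) (R + R') (C + C' + tadj (frobE F e) R * (1 : Matrix (Fin 1) (Fin 1) F) * R')) ∧
      ∀ R C, suC (k := k) (frobE F e) R C →
        suC (frobE F e) (-R) (-C + tadj (frobE F e) R * (1 : Matrix (Fin 1) (Fin 1) F) * R))
    (hUO2 : ∀ (g : Matrix (Fin k) (Fin k) F) (R : Matrix (Fin 1) (Fin k) F) (C : Matrix (Fin k) (Fin k) F),
      suC (frobE F e) R C → suC (frobE F e) (R * tadj (frobE F e) g) (g * C * tadj (frobE F e) g))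
    (hUO3 : (2 ^ e) ^ (2 * k + k ^ 2) ≤
      Nat.card {p : Matrix (Fin 1) (Fin k) F × Matrix (Fin k) (Fin k) F // suC (frobE F e) p.1 p.2})
    (hUO4 : ∀ w : GL ((Fin k ⊕ Fin k) ⊕ Fin 1) F,
      w ∈ hsGrp (frobE F e) (1 : Matrix (Fin 1) (Fin 1) F) (suC (k := k) (frobE F e)) →
      w ^ 2 ∈ ⁅hsGrp (frobE F e) (1 : Matrix (Fin 1) (Fin 1) F) (suC (k := k) (frobE F e)),
        hsGrp (frobE F e) (1 : Matrix (Fin 1) (Fin 1) F) (suC (k := k) (frobE F e))⁆)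
    (hG4b : Nat.card (levGrp (k := k) (frobE F e)) = Fintype.card F ^ (k * (k - 1) / 2)) :
    IsPGroup 2 ↥(suOddGrp (k := k) (frobE F e)) ∧
      (2 ^ e) ^ (2 * k + k ^ 2) * ((2 ^ e) ^ 2) ^ (k * (k - 1) / 2) ≤
        Nat.card ↥(suOddGrp (k := k) (frobE F e)) ∧ SqD (suOddGrp (k := k) (frobE F e)) := by
  set τ : F →+* F := frobE F e with hτ_def
  set G₀ : Matrix (Fin 1) (Fin 1) F := 1 with hG₀
  set N : Subgroup (GL ((Fin k ⊕ Fin k) ⊕ Fin 1) F) := hsGrp τ G₀ (suC (k := k) τ) with hN_def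
  set L : Subgroup (GL ((Fin k ⊕ Fin k) ⊕ Fin 1) F) := (levGrp (k := k) τ).map (embGL 1) with hL_def
  have memN : ∀ g : GL ((Fin k ⊕ Fin k) ⊕ Fin 1) F, g ∈ N ↔ ∃ R C, suC (k := k) τ R C ∧
      (g : Matrix ((Fin k ⊕ Fin k) ⊕ Fin 1) ((Fin k ⊕ Fin k) ⊕ Fin 1) F) = hsM τ G₀ R C :=
    fun g => mem_hsGrp τ G₀ (suC (k := k) τ) hUO1.1 hUO1.2.1 hUO1.2.2 g
  -- `N` has exponent dividing 4
  have hNp : IsPGroup 2 N := by
    intro g
    refine ⟨2, ?_⟩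
    obtain ⟨R, C, -, hval⟩ := (memN g.1).mp g.2
    apply Subtype.ext
    apply Units.ext
    have h2 : ((g.1 ^ 2 : GL ((Fin k ⊕ Fin k) ⊕ Fin 1) F) :
        Matrix ((Fin k ⊕ Fin k) ⊕ Fin 1) ((Fin k ⊕ Fin k) ⊕ Fin 1) F) =
        hsM τ G₀ 0 (tadj τ R * G₀ * R) := by
      rw [pow_two, Units.val_mul, hval, hH7]
    have h4 : ((g.1 ^ 2) ^ 2 : GL ((Fin k ⊕ Fin k) ⊕ Fin 1) F) = 1 := by
      apply Units.ext
      rw [pow_two, Units.val_mul, h2, hH7, Matrix.mul_zero, hsM_zero, Units.val_one]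
    have : (g ^ 2 ^ 2 : N).1 = (g.1 ^ 2) ^ 2 := by
      rw [Subgroup.coe_pow, ← pow_mul]
      norm_num
    rw [this, h4]
    rfl
  -- `L` is a 2-group by its order
  have hLp : IsPGroup 2 L := by
    have h1 : IsPGroup 2 (levGrp (k := k) τ) := by
      apply IsPGroup.of_card (n := 2 * e * (k * (k - 1) / 2))
      rw [hG4b, hF, ← pow_mul, ← pow_mul]
      congr 1
      ring
    exact h1.map (embGL 1)
  -- `L` normalises `N`
  have conjN : ∀ (g : GL (Fin k) F) (n : GL ((Fin k ⊕ Fin k) ⊕ Fin 1) F), n ∈ N →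
      embGL 1 (levHom τ g) * n * (embGL 1 (levHom τ g))⁻¹ ∈ N := by
    intro g n hn
    obtain ⟨R, C, hRC, hval⟩ := (memN n).mp hn
    have hw' := hH4 g R C n (sqduo5_mkU τ G₀ (R * tadj τ (g : Matrix (Fin k) (Fin k) F))
      ((g : Matrix (Fin k) (Fin k) F) * C * tadj τ (g : Matrix (Fin k) (Fin k) F))) hval rfl
    rw [hw']
    exact (memN _).mpr ⟨_, _, hUO2 _ R C hRC, rfl⟩
  have hLN : L ≤ Subgroup.normalizer (N : Set (GL ((Fin k ⊕ Fin k) ⊕ Fin 1) F)) := by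
    intro l hl
    obtain ⟨l', hl', rfl⟩ := Subgroup.mem_map.mp hl
    obtain ⟨g, -, rfl⟩ := Subgroup.mem_map.mp hl'
    rw [Subgroup.mem_normalizer_iff]
    intro n
    constructor
    · exact conjN g n
    · intro h
      have h' := conjN g⁻¹ _ h
      have e1 : embGL 1 (levHom τ g⁻¹) = (embGL 1 (levHom τ g))⁻¹ := by
        rw [map_inv, map_inv]
      rw [e1] at h'
      have e2 : (embGL 1 (levHom τ g))⁻¹ * (embGL 1 (levHom τ g) * n * (embGL 1 (levHom τ g))⁻¹) *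
          (embGL 1 (levHom τ g))⁻¹⁻¹ = n := by group
      rw [e2] at h'
      exact h'
  have hN2 : ∀ x ∈ N, x ^ 2 ∈ ⁅N ⊔ L, N ⊔ L⁆ := fun x hx =>
    Subgroup.commutator_mono le_sup_left le_sup_left (hUO4 x hx)
  have hL2 : ∀ x ∈ L, x ^ 2 ∈ ⁅N ⊔ L, N ⊔ L⁆ := by
    have hS : SqD L := sqd_map (embGL 1) (levGrp (k := k) τ) (sqd_map (levHom τ) (uutGL k F) sqd_uutGL)
    intro x hx
    exact Subgroup.commutator_mono le_sup_right le_sup_right (hS x hx)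
  obtain ⟨hP, hcard, hSq⟩ := semi_good N L hLN hNp hLp hH5 hN2 hL2
  refine ⟨hP, ?_, hSq⟩
  -- cardinalities
  have hcN : (2 ^ e) ^ (2 * k + k ^ 2) ≤ Nat.card N := by
    refine le_trans hUO3 ?_
    let f : {p : Matrix (Fin 1) (Fin k) F × Matrix (Fin k) (Fin k) F // suC τ p.1 p.2} → N :=
      fun p => ⟨sqduo5_mkU τ G₀ p.1.1 p.1.2, (memN _).mpr ⟨_, _, p.2, rfl⟩⟩
    apply Nat.card_le_card_of_injective f
    intro p p' h
    have h' : hsM τ G₀ p.1.1 p.1.2 = hsM τ G₀ p'.1.1 p'.1.2 := by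
      have := congrArg (fun g : N => ((g.1 : GL ((Fin k ⊕ Fin k) ⊕ Fin 1) F) :
        Matrix ((Fin k ⊕ Fin k) ⊕ Fin 1) ((Fin k ⊕ Fin k) ⊕ Fin 1) F)) h
      exact this
    obtain ⟨h1, h2⟩ := hsM_inj τ G₀ _ _ _ _ h'
    exact Subtype.ext (Prod.ext h1 h2)
  have hcL : Nat.card L = ((2 ^ e) ^ 2) ^ (k * (k - 1) / 2) := by
    rw [hL_def, Subgroup.card_map_of_injective (sqduo5_embGL_injective 1), hG4b, hF]
  calc (2 ^ e) ^ (2 * k + k ^ 2) * ((2 ^ e) ^ 2) ^ (k * (k - 1) / 2)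
      ≤ Nat.card N * Nat.card L := by
        rw [hcL]
        exact Nat.mul_le_mul_right _ hcN
    _ ≤ Nat.card ↥(N ⊔ L) := hcard

end UO

end Cfsg.Agent.Lib.helper14.SQD
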