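import Mathlib
import Cfsg.Prelude.Def_LieTypeChar
import Cfsg.Agent.Lib.helper14.SQD.Defs
import Cfsg.Agent.Lib.helper14.SQD.DefsU
import Cfsg.Agent.Lib.helper2.SQDUO5core
import Cfsg.Agent.Lib.Helper21.SQDH4
import Cfsg.Agent.Lib.Helper10.SQDH5
import Cfsg.Agent.Lib.Helper21.SQDH6
import Cfsg.Agent.Lib.Helper10.SQDUO1
import Cfsg.Agent.Lib.helper6.SQDUO3
import Cfsg.Agent.Lib.helper6.SQDUO4
import Cfsg.Agent.Lib.Helper16.SQDG4

/-!
Project SQD = S4625 (designer helper14), row UO5 (helper2): `suOdd_good`, verbatim.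
-/

set_option autoImplicit false

namespace Cfsg.Agent.Lib.helper14.SQD

open Cfsg Cfsg.Lie Matrix

universe u v

section UO
variable {F : Type} [Field F] [Fintype F] [CharP F 2] (e : ℕ) {k : ℕ}

theorem suOdd_good (hF : Fintype.card F = (2 ^ e) ^ 2) :
    IsPGroup 2 ↥(suOddGrp (k := k) (frobE F e)) ∧
      (2 ^ e) ^ (2 * k + k ^ 2) * ((2 ^ e) ^ 2) ^ (k * (k - 1) / 2) ≤
        Nat.card ↥(suOddGrp (k := k) (frobE F e)) ∧ SqD (suOddGrp (k := k) (frobE F e)) :=
  sqduo5_core e hF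
    (fun g R C w w' hw hw' => lev_conj_hs (frobE F e) 1 (frobE_frobE e hF) g R C w w' hw hw')
    (hs_inf_lev (frobE F e) 1 (suC (k := k) (frobE F e)) (suC_props e hF).1 (suC_props e hF).2.1
      (suC_props e hF).2.2)
    (fun R C => hs_sq (frobE F e) 1 R C)
    (suC_props e hF) (fun g R C h => suC_lev e hF g R C h) (card_suC_ge e hF)
    (fun w hw => suO_sq e hF w hw) (card_levGrp (frobE F e))

end UO

end Cfsg.Agent.Lib.helper14.SQD
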