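import Cfsg.Agent.Lib.helper15.SLM.Defs
import Cfsg.Agent.Lib.helper2.CharInt
import Cfsg.Agent.Lib.helper2.CharInd
import Cfsg.Agent.Lib.helper6.SLMC3

set_option autoImplicit false
set_option linter.unusedSectionVars false
set_option linter.unusedVariables false

namespace Cfsg.Agent.Lib.helper15.SLM

open Matrix


section D

variable {F : Type*} [Field F] [Fintype F] [DecidableEq F]
  {κ : Type*} [Fintype κ] [DecidableEq κ]
  {V : Type*} [AddCommGroup V] [Module ℂ V] [FiniteDimensional ℂ V]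

theorem h2_xQ_eq_tv (u : κ → F) :
    (xQ u : SpecialLinearGroup (Unit ⊕ κ) F) =
      tv (Sum.elim (fun _ => (1 : F)) (fun _ => 0)) (Sum.elim (fun _ => 0) u)
        (by simp [dotProduct, Fintype.sum_sum_type]) := by
  apply Subtype.ext
  show xMat u = tvMat _ _
  exact xMat_eq_tvMat u

/-- D5 (R3) : integrality of the central character on the class of transvections -/
theorem thin_integrality (q m : ℕ) (hq : Fintype.card F = q) (hm : Fintype.card κ = m)
    (hm2 : 2 ≤ m)
    (ρ : Representation ℂ (SpecialLinearGroup (Unit ⊕ κ) F) V) (hirr : ρ.IsIrreducible) (b : ℕ)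
    (hb : 1 ≤ b) (hc : ∀ u : κ → F, u ≠ 0 → ρ.character (xQ u) = (b : ℂ) - 1) :
    Module.finrank ℂ V ∣ ((q ^ (m + 1) - 1) * (q ^ m - 1) / (q - 1)) * (b - 1) := by
  classical
  have hq2 : 2 ≤ q := by
    rw [← hq]
    exact Fintype.one_lt_card
  have hκ : Nonempty κ := by
    rw [← Fintype.card_pos_iff]
    omega
  obtain ⟨i₀⟩ := hκ
  -- a nonzero vector
  set u : κ → F := Pi.single i₀ 1 with hu
  have hu0 : u ≠ 0 := by
    intro h0
    have := congrFun h0 i₀
    simp [hu] at this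
  have hy : (Sum.elim (fun _ => (1 : F)) (fun _ => 0) : Unit ⊕ κ → F) ≠ 0 := by
    intro h0
    have := congrFun h0 (Sum.inl ())
    simp at this
  have hη : (Sum.elim (fun _ => (0 : F)) u : Unit ⊕ κ → F) ≠ 0 := by
    intro h0
    apply hu0
    funext j
    have := congrFun h0 (Sum.inr j)
    simpa using this
  have hcard : Fintype.card (Unit ⊕ κ) = m + 1 := by
    rw [Fintype.card_sum, hm]
    simp [add_comm]
  have hidx := index_centralizer_tv (F := F) (ι := Unit ⊕ κ) q (m + 1) hq hcard (by omega)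
    (Sum.elim (fun _ => (1 : F)) (fun _ => 0)) (Sum.elim (fun _ => 0) u) hy hη
    (by simp [dotProduct, Fintype.sum_sum_type])
  rw [← h2_xQ_eq_tv u, Nat.add_sub_cancel] at hidx
  have hidx' : (Subgroup.centralizer ({xQ u} : Set (SpecialLinearGroup (Unit ⊕ κ) F))).index =
      (q ^ (m + 1) - 1) * (q ^ m - 1) / (q - 1) := by
    rw [← hidx, Nat.mul_div_cancel _ (by omega : 0 < q - 1)]
  have := hirr
  have hint := Cfsg.Agent.Lib.helper2.central_char_integral ρ (xQ u)
  rw [hc u hu0, hidx'] at hint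
  have hk0 : Module.finrank ℂ V ≠ 0 := Cfsg.Agent.Lib.Helper25.finrank_ne_zero_of_irr ρ
  apply Cfsg.Agent.Lib.helper2.nat_dvd_of_isIntegral_div _ _ hk0
  have hcast : (((q ^ (m + 1) - 1) * (q ^ m - 1) / (q - 1) * (b - 1) : ℕ) : ℂ) =
      (((q ^ (m + 1) - 1) * (q ^ m - 1) / (q - 1) : ℕ) : ℂ) * ((b : ℂ) - 1) := by
    rw [Nat.cast_mul, Nat.cast_sub hb, Nat.cast_one]
  rw [hcast]
  exact hint

end D

end Cfsg.Agent.Lib.helper15.SLM
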