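import Cfsg.Agent.Lib.helper15.SLM.Defs
import Cfsg.Agent.Lib.helper2.CharInt
import Cfsg.Agent.Lib.helper2.CharInd
import Cfsg.Agent.Lib.Lead.SLn
import Cfsg.Agent.Lib.Helper24.SLMA9

set_option autoImplicit false
set_option linter.unusedSectionVars false
set_option linter.unusedVariables false

namespace Cfsg.Agent.Lib.helper15.SLM

open Matrix


section D

variable {F : Type*} [Field F] [Fintype F] [DecidableEq F]
  {κ : Type*} [Fintype κ] [DecidableEq κ]
  {V : Type*} [AddCommGroup V] [Module ℂ V] [FiniteDimensional ℂ V]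

theorem h2_dSL_normalizes (A : SpecialLinearGroup κ F) (u : κ → F) :
    ∃ u', (dSL A : SpecialLinearGroup (Unit ⊕ κ) F) * xQ u = xQ u' * dSL A := by
  refine ⟨u ᵥ* ((A⁻¹ : SpecialLinearGroup κ F) : Matrix κ κ F), ?_⟩
  have hA : ((A⁻¹ : SpecialLinearGroup κ F) : Matrix κ κ F) * (A : Matrix κ κ F) = 1 := by
    have h : (A⁻¹ * A : SpecialLinearGroup κ F) = 1 := inv_mul_cancel A
    exact congrArg Subtype.val h
  have hmat : ((dSL A : SpecialLinearGroup (Unit ⊕ κ) F) : Matrix (Unit ⊕ κ) (Unit ⊕ κ) F) *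
      xMat u = xMat (u ᵥ* ((A⁻¹ : SpecialLinearGroup κ F) : Matrix κ κ F)) *
        ((dSL A : SpecialLinearGroup (Unit ⊕ κ) F) : Matrix (Unit ⊕ κ) (Unit ⊕ κ) F) := by
    rw [coe_dSL]
    apply dMat_mul_xMat
    rw [one_smul, Matrix.vecMul_vecMul, hA, Matrix.vecMul_one]
  exact Subtype.ext hmat

/-- all characters of a perfect group of small degree are multiples of the trivial one -/
theorem h2_char_const_of_small {G : Type*} [Group G] [Fintype G] (hperf : commutator G = ⊤)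
    {ψ : G → ℂ} (hψ : Cfsg.IsCharacter G ψ) (b N : ℕ) (hψ1 : ψ 1 = (b : ℂ))
    (hN : ∀ (k' : ℕ) (τ : Representation ℂ G (Fin k' → ℂ)), τ.IsIrreducible → 2 ≤ k' → N ≤ k')
    (hbN : b < N) (g : G) : ψ g = ψ 1 := by
  classical
  have : Fintype (Cfsg.IrrCharacter G) := Fintype.ofFinite _
  obtain ⟨mm, hmm, hexp⟩ := Cfsg.Agent.Lib.helper2.isCharacter_expansion hψ
  have key : ∀ χ : Cfsg.IrrCharacter G, (mm χ : ℂ) * (χ : G → ℂ) g = (mm χ : ℂ) * (χ : G → ℂ) 1 := by
    intro χ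
    by_cases h0 : mm χ = 0
    · rw [h0]; simp
    obtain ⟨n, ρ, hρ, hχ⟩ := χ.2
    have hχ1 : (χ : G → ℂ) 1 = (n : ℂ) := by
      rw [← hχ, Representation.char_one]
      simp
    have hle := Cfsg.Agent.Lib.helper2.isCharacter_degree_ge hψ χ (mm χ) b n (hmm χ) hψ1 hχ1
    have hn1 : n ≤ 1 := by
      by_contra hcon
      have h2 : 2 ≤ n := by omega
      have := hN n ρ hρ h2
      have h3 : n ≤ mm χ * n := Nat.le_mul_of_pos_left n (Nat.pos_of_ne_zero h0)
      omega
    have hn0 : n ≠ 0 := by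
      intro hn
      have := Cfsg.Agent.Lib.Helper25.irr_one_ne_zero χ
      rw [hχ1, hn] at this
      simp at this
    have hn : n = 1 := by omega
    have hlin : (χ : G → ℂ) 1 = 1 := by rw [hχ1, hn]; simp
    have hg : g ∈ commutator G := by rw [hperf]; exact Subgroup.mem_top g
    rw [Cfsg.Agent.Lib.Helper25.irr_linear_commutator χ hlin hg, hlin]
  have hval : ∀ x : G, ψ x = ∑ χ : Cfsg.IrrCharacter G, (mm χ : ℂ) * (χ : G → ℂ) x := by
    intro x
    conv_lhs => rw [hexp]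
    simp only [Finset.sum_apply, Pi.smul_apply, smul_eq_mul]
  rw [hval g, hval 1]
  exact Finset.sum_congr rfl fun χ _ => key χ

/-- D6 (R4) : the generic induction step -/
theorem generic_step (q m : ℕ) (hq : Fintype.card F = q) (hm : Fintype.card κ = m) (hm3 : 3 ≤ m)
    (IH : ∀ (k' : ℕ) (τ : Representation ℂ (SpecialLinearGroup κ F) (Fin k' → ℂ)),
      τ.IsIrreducible → 2 ≤ k' → (q ^ m - q) / (q - 1) ≤ k')
    (χ₀ : AddChar F ℂ) (hχ₀ : χ₀.IsPrimitive)
    (ρ : Representation ℂ (SpecialLinearGroup (Unit ⊕ κ) F) V) (b : ℕ)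
    (hb : Module.finrank ℂ (fixSp ρ xQ) = b)
    (htr : ∀ (y η : κ → F) (h : η ⬝ᵥ y = 0), y ≠ 0 → η ≠ 0 →
      LinearMap.trace ℂ V (ρ (dSL (tv y η h)) * eIdem χ₀ ρ xQ 0) = (b : ℂ) - (q : ℂ) ^ (m - 1)) :
    (q ^ m - q) / (q - 1) ≤ b := by
  classical
  by_contra hcon
  have hlt : b < (q ^ m - q) / (q - 1) := by omega
  have hq2 : 2 ≤ q := by
    rw [← hq]
    exact Fintype.one_lt_card
  -- two distinct indices
  have h1lt : 1 < Fintype.card κ := by omega
  obtain ⟨i, j, hij⟩ := Fintype.exists_pair_of_one_lt_card h1lt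
  set y : κ → F := Pi.single i 1 with hy
  set η : κ → F := Pi.single j 1 with hη
  have hy0 : y ≠ 0 := by
    intro h0
    have := congrFun h0 i
    simp [hy] at this
  have hη0 : η ≠ 0 := by
    intro h0
    have := congrFun h0 j
    simp [hη] at this
  have hηy : η ⬝ᵥ y = 0 := by
    rw [hy, hη, single_dotProduct, Pi.single_eq_of_ne hij.symm, mul_zero]
  set σ : Representation ℂ (SpecialLinearGroup κ F) ↥(fixSp ρ xQ) :=
    resFix ρ xQ dSL h2_dSL_normalizes with hσ
  have hchar : ∀ g, σ.character g = LinearMap.trace ℂ V (ρ (dSL g) * eIdem χ₀ ρ xQ 0) :=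
    fun g => resFix_character χ₀ hχ₀ ρ xQ xQ_add dSL h2_dSL_normalizes g
  have hψ := Cfsg.Agent.Lib.helper2.isCharacter_of_rep σ
  have hψ1 : σ.character 1 = (b : ℂ) := by
    rw [Representation.char_one, hb]
  have hperf : commutator (SpecialLinearGroup κ F) = ⊤ :=
    Cfsg.Agent.Lib.Lead.SL_commutator_eq_top (by omega)
  have hconst := h2_char_const_of_small hperf hψ b _ hψ1 IH hlt (tv y η hηy)
  rw [hψ1, hchar, htr y η hηy hy0 hη0] at hconst
  have hpow : ((q : ℂ)) ^ (m - 1) = 0 := by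
    linear_combination -hconst
  have hq0 : (q : ℂ) ≠ 0 := by
    exact_mod_cast (by omega : q ≠ 0)
  exact pow_ne_zero _ hq0 hpow

end D

end Cfsg.Agent.Lib.helper15.SLM
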