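import Mathlib
import Cfsg.Agent.Lib.helper8.A7R.Defs
import Cfsg.Agent.Lib.helper8.SylowBasic
import Cfsg.Agent.Lib.helper8.SubgroupCard
import Cfsg.Agent.Lib.helper23.SylowQuot

set_option autoImplicit false

/-!
# Project A7R, row B09b (`klein_cent`): in the Klein case `|C(a)| = 120`.
-/

namespace Cfsg.Agent.Lib.helper8.A7R

universe u

variable {G : Type u} [Group G]

/-- arithmetic: the candidates for `|C(a)|` -/
theorem a7rb09b_arith (c : ℕ) (h1 : c ∣ 2520) (h8 : 8 ∣ c) (h3 : 3 ∣ c) (h9 : ¬ 9 ∣ c) (h7 : ¬ 7 ∣ c) :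
    c = 24 ∨ c = 120 := by
  have h24 : 24 ∣ c := by
    have := Nat.Coprime.mul_dvd_of_dvd_of_dvd (by norm_num : Nat.Coprime 8 3) h8 h3
    simpa using this
  obtain ⟨k, rfl⟩ := h24
  have hk : k ∣ 105 := by
    have : 24 * k ∣ 24 * 105 := by simpa using h1
    exact Nat.dvd_of_mul_dvd_mul_left (by norm_num) this
  have hk105 : k ≤ 105 := Nat.le_of_dvd (by norm_num) hk
  interval_cases k <;> omega

/-- arithmetic: the final contradiction for `|C(a)| = 24` -/
theorem a7rb09b_arith2 (m n : ℕ) (h : m * n = 24) (h12 : 12 ∣ m) (hn : n % 3 = 1) (h36 : m ∣ 36) : False := by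
  obtain ⟨k, rfl⟩ := h12
  have hk : k ≤ 3 := by
    have := Nat.le_of_dvd (by norm_num) h36
    omega
  interval_cases k
  · omega
  · have : n = 2 := by omega
    omega
  · have : n = 1 := by omega
    omega
  · omega

/-- B09b [M-L]: the Klein case, `|C(a)| = 120`. -/
theorem klein_cent (hS : Std G) (h1 : St1 G) (h2 : St2 G) (hinv : InvC8 G)
    (hc : ∀ P : Sylow 3 G, Cs (P : Subgroup G) = (P : Subgroup G))
    (he : ∀ P : Sylow 3 G, ∀ x ∈ (P : Subgroup G), x ^ 3 = 1)
    (P : Sylow 3 G) (hno : ∀ k ∈ Nz (P : Subgroup G), orderOf k ≠ 4)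
    (a x : G) (ha : a ∈ Nz (P : Subgroup G)) (ha2 : orderOf a = 2) (hx : x ∈ (P : Subgroup G))
    (hx3 : orderOf x = 3) (hax : a * x = x * a) (hN : Nz (Subgroup.zpowers x) = Nz (P : Subgroup G)) :
    Nat.card (Cz a) = 120 := by
  haveI := hS.finite
  haveI := hS.simple
  haveI : Fact (Nat.Prime 3) := ⟨by norm_num⟩
  haveI : Fact (Nat.Prime 2) := ⟨by norm_num⟩
  haveI : Fact (Nat.Prime 7) := ⟨by norm_num⟩
  have hG : Nat.card G = 2520 := hS.card
  have hN36 : Nat.card (Nz (P : Subgroup G)) = 36 := by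
    have := Cfsg.Agent.Lib.helper8.h8_card_normalizer_sylow 3 P
    rw [h2.syl3, hG] at this
    change Nat.card (Nz (P : Subgroup G)) * 70 = 2520 at this
    omega
  have hmemC : ∀ y : G, y ∈ Cz a ↔ a * y = y * a := by
    intro y
    rw [Subgroup.mem_centralizer_iff]
    constructor
    · intro h; exact h a rfl
    · intro h z hz
      rw [Set.mem_singleton_iff] at hz
      subst hz; exact h
  have hdvd : Nat.card (Cz a) ∣ 2520 := hG ▸ Subgroup.card_subgroup_dvd_card (Cz a)
  have h8 : 8 ∣ Nat.card (Cz a) := hinv a ha2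
  have hxC : x ∈ Cz a := (hmemC x).mpr hax
  have h3 : 3 ∣ Nat.card (Cz a) := by
    have := orderOf_dvd_natCard (⟨x, hxC⟩ : Cz a)
    rwa [Subgroup.orderOf_mk, hx3] at this
  have hfac : (Nat.card G).factorization 3 = 2 :=
    Cfsg.Agent.Lib.helper8.h8_factorization_of_eq 3 2 280 _ (by norm_num) (by rw [hG]; norm_num) (by norm_num)
  have h9 : ¬ 9 ∣ Nat.card (Cz a) := by
    intro h
    obtain ⟨K, hK⟩ := Sylow.exists_subgroup_card_pow_prime (G := Cz a) 3 (n := 2) (by simpa using h)
    have hK' : Nat.card (K.map (Cz a).subtype) = 3 ^ (Nat.card G).factorization 3 := by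
      rw [hfac, ← hK]
      exact (Nat.card_congr (K.equivMapOfInjective _ (Cz a).subtype_injective).toEquiv).symm
    have hle : K.map (Cz a).subtype ≤ Cz a := by
      rintro _ ⟨k, _, rfl⟩
      exact k.2
    have haP' : a ∈ Cs ((Sylow.ofCard (K.map (Cz a).subtype) hK' : Sylow 3 G) : Subgroup G) := by
      rw [Subgroup.mem_centralizer_iff]
      intro y hy
      have hy' : y ∈ Cz a := hle hy
      exact ((hmemC y).mp hy').symm
    rw [hc] at haP'
    have hcard : Nat.card ((Sylow.ofCard (K.map (Cz a).subtype) hK' : Sylow 3 G) : Subgroup G) = 9 := by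
      change Nat.card (K.map (Cz a).subtype) = 9
      rw [hK', hfac]; norm_num
    have := orderOf_dvd_natCard (⟨a, haP'⟩ : ((Sylow.ofCard (K.map (Cz a).subtype) hK' : Sylow 3 G) : Subgroup G))
    rw [Subgroup.orderOf_mk, ha2, hcard] at this
    omega
  have h7 : ¬ 7 ∣ Nat.card (Cz a) := by
    intro h
    obtain ⟨z, hz⟩ := exists_prime_orderOf_dvd_card' (G := Cz a) 7 h
    have hz7 : orderOf (z : G) = 7 := by rw [Subgroup.orderOf_coe]; exact hz
    have hsc := h1.selfc7 (z : G) hz7
    have haz : a ∈ Cz (z : G) := by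
      rw [Subgroup.mem_centralizer_iff]
      intro y hy
      rw [Set.mem_singleton_iff] at hy
      subst hy
      exact ((hmemC _).mp z.2).symm
    rw [hsc] at haz
    have := orderOf_dvd_of_mem_zpowers haz
    rw [ha2, hz7] at this
    omega
  rcases a7rb09b_arith _ hdvd h8 h3 h9 h7 with h24 | h120
  · exfalso
    -- the Sylow 3-subgroups of `C(a)`
    have hXC : Subgroup.zpowers x ≤ Cz a := by
      rw [Subgroup.zpowers_le]; exact hxC
    have hXcard : Nat.card (Subgroup.zpowers x) = 3 ^ (Nat.card (Cz a)).factorization 3 := by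
      rw [Nat.card_zpowers, hx3, h24]
      have : (24 : ℕ).factorization 3 = 1 :=
        Cfsg.Agent.Lib.helper8.h8_factorization_of_eq 3 1 8 24 (by norm_num) (by norm_num) (by norm_num)
      rw [this]; norm_num
    have hn3 := Cfsg.Agent.Lib.helper23.card_sylow_eq_relIndex_normalizer (p := 3) (Cz a)
      (Subgroup.zpowers x) hXC hXcard
    have hmod := Cfsg.Agent.Lib.helper8.h8_nsylow_mod (G := Cz a) 3
    have hN' : Subgroup.normalizer ((Subgroup.zpowers x : Subgroup G) : Set G) = Nz (P : Subgroup G) := hN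
    rw [hN'] at hn3
    have hmul := Cfsg.Agent.Lib.helper8.h8_card_inf_mul_relIndex (Nz (P : Subgroup G)) (Cz a)
    rw [← hn3, h24] at hmul
    -- `12 ∣ |N(P) ∩ C(a)|`
    have hxM : x ∈ (Nz (P : Subgroup G) ⊓ Cz a : Subgroup G) :=
      ⟨Subgroup.le_normalizer hx, hxC⟩
    have h3M : 3 ∣ Nat.card (Nz (P : Subgroup G) ⊓ Cz a : Subgroup G) := by
      have := orderOf_dvd_natCard (⟨x, hxM⟩ : (Nz (P : Subgroup G) ⊓ Cz a : Subgroup G))
      rwa [Subgroup.orderOf_mk, hx3] at this
    have h4M : 4 ∣ Nat.card (Nz (P : Subgroup G) ⊓ Cz a : Subgroup G) := by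
      have hpg : IsPGroup 2 (Subgroup.zpowers (⟨a, ha⟩ : Nz (P : Subgroup G))) := by
        apply IsPGroup.of_card (n := 1)
        rw [Nat.card_zpowers, Subgroup.orderOf_mk, ha2]; norm_num
      obtain ⟨Q, hQ⟩ := hpg.exists_le_sylow
      have hQ4 : Nat.card (Q : Subgroup (Nz (P : Subgroup G))) = 4 := by
        have := Cfsg.Agent.Lib.helper8.h8_sylow_card (G := Nz (P : Subgroup G)) 2 2 9
          (by rw [hN36]; norm_num) (by norm_num) Q
        simpa using this
      have hcomm := Cfsg.Agent.Lib.helper8.h8_comm_of_card_prime_sq 2 (Q : Subgroup (Nz (P : Subgroup G)))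
        (by rw [hQ4]; norm_num)
      have hD : (Q : Subgroup (Nz (P : Subgroup G))).map (Nz (P : Subgroup G)).subtype ≤
          (Nz (P : Subgroup G) ⊓ Cz a : Subgroup G) := by
        rintro _ ⟨q, hq, rfl⟩
        refine ⟨q.2, ?_⟩
        have h := hcomm q hq ⟨a, ha⟩ (hQ (Subgroup.mem_zpowers _))
        have h' := congrArg Subtype.val h
        simp only [Subgroup.coe_mul] at h'
        exact (hmemC _).mpr h'.symm
      have := Subgroup.card_dvd_of_le hD
      rwa [← Nat.card_congr ((Q : Subgroup (Nz (P : Subgroup G))).equivMapOfInjective _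
        (Nz (P : Subgroup G)).subtype_injective).toEquiv, hQ4] at this
    have h12M : 12 ∣ Nat.card (Nz (P : Subgroup G) ⊓ Cz a : Subgroup G) := by
      have := Nat.Coprime.mul_dvd_of_dvd_of_dvd (by norm_num : Nat.Coprime 4 3) h4M h3M
      simpa using this
    have h36M : Nat.card (Nz (P : Subgroup G) ⊓ Cz a : Subgroup G) ∣ 36 := by
      rw [← hN36]
      exact Subgroup.card_dvd_of_le inf_le_left
    exact a7rb09b_arith2 _ _ hmul h12M hmod h36M
  · exact h120

end Cfsg.Agent.Lib.helper8.A7R
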