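import Mathlib
import Cfsg.Prelude.Def_GeometricClasses
import Cfsg.Agent.Lib.Helper27.ASC.Defs
import Cfsg.Agent.Lib.Helper19.ASG.Defs
import Cfsg.Agent.Lib.Helper18.ASCSYMP

set_option autoImplicit false
set_option linter.unusedVariables false

/-! Project ASG, piece D2S-Q2: wrapper around helper18's pre-landed `ascsymp_polar_symplectic`. -/

namespace Cfsg.Agent.Lib.Helper19.ASG

open Cfsg Cfsg.Geo Cfsg.Agent.Lib.Helper27.ASC
open scoped MatrixGroups Matrix

variable {n : ℕ} {F : Type*} [Field F] [Fintype F]

/-- D2S-Q2 : in characteristic 2 the polar form of a non-degenerate quadratic form is symplectic -/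
theorem polar_symplectic_of_even (h2 : ¬ Odd (Fintype.card F)) (Q : (Fin n → F) → F)
    (hQ : IsNondegenerateQuadraticForm Q) : IsSymplecticForm (QuadraticMap.polar Q) := by
  apply ascsymp_polar_symplectic _ Q hQ
  have hev : Even (Fintype.card F) := Nat.not_odd_iff_even.mp h2
  have hch : ringChar F = 2 := FiniteField.even_card_iff_char_two.mpr (Nat.even_iff.mp hev)
  have : CharP F 2 := hch ▸ ringChar.charP F
  exact CharTwo.two_eq_zero

end Cfsg.Agent.Lib.Helper19.ASG
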