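import Mathlib

set_option autoImplicit false

namespace Cfsg.Agent.Lib.helper2.AltGenNT3

open Real in
theorem concave_aux :
    ConcaveOn ℝ (Set.Ioi (0.5 : ℝ))
      (fun x : ℝ => log x + √(2 * x) * log (2 * x) - log 4 / 3 * x) := by
  apply ConcaveOn.sub
  · apply ConcaveOn.add
    · exact strictConcaveOn_log_Ioi.concaveOn.subset
        (Set.Ioi_subset_Ioi (by norm_num)) (convex_Ioi 0.5)
    convert!
      ((strictConcaveOn_sqrt_mul_log_Ioi.concaveOn.comp_linearMap ((2 : ℝ) • LinearMap.id)))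
      using 1
    ext x
    simp only [Set.mem_Ioi, Set.mem_preimage, LinearMap.smul_apply,
      LinearMap.id_coe, id_eq, smul_eq_mul]
    rw [← mul_lt_mul_iff_right₀ (two_pos)]
    norm_num1
    rfl
  apply ConvexOn.smul
  · refine div_nonneg (log_nonneg (by norm_num1)) (by norm_num1)
  · exact convexOn_id (convex_Ioi (0.5 : ℝ))

open Real in
theorem concave_aux2 :
    ConcaveOn ℝ (Set.Ioi (0.5 : ℝ))
      (fun x : ℝ => (log x + √(2 * x) * log (2 * x) - log 4 / 3 * x)
        + (2 * log x + 2 * log 2)) := by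
  apply ConcaveOn.add concave_aux
  apply ConcaveOn.add_const
  have h := ConcaveOn.smul (c := (2 : ℝ)) (by norm_num)
    (strictConcaveOn_log_Ioi.concaveOn.subset
      (Set.Ioi_subset_Ioi (by norm_num : (0 : ℝ) ≤ 0.5)) (convex_Ioi 0.5))
  simpa [smul_eq_mul] using h

open Real in
theorem g_le {x : ℝ} (x_large : (2048 : ℝ) ≤ x) :
    (log x + √(2 * x) * log (2 * x) - log 4 / 3 * x) + (2 * log x + 2 * log 2) ≤ 0 := by
  have hL : 0 < log 2 := log_pos (by norm_num)
  have h4 : log 4 = 2 * log 2 := by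
    rw [show (4 : ℝ) = 2 ^ 2 by norm_num, log_pow]; norm_num
  have h1 : (0 : ℝ) ≤ (log 2 + √(2 * 2) * log (2 * 2) - log 4 / 3 * 2)
      + (2 * log 2 + 2 * log 2) := by
    have hs : √(2 * 2 : ℝ) = 2 :=
      (sqrt_eq_iff_mul_self_eq_of_pos (by norm_num1)).mpr (by norm_num1)
    rw [hs, show (2 * 2 : ℝ) = 4 by norm_num, h4]
    nlinarith
  have h2 : (log 2048 + √(2 * 2048) * log (2 * 2048) - log 4 / 3 * 2048)
      + (2 * log 2048 + 2 * log 2) ≤ 0 := by
    have hs : √(2 * 2048 : ℝ) = 64 :=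
      (sqrt_eq_iff_mul_self_eq_of_pos (by norm_num1)).mpr (by norm_num1)
    have ha : log 2048 = 11 * log 2 := by
      rw [show (2048 : ℝ) = 2 ^ 11 by norm_num, log_pow]; norm_num
    have hb : log (2 * 2048) = 12 * log 2 := by
      rw [show (2 * 2048 : ℝ) = 2 ^ 12 by norm_num, log_pow]; norm_num
    rw [hs, ha, hb, h4]
    nlinarith
  have := concave_aux2.right_le_of_le_left'' (x := 2) (y := 2048) (z := x)
    (by norm_num [Set.mem_Ioi]) (by simp only [Set.mem_Ioi]; linarith) (by norm_num) x_large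
    (h2.trans h1)
  exact this.trans h2

open Real in
theorem real_ineq {x : ℝ} (x_large : (2048 : ℝ) ≤ x) :
    x * ((2 * x) ^ √(2 * x) * (2 * x) ^ (2 : ℝ)) * 4 ^ (2 * x / 3) ≤ 4 ^ x := by
  have hx : 0 < x := by linarith
  have h2x : 0 < 2 * x := by linarith
  have hA : 0 < (2 * x) ^ √(2 * x) := rpow_pos_of_pos h2x _
  have hB : 0 < (2 * x) ^ (2 : ℝ) := rpow_pos_of_pos h2x _
  have hC : (0 : ℝ) < 4 ^ (2 * x / 3) := rpow_pos_of_pos (by norm_num) _
  have hD : (0 : ℝ) < 4 ^ x := rpow_pos_of_pos (by norm_num) _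
  rw [← log_le_log_iff (by positivity) hD]
  rw [log_mul (by positivity) hC.ne', log_mul hx.ne' (by positivity), log_mul hA.ne' hB.ne',
    log_rpow h2x, log_rpow h2x, log_rpow (by norm_num), log_rpow (by norm_num),
    log_mul (by norm_num) hx.ne']
  have := g_le x_large
  rw [log_mul (by norm_num) hx.ne'] at this
  linarith

open Nat in
theorem nat_ineq {n : ℕ} (n_large : 2048 ≤ n) :
    n * ((2 * n) ^ sqrt (2 * n) * (2 * n) ^ 2) * 4 ^ (2 * n / 3) ≤ 4 ^ n := by
  rw [← @cast_le ℝ]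
  simp only [cast_mul, cast_pow, ← Real.rpow_natCast, cast_ofNat]
  refine _root_.trans ?_ (real_ineq (by exact_mod_cast n_large))
  gcongr
  · have n2_pos : 0 < 2 * n := by positivity
    exact mod_cast n2_pos
  · exact_mod_cast Real.nat_sqrt_le_real_sqrt
  · norm_num1
  · exact cast_div_le.trans (by norm_cast)

open Nat in
theorem small_part (n : ℕ) (n_pos : 0 < n) :
    ∏ p ∈ Finset.range (2 * n / 3 + 1), p ^ (centralBinom n).factorization p
      ≤ (2 * n) ^ sqrt (2 * n) * 4 ^ (2 * n / 3) := by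
  have n2_pos : 1 ≤ 2 * n := mul_pos (zero_lt_two' ℕ) n_pos
  let S := {p ∈ Finset.range (2 * n / 3 + 1) | Nat.Prime p}
  let f x := x ^ n.centralBinom.factorization x
  have : ∏ x ∈ S, f x = ∏ x ∈ Finset.range (2 * n / 3 + 1), f x := by
    refine Finset.prod_filter_of_ne fun p _ h => ?_
    contrapose h; dsimp only [f]
    rw [factorization_eq_zero_of_not_prime n.centralBinom h, _root_.pow_zero]
  change ∏ x ∈ Finset.range (2 * n / 3 + 1), f x ≤ _
  rw [← this, ← Finset.prod_filter_mul_prod_filter_not S (· ≤ sqrt (2 * n))]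
  apply mul_le_mul'
  · refine (Finset.prod_le_prod' fun p _ => (?_ : f p ≤ 2 * n)).trans ?_
    · exact pow_factorization_choose_le (mul_pos two_pos n_pos)
    have : (Finset.Icc 1 (sqrt (2 * n))).card = sqrt (2 * n) := by rw [card_Icc, Nat.add_sub_cancel]
    rw [Finset.prod_const]
    refine pow_right_mono₀ n2_pos ((Finset.card_le_card fun x hx => ?_).trans this.le)
    obtain ⟨h1, h2⟩ := Finset.mem_filter.1 hx
    exact Finset.mem_Icc.mpr ⟨(Finset.mem_filter.1 h1).2.one_lt.le, h2⟩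
  · refine le_trans ?_ (primorial_le_four_pow (2 * n / 3))
    refine (Finset.prod_le_prod' fun p hp => (?_ : f p ≤ p)).trans ?_
    · obtain ⟨h1, h2⟩ := Finset.mem_filter.1 hp
      refine (pow_right_mono₀ (Finset.mem_filter.1 h1).2.one_lt.le ?_).trans (pow_one p).le
      exact Nat.factorization_choose_le_one (sqrt_lt'.mp <| not_le.1 h2)
    refine Finset.prod_le_prod_of_subset_of_one_le' (Finset.filter_subset _ _) ?_
    exact fun p hp _ => (Finset.mem_filter.1 hp).2.one_lt.le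

open Nat in
theorem large_part (n : ℕ) (n_large : 2 < n) :
    ∏ p ∈ Finset.Ico (2 * n / 3 + 1) (2 * n + 1), p ^ (centralBinom n).factorization p
      ≤ (2 * n) ^ ((Finset.Ioc n (2 * n)).filter Nat.Prime).card := by
  have n_pos : 0 < n := by omega
  have hsub : (Finset.Ioc n (2 * n)).filter Nat.Prime ⊆ Finset.Ico (2 * n / 3 + 1) (2 * n + 1) := by
    intro p hp
    rw [Finset.mem_filter, Finset.mem_Ioc] at hp
    rw [Finset.mem_Ico]
    omega
  rw [← Finset.prod_subset hsub]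
  · refine (Finset.prod_le_prod' fun p _ => (?_ : _ ≤ 2 * n)).trans ?_
    · exact pow_factorization_choose_le (mul_pos two_pos n_pos)
    · rw [Finset.prod_const]
  · intro p hp hnp
    rw [Finset.mem_Ico] at hp
    rw [Finset.mem_filter, Finset.mem_Ioc] at hnp
    by_cases hprime : p.Prime
    · have hpn : p ≤ n := by
        by_contra hlt
        exact hnp ⟨⟨by omega, by omega⟩, hprime⟩
      rw [factorization_centralBinom_of_two_mul_self_lt_three_mul n_large hpn (by omega),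
        Nat.pow_zero]
    · rw [factorization_eq_zero_of_not_prime n.centralBinom hprime, Nat.pow_zero]

open Nat in
theorem card_primes_gt (n : ℕ) (hn : 2048 ≤ n) :
    2 < ((Finset.Ioc n (2 * n)).filter Nat.Prime).card := by
  by_contra hcard
  rw [not_lt] at hcard
  have n_pos : 0 < n := by omega
  have h1 : 4 ^ n < n * n.centralBinom :=
    Nat.four_pow_lt_mul_centralBinom n (by omega)
  have h2 : n.centralBinom
      = (∏ p ∈ Finset.range (2 * n / 3 + 1), p ^ (centralBinom n).factorization p)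
        * ∏ p ∈ Finset.Ico (2 * n / 3 + 1) (2 * n + 1), p ^ (centralBinom n).factorization p := by
    rw [Finset.prod_range_mul_prod_Ico _ (by omega), n.prod_pow_factorization_centralBinom]
  have h3 := small_part n n_pos
  have h4 := large_part n (by omega)
  have h5 : (2 * n) ^ ((Finset.Ioc n (2 * n)).filter Nat.Prime).card ≤ (2 * n) ^ 2 :=
    Nat.pow_le_pow_right (by omega) hcard
  have h6 : n.centralBinom ≤ ((2 * n) ^ sqrt (2 * n) * 4 ^ (2 * n / 3)) * (2 * n) ^ 2 := by
    rw [h2]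
    exact Nat.mul_le_mul h3 (h4.trans h5)
  have h7 := nat_ineq hn
  have h8 : n * n.centralBinom ≤ 4 ^ n := by
    calc n * n.centralBinom ≤ n * (((2 * n) ^ sqrt (2 * n) * 4 ^ (2 * n / 3)) * (2 * n) ^ 2) :=
          Nat.mul_le_mul_left _ h6
      _ = n * ((2 * n) ^ sqrt (2 * n) * (2 * n) ^ 2) * 4 ^ (2 * n / 3) := by ring
      _ ≤ 4 ^ n := h7
  omega

theorem three_primes (n : ℕ) (hn : 2048 ≤ n) :
    ∃ p1 p2 p3 : ℕ, p1.Prime ∧ p2.Prime ∧ p3.Prime ∧ n < p1 ∧ p1 < p2 ∧ p2 < p3 ∧ p3 ≤ 2 * n := by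
  have h := card_primes_gt n hn
  rw [Finset.two_lt_card] at h
  obtain ⟨a, ha, b, hb, c, hc, hab, hac, hbc⟩ := h
  rw [Finset.mem_filter, Finset.mem_Ioc] at ha hb hc
  rcases lt_trichotomy a b with h1 | h1 | h1
  · rcases lt_trichotomy b c with h2 | h2 | h2
    · exact ⟨a, b, c, ha.2, hb.2, hc.2, ha.1.1, h1, h2, hc.1.2⟩
    · exact absurd h2 hbc
    · rcases lt_trichotomy a c with h3 | h3 | h3
      · exact ⟨a, c, b, ha.2, hc.2, hb.2, ha.1.1, h3, h2, hb.1.2⟩
      · exact absurd h3 hac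
      · exact ⟨c, a, b, hc.2, ha.2, hb.2, hc.1.1, h3, h1, hb.1.2⟩
  · exact absurd h1 hab
  · rcases lt_trichotomy a c with h2 | h2 | h2
    · exact ⟨b, a, c, hb.2, ha.2, hc.2, hb.1.1, h1, h2, hc.1.2⟩
    · exact absurd h2 hac
    · rcases lt_trichotomy b c with h3 | h3 | h3
      · exact ⟨b, c, a, hb.2, hc.2, ha.2, hb.1.1, h3, h2, ha.1.2⟩
      · exact absurd h3 hbc
      · exact ⟨c, b, a, hc.2, hb.2, ha.2, hc.1.1, h3, h1, ha.1.2⟩

end Cfsg.Agent.Lib.helper2.AltGenNT3
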