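import Mathlib
import Cfsg.Agent.Lib.Lead.BCG.Defs

set_option autoImplicit false
set_option linter.unusedVariables false
set_option linter.unusedSectionVars false

/-!
# Project BCG (S2474), row S3, second write (helper2), part a: the form `A u v = Tr_{K/F} (θ * u * σ v)` on a finite separable extension `K / F` with an
`F`-automorphism `σ` of order `≤ 2` and `σ θ = -θ ≠ 0`: alternating (`2 ≠ 0`), nondegenerate, and multiplication by `a` with `a * σ a = 1` is an isometry.
-/

namespace Cfsg.Agent.Lib.Lead.BCG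

open Polynomial Module Cfsg.Agent.Lib.Helper13.S5955

variable {F : Type*} [Field F] {K : Type*} [Field K] [Algebra F K]

/-- the form `(u, v) ↦ Tr (θ * u * σ v)` -/
noncomputable def bcgs3h2_form (σ : K ≃ₐ[F] K) (θ : K) : LinearMap.BilinForm F K :=
  LinearMap.compl₁₂ (Algebra.traceForm F K) (LinearMap.mulLeft F θ) σ.toLinearMap

theorem bcgs3h2_form_apply (σ : K ≃ₐ[F] K) (θ : K) (u v : K) :
    bcgs3h2_form σ θ u v = Algebra.trace F K (θ * u * σ v) := rfl

/-- alternating -/
theorem bcgs3h2_alt (h2 : (2 : F) ≠ 0) (σ : K ≃ₐ[F] K) (hσ : ∀ a, σ (σ a) = a) (θ : K) (hθ : σ θ = -θ)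
    (u : K) : bcgs3h2_form σ θ u u = 0 := by
  rw [bcgs3h2_form_apply]
  have h1 : σ (θ * u * σ u) = -(θ * u * σ u) := by
    rw [map_mul, map_mul, hσ, hθ]
    ring
  have h3 : Algebra.trace F K (σ (θ * u * σ u)) = Algebra.trace F K (θ * u * σ u) :=
    Algebra.trace_eq_of_algEquiv σ _
  rw [h1, map_neg] at h3
  have h4 : (2 : F) * Algebra.trace F K (θ * u * σ u) = 0 := by
    linear_combination -h3
  rcases mul_eq_zero.mp h4 with h | h
  · exact absurd h h2
  · exact h

/-- nondegenerate -/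
theorem bcgs3h2_nd [FiniteDimensional F K] [Algebra.IsSeparable F K] (σ : K ≃ₐ[F] K) (θ : K) (hθ0 : θ ≠ 0)
    (u : K) (hu : ∀ v, bcgs3h2_form σ θ u v = 0) : u = 0 := by
  have h1 : θ * u = 0 := by
    apply (traceForm_nondegenerate F K).1
    intro w
    have := hu (σ.symm w)
    rw [bcgs3h2_form_apply, AlgEquiv.apply_symm_apply] at this
    rw [Algebra.traceForm_apply]
    exact this
  rcases mul_eq_zero.mp h1 with h | h
  · exact absurd h hθ0
  · exact h

/-- multiplication by a norm-one element is an isometry -/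
theorem bcgs3h2_pres (σ : K ≃ₐ[F] K) (θ : K) (a : K) (ha : a * σ a = 1) (u v : K) :
    bcgs3h2_form σ θ (LinearMap.mulLeft F a u) (LinearMap.mulLeft F a v) = bcgs3h2_form σ θ u v := by
  rw [bcgs3h2_form_apply, bcgs3h2_form_apply, LinearMap.mulLeft_apply, LinearMap.mulLeft_apply, map_mul σ a v]
  have : θ * (a * u) * (σ a * σ v) = (a * σ a) * (θ * u * σ v) := by ring
  rw [this, ha, one_mul]

/-- powers of a multiplication -/
theorem bcgs3h2_pow (a : K) (k : ℕ) :
    (LinearMap.mulLeft F a : Module.End F K) ^ k = LinearMap.mulLeft F (a ^ k) := by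
  induction k with
  | zero =>
    ext u
    simp
  | succ k ih =>
    ext u
    rw [pow_succ, Module.End.mul_apply, ih, LinearMap.mulLeft_apply, LinearMap.mulLeft_apply,
      LinearMap.mulLeft_apply, pow_succ]
    ring

/-- the context -/
theorem bcgs3h2_ctx [FiniteDimensional F K] [Algebra.IsSeparable F K] (h2 : (2 : F) ≠ 0) (σ : K ≃ₐ[F] K)
    (hσ : ∀ a, σ (σ a) = a) (θ : K) (hθ : σ θ = -θ) (hθ0 : θ ≠ 0) (a : K) (ha : a * σ a = 1) (N : ℕ)
    (haN : a ^ N = 1) :
    SCtx N (bcgs3h2_form σ θ) (LinearMap.mulLeft F a : Module.End F K) := by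
  refine ⟨bcgs3h2_alt h2 σ hσ θ hθ, bcgs3h2_nd σ θ hθ0, bcgs3h2_pres σ θ a ha, ?_⟩
  rw [bcgs3h2_pow, haN]
  ext u
  simp

end Cfsg.Agent.Lib.Lead.BCG
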