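import Mathlib
import Cfsg.Agent.Lib.Lead.BCG.Defs
import Cfsg.Agent.Lib.helper2.BCGS3h2a
import Cfsg.Agent.Lib.Helper21.BCGS3h21a

set_option autoImplicit false
set_option linter.unusedVariables false
set_option linter.unusedSectionVars false

/-!
# Project BCG (S2474), row S3, second write (helper2), part b: `bcgs3_h2` has the SAME statement as `sp_torus_minus` of `Lead/BCG/Skel.lean.txt`.
`K = FiniteField.Extension F p (2n)`, `σ = frob ^ n`, `θ = g - σ g`, `a` of order `4 s` in the norm-one group; then helper21's `bcgs3_of_model`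
(S5955 `transport`, `sp_realize`, `sp_same`).
-/

namespace Cfsg.Agent.Lib.Lead.BCG

open Polynomial Module Matrix Cfsg.Agent.Lib.Helper13.S5955 Cfsg.Agent.Lib.helper15.S5972
  Cfsg.Agent.Lib.Helper18.ONE Cfsg.Agent.Lib.Lead.BCS

/-- odd cardinality gives `2 ≠ 0` -/
theorem bcgs3h2_two_ne {F : Type*} [Field F] [Fintype F] (hodd : Fintype.card F % 2 = 1) : (2 : F) ≠ 0 := by
  intro h
  have h1 : ringChar F ∣ 2 := ringChar.dvd (by exact_mod_cast h)
  have h2 : ringChar F = 2 := by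
    rcases (Nat.dvd_prime Nat.prime_two).mp h1 with h3 | h3
    · exact absurd h3 (CharP.ringChar_ne_one)
    · exact h3
  have := FiniteField.even_card_iff_char_two.mp h2
  omega

/-- the arithmetic: `4 s ∣ Q + 1` -/
theorem bcgs3h2_arith (Q s : ℕ) (h4 : Q % 4 = 3) (hsp : s.Prime) (hs2 : s ≠ 2) (hs : s ∣ Q + 1) :
    4 * s ∣ Q + 1 := by
  have hcop : Nat.Coprime 4 s := by
    have : Nat.Coprime 2 s := by
      rw [Nat.coprime_primes Nat.prime_two hsp]
      exact fun h => hs2 h.symm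
    have h22 : (4 : ℕ) = 2 ^ 2 := by norm_num
    rw [h22]
    exact Nat.Coprime.pow_left 2 this
  exact Nat.Coprime.mul_dvd_of_dvd_of_dvd hcop (by omega) hs

/-- the field part: in a finite field `K` with `Q * Q` elements (`Q % 4 = 3`, `s ∣ Q + 1`) there are `θ`, `a` with `θ ^ Q = -θ ≠ 0`, `a ^ (Q + 1) = 1`,
`a ^ (4 s) = 1`, `a ^ (2 s) = -1`, `a ^ 4 ≠ 1`. -/
theorem bcgs3h2_field {K : Type*} [Field K] [Fintype K] (Q s : ℕ) (hK : Fintype.card K = Q * Q)
    (σ : K → K) (hσsub : ∀ x y, σ (x - y) = σ x - σ y) (hσQ : ∀ x, σ x = x ^ Q)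
    (h4 : Q % 4 = 3) (hsp : s.Prime) (hs2 : s ≠ 2) (hs : s ∣ Q + 1) :
    ∃ θ a : K, θ ^ Q = -θ ∧ θ ≠ 0 ∧ a ^ (Q + 1) = 1 ∧ a ^ (4 * s) = 1 ∧ a ^ (2 * s) = -1 ∧ a ^ 4 ≠ 1 := by
  classical
  have hQ3 : 3 ≤ Q := by omega
  obtain ⟨g, hg⟩ := IsCyclic.exists_ofOrder_eq_natCard (α := Kˣ)
  have hcardU : Nat.card Kˣ = Q * Q - 1 := by
    rw [Nat.card_eq_fintype_card, Fintype.card_units, hK]
  rw [hcardU] at hg
  have hfrob : ∀ x : K, (x ^ Q) ^ Q = x := by
    intro x
    rw [← pow_mul, ← hK, FiniteField.pow_card]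
  -- θ
  have hgQ : ((g : Kˣ) : K) ^ Q ≠ (g : K) := by
    intro h
    have h1 : g ^ Q = g := by
      apply Units.ext
      rw [Units.val_pow_eq_pow_val, h]
    have h2 : g ^ (Q - 1) = 1 := by
      have h3 : g ^ (Q - 1) * g = g := by
        rw [← pow_succ, Nat.sub_add_cancel (by omega), h1]
      exact mul_eq_right.mp h3
    have h4' := orderOf_dvd_of_pow_eq_one h2
    rw [hg] at h4'
    have h5 := Nat.le_of_dvd (by omega) h4'
    have h6 : Q * Q ≥ 3 * Q := Nat.mul_le_mul_right Q hQ3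
    omega
  refine ⟨(g : K) - (g : K) ^ Q, ?_⟩
  -- a
  obtain ⟨m4, hm4⟩ := bcgs3h2_arith Q s h4 hsp hs2 hs
  have hs3 : 3 ≤ s := by
    have := hsp.two_le
    omega
  have hm4pos : 0 < m4 := by
    rcases Nat.eq_zero_or_pos m4 with h | h
    · rw [h] at hm4; omega
    · exact h
  have hfac : Q * Q - 1 = ((Q - 1) * m4) * (4 * s) := by
    have h1 : Q * Q - 1 = (Q - 1) * (Q + 1) := by
      obtain ⟨k, rfl⟩ : ∃ k, Q = k + 1 := ⟨Q - 1, by omega⟩
      simp only [Nat.add_sub_cancel]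
      ring_nf
      omega
    rw [h1, hm4]
    ring
  have he0 : (Q - 1) * m4 ≠ 0 := by
    apply Nat.mul_ne_zero
    · omega
    · omega
  have hord : orderOf (g ^ ((Q - 1) * m4)) = 4 * s := by
    rw [orderOf_pow_of_dvd he0 (by rw [hg, hfac]; exact Dvd.intro _ rfl), hg, hfac]
    exact Nat.mul_div_cancel_left _ (Nat.pos_of_ne_zero he0)
  obtain ⟨b, hb⟩ : ∃ b : Kˣ, b = g ^ ((Q - 1) * m4) := ⟨_, rfl⟩
  rw [← hb] at hord
  have hb4s : b ^ (4 * s) = 1 := by rw [← hord]; exact pow_orderOf_eq_one b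
  have hb2s : b ^ (2 * s) ≠ 1 := by
    intro h
    have := orderOf_dvd_of_pow_eq_one h
    rw [hord] at this
    have := Nat.le_of_dvd (by omega) this
    omega
  have hb4 : b ^ 4 ≠ 1 := by
    intro h
    have := orderOf_dvd_of_pow_eq_one h
    rw [hord] at this
    have := Nat.le_of_dvd (by omega) this
    omega
  have hbQ : b ^ (Q + 1) = 1 := by
    rw [hm4, pow_mul, hb4s, one_pow]
  refine ⟨(b : K), ?_, ?_, ?_, ?_, ?_, ?_⟩
  · have h1 : ((g : K) - (g : K) ^ Q) ^ Q = σ ((g : K) - (g : K) ^ Q) := (hσQ _).symm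
    rw [h1, hσsub, hσQ (g : K), hσQ ((g : K) ^ Q), hfrob]
    ring
  · exact sub_ne_zero.mpr (Ne.symm hgQ)
  · rw [← Units.val_pow_eq_pow_val, hbQ, Units.val_one]
  · rw [← Units.val_pow_eq_pow_val, hb4s, Units.val_one]
  · have h1 : ((b : K) ^ (2 * s)) * ((b : K) ^ (2 * s)) = 1 := by
      rw [← pow_add, ← two_mul, ← mul_assoc, show 2 * 2 = 4 by norm_num, ← Units.val_pow_eq_pow_val, hb4s,
        Units.val_one]
    rcases mul_self_eq_one_iff.mp h1 with h | h
    · exfalso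
      apply hb2s
      apply Units.ext
      rw [Units.val_pow_eq_pow_val, h, Units.val_one]
    · exact h
  · intro h
    apply hb4
    apply Units.ext
    rw [Units.val_pow_eq_pow_val, h, Units.val_one]

/-- **BCG row S3, second write**: the SAME statement as `sp_torus_minus` of `Lead/BCG/Skel.lean.txt`. -/
theorem bcgs3_h2 {F : Type*} [Field F] [Fintype F] {p : ℕ} [Fact p.Prime] [CharP F p]
    (n : ℕ) (hn : 1 ≤ n) (h4 : Fintype.card F ^ n % 4 = 3) (s : ℕ) [Fact s.Prime] (hs2 : s ≠ 2)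
    (hs : s ∣ Fintype.card F ^ n + 1) :
    ∃ t y : Matrix.symplecticGroup (Fin n) F, Commute t y ∧ orderOf y = s ∧
      t * t = Cfsg.Agent.S0246.negOne F n := by
  classical
  haveI : NeZero (2 * n) := ⟨by omega⟩
  have hsp : s.Prime := Fact.out
  -- `q` is odd
  have hodd : Fintype.card F % 2 = 1 := by
    rcases Nat.mod_two_eq_zero_or_one (Fintype.card F) with h | h
    · exfalso
      have h1 : 2 ∣ Fintype.card F := Nat.dvd_of_mod_eq_zero h
      have h2 : 2 ∣ Fintype.card F ^ n := dvd_pow h1 (by omega)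
      omega
    · exact h
  have h2F : (2 : F) ≠ 0 := bcgs3h2_two_ne hodd
  letI : Fintype (FiniteField.Extension F p (2 * n)) := Fintype.ofFinite _
  have hcardK : Fintype.card (FiniteField.Extension F p (2 * n))
      = (Fintype.card F ^ n) * (Fintype.card F ^ n) := by
    rw [← Nat.card_eq_fintype_card, FiniteField.natCard_extension, Nat.card_eq_fintype_card, two_mul,
      pow_add]
  have hσQ : ∀ x : FiniteField.Extension F p (2 * n),
      ((FiniteField.Extension.frob F p (2 * n)) ^ n) x = x ^ (Fintype.card F ^ n) := by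
    intro x
    rw [FiniteField.Extension.frob_iterate_apply, Nat.card_eq_fintype_card]
  have hσσ : ∀ x : FiniteField.Extension F p (2 * n),
      ((FiniteField.Extension.frob F p (2 * n)) ^ n) (((FiniteField.Extension.frob F p (2 * n)) ^ n) x)
        = x := by
    intro x
    rw [hσQ, hσQ, ← pow_mul, ← hcardK, FiniteField.pow_card]
  obtain ⟨θ, a, hθQ, hθ0, haQ, ha4s, ha2s, ha4⟩ :=
    bcgs3h2_field (K := FiniteField.Extension F p (2 * n)) (Fintype.card F ^ n) s hcardK
      (fun x => ((FiniteField.Extension.frob F p (2 * n)) ^ n) x) (fun x y => map_sub _ x y) hσQ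
      h4 hsp hs2 hs
  have hθ : ((FiniteField.Extension.frob F p (2 * n)) ^ n) θ = -θ := by rw [hσQ, hθQ]
  have ha : a * ((FiniteField.Extension.frob F p (2 * n)) ^ n) a = 1 := by
    rw [hσQ, ← pow_succ', haQ]
  have hctx := bcgs3h2_ctx (F := F) h2F ((FiniteField.Extension.frob F p (2 * n)) ^ n) hσσ θ hθ hθ0 a ha
    (4 * s) ha4s
  refine bcgs3_of_model n s _ _ hctx (FiniteField.finrank_extension F p (2 * n)) ?_ ?_
  · rw [bcgs3h2_pow, ha2s]
    ext u
    simp
  · intro h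
    apply ha4
    rw [bcgs3h2_pow] at h
    have h1 := LinearMap.congr_fun h 1
    rw [LinearMap.mulLeft_apply, Module.End.one_apply, mul_one] at h1
    exact h1

end Cfsg.Agent.Lib.Lead.BCG
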