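import Mathlib
import Cfsg.Prelude.Def_Characters
import Cfsg.Agent.Lib.helper2.BergerG1

set_option autoImplicit false
open scoped ComplexConjugate

namespace Cfsg.Agent.Lib.helper2

open Cfsg.Agent.Lib.helper7 Cfsg.Agent.Lib.Helper11 Cfsg.Agent.Lib.Helper25

theorem bg_nat_sum_eq_one {ι : Type*} [Fintype ι] [DecidableEq ι] (f : ι → ℕ)
    (h : ∑ i, f i = 1) : ∃ i, f i = 1 ∧ ∀ j, j ≠ i → f j = 0 := by
  have hne : ∑ i, f i ≠ 0 := by rw [h]; exact one_ne_zero
  obtain ⟨i, -, hi⟩ := Finset.exists_ne_zero_of_sum_ne_zero hne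
  have h1 := Finset.add_sum_erase Finset.univ f (Finset.mem_univ i)
  rw [h] at h1
  have h2 : ∑ j ∈ Finset.univ.erase i, f j = 0 := by omega
  refine ⟨i, by omega, ?_⟩
  intro j hj
  exact Finset.sum_eq_zero_iff.mp h2 j (Finset.mem_erase.mpr ⟨hj, Finset.mem_univ j⟩)

/-- induced function from a normal subgroup vanishes outside it -/
theorem bg_indFun_normal_off {Q : Type*} [Group Q] [Fintype Q] (B : Subgroup Q) [hB : B.Normal]
    (b : B → ℂ) (x : Q) (hx : x ∉ B) : Cfsg.indFun B b x = 0 := by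
  unfold Cfsg.indFun
  rw [Finset.sum_eq_zero, mul_zero]
  intro y _
  apply h7_extendByZero_not_mem
  intro h
  apply hx
  have := hB.conj_mem _ h y
  simpa [mul_assoc] using this

theorem bg_E_lemma {Q D : Type*} [Group Q] [Fintype Q] [Group D] [Fintype D]
    (B : Subgroup Q) [hB : B.Normal] (d : D →* Q) (hd : Function.Injective d)
    (hsup : B ⊔ d.range = ⊤)
    (b : B → ℂ) (hb : Cfsg.IsIrrCharacter B b) (hinv : ∀ g : Q, cj B b g = b)
    (havg : ∑ h : D, Cfsg.extendByZero B b (d h) = (Nat.card (B.comap d) : ℂ)) :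
    ∃ E : Q → ℂ, Cfsg.IsIrrCharacter Q E ∧ (fun x : B => E x) = b ∧
      ∀ Z : Q → ℂ, Cfsg.IsCharacter Q Z → (∃ c : ℂ, (fun x : B => Z x) = c • b) →
        Cfsg.classInner Z E = (Nat.card D : ℂ)⁻¹ * ∑ h : D, Z (d h) := by
  classical
  haveI : Fintype B := Fintype.ofFinite B
  haveI : Fintype d.range := Fintype.ofFinite _
  haveI : Fintype (Cfsg.IrrCharacter Q) := Fintype.ofFinite _
  obtain ⟨Δ, hΔ⟩ : ∃ Δ : Subgroup Q, Δ = d.range := ⟨_, rfl⟩
  haveI : Fintype Δ := Fintype.ofFinite _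
  let e : D ≃* Δ := (MonoidHom.ofInjective hd).trans (MulEquiv.subgroupCongr hΔ.symm)
  have he : ∀ h : D, ((e h : Δ) : Q) = d h := fun h => rfl
  have hcardΔ : Nat.card Δ = Nat.card D := Nat.card_congr e.toEquiv.symm
  -- sums over Δ
  have hsumΔ : ∀ F : Q → ℂ, ∑ δ : Δ, F δ = ∑ h : D, F (d h) := by
    intro F
    rw [← Equiv.sum_comp e.toEquiv (fun δ : Δ => F δ)]
    rfl
  obtain ⟨one, hone⟩ : ∃ one : Δ → ℂ, one = fun _ => 1 := ⟨_, rfl⟩
  have honec : Cfsg.IsCharacter Δ one := by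
    rw [hone]; exact h7_irr_isCharacter (bg_trivial_irr Δ)
  obtain ⟨R, hRdef⟩ : ∃ R : Q → ℂ, R = Cfsg.indFun Δ one := ⟨_, rfl⟩
  have hR : Cfsg.IsCharacter Q R := by rw [hRdef]; exact isCharacter_indFun Δ one honec
  obtain ⟨I, hIdef⟩ : ∃ I : Q → ℂ, I = Cfsg.indFun B b := ⟨_, rfl⟩
  have hbc := h7_irr_isCharacter hb
  have hI : Cfsg.IsCharacter Q I := by rw [hIdef]; exact isCharacter_indFun B b hbc
  -- for class functions Z: [Z, R] = average over D
  have hZR : ∀ Z : Q → ℂ, Cfsg.IsClassFunction Q Z →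
      Cfsg.classInner Z R = (Nat.card D : ℂ)⁻¹ * ∑ h : D, Z (d h) := by
    intro Z hZ
    rw [classInner_conj_symm, hRdef, h7_frobenius_reciprocity Δ one Z hZ]
    unfold Cfsg.classInner
    rw [hcardΔ, map_mul, map_inv₀, Complex.conj_natCast, map_sum]
    congr 1
    rw [← hsumΔ]
    refine Finset.sum_congr rfl fun δ _ => ?_
    rw [hone]
    simp
  -- values of I
  have hIB : ∀ x : B, I (x : Q) = (B.index : ℂ) * b x := by
    intro x
    rw [hIdef]
    exact h7_indFun_restrict_invariant B b hinv x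
  have hIoff : ∀ x : Q, x ∉ B → I x = 0 := by
    intro x hx
    rw [hIdef]
    exact bg_indFun_normal_off B b x hx
  -- index count
  have hcount : B.index * Nat.card (B.comap d) = Nat.card D := by
    have h1 : B.relIndex (Δ ⊔ B) = B.relIndex Δ := Subgroup.relIndex_sup_right Δ B
    have h2 : Δ ⊔ B = ⊤ := by rw [sup_comm, hΔ]; exact hsup
    rw [h2, Subgroup.relIndex_top_right] at h1
    have h3 : Nat.card (B.subgroupOf Δ) = Nat.card (B.comap d) := by
      apply Nat.card_congr
      exact (Equiv.subtypeEquiv e.toEquiv (fun a => by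
        rw [Subgroup.mem_comap, Subgroup.mem_subgroupOf]
        rfl)).symm
    have h4 := Subgroup.index_mul_card (B.subgroupOf Δ)
    rw [h1, ← h3, ← hcardΔ]
    exact h4
  -- key: [I, R] = 1
  have hIx : ∀ x : Q, I x = (B.index : ℂ) * Cfsg.extendByZero B b x := by
    intro x
    by_cases hx : x ∈ B
    · rw [h7_extendByZero_mem B b x hx]
      exact hIB ⟨x, hx⟩
    · rw [h7_extendByZero_not_mem B b x hx, hIoff x hx, mul_zero]
  have hDne : (Nat.card D : ℂ) ≠ 0 := by exact_mod_cast Nat.card_pos.ne'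
  have hkey : Cfsg.classInner I R = 1 := by
    rw [hZR I (isCharacter_isClassFunction hI)]
    simp only [hIx]
    rw [← Finset.mul_sum, havg, ← hcount]
    push_cast
    have h1 : (B.index : ℂ) ≠ 0 := by exact_mod_cast Subgroup.index_ne_zero_of_finite
    have h2 : (Nat.card (B.comap d) : ℂ) ≠ 0 := by exact_mod_cast Nat.card_pos.ne'
    field_simp
  -- expansions
  obtain ⟨r, hr, hRexp⟩ := isCharacter_expansion hR
  obtain ⟨i, hi, hIexp⟩ := isCharacter_expansion hI
  have hsum1 : ∑ Y : Cfsg.IrrCharacter Q, i Y * r Y = 1 := by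
    have h1 : Cfsg.classInner I R = ((∑ Y : Cfsg.IrrCharacter Q, i Y * r Y : ℕ) : ℂ) := by
      conv_lhs => rw [hRexp]
      rw [h7_classInner_sum_right]
      push_cast
      refine Finset.sum_congr rfl fun Y _ => ?_
      rw [h7_classInner_smul_right, hi, Complex.conj_natCast]
      ring
    rw [hkey] at h1
    exact_mod_cast h1.symm
  obtain ⟨E, hE1, hEoth⟩ := bg_nat_sum_eq_one _ hsum1
  have hiE : i E = 1 := (Nat.eq_one_of_mul_eq_one_right hE1)
  have hrE : r E = 1 := (Nat.eq_one_of_mul_eq_one_left hE1)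
  have hfrobI : ∀ Y : Cfsg.IrrCharacter Q,
      Cfsg.classInner b (fun x : B => (Y : Q → ℂ) x) = (i Y : ℂ) := by
    intro Y
    rw [← hi Y, hIdef]
    exact (h7_frobenius_reciprocity B b _ (h7_irr_isClassFunction Y.2)).symm
  have hEB : (fun x : B => (E : Q → ℂ) x) = b := by
    have hcon : Cfsg.classInner (fun x : B => (E : Q → ℂ) x) b ≠ 0 := by
      rw [classInner_conj_symm, hfrobI E, hiE]
      simp
    obtain ⟨e', he'pos, he'1, he'2⟩ := h7_clifford_invariant B (E : Q → ℂ) E.2 b hb hcon hinv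
    have : (e' : ℂ) = 1 := by
      rw [← he'1, classInner_conj_symm, hfrobI E, hiE]
      simp
    rw [he'2, this, one_smul]
  refine ⟨(E : Q → ℂ), E.2, hEB, ?_⟩
  intro Z hZ ⟨c, hc⟩
  rw [← hZR Z (isCharacter_isClassFunction hZ)]
  obtain ⟨m, hm, hZexp⟩ := isCharacter_expansion hZ
  rw [hm E]
  conv_lhs => rw [← mul_one (m E : ℂ)]
  conv_rhs => rw [hRexp]
  rw [h7_classInner_sum_right]
  rw [Finset.sum_eq_single E]
  · rw [h7_classInner_smul_right, hm E, hrE]
    simp
  · intro Y _ hYE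
    rw [h7_classInner_smul_right, hm Y]
    have hzero := hEoth Y hYE
    rcases Nat.mul_eq_zero.mp hzero with h0 | h0
    · -- i Y = 0, so m Y = 0
      by_cases hmY : m Y = 0
      · rw [hmY]; simp
      · exfalso
        have hne : Cfsg.classInner Z (Y : Q → ℂ) ≠ 0 := by
          rw [hm Y]; exact_mod_cast hmY
        obtain ⟨Z'', hZ'', hsplit⟩ := h7_char_split hZ (Y : Q → ℂ) Y.2 hne
        have hres : (fun x : B => (Y : Q → ℂ) x) + (fun x : B => Z'' x) = c • b := by
          rw [← hc, hsplit]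
          rfl
        obtain ⟨c₁, hc₁⟩ := bg_sub_multiple (isCharacter_restrict (isCharacter_of_irr Y) B)
          (isCharacter_restrict hZ'' B) hb c hres
        have hY1 := irr_one_ne_zero Y
        have hc₁ne : c₁ ≠ 0 := by
          intro h
          apply hY1
          have := congrFun hc₁ 1
          simp only [Subgroup.coe_one, Pi.smul_apply, smul_eq_mul, h, Nat.cast_zero, zero_mul] at this
          exact this
        have h2 := hfrobI Y
        rw [hc₁, h7_classInner_smul_right, h7_irr_norm hb, h0] at h2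
        simp at h2
        exact hc₁ne h2
    · rw [h0]; simp
  · intro h
    exact absurd (Finset.mem_univ _) h

end Cfsg.Agent.Lib.helper2
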