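import Mathlib
import Cfsg.Prelude.Def_Characters
import Cfsg.Agent.Lib.helper2.BergerG2

set_option autoImplicit false
open scoped ComplexConjugate

namespace Cfsg.Agent.Lib.helper2

open Cfsg.Agent.Lib.helper7 Cfsg.Agent.Lib.Helper11 Cfsg.Agent.Lib.Helper25

theorem bg_aux_irr {P : Type*} [Group P] [Fintype P] (Q : Subgroup P) [Fintype Q] (E : Q → ℂ)
    (hE : Cfsg.IsIrrCharacter Q E) (χ₁ Θ : P → ℂ) (hχ₁ : Cfsg.IsIrrCharacter P χ₁)
    (hΘ : Cfsg.IsCharacter P Θ) (ϑ₁ : Q → ℂ) (hϑ₁ : Cfsg.IsIrrCharacter Q ϑ₁)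
    (hind : Cfsg.indFun Q ϑ₁ = χ₁)
    (h1 : Cfsg.classInner (fun x : Q => ϑ₁ x * conj (Θ x)) E = 1)
    (h2 : Cfsg.classInner (fun x : Q => χ₁ x * conj (Θ x)) E = 1) :
    Cfsg.IsIrrCharacter P (Cfsg.indFun Q E) ∧
      Cfsg.classInner (fun x => Cfsg.indFun Q E x * Θ x) χ₁ = 1 := by
  classical

  haveI : Fintype (Cfsg.IrrCharacter P) := Fintype.ofFinite _
  have hEc := h7_irr_isCharacter hE
  have hχ₁c := h7_irr_isCharacter hχ₁
  have hϑ₁c := h7_irr_isCharacter hϑ₁
  obtain ⟨X, hXdef⟩ : ∃ X : P → ℂ, X = Cfsg.indFun Q E := ⟨_, rfl⟩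
  have hX : Cfsg.IsCharacter P X := by rw [hXdef]; exact isCharacter_indFun Q E hEc
  rw [← hXdef]
  have hΘbar : Cfsg.IsCharacter P (fun x => conj (Θ x)) := bg_isCharacter_conj hΘ
  have hχΘ : Cfsg.IsCharacter P (fun x => χ₁ x * conj (Θ x)) := h7_isCharacter_mul hχ₁c hΘbar
  -- [XΘ, χ₁] = 1
  have hXΘ : Cfsg.classInner (fun x => X x * Θ x) χ₁ = 1 := by
    rw [bg_classInner_mul, hXdef,
      h7_frobenius_reciprocity Q E _ (isCharacter_isClassFunction hχΘ), classInner_conj_symm, h2]
    simp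
  refine ⟨?_, hXΘ⟩
  obtain ⟨a, ha, hXexp⟩ := isCharacter_expansion hX
  -- for constituents, c_j ≥ 1
  have hc : ∀ Xj : Cfsg.IrrCharacter P, a Xj ≠ 0 →
      ∃ c : ℕ, 1 ≤ c ∧ Cfsg.classInner (fun x => (Xj : P → ℂ) x * Θ x) χ₁ = (c : ℂ) := by
    intro Xj haj
    have hXjc := isCharacter_of_irr Xj
    have hXjΘ : Cfsg.IsCharacter P (fun x => (Xj : P → ℂ) x * Θ x) := h7_isCharacter_mul hXjc hΘ
    obtain ⟨c, hc⟩ := classInner_character_nat hXjΘ hχ₁c
    refine ⟨c, ?_, hc⟩
    -- restriction of Xj to Q contains E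
    have hres : Cfsg.classInner (fun x : Q => (Xj : P → ℂ) x) E ≠ 0 := by
      rw [classInner_conj_symm, ← h7_frobenius_reciprocity Q E _ (h7_irr_isClassFunction Xj.2),
        ← hXdef, ha Xj]
      simp only [Complex.conj_natCast, ne_eq, Nat.cast_eq_zero]
      exact haj
    obtain ⟨Z', hZ', hsplit⟩ := h7_char_split (isCharacter_restrict hXjc Q) E hE hres
    have hΘQ : Cfsg.IsCharacter Q (fun x : Q => Θ x) := isCharacter_restrict hΘ Q
    have hZ'Θ : Cfsg.IsCharacter Q (fun x : Q => Z' x * Θ x) := h7_isCharacter_mul hZ' hΘQ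
    obtain ⟨k, hk⟩ := classInner_character_nat hZ'Θ hϑ₁c
    have e1 : Cfsg.classInner (fun x : Q => (Xj : P → ℂ) x * Θ x) ϑ₁ = (1 + k : ℕ) := by
      have : (fun x : Q => (Xj : P → ℂ) x * Θ x) =
          (fun x : Q => E x * Θ x) + (fun x : Q => Z' x * Θ x) := by
        funext x
        have := congrFun hsplit x
        simp only [Pi.add_apply] at this ⊢
        rw [this]
        ring
      rw [this, classInner_add_left, hk, bg_classInner_mul, classInner_conj_symm, h1]
      simp
    have e2 : Cfsg.classInner (fun x : Q => (Xj : P → ℂ) x * Θ x) ϑ₁ = (c : ℂ) := by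
      rw [classInner_conj_symm,
        ← h7_frobenius_reciprocity Q ϑ₁ _ (isCharacter_isClassFunction hXjΘ), hind,
        classInner_conj_symm, Complex.conj_conj, hc]
    rw [e1] at e2
    have : (1 + k : ℕ) = c := by exact_mod_cast e2
    omega
  choose! cf hcf1 hcf2 using hc
  -- sum identity
  have hsum : ∑ Xj : Cfsg.IrrCharacter P, a Xj *
      (if a Xj = 0 then 0 else cf Xj) = 1 := by
    have h3 : Cfsg.classInner (fun x => X x * Θ x) χ₁ =
        ((∑ Xj : Cfsg.IrrCharacter P, a Xj * (if a Xj = 0 then 0 else cf Xj) : ℕ) : ℂ) := by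
      have : (fun x => X x * Θ x) =
          ∑ Xj : Cfsg.IrrCharacter P, (a Xj : ℂ) • (fun x => (Xj : P → ℂ) x * Θ x) := by
        funext x
        have := congrFun hXexp x
        rw [this]
        simp only [Finset.sum_apply, Pi.smul_apply, smul_eq_mul, Finset.sum_mul]
        refine Finset.sum_congr rfl fun Xj _ => ?_
        ring
      rw [this, classInner_sum_left]
      push_cast
      refine Finset.sum_congr rfl fun Xj _ => ?_
      rw [classInner_smul_left]
      by_cases h0 : a Xj = 0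
      · rw [h0]; simp
      · rw [if_neg h0, hcf2 Xj h0]
    rw [hXΘ] at h3
    exact_mod_cast h3.symm
  obtain ⟨X₀, hX₀, hoth⟩ := bg_nat_sum_eq_one _ hsum
  have haX₀ : a X₀ = 1 := Nat.eq_one_of_mul_eq_one_right hX₀
  have hzero : ∀ Xj : Cfsg.IrrCharacter P, Xj ≠ X₀ → a Xj = 0 := by
    intro Xj hne
    by_contra h0
    have := hoth Xj hne
    rw [if_neg h0] at this
    rcases Nat.mul_eq_zero.mp this with h | h
    · exact h0 h
    · have := hcf1 Xj h0
      omega
  have : X = (X₀ : P → ℂ) := by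
    rw [hXexp, Finset.sum_eq_single X₀]
    · rw [haX₀]; simp
    · intro Xj _ hne
      rw [hzero Xj hne]; simp
    · intro h; exact absurd (Finset.mem_univ _) h
  rw [this]
  exact X₀.2

theorem bg_aux_final {P : Type*} [Group P] [Fintype P] (X χ₁ Θ : P → ℂ)
    (hX : Cfsg.IsIrrCharacter P X) (hχ₁ : Cfsg.IsIrrCharacter P χ₁) (hΘ : Cfsg.IsCharacter P Θ)
    (hXΘ : Cfsg.classInner (fun x => X x * Θ x) χ₁ = 1)
    (T : Subgroup P) [Fintype T] (η' : T → ℂ) (hη' : Cfsg.IsIrrCharacter T η')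
    (hindT : Cfsg.indFun T η' = X)
    (A : Subgroup P) [Fintype A] (hAT : A ≤ T) (a : A → ℂ) (ha : Cfsg.IsIrrCharacter A a)
    (t m : ℕ) (hΘA : (fun x : A => Θ x) = (t : ℂ) • a)
    (hXA : (fun x : A => X x) = (m : ℂ) • (fun x => conj (a x)))
    (hχA : ∀ x : A, χ₁ x = χ₁ 1) (hdeg : χ₁ 1 = (t : ℂ) * m) :
    ∃ w : T → ℂ, Cfsg.IsIrrCharacter T w ∧ Cfsg.indFun T w = χ₁ := by
  classical
  haveI : Fintype (Cfsg.IrrCharacter T) := Fintype.ofFinite _
  have hχ₁c := h7_irr_isCharacter hχ₁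
  have hXc := h7_irr_isCharacter hX
  have hη'c := h7_irr_isCharacter hη'
  have hΘcl := isCharacter_isClassFunction hΘ
  have hΘT : Cfsg.IsCharacter T (fun x : T => Θ x) := isCharacter_restrict hΘ T
  obtain ⟨W, hWdef⟩ : ∃ W : T → ℂ, W = η' * fun x : T => Θ x := ⟨_, rfl⟩
  have hW : Cfsg.IsCharacter T W := by rw [hWdef]; exact h7_isCharacter_mul hη'c hΘT
  have hindW : Cfsg.indFun T W = fun x => X x * Θ x := by
    rw [hWdef, h7_indFun_mul_restrict T η' Θ hΘcl, hindT]
    rfl
  have hχ₁T : Cfsg.IsCharacter T (fun x : T => χ₁ x) := isCharacter_restrict hχ₁c T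
  have hWχ : Cfsg.classInner W (fun x : T => χ₁ x) = 1 := by
    rw [← h7_frobenius_reciprocity T W χ₁ (isCharacter_isClassFunction hχ₁c), hindW, hXΘ]
  obtain ⟨mw, hmw, hWexp⟩ := isCharacter_expansion hW
  have hcw : ∀ w : Cfsg.IrrCharacter T, ∃ c : ℕ,
      Cfsg.classInner (w : T → ℂ) (fun x : T => χ₁ x) = (c : ℂ) :=
    fun w => classInner_character_nat (isCharacter_of_irr w) hχ₁T
  choose cw hcw using hcw
  have hsum : ∑ w : Cfsg.IrrCharacter T, mw w * cw w = 1 := by
    have h3 : Cfsg.classInner W (fun x : T => χ₁ x) =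
        ((∑ w : Cfsg.IrrCharacter T, mw w * cw w : ℕ) : ℂ) := by
      conv_lhs => rw [hWexp]
      rw [classInner_sum_left]
      push_cast
      refine Finset.sum_congr rfl fun w _ => ?_
      rw [classInner_smul_left, hcw]
    rw [hWχ] at h3
    exact_mod_cast h3.symm
  obtain ⟨w, hw1, -⟩ := bg_nat_sum_eq_one _ hsum
  have hmw1 : mw w = 1 := Nat.eq_one_of_mul_eq_one_right hw1
  have hcw1 : cw w = 1 := Nat.eq_one_of_mul_eq_one_left hw1
  refine ⟨(w : T → ℂ), w.2, ?_⟩
  have hwc := isCharacter_of_irr w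
  -- naturals for degrees
  obtain ⟨nw, hnw⟩ := isCharacter_one_eq_nat hwc
  obtain ⟨na, hna⟩ := isCharacter_one_eq_nat (h7_irr_isCharacter ha)
  have hna0 : na ≠ 0 := by
    intro h
    have := irr_one_ne_zero (⟨a, ha⟩ : Cfsg.IrrCharacter A)
    apply this
    simp only
    rw [hna, h]
    simp
  obtain ⟨one, hone⟩ : ∃ one : A → ℂ, one = fun _ => 1 := ⟨_, rfl⟩
  have honeirr : Cfsg.IsIrrCharacter A one := by rw [hone]; exact bg_trivial_irr A
  have honec := h7_irr_isCharacter honeirr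
  let jA : A →* T := Subgroup.inclusion hAT
  -- (i) w restricted to A
  have hwA : (fun x : A => (w : T → ℂ) (jA x)) = (nw : ℂ) • one := by
    have hne : Cfsg.classInner (fun x : T => χ₁ x) (w : T → ℂ) ≠ 0 := by
      rw [classInner_conj_symm, hcw, hcw1]
      simp
    obtain ⟨Z₂, hZ₂, hsplit⟩ := h7_char_split hχ₁T (w : T → ℂ) w.2 hne
    have hres : (fun x : A => (w : T → ℂ) (jA x)) + (fun x : A => Z₂ (jA x)) = (χ₁ 1) • one := by
      funext x
      have := congrFun hsplit (jA x)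
      simp only [Pi.add_apply, Pi.smul_apply, smul_eq_mul] at this ⊢
      rw [← this, hone]
      simp only [mul_one]
      exact hχA x
    obtain ⟨c₁, hc₁⟩ := bg_sub_multiple (isCharacter_comp_hom hwc jA)
      (isCharacter_comp_hom hZ₂ jA) honeirr _ hres
    have : (c₁ : ℂ) = nw := by
      have := congrFun hc₁ 1
      simp only [map_one, Pi.smul_apply, smul_eq_mul, hone, mul_one] at this
      rw [← this, hnw]
    rw [hc₁, this]
  -- (ii) η' restricted to A
  have hconja : Cfsg.IsIrrCharacter A (fun x => conj (a x)) := bg_irr_conj ha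
  obtain ⟨m', hm'⟩ : ∃ m' : ℕ, (fun x : A => η' (jA x)) = (m' : ℂ) • (fun x => conj (a x)) := by
    have hne : Cfsg.classInner (fun x : T => X x) η' ≠ 0 := by
      rw [classInner_conj_symm, ← h7_frobenius_reciprocity T η' X (isCharacter_isClassFunction hXc),
        hindT, h7_irr_norm hX]
      simp
    obtain ⟨Z₃, hZ₃, hsplit⟩ := h7_char_split (isCharacter_restrict hXc T) η' hη' hne
    have hres : (fun x : A => η' (jA x)) + (fun x : A => Z₃ (jA x)) =
        (m : ℂ) • (fun x => conj (a x)) := by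
      rw [← hXA]
      funext x
      have := congrFun hsplit (jA x)
      simp only [Pi.add_apply] at this ⊢
      rw [← this]
      rfl
    exact bg_sub_multiple (isCharacter_comp_hom hη'c jA) (isCharacter_comp_hom hZ₃ jA) hconja _ hres
  -- (iii) T.index * m' = m
  have hidx : T.index * m' = m := by
    have e1 : X 1 = (T.index : ℂ) * η' 1 := by rw [← hindT, h7_indFun_one]
    have e2 : X 1 = (m : ℂ) * na := by
      have := congrFun hXA 1
      simp only [Subgroup.coe_one, Pi.smul_apply, smul_eq_mul, hna, Complex.conj_natCast] at this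
      exact this
    have e3 : η' 1 = (m' : ℂ) * na := by
      have := congrFun hm' 1
      simp only [map_one, Pi.smul_apply, smul_eq_mul, hna, Complex.conj_natCast] at this
      exact this
    rw [e3] at e1
    rw [e1] at e2
    have : T.index * (m' * na) = m * na := by exact_mod_cast e2
    have h2 : (T.index * m') * na = m * na := by rw [← this]; ring
    exact Nat.eq_of_mul_eq_mul_right (Nat.pos_of_ne_zero hna0) h2
  -- (iv) [W|_A, 1] = m' t
  have hWA : Cfsg.classInner (fun x : A => W (jA x)) one = ((m' * t : ℕ) : ℂ) := by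
    have : (fun x : A => W (jA x)) = ((m' : ℂ) * t) • (fun x : A => conj (a x) * a x) := by
      funext x
      rw [hWdef]
      have h1 := congrFun hm' x
      have h2 := congrFun hΘA x
      simp only [Pi.smul_apply, smul_eq_mul, Pi.mul_apply] at h1 h2 ⊢
      have h3 : Θ ((jA x : T) : P) = Θ (x : P) := rfl
      rw [h1, h3, h2]
      ring
    rw [this, classInner_smul_left, bg_classInner_mul]
    have : (fun x : A => one x * conj (a x)) = fun x => conj (a x) := by
      funext x
      rw [hone]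
      simp
    rw [this, h7_irr_norm hconja]
    push_cast
    ring
  -- (v) nw ≤ m' t
  have hle : nw ≤ m' * t := by
    have hne : Cfsg.classInner W (w : T → ℂ) ≠ 0 := by
      rw [hmw w, hmw1]
      simp
    obtain ⟨W', hW', hsplit⟩ := h7_char_split hW (w : T → ℂ) w.2 hne
    obtain ⟨k, hk⟩ := classInner_character_nat (isCharacter_comp_hom hW' jA) honec
    have : (fun x : A => W (jA x)) = (fun x : A => (w : T → ℂ) (jA x)) + (fun x : A => W' (jA x)) := by
      funext x
      have := congrFun hsplit (jA x)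
      simp only [Pi.add_apply] at this ⊢
      exact this
    rw [this, classInner_add_left, hk, hwA, classInner_smul_left, h7_irr_norm honeirr] at hWA
    have : nw + k = m' * t := by
      have h5 : ((nw + k : ℕ) : ℂ) = ((m' * t : ℕ) : ℂ) := by
        rw [← hWA]; push_cast; ring
      exact_mod_cast h5
    omega
  -- (vii)
  have hIw : Cfsg.IsCharacter P (Cfsg.indFun T (w : T → ℂ)) := isCharacter_indFun T _ hwc
  have hcon : Cfsg.classInner (Cfsg.indFun T (w : T → ℂ)) χ₁ ≠ 0 := by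
    rw [h7_frobenius_reciprocity T _ χ₁ (isCharacter_isClassFunction hχ₁c), hcw, hcw1]
    simp
  obtain ⟨Z, hZ, hsplit⟩ := h7_char_split hIw χ₁ hχ₁ hcon
  obtain ⟨nZ, hnZ⟩ := isCharacter_one_eq_nat hZ
  have h1 := congrFun hsplit 1
  rw [Pi.add_apply, h7_indFun_one, hnw, hdeg, hnZ] at h1
  have h2 : T.index * nw = t * m + nZ := by exact_mod_cast h1
  have h3 : T.index * nw ≤ t * m := by
    calc T.index * nw ≤ T.index * (m' * t) := Nat.mul_le_mul_left _ hle
      _ = (T.index * m') * t := by ring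
      _ = t * m := by rw [hidx]; ring
  have h4 : nZ = 0 := by omega
  have hZ0 : Z = 0 := by
    apply h7_isCharacter_eq_zero hZ
    rw [hnZ, h4]
    simp
  rw [hsplit, hZ0, add_zero]

end Cfsg.Agent.Lib.helper2
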