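import Mathlib
import Cfsg.Prelude.Def_Characters
import Cfsg.Agent.Lib.helper2.BergerG3

set_option autoImplicit false
open scoped ComplexConjugate Pointwise

namespace Cfsg.Agent.Lib.helper2

open Cfsg.Agent.Lib.helper7 Cfsg.Agent.Lib.Helper11 Cfsg.Agent.Lib.Helper25

/-- the fiber product of `G` and `H` over `G ⧸ K` -/
def bgP {G : Type*} [Group G] (K H : Subgroup G) [hK : K.Normal] : Subgroup (G × H) where
  carrier := {x | x.1⁻¹ * (x.2 : G) ∈ K}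
  one_mem' := by
    change (1 : G × H).1⁻¹ * ((1 : G × H).2 : G) ∈ K
    simp
  mul_mem' := by
    intro x y hx hy
    change x.1⁻¹ * (x.2 : G) ∈ K at hx
    change y.1⁻¹ * (y.2 : G) ∈ K at hy
    change (x * y).1⁻¹ * ((x * y).2 : G) ∈ K
    simp only [Prod.fst_mul, Prod.snd_mul, Subgroup.coe_mul, mul_inv_rev]
    have h1 := hK.conj_mem _ hx y.1⁻¹
    have h2 := K.mul_mem h1 hy
    have : y.1⁻¹ * x.1⁻¹ * ((x.2 : G) * (y.2 : G)) =
        y.1⁻¹ * (x.1⁻¹ * (x.2 : G)) * y.1⁻¹⁻¹ * (y.1⁻¹ * (y.2 : G)) := by group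
    rw [this]
    exact h2
  inv_mem' := by
    intro x hx
    change x.1⁻¹ * (x.2 : G) ∈ K at hx
    change (x⁻¹).1⁻¹ * ((x⁻¹).2 : G) ∈ K
    simp only [Prod.fst_inv, Prod.snd_inv, Subgroup.coe_inv, inv_inv]
    have h1 := hK.conj_mem _ (K.inv_mem hx) x.1
    have : x.1 * (x.2 : G)⁻¹ = x.1 * (x.1⁻¹ * (x.2 : G))⁻¹ * x.1⁻¹ := by group
    rw [this]
    exact h1

theorem mem_bgP {G : Type*} [Group G] (K H : Subgroup G) [hK : K.Normal] (x : G × H) :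
    x ∈ bgP K H ↔ x.1⁻¹ * (x.2 : G) ∈ K := Iff.rfl

def bgP1 {G : Type*} [Group G] (K H : Subgroup G) [hK : K.Normal] : bgP K H →* G :=
  (MonoidHom.fst G H).comp (bgP K H).subtype

def bgP2 {G : Type*} [Group G] (K H : Subgroup G) [hK : K.Normal] : bgP K H →* H :=
  (MonoidHom.snd G H).comp (bgP K H).subtype

def bgD {G : Type*} [Group G] (K H : Subgroup G) [hK : K.Normal] : H →* bgP K H :=
  (MonoidHom.prod H.subtype (MonoidHom.id H)).codRestrict (bgP K H) (fun h => by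
    rw [mem_bgP]
    simp)

theorem bgP1_surjective {G : Type*} [Group G] (K H : Subgroup G) [hK : K.Normal]
    (hsup : K ⊔ H = ⊤) : Function.Surjective (bgP1 K H) := by
  intro g
  have hg : g ∈ K ⊔ H := by rw [hsup]; trivial
  have h1 : (↑(K ⊔ H) : Set G) = (K : Set G) * (H : Set G) := Subgroup.normal_mul K H
  have hg' : g ∈ (K : Set G) * (H : Set G) := by rw [← h1]; exact hg
  obtain ⟨k, hk, h, hh, rfl⟩ := Set.mem_mul.mp hg'
  refine ⟨⟨(k * h, ⟨h, hh⟩), ?_⟩, rfl⟩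
  rw [mem_bgP]
  simp only
  have h2 := hK.conj_mem _ (K.inv_mem hk) h⁻¹
  have : (k * h)⁻¹ * h = h⁻¹ * k⁻¹ * h⁻¹⁻¹ := by group
  rw [this]
  exact h2

theorem bgP_I2 {G : Type*} [Group G] (K H N : Subgroup G) [hK : K.Normal] (hNK : N ≤ K)
    (hinf : K ⊓ H = N) (x : bgP K H) (hx : bgP1 K H x ∈ N) : ((bgP2 K H x : H) : G) ∈ N := by
  have h1 : (x : G × H).1⁻¹ * ((x : G × H).2 : G) ∈ K := x.2
  have h2 : (x : G × H).1 ∈ K := hNK hx
  have h3 : ((x : G × H).2 : G) ∈ K := by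
    have := K.mul_mem h2 h1
    simpa using this
  rw [← hinf]
  exact ⟨h3, ((x : G × H).2).2⟩

theorem bgP_I4 {G : Type*} [Group G] (K H : Subgroup G) [hK : K.Normal] (x y : bgP K H)
    (h1 : bgP1 K H x = bgP1 K H y) (h2 : bgP2 K H x = bgP2 K H y) : x = y :=
  Subtype.ext (Prod.ext h1 h2)

theorem bgP_I5 {G : Type*} [Group G] (K H N : Subgroup G) [hK : K.Normal] (hNK : N ≤ K)
    (hNH : N ≤ H) (n₁ n₂ : N) :
    ∃ x : bgP K H, bgP1 K H x = n₁ ∧ ((bgP2 K H x : H) : G) = n₂ := by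
  refine ⟨⟨((n₁ : G), ⟨(n₂ : G), hNH n₂.2⟩), ?_⟩, rfl, rfl⟩
  rw [mem_bgP]
  exact K.mul_mem (K.inv_mem (hNK n₁.2)) (hNK n₂.2)

theorem bgD_1 {G : Type*} [Group G] (K H : Subgroup G) [hK : K.Normal] (h : H) :
    bgP1 K H (bgD K H h) = h := rfl

theorem bgD_2 {G : Type*} [Group G] (K H : Subgroup G) [hK : K.Normal] (h : H) :
    bgP2 K H (bgD K H h) = h := rfl

end Cfsg.Agent.Lib.helper2
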