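import Mathlib
import Cfsg.Prelude.Def_Characters
import Cfsg.Agent.Lib.helper2.BergerG3

set_option autoImplicit false
open scoped ComplexConjugate

namespace Cfsg.Agent.Lib.helper2

open Cfsg.Agent.Lib.helper7 Cfsg.Agent.Lib.Helper11 Cfsg.Agent.Lib.Helper25

theorem bg_sum_norm_irr {N : Type*} [Group N] [Fintype N] {η : N → ℂ}
    (hη : Cfsg.IsIrrCharacter N η) : ∑ n : N, η n * conj (η n) = (Nat.card N : ℂ) := by
  have h := h7_irr_norm hη
  unfold Cfsg.classInner at h
  have hN : (Nat.card N : ℂ) ≠ 0 := by exact_mod_cast Nat.card_pos.ne'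
  field_simp at h
  exact h

set_option maxHeartbeats 800000 in
theorem bg_exists_E {G P : Type*} [Group G] [Fintype G] [Group P] [Fintype P]
    (N H : Subgroup G) [hN : N.Normal] (hNH : N ≤ H)
    (p₁ : P →* G) (p₂ : P →* H) (d : H →* P)
    (hI2 : ∀ x : P, p₁ x ∈ N → ((p₂ x : H) : G) ∈ N)
    (hI4 : ∀ x y : P, p₁ x = p₁ y → p₂ x = p₂ y → x = y)
    (hI5 : ∀ n₁ n₂ : N, ∃ x : P, p₁ x = n₁ ∧ ((p₂ x : H) : G) = n₂)
    (hd1 : ∀ h : H, p₁ (d h) = h) (hd2 : ∀ h : H, p₂ (d h) = h)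
    (χ : G → ℂ) (hχ : Cfsg.IsIrrCharacter G χ) (η : N → ℂ) (hη : Cfsg.IsIrrCharacter N η)
    (hηinv : ∀ (g : G) (n : N), η ⟨g * n * g⁻¹, hN.conj_mem n n.2 g⟩ = η n)
    (f t : ℕ) (hχN : (fun n : N => χ n) = (f : ℂ) • η)
    (ϑ : H → ℂ) (hϑ : Cfsg.IsIrrCharacter H ϑ)
    (hϑN : (fun n : N => ϑ ⟨n, hNH n.2⟩) = (t : ℂ) • η)
    (hind : Cfsg.indFun H ϑ = χ) [Fintype (H.comap p₁)] :
    ∃ E : (H.comap p₁) → ℂ, Cfsg.IsIrrCharacter (H.comap p₁) E ∧
      Cfsg.IsIrrCharacter ((N.comap p₁).subgroupOf (H.comap p₁))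
        (fun y : (N.comap p₁).subgroupOf (H.comap p₁) => E y) ∧
      (∀ (x : H.comap p₁) (hx : p₁ x ∈ N),
        E x = η ⟨p₁ x, hx⟩ * conj (η ⟨((p₂ x : H) : G), hI2 x hx⟩)) ∧
      Cfsg.classInner (fun x : H.comap p₁ => ϑ ⟨p₁ x, x.2⟩ * conj (ϑ (p₂ x))) E = 1 ∧
      Cfsg.classInner (fun x : H.comap p₁ => χ (p₁ x) * conj (ϑ (p₂ x))) E = 1 := by
  classical
  haveI : Fintype N := Fintype.ofFinite N
  haveI : Fintype H := Fintype.ofFinite H
  have hηc := h7_irr_isCharacter hη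
  have hϑc := h7_irr_isCharacter hϑ
  have hχc := h7_irr_isCharacter hχ
  -- B'
  let B' : Subgroup (H.comap p₁) := (N.comap p₁).subgroupOf (H.comap p₁)
  haveI : Fintype B' := Fintype.ofFinite _
  have hmemB' : ∀ y : (H.comap p₁), y ∈ B' ↔ p₁ (y : P) ∈ N := fun y => Iff.rfl
  let f₁ : B' →* N := ((p₁.comp (H.comap p₁).subtype).comp B'.subtype).codRestrict N (fun y => y.2)
  let f₂ : B' →* N := (((H.subtype.comp p₂).comp (H.comap p₁).subtype).comp B'.subtype).codRestrict N
    (fun y => hI2 _ y.2)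
  have hf₁ : ∀ y : B', ((f₁ y : N) : G) = p₁ ((y : (H.comap p₁)) : P) := fun y => rfl
  have hf₂ : ∀ y : B', ((f₂ y : N) : G) = ((p₂ ((y : (H.comap p₁)) : P) : H) : G) := fun y => rfl
  obtain ⟨b', hb'def⟩ : ∃ b' : B' → ℂ, b' = fun y => η (f₁ y) * conj (η (f₂ y)) := ⟨_, rfl⟩
  have hb'c : Cfsg.IsCharacter B' b' := by
    rw [hb'def]
    exact h7_isCharacter_mul (isCharacter_comp_hom hηc f₁)
      (bg_isCharacter_conj (isCharacter_comp_hom hηc f₂))
  -- bijection with N × N
  have hφbij : Function.Bijective (fun y : B' => (f₁ y, f₂ y)) := by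
    constructor
    · intro y y' hyy'
      have h1 : f₁ y = f₁ y' := (Prod.ext_iff.mp hyy').1
      have h2 : f₂ y = f₂ y' := (Prod.ext_iff.mp hyy').2
      have h1' : p₁ ((y : (H.comap p₁)) : P) = p₁ ((y' : (H.comap p₁)) : P) := by
        rw [← hf₁, ← hf₁, h1]
      have h2' : p₂ ((y : (H.comap p₁)) : P) = p₂ ((y' : (H.comap p₁)) : P) := by
        apply Subtype.ext
        rw [← hf₂, ← hf₂, h2]
      have := hI4 _ _ h1' h2'
      exact Subtype.ext (Subtype.ext this)
    · rintro ⟨n₁, n₂⟩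
      obtain ⟨x, hx1, hx2⟩ := hI5 n₁ n₂
      have hxN : p₁ x ∈ N := by rw [hx1]; exact n₁.2
      have hxQ : x ∈ (H.comap p₁) := Subgroup.mem_comap.mpr (hNH hxN)
      refine ⟨⟨⟨x, hxQ⟩, hxN⟩, ?_⟩
      apply Prod.ext
      · exact Subtype.ext hx1
      · exact Subtype.ext hx2
  let φ : B' ≃ N × N := Equiv.ofBijective _ hφbij
  have hcardB' : Nat.card B' = Nat.card N * Nat.card N := by
    rw [Nat.card_congr φ, Nat.card_prod]
  have hsumN := bg_sum_norm_irr hη
  have hNne : (Nat.card N : ℂ) ≠ 0 := by exact_mod_cast Nat.card_pos.ne'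
  have hb'norm : Cfsg.classInner b' b' = 1 := by
    unfold Cfsg.classInner
    have h1 : ∑ y : B', b' y * conj (b' y) =
        ∑ p : N × N, (η p.1 * conj (η p.1)) * (η p.2 * conj (η p.2)) := by
      rw [← Equiv.sum_comp φ (fun p : N × N => (η p.1 * conj (η p.1)) * (η p.2 * conj (η p.2)))]
      refine Finset.sum_congr rfl fun y _ => ?_
      rw [hb'def]
      simp only [map_mul, Complex.conj_conj]
      change _ = (η (f₁ y) * conj (η (f₁ y))) * (η (f₂ y) * conj (η (f₂ y)))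
      ring
    rw [h1, Fintype.sum_prod_type]
    simp only [← Finset.mul_sum]
    rw [← Finset.sum_mul, hsumN, hcardB']
    push_cast
    field_simp
  have hb' : Cfsg.IsIrrCharacter B' b' := h7_irr_of_norm_one hb'c hb'norm
  -- invariance
  have hinv : ∀ g : (H.comap p₁), cj B' b' g = b' := by
    intro g
    funext y
    rw [cj_apply, hb'def]
    simp only
    have e1 : f₁ ⟨g * (y : (H.comap p₁)) * g⁻¹, (inferInstance : B'.Normal).conj_mem y y.2 g⟩ =
        ⟨p₁ (g : P) * ((f₁ y : N) : G) * (p₁ (g : P))⁻¹, hN.conj_mem _ (f₁ y).2 _⟩ := by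
      apply Subtype.ext
      rw [hf₁]
      simp [hf₁]
    have e2 : f₂ ⟨g * (y : (H.comap p₁)) * g⁻¹, (inferInstance : B'.Normal).conj_mem y y.2 g⟩ =
        ⟨((p₂ (g : P) : H) : G) * ((f₂ y : N) : G) * ((p₂ (g : P) : H) : G)⁻¹,
          hN.conj_mem _ (f₂ y).2 _⟩ := by
      apply Subtype.ext
      rw [hf₂]
      simp [hf₂]
    rw [e1, e2, hηinv, hηinv]
  -- d'
  let d' : H →* (H.comap p₁) := d.codRestrict (H.comap p₁) (fun h => by
    rw [Subgroup.mem_comap, hd1]; exact h.2)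
  have hd'coe : ∀ h : H, ((d' h : (H.comap p₁)) : P) = d h := fun h => rfl
  have hd'inj : Function.Injective d' := by
    intro h h' hh
    have h1 : d h = d h' := by rw [← hd'coe, ← hd'coe, hh]
    apply Subtype.ext
    rw [← hd1 h, ← hd1 h', h1]
  have hsup : B' ⊔ d'.range = ⊤ := by
    rw [eq_top_iff]
    intro y _
    let h : H := ⟨p₁ (y : P), y.2⟩
    have h1 : y * (d' h)⁻¹ ∈ B' := by
      rw [hmemB']
      have : p₁ ((y * (d' h)⁻¹ : (H.comap p₁)) : P) = 1 := by
        simp only [Subgroup.coe_mul, Subgroup.coe_inv, map_mul, map_inv, hd'coe, hd1]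
        exact mul_inv_cancel _
      rw [this]
      exact N.one_mem
    have h2 : d' h ∈ d'.range := ⟨h, rfl⟩
    have := Subgroup.mul_mem_sup h1 h2
    simpa using this
  -- average
  have hcomap : B'.comap d' = N.subgroupOf H := by
    ext h
    rw [Subgroup.mem_comap, hmemB', hd'coe, hd1, Subgroup.mem_subgroupOf]
  let eS : (N.subgroupOf H) ≃ N := (Subgroup.subgroupOfEquivOfLe hNH).toEquiv
  have heS : ∀ s : N.subgroupOf H, ((eS s : N) : G) = ((s : H) : G) := fun s => rfl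
  have havg : ∑ h : H, Cfsg.extendByZero B' b' (d' h) = (Nat.card (B'.comap d') : ℂ) := by
    rw [hcomap, Nat.card_congr eS, ← hsumN]
    haveI : Fintype (N.subgroupOf H) := Fintype.ofFinite _
    rw [← Equiv.sum_comp eS (fun n : N => η n * conj (η n))]
    have h1 := h7_sum_mul_extendByZero (N.subgroupOf H)
      (fun s : N.subgroupOf H => η (eS s) * conj (η (eS s))) (fun _ => 1)
    simp only [one_mul] at h1
    rw [← h1]
    refine Finset.sum_congr rfl fun h _ => ?_
    by_cases hh : (h : G) ∈ N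
    · have hB : d' h ∈ B' := by rw [hmemB', hd'coe, hd1]; exact hh
      have hS : h ∈ N.subgroupOf H := Subgroup.mem_subgroupOf.mpr hh
      rw [h7_extendByZero_mem B' b' _ hB, h7_extendByZero_mem _ _ h hS, hb'def]
      simp only
      have e1 : f₁ ⟨d' h, hB⟩ = eS ⟨h, hS⟩ := by
        apply Subtype.ext
        rw [hf₁, heS]
        simp only
        rw [hd'coe, hd1]
      have e2 : f₂ ⟨d' h, hB⟩ = eS ⟨h, hS⟩ := by
        apply Subtype.ext
        rw [hf₂, heS]
        simp only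
        rw [hd'coe, hd2]
      rw [e1, e2]
    · have hB : d' h ∉ B' := by rw [hmemB', hd'coe, hd1]; exact hh
      have hS : h ∉ N.subgroupOf H := fun h' => hh (Subgroup.mem_subgroupOf.mp h')
      rw [h7_extendByZero_not_mem B' b' _ hB, h7_extendByZero_not_mem _ _ h hS]
  obtain ⟨E, hE, hEB, hprop⟩ := bg_E_lemma B' d' hd'inj hsup b' hb' hinv havg
  refine ⟨E, hE, ?_, ?_, ?_, ?_⟩
  · have : (fun y : (N.comap p₁).subgroupOf (H.comap p₁) => E y) = b' := hEB
    rw [this]
    exact hb'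
  · intro x hx
    have := congrFun hEB ⟨x, hx⟩
    simp only at this
    rw [this, hb'def]
    rfl
  · -- Y
    have hYc : Cfsg.IsCharacter (H.comap p₁) (fun x : (H.comap p₁) => ϑ ⟨p₁ x, x.2⟩ * conj (ϑ (p₂ x))) := by
      let g₁ : (H.comap p₁) →* H := (p₁.comp (H.comap p₁).subtype).codRestrict H (fun x => x.2)
      exact h7_isCharacter_mul (isCharacter_comp_hom hϑc g₁)
        (bg_isCharacter_conj (isCharacter_comp_hom hϑc (p₂.comp (H.comap p₁).subtype)))
    rw [hprop _ hYc ⟨(t : ℂ) * t, ?_⟩]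
    · have h1 : ∑ h : H, (fun x : (H.comap p₁) => ϑ ⟨p₁ x, x.2⟩ * conj (ϑ (p₂ x))) (d' h) =
          ∑ h : H, ϑ h * conj (ϑ h) := by
        refine Finset.sum_congr rfl fun h _ => ?_
        simp only
        have e1 : (⟨p₁ ((d' h : (H.comap p₁)) : P), (d' h).2⟩ : H) = h := Subtype.ext (hd1 h)
        rw [e1, hd'coe, hd2]
      rw [h1, bg_sum_norm_irr hϑ]
      have hHne : (Nat.card H : ℂ) ≠ 0 := by exact_mod_cast Nat.card_pos.ne'
      field_simp
    · funext y
      rw [hb'def]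
      simp only [Pi.smul_apply, smul_eq_mul]
      have e1 : ϑ ⟨p₁ ((y : (H.comap p₁)) : P), (y : (H.comap p₁)).2⟩ = (t : ℂ) * η (f₁ y) := by
        have := congrFun hϑN (f₁ y)
        simp only [Pi.smul_apply, smul_eq_mul] at this
        exact this
      have e2 : ϑ (p₂ ((y : (H.comap p₁)) : P)) = (t : ℂ) * η (f₂ y) := by
        have := congrFun hϑN (f₂ y)
        simp only [Pi.smul_apply, smul_eq_mul] at this
        exact this
      rw [e1, e2, map_mul, Complex.conj_natCast]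
      ring
  · -- Xq
    have hXc : Cfsg.IsCharacter (H.comap p₁) (fun x : (H.comap p₁) => χ (p₁ x) * conj (ϑ (p₂ x))) := by
      exact h7_isCharacter_mul (isCharacter_comp_hom hχc (p₁.comp (H.comap p₁).subtype))
        (bg_isCharacter_conj (isCharacter_comp_hom hϑc (p₂.comp (H.comap p₁).subtype)))
    rw [hprop _ hXc ⟨(f : ℂ) * t, ?_⟩]
    · have h1 : ∑ h : H, (fun x : (H.comap p₁) => χ (p₁ x) * conj (ϑ (p₂ x))) (d' h) =
          ∑ h : H, χ h * conj (ϑ h) := by
        refine Finset.sum_congr rfl fun h _ => ?_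
        simp only
        rw [hd'coe, hd1, hd2]
      rw [h1]
      have h2 : Cfsg.classInner (fun h : H => χ h) ϑ = 1 := by
        rw [classInner_conj_symm,
          ← h7_frobenius_reciprocity H ϑ χ (isCharacter_isClassFunction hχc), hind,
          h7_irr_norm hχ]
        simp
      unfold Cfsg.classInner at h2
      exact h2
    · funext y
      rw [hb'def]
      simp only [Pi.smul_apply, smul_eq_mul]
      have e1 : χ (p₁ ((y : (H.comap p₁)) : P)) = (f : ℂ) * η (f₁ y) := by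
        have := congrFun hχN (f₁ y)
        simp only [Pi.smul_apply, smul_eq_mul] at this
        exact this
      have e2 : ϑ (p₂ ((y : (H.comap p₁)) : P)) = (t : ℂ) * η (f₂ y) := by
        have := congrFun hϑN (f₂ y)
        simp only [Pi.smul_apply, smul_eq_mul] at this
        exact this
      rw [e1, e2, map_mul, Complex.conj_natCast]
      ring

end Cfsg.Agent.Lib.helper2
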