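import Mathlib
import Cfsg.Prelude.Def_Characters
import Cfsg.Agent.Lib.helper2.BergerG5
import Cfsg.Agent.Lib.helper2.CliffordCorr

set_option autoImplicit false
open scoped ComplexConjugate

namespace Cfsg.Agent.Lib.helper2

open Cfsg.Agent.Lib.helper7 Cfsg.Agent.Lib.Helper11 Cfsg.Agent.Lib.Helper25

set_option maxHeartbeats 1600000 in
theorem bg_step {G P : Type*} [Group G] [Fintype G] [Group P] [Fintype P] [Group.IsSolvable P]
    (N H : Subgroup G) [hN : N.Normal] (hNH : N ≤ H) (hmax : IsCoatom H)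
    (p₁ : P →* G) (p₂ : P →* H) (d : H →* P) (hp₁ : Function.Surjective p₁)
    (hI2 : ∀ x : P, p₁ x ∈ N → ((p₂ x : H) : G) ∈ N)
    (hI4 : ∀ x y : P, p₁ x = p₁ y → p₂ x = p₂ y → x = y)
    (hI5 : ∀ n₁ n₂ : N, ∃ x : P, p₁ x = n₁ ∧ ((p₂ x : H) : G) = n₂)
    (hd1 : ∀ h : H, p₁ (d h) = h) (hd2 : ∀ h : H, p₂ (d h) = h)
    (χ : G → ℂ) (hχ : Cfsg.IsIrrCharacter G χ) (η : N → ℂ) (hη : Cfsg.IsIrrCharacter N η)
    (f : ℕ) (hχN : (fun n : N => χ n) = (f : ℂ) • η)
    (ϑ : H → ℂ) (hϑ : Cfsg.IsIrrCharacter H ϑ) (hind : Cfsg.indFun H ϑ = χ) :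
    ∃ (M T : Subgroup P) (w : T → ℂ), M.Normal ∧ N.comap p₁ < M ∧ M ≤ T ∧ T ≠ ⊤ ∧
      Cfsg.IsIrrCharacter T w ∧ Cfsg.indFun T w = fun x => χ (p₁ x) := by
  classical
  haveI : Fintype N := Fintype.ofFinite N
  haveI : Fintype H := Fintype.ofFinite H
  haveI : Fintype (H.comap p₁) := Fintype.ofFinite _
  haveI : Fintype (N.comap p₁) := Fintype.ofFinite _
  have hηc := h7_irr_isCharacter hη
  have hϑc := h7_irr_isCharacter hϑ
  have hχc := h7_irr_isCharacter hχ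
  have hχcl := isCharacter_isClassFunction hχc
  obtain ⟨nη, hnη⟩ := isCharacter_one_eq_nat hηc
  have hnη0 : nη ≠ 0 := by
    intro h
    have := irr_one_ne_zero (⟨η, hη⟩ : Cfsg.IrrCharacter N)
    apply this
    simp only
    rw [hnη, h]
    simp
  have hnηC : (nη : ℂ) ≠ 0 := by exact_mod_cast hnη0
  -- f ≠ 0
  have hf0 : (f : ℂ) ≠ 0 := by
    intro h
    have h1 := congrFun hχN 1
    simp only [Subgroup.coe_one, Pi.smul_apply, smul_eq_mul, h, zero_mul] at h1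
    exact irr_one_ne_zero (⟨χ, hχ⟩ : Cfsg.IrrCharacter G) h1
  -- invariance of η
  have hηinv : ∀ (g : G) (n : N), η ⟨g * n * g⁻¹, hN.conj_mem n n.2 g⟩ = η n := by
    intro g n
    have h1 := congrFun hχN ⟨g * n * g⁻¹, hN.conj_mem n n.2 g⟩
    have h2 := congrFun hχN n
    simp only [Pi.smul_apply, smul_eq_mul] at h1 h2
    rw [hχcl] at h1
    rw [h2] at h1
    exact (mul_left_cancel₀ hf0 h1).symm
  -- t
  obtain ⟨t, hϑN⟩ : ∃ t : ℕ, (fun n : N => ϑ ⟨n, hNH n.2⟩) = (t : ℂ) • η := by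
    have hne : Cfsg.classInner (fun h : H => χ h) ϑ ≠ 0 := by
      rw [classInner_conj_symm, ← h7_frobenius_reciprocity H ϑ χ hχcl, hind, h7_irr_norm hχ]
      simp
    obtain ⟨Z, hZ, hsplit⟩ := h7_char_split (isCharacter_restrict hχc H) ϑ hϑ hne
    let jN : N →* H := Subgroup.inclusion hNH
    have hres : (fun n : N => ϑ (jN n)) + (fun n : N => Z (jN n)) = (f : ℂ) • η := by
      rw [← hχN]
      funext n
      have := congrFun hsplit (jN n)
      simp only [Pi.add_apply] at this ⊢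
      rw [← this]
      rfl
    exact bg_sub_multiple (isCharacter_comp_hom hϑc jN) (isCharacter_comp_hom hZ jN) hη _ hres
  -- E
  obtain ⟨E, hE, hEB', hEform, hY, hXq⟩ := bg_exists_E N H hNH p₁ p₂ d hI2 hI4 hI5 hd1 hd2 χ hχ η hη
    hηinv f t hχN ϑ hϑ hϑN hind
  -- characters of P
  have hχ₁ : Cfsg.IsIrrCharacter P (fun x => χ (p₁ x)) := bg_irr_comp_surjective p₁ hp₁ hχ
  have hΘ : Cfsg.IsCharacter P (fun x => ϑ (p₂ x)) := isCharacter_comp_hom hϑc p₂
  have hϑ₁ : Cfsg.IsIrrCharacter (H.comap p₁) (fun x : H.comap p₁ => ϑ ⟨p₁ x, x.2⟩) := by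
    let g₁ : (H.comap p₁) →* H := (p₁.comp (H.comap p₁).subtype).codRestrict H (fun x => x.2)
    have hsurj : Function.Surjective g₁ := by
      intro h
      obtain ⟨x, hx⟩ := hp₁ (h : G)
      exact ⟨⟨x, by rw [Subgroup.mem_comap, hx]; exact h.2⟩, Subtype.ext hx⟩
    exact bg_irr_comp_surjective g₁ hsurj hϑ
  have hindQ : Cfsg.indFun (H.comap p₁) (fun x : H.comap p₁ => ϑ ⟨p₁ x, x.2⟩) =
      fun x => χ (p₁ x) := by
    rw [bg_indFun_comp_surjective p₁ hp₁ H ϑ, hind]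
  obtain ⟨hX, hXΘ⟩ := bg_aux_irr (H.comap p₁) E hE (fun x => χ (p₁ x)) (fun x => ϑ (p₂ x)) hχ₁ hΘ
    _ hϑ₁ hindQ hY hXq
  obtain ⟨X, hXdef⟩ : ∃ X : P → ℂ, X = Cfsg.indFun (H.comap p₁) E := ⟨_, rfl⟩
  rw [← hXdef] at hX hXΘ
  have hXc := h7_irr_isCharacter hX
  -- the restriction of E to B
  have hBQ : N.comap p₁ ≤ H.comap p₁ := Subgroup.comap_mono hNH
  obtain ⟨φB, hφBdef⟩ : ∃ φB : (N.comap p₁) → ℂ,
      φB = fun x : N.comap p₁ => E ⟨(x : P), hBQ x.2⟩ := ⟨_, rfl⟩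
  have hφBform : ∀ x : N.comap p₁, φB x = η ⟨p₁ x, x.2⟩ *
      conj (η ⟨((p₂ x : H) : G), hI2 x x.2⟩) := by
    intro x
    rw [hφBdef]
    exact hEform ⟨(x : P), hBQ x.2⟩ x.2
  have hφB : Cfsg.IsIrrCharacter (N.comap p₁) φB := by
    let jB : (N.comap p₁) →* ((N.comap p₁).subgroupOf (H.comap p₁)) :=
      { toFun := fun x => ⟨⟨(x : P), hBQ x.2⟩, x.2⟩
        map_one' := rfl
        map_mul' := fun a b => rfl }
    have hsurj : Function.Surjective jB := by
      intro y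
      exact ⟨⟨((y : H.comap p₁) : P), y.2⟩, rfl⟩
    have := bg_irr_comp_surjective jB hsurj hEB'
    rw [hφBdef]
    exact this
  -- S0890
  have hmaxQ : IsCoatom (H.comap p₁) := bg_isCoatom_comap p₁ hp₁ hmax
  have hsolv : Group.IsSolvable (P ⧸ N.comap p₁) := inferInstance
  have hX' : Cfsg.IsIrrCharacter P (Cfsg.indFun (H.comap p₁) E) := by rw [← hXdef]; exact hX
  have hφB' : Cfsg.IsIrrCharacter (N.comap p₁)
      (fun x : N.comap p₁ => E ⟨(x : P), hBQ x.2⟩) := by rw [← hφBdef]; exact hφB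
  obtain ⟨M, hMn, hBM, hnot⟩ := berger_final (N.comap p₁) (H.comap p₁) hBQ hmaxQ hsolv E hE hφB' hX'
  rw [← hXdef] at hnot
  haveI := hMn
  haveI : Fintype M := Fintype.ofFinite M
  -- X restricted to B is homogeneous
  have hinvB : ∀ g : P, cj (N.comap p₁) φB g = φB := by
    intro g
    funext x
    rw [cj_apply, hφBform, hφBform]
    have e1 : (⟨p₁ ((⟨g * (x : P) * g⁻¹, (inferInstance : (N.comap p₁).Normal).conj_mem x x.2 g⟩ :
        N.comap p₁) : P), (⟨g * (x : P) * g⁻¹,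
          (inferInstance : (N.comap p₁).Normal).conj_mem x x.2 g⟩ : N.comap p₁).2⟩ : N) =
        ⟨p₁ g * ((⟨p₁ x, x.2⟩ : N) : G) * (p₁ g)⁻¹, hN.conj_mem _ x.2 _⟩ := by
      apply Subtype.ext
      simp
    have e2 : (⟨((p₂ ((⟨g * (x : P) * g⁻¹,
        (inferInstance : (N.comap p₁).Normal).conj_mem x x.2 g⟩ : N.comap p₁) : P) : H) : G),
        hI2 _ (⟨g * (x : P) * g⁻¹,
          (inferInstance : (N.comap p₁).Normal).conj_mem x x.2 g⟩ : N.comap p₁).2⟩ : N) =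
        ⟨((p₂ g : H) : G) * ((⟨((p₂ x : H) : G), hI2 x x.2⟩ : N) : G) * ((p₂ g : H) : G)⁻¹,
          hN.conj_mem _ (hI2 x x.2) _⟩ := by
      apply Subtype.ext
      simp
    rw [e1, e2, hηinv, hηinv]
  have hconB : Cfsg.classInner (fun x : N.comap p₁ => X x) φB ≠ 0 := by
    have hne : Cfsg.classInner (fun x : H.comap p₁ => X x) E ≠ 0 := by
      rw [classInner_conj_symm, ← h7_frobenius_reciprocity (H.comap p₁) E X
        (isCharacter_isClassFunction hXc), ← hXdef, h7_irr_norm hX]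
      simp
    obtain ⟨Z', hZ', hsplit⟩ := h7_char_split (isCharacter_restrict hXc (H.comap p₁)) E hE hne
    let jBQ : (N.comap p₁) →* (H.comap p₁) := Subgroup.inclusion hBQ
    obtain ⟨k, hk⟩ := classInner_character_nat (isCharacter_comp_hom hZ' jBQ)
      (h7_irr_isCharacter hφB)
    have : (fun x : N.comap p₁ => X x) = φB + (fun x : N.comap p₁ => Z' (jBQ x)) := by
      funext x
      have := congrFun hsplit (jBQ x)
      simp only [Pi.add_apply] at this ⊢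
      rw [hφBdef]
      exact this
    rw [this, classInner_add_left, h7_irr_norm hφB, hk]
    have : ((1 + k : ℕ) : ℂ) ≠ 0 := by exact_mod_cast (by omega : 1 + k ≠ 0)
    simpa using this
  obtain ⟨eB, heBpos, -, hXB⟩ := h7_clifford_invariant (N.comap p₁) X hX φB hφB hconB hinvB
  -- B < M
  have hBltM : N.comap p₁ < M := by
    apply lt_of_le_of_ne hBM
    intro heq
    subst heq
    exact hnot ⟨φB, eB, hφB, hXB⟩
  -- Clifford correspondence
  have hXM : Cfsg.IsCharacter M (fun x : M => X x) := isCharacter_restrict hXc M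
  have hX1 : X 1 ≠ 0 := irr_one_ne_zero (⟨X, hX⟩ : Cfsg.IrrCharacter P)
  obtain ⟨μ, mμ, hmμ, hμm⟩ := isCharacter_exists_constituent hXM
    (by simpa using hX1 : (fun x : M => X x) 1 ≠ 0)
  have hconM : Cfsg.classInner (fun x : M => X x) (μ : M → ℂ) ≠ 0 := by
    rw [hμm]; exact_mod_cast hmμ.ne'
  obtain ⟨η', hη', hindT⟩ := clifford_correspondence M X hX (μ : M → ℂ) μ.2 hconM
  have hMT : M ≤ cjStab M (μ : M → ℂ) :=
    le_cjStab M _ (isCharacter_isClassFunction (isCharacter_of_irr μ))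
  have hTne : cjStab M (μ : M → ℂ) ≠ ⊤ := by
    intro htop
    have hinvM : ∀ g : P, cj M (μ : M → ℂ) g = (μ : M → ℂ) := by
      intro g
      have : g ∈ cjStab M (μ : M → ℂ) := by rw [htop]; trivial
      exact (mem_cjStab M _ g).mp this
    obtain ⟨e, -, -, he⟩ := h7_clifford_invariant M X hX (μ : M → ℂ) μ.2 hconM hinvM
    exact hnot ⟨(μ : M → ℂ), e, μ.2, he⟩
  haveI : Fintype (cjStab M (μ : M → ℂ)) := Fintype.ofFinite _
  -- the final lemma
  have hAB : p₁.ker ≤ N.comap p₁ := by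
    intro x hx
    rw [Subgroup.mem_comap, MonoidHom.mem_ker.mp hx]
    exact N.one_mem
  have hAT : p₁.ker ≤ cjStab M (μ : M → ℂ) := hAB.trans (hBM.trans hMT)
  haveI : Fintype p₁.ker := Fintype.ofFinite _
  let fA : p₁.ker →* N := ((H.subtype.comp p₂).comp p₁.ker.subtype).codRestrict N
    (fun x => hI2 _ (hAB x.2))
  have hfA : ∀ x : p₁.ker, ((fA x : N) : G) = ((p₂ (x : P) : H) : G) := fun x => rfl
  have hfAsurj : Function.Surjective fA := by
    intro n
    obtain ⟨x, hx1, hx2⟩ := hI5 1 n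
    exact ⟨⟨x, by rw [MonoidHom.mem_ker, hx1]; rfl⟩, Subtype.ext hx2⟩
  have ha : Cfsg.IsIrrCharacter p₁.ker (fun x => η (fA x)) := bg_irr_comp_surjective fA hfAsurj hη
  have hΘA : (fun x : p₁.ker => (fun y => ϑ (p₂ y)) (x : P)) = (t : ℂ) • (fun x => η (fA x)) := by
    funext x
    have := congrFun hϑN (fA x)
    simp only [Pi.smul_apply, smul_eq_mul] at this ⊢
    exact this
  have hXA : (fun x : p₁.ker => X x) =
      ((eB * nη : ℕ) : ℂ) • (fun x : p₁.ker => conj (η (fA x))) := by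
    funext x
    have h1 := congrFun hXB ⟨(x : P), hAB x.2⟩
    simp only [Pi.smul_apply, smul_eq_mul] at h1 ⊢
    rw [h1, hφBform]
    have e1 : (⟨p₁ ((⟨(x : P), hAB x.2⟩ : N.comap p₁) : P),
        (⟨(x : P), hAB x.2⟩ : N.comap p₁).2⟩ : N) = 1 :=
      Subtype.ext (MonoidHom.mem_ker.mp x.2)
    have e2 : (⟨((p₂ ((⟨(x : P), hAB x.2⟩ : N.comap p₁) : P) : H) : G),
        hI2 _ (⟨(x : P), hAB x.2⟩ : N.comap p₁).2⟩ : N) = fA x := Subtype.ext rfl
    rw [e1, e2, hnη]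
    push_cast
    ring
  have hχA : ∀ x : p₁.ker, (fun y => χ (p₁ y)) (x : P) = (fun y => χ (p₁ y)) 1 := by
    intro x
    simp only
    rw [MonoidHom.mem_ker.mp x.2, map_one]
  have heB : eB = H.index := by
    have e1 : X 1 = ((H.comap p₁).index : ℂ) * E 1 := by rw [hXdef, h7_indFun_one]
    have e2 : E 1 = (nη : ℂ) * nη := by
      have h := hEform 1 (by rw [Subgroup.coe_one, map_one]; exact N.one_mem)
      have e3 : (⟨p₁ ((1 : H.comap p₁) : P), by
          rw [Subgroup.coe_one, map_one]; exact N.one_mem⟩ : N) = 1 :=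
        Subtype.ext (by simp)
      have e4 : (⟨((p₂ ((1 : H.comap p₁) : P) : H) : G),
          hI2 _ (by rw [Subgroup.coe_one, map_one]; exact N.one_mem)⟩ : N) = 1 :=
        Subtype.ext (by simp)
      rw [h, e3, e4, hnη]
      simp
    have e5 : X 1 = (eB : ℂ) * ((nη : ℂ) * nη) := by
      have h := congrFun hXB 1
      simp only [Subgroup.coe_one, Pi.smul_apply, smul_eq_mul] at h
      rw [h, hφBdef]
      simp only
      have : (⟨((1 : N.comap p₁) : P), hBQ (1 : N.comap p₁).2⟩ : H.comap p₁) = 1 :=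
        Subtype.ext rfl
      rw [this, e2]
    rw [e1, e2, Subgroup.index_comap_of_surjective H hp₁] at e5
    have h6 : H.index * (nη * nη) = eB * (nη * nη) := by exact_mod_cast e5
    have h7 : 0 < nη * nη := Nat.mul_pos (Nat.pos_of_ne_zero hnη0) (Nat.pos_of_ne_zero hnη0)
    exact (Nat.eq_of_mul_eq_mul_right h7 h6).symm
  have hdeg : (fun y => χ (p₁ y)) 1 = (t : ℂ) * ((eB * nη : ℕ) : ℂ) := by
    simp only [map_one]
    rw [← hind, h7_indFun_one, heB]
    have h1 := congrFun hϑN 1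
    simp only [Subgroup.coe_one, Pi.smul_apply, smul_eq_mul, hnη] at h1
    have : (⟨(1 : G), hNH N.one_mem⟩ : H) = 1 := rfl
    rw [this] at h1
    rw [h1]
    push_cast
    ring
  obtain ⟨w, hw, hindw⟩ := bg_aux_final X (fun x => χ (p₁ x)) (fun x => ϑ (p₂ x)) hX hχ₁ hΘ hXΘ
    (cjStab M (μ : M → ℂ)) η' hη' hindT p₁.ker hAT (fun x => η (fA x)) ha t (eB * nη) hΘA hXA hχA
    hdeg
  exact ⟨M, cjStab M (μ : M → ℂ), w, hMn, hBltM, hMT, hTne, hw, hindw⟩

end Cfsg.Agent.Lib.helper2
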