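import Mathlib
import Cfsg.Prelude.Def_Characters
import Cfsg.Agent.Lib.helper2.BergerG6
import Cfsg.Agent.Lib.helper2.BergerG4
import Cfsg.Agent.Lib.helper2.PrimSolv

set_option autoImplicit false
open scoped ComplexConjugate

namespace Cfsg.Agent.Lib.helper2

open Cfsg.Agent.Lib.helper7 Cfsg.Agent.Lib.Helper11 Cfsg.Agent.Lib.Helper25

universe u

/-- pullback of quasi-primitivity along a surjection -/
theorem bg_qp_pullback {G P : Type*} [Group G] [Fintype G] [Group P] [Fintype P]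
    (p₁ : P →* G) (hp₁ : Function.Surjective p₁) (N : Subgroup G) (χ : G → ℂ)
    (hqp : ∀ M : Subgroup G, M.Normal → N ≤ M → ∃ (φ : M → ℂ) (e : ℕ),
      Cfsg.IsIrrCharacter M φ ∧ (fun m : M => χ m) = (e : ℂ) • φ)
    (M' : Subgroup P) (hM' : M'.Normal) (hNM' : N.comap p₁ ≤ M') :
    ∃ (φ : M' → ℂ) (e : ℕ), Cfsg.IsIrrCharacter M' φ ∧
      (fun m : M' => (fun x => χ (p₁ x)) m) = (e : ℂ) • φ := by
  classical
  haveI : Fintype M' := Fintype.ofFinite _
  haveI : Fintype (M'.map p₁) := Fintype.ofFinite _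
  have hn : (M'.map p₁).Normal := Subgroup.Normal.map hM' p₁ hp₁
  have hle : N ≤ M'.map p₁ := by
    intro n hn'
    obtain ⟨x, rfl⟩ := hp₁ n
    exact ⟨x, hNM' (Subgroup.mem_comap.mpr hn'), rfl⟩
  obtain ⟨φ, e, hφ, hres⟩ := hqp (M'.map p₁) hn hle
  let g : M' →* (M'.map p₁) := (p₁.comp M'.subtype).codRestrict (M'.map p₁)
    (fun x => ⟨(x : P), x.2, rfl⟩)
  have hg : Function.Surjective g := by
    rintro ⟨y, x, hx, rfl⟩
    exact ⟨⟨x, hx⟩, rfl⟩
  refine ⟨fun x => φ (g x), e, bg_irr_comp_surjective g hg hφ, ?_⟩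
  funext x
  have := congrFun hres (g x)
  simp only [Pi.smul_apply, smul_eq_mul] at this ⊢
  exact this

theorem bg_main (n : ℕ) : ∀ (G : Type u) [Group G] [Fintype G] [Group.IsSolvable G]
    (N : Subgroup G) [N.Normal], N.index = n → ∀ (χ : G → ℂ), Cfsg.IsIrrCharacter G χ →
    (∀ M : Subgroup G, M.Normal → N ≤ M → ∃ (φ : M → ℂ) (e : ℕ),
      Cfsg.IsIrrCharacter M φ ∧ (fun m : M => χ m) = (e : ℂ) • φ) →
    ∀ (H : Subgroup G), H ≠ ⊤ → N ≤ H → ∀ ψ : H → ℂ, Cfsg.IsCharacter H ψ →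
      Cfsg.indFun H ψ ≠ χ := by
  induction n using Nat.strong_induction_on with
  | _ n ih =>
    intro G _ _ _ N _ hidx χ hχ hqp H hH hNH ψ hψ hind
    classical
    haveI : Fintype H := Fintype.ofFinite H
    -- maximal subgroup
    obtain ⟨H', hH'max, hHH'⟩ := (eq_top_or_exists_le_coatom H).resolve_left hH
    haveI : Fintype H' := Fintype.ofFinite H'
    haveI : Fintype (H.subgroupOf H') := Fintype.ofFinite _
    have htoSub : Cfsg.IsCharacter (H.subgroupOf H') (toSub H H' ψ) := by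
      have := isCharacter_comp_hom hψ (Subgroup.subgroupOfEquivOfLe hHH').toMonoidHom
      exact this
    obtain ⟨ϑ, hϑdef⟩ : ∃ ϑ : H' → ℂ, ϑ = Cfsg.indFun (H.subgroupOf H') (toSub H H' ψ) :=
      ⟨_, rfl⟩
    have hϑc : Cfsg.IsCharacter H' ϑ := by
      rw [hϑdef]; exact isCharacter_indFun _ _ htoSub
    have hindϑ : Cfsg.indFun H' ϑ = χ := by
      rw [hϑdef, Cfsg.Agent.Lib.Helper11.indFun_trans hHH' ψ, hind]
    have hϑ : Cfsg.IsIrrCharacter H' ϑ := bg_irr_of_ind_irr H' hϑc (by rw [hindϑ]; exact hχ)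
    have hNH' : N ≤ H' := hNH.trans hHH'
    -- core
    have hNL : N ≤ H'.normalCore := (Subgroup.normal_le_normalCore).mpr hNH'
    by_cases hLN : H'.normalCore = N
    · have hcore : ∀ N' : Subgroup G, N'.Normal → N' ≤ H' → N' ≤ N := by
        intro N' hN' hle
        haveI := hN'
        rw [← hLN]
        exact (Subgroup.normal_le_normalCore).mpr hle
      obtain ⟨K, hKn, hNK, hinf, hsup, -⟩ :=
        primitive_solvable_pullback N H' hNH' hH'max inferInstance hcore
      haveI := hKn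
      obtain ⟨η, f, hη, hχN⟩ := hqp N inferInstance le_rfl
      haveI : Fintype (bgP K H') := Fintype.ofFinite _
      obtain ⟨M, T, w, hMn, hBM, hMT, hTne, hw, hindw⟩ := bg_step N H' hNH' hH'max
        (bgP1 K H') (bgP2 K H') (bgD K H') (bgP1_surjective K H' hsup)
        (bgP_I2 K H' N hNK hinf) (bgP_I4 K H') (bgP_I5 K H' N hNK hNH') (bgD_1 K H') (bgD_2 K H')
        χ hχ η hη f hχN ϑ hϑ hindϑ
      haveI := hMn
      have hsurj := bgP1_surjective K H' hsup
      have hlt : M.index < n := by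
        rw [← hidx, ← Subgroup.index_comap_of_surjective N hsurj]
        exact Subgroup.index_strictAnti hBM
      exact ih M.index hlt (bgP K H') M rfl (fun x => χ (bgP1 K H' x))
        (bg_irr_comp_surjective (bgP1 K H') hsurj hχ)
        (fun M' hM' hMM' => bg_qp_pullback (bgP1 K H') hsurj N χ hqp M' hM' (hBM.le.trans hMM'))
        T hTne hMT w (h7_irr_isCharacter hw) hindw
    · have hlt : H'.normalCore.index < n := by
        rw [← hidx]
        exact Subgroup.index_strictAnti (lt_of_le_of_ne hNL (Ne.symm hLN))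
      exact ih _ hlt G H'.normalCore rfl χ hχ
        (fun M hM hLM => hqp M hM (hNL.trans hLM)) H' hH'max.1 (Subgroup.normalCore_le H') ϑ hϑc
        hindϑ

end Cfsg.Agent.Lib.helper2
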