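import Mathlib
import Cfsg.Prelude.Def_GeometricClasses
import Cfsg.Agent.Lib.Helper29.C6P.DefsS
import Cfsg.Agent.Lib.helper2.C6PS6core2
import Cfsg.Agent.Lib.Lead.C6PS3
import Cfsg.Agent.Lib.Lead.C6PS4

set_option autoImplicit false
set_option linter.unusedVariables false
set_option linter.unusedSectionVars false

/-!
# Project C6P, part S, row S6 (`s_gens`), VERBATIM: `c6ps6_core` + S3 (`s_center_scalar`), S4 (`s_pm`), S5 (`s_anti`) of lead.
-/

namespace Cfsg.Agent.Lib.Helper10.C6P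

open Cfsg Cfsg.Geo
open scoped MatrixGroups

variable {F : Type*} [Field F] [Fintype F]

/-- S6 [L] (S3, S4, S5 + the count `|Z ⟨g₁, h₁⟩| ≤ 16 < 64`). -/
theorem s_gens (R : Subgroup (GL (Fin 4) F)) (hS : IsSymplecticTypeGroup 2 R)
    (hA : ActsAbsolutelyIrreducibly (matrixSet R)) (hZ : Nat.card (Subgroup.center R) = 4) (hR6 : Nat.card R = 2 ^ 6) :
    ∃ g1 ∈ R, ∃ h1 ∈ R, ∃ g2 ∈ R, ∃ h2 ∈ R,
      PauliRel (g1 : Matrix (Fin 4) (Fin 4) F) (h1 : Matrix (Fin 4) (Fin 4) F)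
        (g2 : Matrix (Fin 4) (Fin 4) F) (h2 : Matrix (Fin 4) (Fin 4) F) :=
  c6ps6_core R hZ hR6 (s_center_scalar R hA hZ) (s_pm R hS hA hZ)
    (fun g hg hns => s_anti R hS hA hZ g hg hns)

end Cfsg.Agent.Lib.Helper10.C6P
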