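import Mathlib
import Cfsg.Agent.Lib.helper6.CEB.Defs
import Cfsg.Agent.Lib.helper6.STBB1
import Cfsg.Agent.Lib.Helper22.CECG1

/-!
# Project CEB (designer helper6), row T5 (`ts_same_three`), verbatim.  helper2.
-/

set_option autoImplicit false

namespace Cfsg.Agent.Lib.helper6.CEB

open Cfsg.Agent.Lib.helper15.St2 Cfsg.Agent.Lib.helper7.Ce Cfsg.Agent.Lib.helper3.STC Cfsg.Agent.Lib.Lead.STD
  Cfsg.Agent.Lib.helper7.CED Cfsg.Agent.Lib.Lead.STB
open Cfsg.Agent.Lib.helper7.CEC (I2 I3 I4 U3)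

universe v w w'

section T

variable {K : Type*} [Field K] {ι : Type*} {Γ G : Type*} [Group Γ] [Group G] {S : SysB K ι G} {σ : Γ →* G}

/-- any two lifts of the same element commute -/
theorem cebt5_CL_self (h : IsCE σ) (x : G) : CL σ x x := by
  intro a b ha hb
  have hz : σ (a⁻¹ * b) = 1 := by rw [map_mul, map_inv, ha, hb, inv_mul_cancel]
  have hc := h.comm_of_map_one hz a
  calc a * b = a * (a * (a⁻¹ * b)) := by group
    _ = a * ((a⁻¹ * b) * a) := by rw [hc]
    _ = b * a := by group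

/-- T5 [S-M]  the same short root over `F_3`: `t = 0` or `u = 0`: `S.xs_zero`, `CEC.CL_one` (and `CL.symm`); `t, u ∈ {1, -1}`: any two lifts of the same element commute (they differ by an element of `σ.ker`, which is central),
`S.xs_neg`, `CEC.CL_inv`, `CL.symm`. -/
theorem ts_same_three (h : IsCE σ) (hK : ∀ t : K, t = 0 ∨ t = 1 ∨ t = -1) : HSs S σ := by
  intro a t u
  have h11 : CL σ (S.xs a 1) (S.xs a 1) := cebt5_CL_self h _
  have key : ∀ t : K, CL σ (S.xs a t) (S.xs a 1) := by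
    intro t
    rcases hK t with rfl | rfl | rfl
    · rw [S.xs_zero]
      exact Cfsg.Agent.Lib.helper7.CEC.CL_one h _
    · exact h11
    · rw [S.xs_neg]
      exact Cfsg.Agent.Lib.helper7.CEC.CL_inv h h11
  rcases hK u with rfl | rfl | rfl
  · rw [S.xs_zero]
    exact (Cfsg.Agent.Lib.helper7.CEC.CL_one h _).symm
  · exact key t
  · rw [S.xs_neg]
    exact (Cfsg.Agent.Lib.helper7.CEC.CL_inv h (key t).symm).symm

end T

end Cfsg.Agent.Lib.helper6.CEB
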