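import Mathlib
import Cfsg.Agent.Lib.helper7.CEC.Defs
import Cfsg.Agent.Lib.Helper24.STCI1
import Cfsg.Agent.Lib.Helper22.STCF1
import Cfsg.Agent.Lib.helper23.STCX2
import Cfsg.Agent.Lib.Helper29.STCH3

/-!
# CEC row L13: `xF_rel_short` (the rank one relation for the lifted short root elements).  (helper2)
-/

set_option autoImplicit false

namespace Cfsg.Agent.Lib.helper7.CEC

open Cfsg.Agent.Lib.helper15.St2 Cfsg.Agent.Lib.helper7.Ce Cfsg.Agent.Lib.helper3.STC

section L

variable {K : Type*} [Field K] {ι : Type*} {Γ G : Type*} [Group Γ] [Group G] {S : SysC K ι G} {σ : Γ →* G} {h : IsCE σ}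

/-- `xF` on a short root is `L.X`. -/
theorem cecl13_xF_short [DecidableEq ι] (L : ShortLift S h) (h2 : I2 ι) {a b : ι ⊕ ι} (hab : ab a ≠ ab b) (t : K) :
    xF L h2 a b t = L.X a b t := by
  have h1 : a ≠ b := fun e => hab (by rw [e])
  have h3 : b ≠ ng a := fun e => hab (by rw [e, ab_ng])
  unfold xF
  rw [if_neg h1, if_neg h3]

/-- L13 [M]  `e := xF a b t * xF b a (-t⁻¹) * xF a b t` is a lift of `S.w a b t` (`xF_map`).  Short: `L.eqv` with `hW.short`. -/
theorem xF_rel_short [DecidableEq ι] (hW : S.HW) (L : ShortLift S h) (h2 : I2 ι) {a b : ι ⊕ ι} (hab : ab a ≠ ab b) (t u : K) (ht : t ≠ 0) :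
    cj (xF L h2 a b t * xF L h2 b a (-t⁻¹) * xF L h2 a b t) (xF L h2 a b u) = xF L h2 b a (-(t⁻¹ ^ 2 * u)) := by
  have h1 : a ≠ b := fun e => hab (by rw [e])
  have h1' : a ≠ ng b := fun e => hab (by rw [e, ab_ng])
  have hba : ab b ≠ ab a := fun e => hab e.symm
  rw [cecl13_xF_short L h2 hab, cecl13_xF_short L h2 hba, cecl13_xF_short L h2 hab, cecl13_xF_short L h2 hba]
  have hmon := SysC.HW.short S hW h1 h1' t ht
  have he : σ (L.X a b t * L.X b a (-t⁻¹) * L.X a b t) = S.w a b t := by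
    rw [map_mul, map_mul, L.map a b hab, L.map b a hba]
    rfl
  have key := L.eqv (S.w a b t) (sws a b) (dws a b t) hmon (fun k => SysC.stcx2_sws_ng a b k) _ he a b hab u
  rw [key, stch3_sws_apply_left h1', stch3_sws_apply_right h1']
  congr 1
  have d1 : dws a b t a = -t⁻¹ := by
    unfold dws
    rw [if_pos rfl]
  have d2 : dws a b t b = t := by
    unfold dws
    rw [if_neg h1.symm, if_pos rfl]
  rw [d1, d2]
  ring

end L

end Cfsg.Agent.Lib.helper7.CEC
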