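import Mathlib
import Cfsg.Agent.Lib.helper2.CHMDefs
import Cfsg.Agent.Lib.Helper21.CHMC1

/-!
# Project CHM (S4139), piece B: the nilpotent side.
-/

set_option autoImplicit false
set_option linter.style.haveILetI false

namespace Cfsg.Agent.Lib.helper2.CHMB

open Cfsg.Agent.Lib.helper2.CHM

theorem factorization_le_of_sylow_le {G : Type*} [Group G] [Finite G] (T : Subgroup G)
    (q : ℕ) [hq : Fact q.Prime] (Q : Sylow q G) (hQ : (Q : Subgroup G) ≤ T) :
    (Nat.card G).factorization q ≤ (Nat.card T).factorization q := by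
  have h1 : Nat.card (Q : Subgroup G) ∣ Nat.card T := Subgroup.card_dvd_of_le hQ
  rw [Q.card_eq_multiplicity] at h1
  exact (Nat.Prime.pow_dvd_iff_le_factorization hq.out Nat.card_pos.ne').mp h1

theorem eq_top_of_sylow_le {G : Type*} [Group G] [Finite G] (T : Subgroup G)
    (h : ∀ (q : ℕ) [Fact q.Prime], ∃ Q : Sylow q G, (Q : Subgroup G) ≤ T) : T = ⊤ := by
  apply Subgroup.eq_top_of_le_card
  apply Nat.le_of_dvd Nat.card_pos
  rw [← Nat.factorization_prime_le_iff_dvd Nat.card_pos.ne' Nat.card_pos.ne']
  intro q hq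
  haveI : Fact q.Prime := ⟨hq⟩
  obtain ⟨Q, hQ⟩ := h q
  exact factorization_le_of_sylow_le T q Q hQ

theorem ordCompl_card_eq {G : Type*} [Group G] [Finite G] (T : Subgroup G) (p : ℕ)
    (h : ∀ (q : ℕ) [Fact q.Prime], q ≠ p → ∃ Q : Sylow q G, (Q : Subgroup G) ≤ T) :
    ordCompl[p] (Nat.card T) = ordCompl[p] (Nat.card G) := by
  apply Nat.dvd_antisymm
  · exact Nat.ordCompl_dvd_ordCompl_of_dvd (Subgroup.card_subgroup_dvd_card T) p
  · rw [← Nat.factorization_prime_le_iff_dvd (Nat.ordCompl_pos p Nat.card_pos.ne').ne'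
      (Nat.ordCompl_pos p Nat.card_pos.ne').ne']
    intro q hq
    haveI : Fact q.Prime := ⟨hq⟩
    rw [Nat.factorization_ordCompl, Nat.factorization_ordCompl]
    by_cases hqp : q = p
    · subst hqp
      simp
    · rw [Finsupp.erase_ne hqp, Finsupp.erase_ne hqp]
      obtain ⟨Q, hQ⟩ := h q hqp
      exact factorization_le_of_sylow_le T q Q hQ

theorem nilpotent_count {H : Type*} [Group H] [Finite H] (hH : Group.IsNilpotent H)
    (p : ℕ) [hp : Fact p.Prime] :
    Nat.card {x : H // ¬ p ∣ csz x} =
      ordProj[p] (Nat.card (Subgroup.center H)) * ordCompl[p] (Nat.card H) := by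
  haveI := hH
  obtain ⟨P⟩ : Nonempty (Sylow p H) := inferInstance
  haveI hPn : (P : Subgroup H).Normal := inferInstance
  haveI hsub : Subsingleton (Sylow p H) := (Sylow.unique_of_normal P hPn).instSubsingleton
  -- commuting of Sylows for different primes
  have hcomm : ∀ (q : ℕ) [Fact q.Prime], q ≠ p → ∀ Q : Sylow q H, ∀ x ∈ (P : Subgroup H),
      ∀ y ∈ (Q : Subgroup H), Commute x y := by
    intro q hq hqp Q x hx y hy
    haveI hQn : (Q : Subgroup H).Normal := inferInstance
    exact Subgroup.commute_of_normal_of_disjoint _ _ hPn hQn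
      (IsPGroup.disjoint_of_ne p q (Ne.symm hqp) _ _ P.isPGroup' Q.isPGroup') x y hx hy
  -- Step 1
  have h1 : Nat.card {x : H // ¬ p ∣ csz x} =
      Nat.card (Subgroup.centralizer ((P : Subgroup H) : Set H)) := by
    apply Nat.card_congr
    apply Equiv.subtypeEquivRight
    intro x
    rw [Cfsg.Agent.Lib.Helper21.CHM.not_dvd_csz_iff]
    unfold nu
    constructor
    · intro hne
      have hne' : Nonempty {S : Sylow p H // x ∈ Subgroup.centralizer ((S : Subgroup H) : Set H)} := by
        by_contra hemp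
        rw [not_nonempty_iff] at hemp
        exact hne Nat.card_of_isEmpty
      obtain ⟨⟨S, hS⟩⟩ := hne'
      have : S = P := Subsingleton.elim _ _
      rwa [this] at hS
    · intro hx
      haveI : Nonempty {S : Sylow p H // x ∈ Subgroup.centralizer ((S : Subgroup H) : Set H)} :=
        ⟨⟨P, hx⟩⟩
      exact Nat.card_pos.ne'
  rw [h1]
  set C := Subgroup.centralizer ((P : Subgroup H) : Set H) with hC
  -- p'-part
  have h2 : ordCompl[p] (Nat.card C) = ordCompl[p] (Nat.card H) := by
    apply ordCompl_card_eq C p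
    intro q hq hqp
    obtain ⟨Q⟩ : Nonempty (Sylow q H) := inferInstance
    refine ⟨Q, ?_⟩
    intro y hy
    rw [hC, Subgroup.mem_centralizer_iff]
    intro x hx
    exact (hcomm q hqp Q x hx y hy).eq
  -- p-part
  have hZC : Subgroup.center H ≤ C := Subgroup.center_le_centralizer _
  have h3a : ordProj[p] (Nat.card (Subgroup.center H)) ∣ ordProj[p] (Nat.card C) :=
    Nat.ordProj_dvd_ordProj_of_dvd Nat.card_pos.ne' (Subgroup.card_dvd_of_le hZC) p
  -- R = P ⊓ C is central
  have hR : (P : Subgroup H) ⊓ C ≤ Subgroup.center H := by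
    intro z hz
    obtain ⟨hzP, hzC⟩ := hz
    have hzC' : ∀ x ∈ (P : Subgroup H), x * z = z * x := by
      intro x hx
      have h0 : z ∈ Subgroup.centralizer ((P : Subgroup H) : Set H) := hzC
      exact (Subgroup.mem_centralizer_iff.mp h0) x hx
    have htop : Subgroup.centralizer ({z} : Set H) = ⊤ := by
      apply eq_top_of_sylow_le
      intro q hq
      by_cases hqp : q = p
      · subst hqp
        refine ⟨P, ?_⟩
        intro x hx
        rw [Subgroup.mem_centralizer_iff]
        intro w hw
        rw [Set.mem_singleton_iff] at hw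
        subst hw
        exact (hzC' x hx).symm
      · obtain ⟨Q⟩ : Nonempty (Sylow q H) := inferInstance
        refine ⟨Q, ?_⟩
        intro y hy
        rw [Subgroup.mem_centralizer_iff]
        intro w hw
        rw [Set.mem_singleton_iff] at hw
        subst hw
        exact (hcomm q hqp Q w hzP y hy).eq
    rw [Subgroup.mem_center_iff]
    intro g
    have hg : g ∈ Subgroup.centralizer ({z} : Set H) := by rw [htop]; exact Subgroup.mem_top g
    rw [Subgroup.mem_centralizer_iff] at hg
    exact (hg z rfl).symm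
  -- |C| = |P ⊓ C| * (P.relIndex C), the latter prime to p
  have h4 : Nat.card C = Nat.card ((P : Subgroup H) ⊓ C : Subgroup H) * (P : Subgroup H).relIndex C := by
    rw [Subgroup.relIndex, ← Subgroup.card_mul_index ((P : Subgroup H).subgroupOf C)]
    congr 1
    rw [← Subgroup.inf_subgroupOf_right]
    exact (Nat.card_congr (Subgroup.subgroupOfEquivOfLe inf_le_right).toEquiv)
  have h5 : ¬ p ∣ (P : Subgroup H).relIndex C := by
    intro hd
    exact P.not_dvd_index (hd.trans (Subgroup.relIndex_dvd_index_of_normal (P : Subgroup H) C))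
  have h6 : ∃ a : ℕ, Nat.card ((P : Subgroup H) ⊓ C : Subgroup H) = p ^ a := by
    have hpg : IsPGroup p ((P : Subgroup H) ⊓ C : Subgroup H) := P.isPGroup'.to_le inf_le_left
    exact (IsPGroup.iff_card.mp hpg)
  obtain ⟨a, ha⟩ := h6
  have h7 : ordProj[p] (Nat.card C) = p ^ a := by
    rw [h4, ha]
    have hrel0 : (P : Subgroup H).relIndex C ≠ 0 := by
      intro h0
      rw [h0, mul_zero] at h4
      exact Nat.card_pos.ne' h4
    rw [Nat.factorization_mul (pow_ne_zero _ hp.out.ne_zero) hrel0, Finsupp.add_apply,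
      Nat.Prime.factorization_pow hp.out, Finsupp.single_eq_same,
      Nat.factorization_eq_zero_of_not_dvd h5, add_zero]
  have h3b : ordProj[p] (Nat.card C) ∣ ordProj[p] (Nat.card (Subgroup.center H)) := by
    rw [h7]
    have : p ^ a ∣ Nat.card (Subgroup.center H) := by
      rw [← ha]
      exact Subgroup.card_dvd_of_le hR
    exact (Nat.Prime.pow_dvd_iff_le_factorization hp.out Nat.card_pos.ne').mp this |>
      fun h => pow_dvd_pow p h
  have h3 : ordProj[p] (Nat.card C) = ordProj[p] (Nat.card (Subgroup.center H)) :=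
    Nat.dvd_antisymm h3b h3a
  rw [← h3, ← h2, Nat.ordProj_mul_ordCompl_eq_self]

end Cfsg.Agent.Lib.helper2.CHMB
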