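import Mathlib
import Cfsg.Agent.Lib.helper2.CHMDefs
import Cfsg.Agent.Lib.helper2.CHMB
import Cfsg.Agent.Lib.Helper21.CHMC1
import Cfsg.Agent.Lib.Helper21.CHMC2
import Cfsg.Agent.Lib.Helper21.CHMC3
import Cfsg.Agent.Lib.helper6.CHMC4
import Cfsg.Agent.Lib.Helper27.CHMA
import Cfsg.Agent.Lib.Helper27.CHMC5

/-!
# Project CHM (S4139): final arithmetic and assembly.
-/

set_option autoImplicit false
set_option linter.style.haveILetI false

namespace Cfsg.Agent.Lib.helper2.CHM


theorem arith_core (p : ℕ) (hp : p.Prime) (g z c n k : ℕ) (hg : 0 < g) (hz : z ∣ g) (hzc : z ∣ c)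
    (hc : 0 < c) (hn : n ≡ 1 [MOD p]) (h1 : n * c ≡ k [MOD p * z])
    (h5 : k = ordProj[p] z * ordCompl[p] g)
    (h6 : n * (ordProj[p] g * ordCompl[p] c) ≤ g) : n * c ≤ k := by
  have hz0 : 0 < z := Nat.pos_of_dvd_of_pos hz hg
  obtain ⟨c', rfl⟩ := hzc
  have hc'0 : 0 < c' := Nat.pos_of_mul_pos_left hc
  -- k = z * k'
  obtain ⟨k', hk'⟩ := Nat.ordCompl_dvd_ordCompl_of_dvd hz p
  have hk : k = z * k' := by
    rw [h5, hk', ← mul_assoc, Nat.ordProj_mul_ordCompl_eq_self]
  have hpk' : ¬ p ∣ k' := by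
    intro hd
    apply Nat.not_dvd_ordCompl hp hg.ne'
    rw [hk']
    exact Dvd.dvd.mul_left hd _
  -- n * c ≡ c
  have hn1 : n * (z * c') ≡ z * c' [MOD p * z] := by
    have hnp : n % p = 1 := by
      have := hn
      unfold Nat.ModEq at this
      rw [this, Nat.mod_eq_of_lt hp.one_lt]
    have hndiv : n = p * (n / p) + 1 := by
      have := Nat.div_add_mod n p
      rw [hnp] at this
      exact this.symm
    have : n * (z * c') = z * c' + (p * z) * ((n / p) * c') := by
      conv_lhs => rw [hndiv]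
      ring
    rw [this]
    exact (Nat.modEq_iff_dvd' (Nat.le_add_right _ _)).mpr (by simp) |>.symm
  have h2 : z * c' ≡ z * k' [MOD z * p] := by
    rw [mul_comm z p, ← hk]
    exact hn1.symm.trans h1
  have h3 : c' ≡ k' [MOD p] := Nat.ModEq.mul_left_cancel' hz0.ne' h2
  have hpc' : ¬ p ∣ c' := by
    intro hd
    apply hpk'
    exact (Nat.modEq_zero_iff_dvd.mp (h3.symm.trans (Nat.modEq_zero_iff_dvd.mpr hd)))
  -- ordCompl (z * c') = ordCompl z * c'
  have h4 : ordCompl[p] (z * c') = ordCompl[p] z * c' := by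
    rw [Nat.ordCompl_mul]
    congr 1
    have : c'.factorization p = 0 := Nat.factorization_eq_zero_of_not_dvd hpc'
    rw [this, pow_zero, Nat.div_one]
  -- n * ordCompl c ≤ ordCompl g
  have h7 : n * ordCompl[p] (z * c') ≤ ordCompl[p] g := by
    have hpos := Nat.ordProj_pos g p
    have : ordProj[p] g * (n * ordCompl[p] (z * c')) ≤ ordProj[p] g * ordCompl[p] g := by
      rw [Nat.ordProj_mul_ordCompl_eq_self]
      calc ordProj[p] g * (n * ordCompl[p] (z * c')) = n * (ordProj[p] g * ordCompl[p] (z * c')) := by ring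
        _ ≤ g := h6
    exact Nat.le_of_mul_le_mul_left this hpos
  calc n * (z * c') = ordProj[p] z * (n * (ordCompl[p] z * c')) := by
        conv_lhs => rw [← Nat.ordProj_mul_ordCompl_eq_self z p]
        ring
    _ = ordProj[p] z * (n * ordCompl[p] (z * c')) := by rw [h4]
    _ ≤ ordProj[p] z * ordCompl[p] g := Nat.mul_le_mul_left _ h7
    _ = k := h5.symm



theorem nu_mul_central {G : Type*} [Group G] (p : ℕ) (x z : G) (hz : z ∈ Subgroup.center G) :
    nu p (x * z) = nu p x := by
  unfold nu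
  apply Nat.card_congr
  apply Equiv.subtypeEquivRight
  intro S
  have hzS : z ∈ Subgroup.centralizer ((S : Subgroup G) : Set G) :=
    Subgroup.center_le_centralizer _ hz
  constructor
  · intro h
    have := mul_mem h (inv_mem hzS)
    simpa using this
  · intro h
    exact mul_mem h hzS

theorem nu_one {G : Type*} [Group G] (p : ℕ) : nu p (1 : G) = Nat.card (Sylow p G) := by
  unfold nu
  apply Nat.card_congr
  exact Equiv.subtypeUnivEquiv (fun S => one_mem _)

theorem le_one_of_finsum_eq_card_support {α : Type*} [Finite α] (ν : α → ℕ)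
    (h : ∑ᶠ x : α, ν x ≤ Nat.card {x : α // ν x ≠ 0}) : ∀ x, ν x ≤ 1 := by
  classical
  haveI := Fintype.ofFinite α
  rw [finsum_eq_sum_of_fintype, Nat.card_eq_fintype_card, Fintype.card_subtype] at h
  rw [Finset.card_eq_sum_ones, Finset.sum_filter] at h
  have hle : ∀ x ∈ (Finset.univ : Finset α), (if ν x ≠ 0 then 1 else 0) ≤ ν x := by
    intro x _
    split_ifs with hx
    · exact Nat.one_le_iff_ne_zero.mpr hx
    · exact Nat.zero_le _
  have heq : ∑ x, (if ν x ≠ 0 then 1 else 0) = ∑ x, ν x :=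
    le_antisymm (Finset.sum_le_sum hle) h
  have := (Finset.sum_eq_sum_iff_of_le hle).mp heq
  intro x
  have hx := this x (Finset.mem_univ x)
  rw [← hx]
  split_ifs <;> omega


theorem sylow_normal_of_count {G : Type*} [Group G] [Finite G] (p : ℕ) [hp : Fact p.Prime]
    (hK : Nat.card {x : G // ¬ p ∣ csz x} =
      ordProj[p] (Nat.card (Subgroup.center G)) * ordCompl[p] (Nat.card G))
    (P : Sylow p G) : ((P : Subgroup G)).Normal := by
  have hsum : ∑ᶠ x : G, nu p x = Nat.card (Sylow p G) *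
      Nat.card (Subgroup.centralizer ((P : Subgroup G) : Set G)) := Cfsg.Agent.Lib.Helper21.CHM.sum_nu p P
  have hsupp : Nat.card {x : G // nu p x ≠ 0} = Nat.card {x : G // ¬ p ∣ csz x} :=
    Nat.card_congr (Equiv.subtypeEquivRight (fun x => (Cfsg.Agent.Lib.Helper21.CHM.not_dvd_csz_iff p x).symm))
  have hcong : ∑ᶠ x : G, nu p x ≡ Nat.card {x : G // ¬ p ∣ csz x}
      [MOD p * Nat.card (Subgroup.center G)] := by
    rw [← hsupp]
    exact Cfsg.Agent.Lib.helper6.CHM.sum_modEq_card_support (Subgroup.center G) p (nu p)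
      (fun x z hz => nu_mul_central p x z hz) (fun x hx => Cfsg.Agent.Lib.Helper21.CHM.nu_modEq_one p x hx)
  rw [hsum] at hcong
  have hle : Nat.card (Sylow p G) * Nat.card (Subgroup.centralizer ((P : Subgroup G) : Set G)) ≤
      Nat.card {x : G // ¬ p ∣ csz x} := by
    apply arith_core p hp.out (Nat.card G) (Nat.card (Subgroup.center G)) _ _ _ Nat.card_pos
      (Subgroup.card_subgroup_dvd_card _)
      (Subgroup.card_dvd_of_le (Subgroup.center_le_centralizer _)) Nat.card_pos
      (card_sylow_modEq_one p G) hcong hK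
    have hP : Nat.card (P : Subgroup G) = ordProj[p] (Nat.card G) := P.card_eq_multiplicity
    rw [← hP]
    exact Cfsg.Agent.Lib.Helper27.CHM.card_sylow_mul_le p P
  rw [← hsum, ← hsupp] at hle
  have h1 := le_one_of_finsum_eq_card_support (nu p) hle (1 : G)
  rw [nu_one] at h1
  haveI : Subsingleton (Sylow p G) := (Finite.card_le_one_iff_subsingleton).mp h1
  exact Sylow.normal_of_subsingleton P

theorem csz_eq_one_iff {G : Type*} [Group G] (x : G) : csz x = 1 ↔ x ∈ Subgroup.center G := by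
  unfold csz
  constructor
  · intro h
    rw [Nat.card_eq_one_iff_unique] at h
    obtain ⟨hs, _⟩ := h
    rw [Subgroup.mem_center_iff]
    intro g
    have h1 : (⟨x, ConjClasses.mem_carrier_mk⟩ : (ConjClasses.mk x).carrier) =
        ⟨g * x * g⁻¹, by
          rw [ConjClasses.mem_carrier_iff_mk_eq]
          exact (ConjClasses.mk_eq_mk_iff_isConj.mpr (isConj_iff.mpr ⟨g, rfl⟩)).symm⟩ :=
      Subsingleton.elim _ _
    have h2 : x = g * x * g⁻¹ := congrArg Subtype.val h1
    calc g * x = g * x * g⁻¹ * g := by group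
      _ = x * g := by rw [← h2]
  · intro h
    rw [Nat.card_eq_one_iff_unique]
    refine ⟨⟨?_⟩, ⟨⟨x, ConjClasses.mem_carrier_mk⟩⟩⟩
    have key : ∀ a : G, a ∈ (ConjClasses.mk x).carrier → a = x := by
      intro a ha
      rw [ConjClasses.mem_carrier_iff_mk_eq, ConjClasses.mk_eq_mk_iff_isConj, isConj_iff] at ha
      obtain ⟨g, hg⟩ := ha
      rw [Subgroup.mem_center_iff] at h
      have h1 : a = g⁻¹ * x * g := by
        rw [← hg]
        group
      rw [h1, mul_assoc, ← h g, ← mul_assoc, inv_mul_cancel, one_mul]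
    rintro ⟨a, ha⟩ ⟨b, hb⟩
    apply Subtype.ext
    change a = b
    rw [key a ha, key b hb]

theorem card_center_eq (K : Type*) [Group K] : Nat.card (Subgroup.center K) =
    Nat.card {x : K // csz x ∈ ({1} : Set ℕ)} := by
  apply Nat.card_congr
  apply Equiv.subtypeEquivRight
  intro x
  rw [Set.mem_singleton_iff, csz_eq_one_iff]

theorem chm {G H : Type*} [Group G] [Finite G] [Group H] [Finite H]
    (hH : Group.IsNilpotent H)
    (h : ∀ k : ℕ, Nat.card {C : ConjClasses G // Nat.card C.carrier = k} =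
      Nat.card {C : ConjClasses H // Nat.card C.carrier = k}) :
    Group.IsNilpotent G := by
  apply ((Group.isNilpotent_of_finite_tfae (G := G)).out 0 3).mpr
  intro p hp P
  apply sylow_normal_of_count p _ P
  have hK : Nat.card {x : G // ¬ p ∣ csz x} = Nat.card {x : H // ¬ p ∣ csz x} :=
    Cfsg.Agent.Lib.Helper27.CHM.card_csz_mem_eq h {k | ¬ p ∣ k}
  have hG : Nat.card G = Nat.card H := by
    have := Cfsg.Agent.Lib.Helper27.CHM.card_csz_mem_eq h Set.univ
    rw [Nat.card_congr (Equiv.subtypeUnivEquiv (fun x => Set.mem_univ _)),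
      Nat.card_congr (Equiv.subtypeUnivEquiv (fun x => Set.mem_univ _))] at this
    exact this
  have hZ : Nat.card (Subgroup.center G) = Nat.card (Subgroup.center H) := by
    have := Cfsg.Agent.Lib.Helper27.CHM.card_csz_mem_eq h {1}
    rw [card_center_eq G, card_center_eq H, this]
  rw [hK, Cfsg.Agent.Lib.helper2.CHMB.nilpotent_count hH p, hG, hZ]

end Cfsg.Agent.Lib.helper2.CHM
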