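import Mathlib
import Cfsg.Prelude.Def_Characters
import Cfsg.Prelude.Def_Blocks
import Cfsg.Agent.Lib.helper2.CliffordCorr
import Cfsg.Agent.Lib.helper2.CharInd
import Cfsg.Agent.Lib.helper2.CharInt
import Cfsg.Agent.Lib.Helper25.CharAbelian

set_option autoImplicit false
open Cfsg
open scoped ComplexConjugate

namespace Cfsg.Agent.Lib.helper2

open Cfsg.Agent.Lib.helper7 Cfsg.Agent.Lib.Helper11 Cfsg.Agent.Lib.Helper25

/-- an irreducible character of `p`-power codegree is induced from a Sylow `p`-subgroup -/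
theorem cdg_forward {G : Type*} [Group G] [Fintype G] (p : ℕ) [hp : Fact p.Prime]
    (χ : Cfsg.IrrCharacter G) (k : ℕ)
    (hk : Nat.card G = p ^ k * Cfsg.charDegree (χ : G → ℂ)) (P : Sylow p G) :
    ∃ θ : Cfsg.IrrCharacter ↥(P : Subgroup G),
      (χ : G → ℂ) = Cfsg.indFun (P : Subgroup G) (θ : ↥(P : Subgroup G) → ℂ) := by
  classical
  haveI : Fintype ↥(P : Subgroup G) := Fintype.ofFinite _
  haveI : Fintype (Cfsg.IrrCharacter ↥(P : Subgroup G)) := Fintype.ofFinite _
  obtain ⟨hd1, hdpos⟩ := charDegree_irr χ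
  set d := Cfsg.charDegree (χ : G → ℂ) with hd
  set n := (Nat.card G).factorization p with hn
  set r := (P : Subgroup G).index with hr
  have hPcard : Nat.card ↥(P : Subgroup G) = p ^ n := Sylow.card_eq_multiplicity P
  have hrp : ¬ p ∣ r := P.not_dvd_index
  have hG : Nat.card G = r * p ^ n := by
    rw [← hPcard, hr, Subgroup.index_mul_card]
  have hcop : Nat.Coprime (p ^ k) r :=
    Nat.Coprime.pow_left k ((Nat.Prime.coprime_iff_not_dvd hp.out).mpr hrp)
  have hkn : k ≤ n := by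
    have h1 : p ^ k ∣ r * p ^ n := by rw [← hG, hk]; exact dvd_mul_right _ _
    have h2 : p ^ k ∣ p ^ n := hcop.dvd_of_dvd_mul_left h1
    exact (Nat.pow_dvd_pow_iff_le_right hp.out.one_lt).mp h2
  have hdr : d = r * p ^ (n - k) := by
    have h1 : p ^ k * d = p ^ k * (r * p ^ (n - k)) := by
      rw [← hk, hG]
      have : p ^ n = p ^ (n - k) * p ^ k := by rw [← pow_add]; congr 1; omega
      rw [this]; ring
    exact Nat.eq_of_mul_eq_mul_left (pow_pos hp.out.pos k) h1
  -- expansion of the restriction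
  have hres : Cfsg.IsCharacter ↥(P : Subgroup G) (fun h : ↥(P : Subgroup G) => (χ : G → ℂ) h) :=
    isCharacter_restrict (Cfsg.Agent.Lib.helper2.isCharacter_of_irr χ) _
  obtain ⟨m, hm, hexp⟩ := isCharacter_expansion hres
  have hdeg : ∀ lam : Cfsg.IrrCharacter ↥(P : Subgroup G), ∃ e : ℕ, 0 < e ∧
      (lam : ↥(P : Subgroup G) → ℂ) 1 = (e : ℂ) ∧ e ∣ p ^ n := by
    intro lam
    obtain ⟨e, he, h1, h2⟩ := irr_degree_dvd_card lam
    exact ⟨e, he, h1, hPcard ▸ h2⟩
  choose e hepos he1 hedvd using hdeg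
  have hdsum : d = ∑ lam : Cfsg.IrrCharacter ↥(P : Subgroup G), m lam * e lam := by
    have h1 : (χ : G → ℂ) 1 = ∑ lam : Cfsg.IrrCharacter ↥(P : Subgroup G),
        (m lam : ℂ) * (lam : ↥(P : Subgroup G) → ℂ) 1 := by
      have := congrFun hexp 1
      simp only [Finset.sum_apply, Pi.smul_apply, smul_eq_mul] at this
      exact this
    rw [← hd1] at h1
    simp only [he1] at h1
    exact_mod_cast h1
  -- a constituent of small degree
  have hex : ∃ lam : Cfsg.IrrCharacter ↥(P : Subgroup G), 0 < m lam ∧ e lam ≤ p ^ (n - k) := by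
    by_contra hcon
    push Not at hcon
    have hall : ∀ lam : Cfsg.IrrCharacter ↥(P : Subgroup G), p ^ (n - k + 1) ∣ m lam * e lam := by
      intro lam
      rcases Nat.eq_zero_or_pos (m lam) with h0 | hpos
      · rw [h0, zero_mul]; exact dvd_zero _
      · have h1 := hcon lam hpos
        obtain ⟨j, hj, hej⟩ := (Nat.dvd_prime_pow hp.out).mp (hedvd lam)
        rw [hej] at h1 ⊢
        have h2 : n - k < j := (Nat.pow_lt_pow_iff_right hp.out.one_lt).mp h1
        exact Dvd.dvd.mul_left (pow_dvd_pow p h2) _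
    have h3 : p ^ (n - k + 1) ∣ d := by
      rw [hdsum]
      exact Finset.dvd_sum fun lam _ => hall lam
    rw [hdr, pow_succ, mul_comm r] at h3
    have h4 : p ∣ r := Nat.dvd_of_mul_dvd_mul_left (pow_pos hp.out.pos _) h3
    exact hrp h4
  obtain ⟨lam, hmlam, helam⟩ := hex
  refine ⟨lam, ?_⟩
  set ψ := Cfsg.indFun (P : Subgroup G) (lam : ↥(P : Subgroup G) → ℂ) with hψ
  have hψchar : Cfsg.IsCharacter G ψ :=
    isCharacter_indFun _ _ (Cfsg.Agent.Lib.helper2.isCharacter_of_irr lam)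
  have hψ1 : ψ 1 = ((r * e lam : ℕ) : ℂ) := by
    rw [hψ, h7_indFun_one, he1]
    push_cast
    rfl
  have hinner : Cfsg.classInner ψ (χ : G → ℂ) = (m lam : ℂ) := by
    rw [hψ, h7_frobenius_reciprocity _ _ _
      (isCharacter_isClassFunction (Cfsg.Agent.Lib.helper2.isCharacter_of_irr χ))]
    exact classInner_symm_of_nat _ _ _ (hm lam)
  have hge := isCharacter_degree_ge hψchar χ (m lam) (r * e lam) d hinner hψ1 hd1.symm
  have hle : r * e lam ≤ d := by
    rw [hdr]
    exact Nat.mul_le_mul_left r helam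
  have heq : r * e lam = d := by
    apply le_antisymm hle
    calc d = 1 * d := (one_mul d).symm
      _ ≤ m lam * d := Nat.mul_le_mul_right d hmlam
      _ ≤ r * e lam := hge
  symm
  apply isCharacter_eq_of_degree hψchar χ
  · rw [hinner]
    exact_mod_cast hmlam.ne'
  · rw [hψ1, heq, hd1]

/-- an irreducible character induced from a Sylow `p`-subgroup has `p`-power codegree -/
theorem cdg_backward {G : Type*} [Group G] [Fintype G] (p : ℕ) [hp : Fact p.Prime]
    (χ : Cfsg.IrrCharacter G) (P : Sylow p G) (θ : ↥(P : Subgroup G) → ℂ)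
    (hθ : Cfsg.IsCharacter ↥(P : Subgroup G) θ)
    (hχ : (χ : G → ℂ) = Cfsg.indFun (P : Subgroup G) θ) :
    ∃ k : ℕ, Nat.card G = p ^ k * Cfsg.charDegree (χ : G → ℂ) := by
  classical
  haveI : Fintype ↥(P : Subgroup G) := Fintype.ofFinite _
  haveI : Fintype (Cfsg.IrrCharacter ↥(P : Subgroup G)) := Fintype.ofFinite _
  obtain ⟨hd1, hdpos⟩ := charDegree_irr χ
  set d := Cfsg.charDegree (χ : G → ℂ) with hd
  set n := (Nat.card G).factorization p with hn
  set r := (P : Subgroup G).index with hr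
  have hPcard : Nat.card ↥(P : Subgroup G) = p ^ n := Sylow.card_eq_multiplicity P
  have hG : Nat.card G = r * p ^ n := by
    rw [← hPcard, hr, Subgroup.index_mul_card]
  obtain ⟨t, ht⟩ := isCharacter_one_eq_nat hθ
  have hdt : d = r * t := by
    have h1 := congrFun hχ 1
    rw [h7_indFun_one, ht, ← hd1] at h1
    exact_mod_cast h1
  have ht0 : θ 1 ≠ 0 := by
    rw [ht]
    intro h
    have h2 : t = 0 := by exact_mod_cast h
    rw [h2, mul_zero] at hdt
    omega
  obtain ⟨lam, m, hmpos, hmlam⟩ := isCharacter_exists_constituent hθ ht0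
  obtain ⟨e, hepos, he1, hedvd⟩ := irr_degree_dvd_card lam
  set ψ := Cfsg.indFun (P : Subgroup G) (lam : ↥(P : Subgroup G) → ℂ) with hψ
  have hψchar : Cfsg.IsCharacter G ψ :=
    isCharacter_indFun _ _ (Cfsg.Agent.Lib.helper2.isCharacter_of_irr lam)
  have hrpos : 0 < r := by
    rcases Nat.eq_zero_or_pos r with h | h
    · rw [h, zero_mul] at hdt; omega
    · exact h
  have hψ1 : ψ 1 = ((r * e : ℕ) : ℂ) := by
    rw [hψ, h7_indFun_one, he1]
    push_cast
    rfl
  have hψ0 : ψ 1 ≠ 0 := by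
    rw [hψ1]
    exact_mod_cast (Nat.mul_pos hrpos hepos).ne'
  obtain ⟨ξ, m', hm'pos, hm'⟩ := isCharacter_exists_constituent hψchar hψ0
  have hξcl : Cfsg.IsClassFunction G (ξ : G → ℂ) :=
    isCharacter_isClassFunction (Cfsg.Agent.Lib.helper2.isCharacter_of_irr ξ)
  have h1 : Cfsg.classInner (lam : ↥(P : Subgroup G) → ℂ)
      (fun h : ↥(P : Subgroup G) => (ξ : G → ℂ) h) = (m' : ℂ) := by
    rw [← h7_frobenius_reciprocity _ _ _ hξcl]
    exact hm'
  have h2 : Cfsg.classInner (χ : G → ℂ) (ξ : G → ℂ) =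
      Cfsg.classInner θ (fun h : ↥(P : Subgroup G) => (ξ : G → ℂ) h) := by
    rw [hχ, h7_frobenius_reciprocity _ _ _ hξcl]
  obtain ⟨mm, hmm, hexp⟩ := isCharacter_expansion hθ
  have hnat : ∀ μ : Cfsg.IrrCharacter ↥(P : Subgroup G), ∃ k : ℕ,
      Cfsg.classInner (μ : ↥(P : Subgroup G) → ℂ)
        (fun h : ↥(P : Subgroup G) => (ξ : G → ℂ) h) = (k : ℂ) := fun μ =>
    classInner_character_nat (Cfsg.Agent.Lib.helper2.isCharacter_of_irr μ)
      (isCharacter_restrict (Cfsg.Agent.Lib.helper2.isCharacter_of_irr ξ) _)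
  choose nn hnn using hnat
  have h3 : Cfsg.classInner θ (fun h : ↥(P : Subgroup G) => (ξ : G → ℂ) h) =
      ((∑ μ : Cfsg.IrrCharacter ↥(P : Subgroup G), mm μ * nn μ : ℕ) : ℂ) := by
    conv_lhs => rw [hexp]
    rw [classInner_sum_left]
    simp only [classInner_smul_left, hnn]
    push_cast
    rfl
  have h4 : mm lam = m := by
    have := hmm lam
    rw [hmlam] at this
    exact_mod_cast this.symm
  have h4' : nn lam = m' := by
    have := hnn lam
    rw [h1] at this
    exact_mod_cast this.symm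
  have h5 : 0 < ∑ μ : Cfsg.IrrCharacter ↥(P : Subgroup G), mm μ * nn μ := by
    have h6 : mm lam * nn lam ≤ ∑ μ : Cfsg.IrrCharacter ↥(P : Subgroup G), mm μ * nn μ :=
      Finset.single_le_sum (f := fun μ => mm μ * nn μ) (fun _ _ => Nat.zero_le _)
        (Finset.mem_univ lam)
    rw [h4, h4'] at h6
    exact lt_of_lt_of_le (Nat.mul_pos hmpos hm'pos) h6
  have hξχ : χ = ξ := by
    by_contra hne
    have h7 := irr_classInner χ ξ
    rw [if_neg hne, h2, h3] at h7
    have h8 : (∑ μ : Cfsg.IrrCharacter ↥(P : Subgroup G), mm μ * nn μ) = 0 := by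
      exact_mod_cast h7
    omega
  subst hξχ
  have hge1 := isCharacter_degree_ge hθ lam m t e hmlam ht he1
  have hge2 := isCharacter_degree_ge hψchar χ m' (r * e) d hm' hψ1 hd1.symm
  have heq : r * e = d := by
    apply le_antisymm
    · rw [hdt]
      apply Nat.mul_le_mul_left r
      calc e = 1 * e := (one_mul e).symm
        _ ≤ m * e := Nat.mul_le_mul_right e hmpos
        _ ≤ t := hge1
    · calc d = 1 * d := (one_mul d).symm
        _ ≤ m' * d := Nat.mul_le_mul_right d hm'pos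
        _ ≤ r * e := hge2
  rw [hPcard] at hedvd
  obtain ⟨j, hj, hej⟩ := (Nat.dvd_prime_pow hp.out).mp hedvd
  refine ⟨n - j, ?_⟩
  rw [hG, ← heq, hej]
  have : p ^ n = p ^ (n - j) * p ^ j := by rw [← pow_add]; congr 1; omega
  rw [this]; ring

end Cfsg.Agent.Lib.helper2
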