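import Mathlib
import Cfsg.Prelude.Def_Characters
import Cfsg.Agent.Lib.helper2.Triple5

set_option autoImplicit false

namespace Cfsg.Agent.Lib.helper2

open scoped ComplexConjugate
open Cfsg.Agent.Lib.helper7 Cfsg.Agent.Lib.Helper25

section gallagher

variable {G : Type*} [Group G] [Fintype G] (N : Subgroup G) [hN : N.Normal] [Fintype N]
variable {X : Type*} [Group X] [Fintype X] (s : G →* X) (hs : Function.Surjective s)
variable (hker : ∀ g : G, s g = 1 ↔ g ∈ N)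
variable (χ₀ : G → ℂ) (hχ₀ : Cfsg.IsIrrCharacter G χ₀)
variable (hres : Cfsg.IsIrrCharacter N (fun n : N => χ₀ n))

include hs hker hχ₀ hres in
/-- (P1) twisting an inflated irreducible character by an extension -/
theorem gn_gal_irr (γ : X → ℂ) (hγ : Cfsg.IsIrrCharacter X γ) :
    Cfsg.IsIrrCharacter G ((fun g => γ (s g)) * χ₀) := by
  apply ct_gallagher N χ₀ _ hχ₀ hres (bg_irr_comp_surjective s hs hγ)
  intro n hn
  show γ (s n) = γ (s 1)
  rw [(hker n).mpr hn, map_one]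

include hs hker hχ₀ hres in
/-- (P2) every character over the restriction is a twist -/
theorem gn_gal_surj (ψ : G → ℂ) (hψ : Cfsg.IsIrrCharacter G ψ)
    (hover : Cfsg.classInner (fun n : N => ψ n) (fun n : N => χ₀ n) ≠ 0) :
    ∃ γ : X → ℂ, Cfsg.IsIrrCharacter X γ ∧ ψ = (fun g => γ (s g)) * χ₀ := by
  classical
  have hϑinv : ∀ (g : G) (n : N),
      (fun n : N => χ₀ n) ⟨g * n * g⁻¹, hN.conj_mem (n : G) n.2 g⟩ = (fun n : N => χ₀ n) n := by
    intro g n
    exact h7_irr_isClassFunction hχ₀ (n : G) g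
  have e : ((fun _ : N => (1 : ℂ)) * (fun n : N => χ₀ n)) = (fun n : N => χ₀ n) := by
    funext n
    rw [Pi.mul_apply, one_mul]
  have key := Cfsg.Agent.S0856.result N (fun _ : N => (1 : ℂ)) (fun n : N => χ₀ n)
    (trivIrr N).2 hres (fun g n => rfl) hϑinv (by rw [e]; exact hres) χ₀ hχ₀ (fun n => rfl)
  rw [e] at key
  have hT : ψ ∈ {ψ : G → ℂ | Cfsg.IsIrrCharacter G ψ ∧
      Cfsg.classInner (Cfsg.indFun N (fun n : N => χ₀ n)) ψ ≠ 0} := by
    refine ⟨hψ, ?_⟩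
    rw [h7_frobenius_irr N ψ (h7_irr_isClassFunction hψ)]
    intro h0
    apply hover
    have h1 := congrArg conj h0
    rw [Complex.conj_conj, map_zero] at h1
    exact h1
  obtain ⟨β, ⟨hβirr, hβ⟩, hβψ⟩ := key.surjOn hT
  -- N is in the kernel of β
  have hβN : ∀ n ∈ N, β n = β 1 := by
    rw [h7_frobenius_irr N β (h7_irr_isClassFunction hβirr)] at hβ
    have hcon : Cfsg.classInner (fun n : N => β n) (fun _ : N => (1 : ℂ)) ≠ 0 := by
      intro h0
      apply hβ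
      rw [h0, map_zero]
    obtain ⟨e', he', h1, h2⟩ := h7_clifford_invariant N β hβirr (fun _ : N => (1 : ℂ))
      (trivIrr N).2 hcon (fun g => rfl)
    intro n hn
    have h3 := congrFun h2 ⟨n, hn⟩
    have h4 := congrFun h2 1
    simp only [Pi.smul_apply, smul_eq_mul, mul_one] at h3 h4
    rw [h3]
    rw [← h4]
    rfl
  have hkers : ∀ a ∈ s.ker, (⟨β, hβirr⟩ : Cfsg.IrrCharacter G).1 a =
      (⟨β, hβirr⟩ : Cfsg.IrrCharacter G).1 1 := by
    intro a ha
    exact hβN a ((hker a).mp (MonoidHom.mem_ker.mp ha))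
  obtain ⟨γ, hγ⟩ := ct_deflate s hs ⟨β, hβirr⟩ hkers
  refine ⟨γ.1, γ.2, ?_⟩
  rw [← hβψ]
  funext g
  show β g * χ₀ g = γ.1 (s g) * χ₀ g
  rw [hγ g]

include hs hker hχ₀ hres in
/-- (P3) injectivity of the twist -/
theorem gn_gal_inj (γ₁ γ₂ : X → ℂ) (h₁ : Cfsg.IsIrrCharacter X γ₁)
    (h₂ : Cfsg.IsIrrCharacter X γ₂)
    (h : (fun g => γ₁ (s g)) * χ₀ = (fun g => γ₂ (s g)) * χ₀) : γ₁ = γ₂ := by
  classical
  have hϑinv : ∀ (g : G) (n : N),
      (fun n : N => χ₀ n) ⟨g * n * g⁻¹, hN.conj_mem (n : G) n.2 g⟩ = (fun n : N => χ₀ n) n := by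
    intro g n
    exact h7_irr_isClassFunction hχ₀ (n : G) g
  have e : ((fun _ : N => (1 : ℂ)) * (fun n : N => χ₀ n)) = (fun n : N => χ₀ n) := by
    funext n
    rw [Pi.mul_apply, one_mul]
  have key := Cfsg.Agent.S0856.result N (fun _ : N => (1 : ℂ)) (fun n : N => χ₀ n)
    (trivIrr N).2 hres (fun g n => rfl) hϑinv (by rw [e]; exact hres) χ₀ hχ₀ (fun n => rfl)
  have hS : ∀ γ : X → ℂ, Cfsg.IsIrrCharacter X γ →
      (fun g => γ (s g)) ∈ {β : G → ℂ | Cfsg.IsIrrCharacter G β ∧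
        Cfsg.classInner (Cfsg.indFun N (fun _ : N => (1 : ℂ))) β ≠ 0} := by
    intro γ hγ
    have hirr := bg_irr_comp_surjective s hs hγ
    refine ⟨hirr, ?_⟩
    rw [h7_frobenius_irr N _ (h7_irr_isClassFunction hirr)]
    intro h0
    apply ct_over_triv N ⟨_, hirr⟩ (by
      intro n hn
      show γ (s n) = γ (s 1)
      rw [(hker n).mpr hn, map_one])
    have h1 := congrArg conj h0
    rw [Complex.conj_conj, map_zero] at h1
    exact h1
  have h3 := key.injOn (hS γ₁ h₁) (hS γ₂ h₂) h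
  funext x
  obtain ⟨g, rfl⟩ := hs x
  exact congrFun h3 g

include hs hker hχ₀ hres in
/-- (P4) inner products of twists -/
theorem gn_gal_inner (B : X → ℂ) (hB : Cfsg.IsCharacter X B) (γ : X → ℂ)
    (hγ : Cfsg.IsIrrCharacter X γ) :
    Cfsg.classInner ((fun g => B (s g)) * χ₀) ((fun g => γ (s g)) * χ₀) =
      Cfsg.classInner B γ := by
  classical
  haveI : Fintype (Cfsg.IrrCharacter X) := Fintype.ofFinite _
  obtain ⟨m, hm, hexp⟩ := isCharacter_expansion hB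
  have h1 : ((fun g => B (s g)) * χ₀) =
      ∑ ζ : Cfsg.IrrCharacter X, (m ζ : ℂ) • ((fun g => (ζ : X → ℂ) (s g)) * χ₀) := by
    funext g
    rw [Pi.mul_apply, Finset.sum_apply]
    have h2 := congrFun hexp (s g)
    rw [Finset.sum_apply] at h2
    rw [h2, Finset.sum_mul]
    refine Finset.sum_congr rfl fun ζ _ => ?_
    simp only [Pi.smul_apply, Pi.mul_apply, smul_eq_mul]
    ring
  rw [h1, classInner_sum_left]
  have h3 : ∀ ζ : Cfsg.IrrCharacter X,
      Cfsg.classInner ((m ζ : ℂ) • ((fun g => (ζ : X → ℂ) (s g)) * χ₀))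
        ((fun g => γ (s g)) * χ₀) = if ζ = ⟨γ, hγ⟩ then (m ζ : ℂ) else 0 := by
    intro ζ
    rw [classInner_smul_left]
    have hi1 := gn_gal_irr N s hs hker χ₀ hχ₀ hres ζ.1 ζ.2
    have hi2 := gn_gal_irr N s hs hker χ₀ hχ₀ hres γ hγ
    by_cases h : ζ = ⟨γ, hγ⟩
    · rw [if_pos h]
      have : (ζ : X → ℂ) = γ := congrArg Subtype.val h
      rw [this, h7_irr_norm hi2, mul_one]
    · rw [if_neg h]
      have hne : ((fun g => (ζ : X → ℂ) (s g)) * χ₀) ≠ ((fun g => γ (s g)) * χ₀) := by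
        intro heq
        apply h
        apply Subtype.ext
        exact gn_gal_inj N s hs hker χ₀ hχ₀ hres ζ.1 γ ζ.2 hγ heq
      rw [h7_irr_inner_ne hi1 hi2 hne, mul_zero]
  rw [Finset.sum_congr rfl (fun ζ _ => h3 ζ), Finset.sum_ite_eq' Finset.univ
    (⟨γ, hγ⟩ : Cfsg.IrrCharacter X) (fun ζ => (m ζ : ℂ)), if_pos (Finset.mem_univ _)]
  exact (hm ⟨γ, hγ⟩).symm

end gallagher

end Cfsg.Agent.Lib.helper2
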