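import Mathlib
import Cfsg.Prelude.Def_Characters
import Cfsg.Agent.Lib.helper2.GN3
import Cfsg.Agent.Lib.Helper11.TIFN

set_option autoImplicit false

/-! # Dade's embedding theorem, part 1: characters of direct powers -/

namespace Cfsg.Agent.Lib.helper2

open scoped ComplexConjugate
open Cfsg.Agent.Lib.helper7 Cfsg.Agent.Lib.Helper25 Cfsg.Agent.Lib.Helper11

/-- a function on a finite group is monomial: induced from a linear character -/
def dmMono {M : Type*} [Group M] [Fintype M] (χ : M → ℂ) : Prop :=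
  ∃ (H : Subgroup M) (lam : ↥H →* ℂˣ), χ = Cfsg.indFun H (fun h => (lam h : ℂ))

/-- `M` is an M-group -/
def dmIsM (M : Type*) [Group M] [Fintype M] : Prop :=
  ∀ χ : M → ℂ, Cfsg.IsIrrCharacter M χ → dmMono χ

section pi

variable {Q D : Type*} [Fintype Q] [DecidableEq Q] [Group D] [Fintype D]

/-- tensor product of a family of functions -/
def dmTens (φ : Q → D → ℂ) : (Q → D) → ℂ := fun f => ∏ q, φ q (f q)

omit [DecidableEq Q] [Group D] [Fintype D] in
theorem dm_tens_apply (φ : Q → D → ℂ) (f : Q → D) : dmTens φ f = ∏ q, φ q (f q) := rfl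

omit [Fintype D] in
theorem dm_tens_char (φ : Q → D → ℂ) (hφ : ∀ q, Cfsg.IsCharacter D (φ q)) :
    Cfsg.IsCharacter (Q → D) (dmTens φ) := by
  classical
  have key : ∀ s : Finset Q, Cfsg.IsCharacter (Q → D) (fun f => ∏ q ∈ s, φ q (f q)) := by
    intro s
    induction s using Finset.induction_on with
    | empty =>
      simp only [Finset.prod_empty]
      exact h7_irr_isCharacter (bg_trivial_irr _)
    | insert a s ha ih =>
      have h1 : (fun f : Q → D => ∏ q ∈ insert a s, φ q (f q)) =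
          (fun f : Q → D => φ a (Pi.evalMonoidHom (fun _ => D) a f)) *
            (fun f => ∏ q ∈ s, φ q (f q)) := by
        funext f
        rw [Finset.prod_insert ha]
        rfl
      rw [h1]
      exact h7_isCharacter_mul (isCharacter_comp_hom (hφ a) _) ih
  exact key Finset.univ

theorem dm_tens_inner (φ ψ : Q → D → ℂ) :
    Cfsg.classInner (dmTens φ) (dmTens ψ) = ∏ q, Cfsg.classInner (φ q) (ψ q) := by
  unfold Cfsg.classInner
  rw [Finset.prod_mul_distrib, Finset.prod_const, Finset.card_univ]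
  have hcard : (Nat.card (Q → D) : ℂ)⁻¹ = ((Nat.card D : ℂ)⁻¹) ^ Fintype.card Q := by
    rw [Nat.card_fun, Nat.card_eq_fintype_card (α := Q)]
    push_cast
    rw [inv_pow]
  rw [hcard]
  congr 1
  rw [Fintype.prod_sum]
  refine Finset.sum_congr rfl fun f _ => ?_
  rw [dm_tens_apply, dm_tens_apply, map_prod, ← Finset.prod_mul_distrib]

theorem dm_tens_irr (φ : Q → D → ℂ) (hφ : ∀ q, Cfsg.IsIrrCharacter D (φ q)) :
    Cfsg.IsIrrCharacter (Q → D) (dmTens φ) := by
  apply h7_irr_of_norm_one (dm_tens_char φ fun q => h7_irr_isCharacter (hφ q))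
  rw [dm_tens_inner]
  exact Finset.prod_eq_one fun q _ => h7_irr_norm (hφ q)

theorem dm_tens_inj (φ ψ : Q → D → ℂ) (hφ : ∀ q, Cfsg.IsIrrCharacter D (φ q))
    (hψ : ∀ q, Cfsg.IsIrrCharacter D (ψ q)) (h : dmTens φ = dmTens ψ) : φ = ψ := by
  funext q
  by_contra hne
  have h0 : Cfsg.classInner (φ q) (ψ q) = 0 := h7_irr_inner_ne (hφ q) (hψ q) hne
  have h1 : Cfsg.classInner (dmTens φ) (dmTens ψ) = 1 := by
    rw [← h]
    exact h7_irr_norm (dm_tens_irr φ hφ)
  rw [dm_tens_inner, Finset.prod_eq_zero (Finset.mem_univ q) h0] at h1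
  exact zero_ne_one h1

/-- every irreducible character of a direct power is a tensor product -/
theorem dm_pi_irr_form (θ : (Q → D) → ℂ) (hθ : Cfsg.IsIrrCharacter (Q → D) θ) :
    ∃ φ : Q → D → ℂ, (∀ q, Cfsg.IsIrrCharacter D (φ q)) ∧ θ = dmTens φ := by
  classical
  haveI : Fintype (Cfsg.IrrCharacter D) := Fintype.ofFinite _
  by_contra hcon
  push Not at hcon
  have hz : ∀ ζ : Q → Cfsg.IrrCharacter D,
      Cfsg.classInner θ (dmTens fun q => (ζ q : D → ℂ)) = 0 := by
    intro ζ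
    apply h7_irr_inner_ne hθ (dm_tens_irr _ fun q => (ζ q).2)
    intro h
    exact hcon _ (fun q => (ζ q).2) h
  obtain ⟨R, hR⟩ : ∃ R : (Q → D) → ℂ, R = ∑ ζ : Q → Cfsg.IrrCharacter D,
      (dmTens (fun q => (ζ q : D → ℂ)) 1) • dmTens (fun q => (ζ q : D → ℂ)) := ⟨_, rfl⟩
  have hR0 : Cfsg.classInner θ R = 0 := by
    rw [hR, h7_classInner_sum_right]
    apply Finset.sum_eq_zero
    intro ζ _
    rw [h7_classInner_smul_right, hz, mul_zero]
  have hRf : ∀ f : Q → D, R f = ∏ q, (if f q = 1 then (Nat.card D : ℂ) else 0) := by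
    intro f
    rw [hR, Finset.sum_apply]
    have h1 : ∀ ζ : Q → Cfsg.IrrCharacter D,
        ((dmTens (fun q => (ζ q : D → ℂ)) 1) • dmTens (fun q => (ζ q : D → ℂ))) f =
        ∏ q, ((ζ q : D → ℂ) 1 * (ζ q : D → ℂ) (f q)) := by
      intro ζ
      rw [Pi.smul_apply, smul_eq_mul, dm_tens_apply, dm_tens_apply, ← Finset.prod_mul_distrib]
      rfl
    simp only [h1]
    rw [← Fintype.prod_sum (fun (q : Q) (ζ : Cfsg.IrrCharacter D) =>
      (ζ : D → ℂ) 1 * (ζ : D → ℂ) (f q))]
    refine Finset.prod_congr rfl fun q _ => ?_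
    by_cases hq : f q = 1
    · rw [if_pos hq, hq, irr_sum_deg_sq]
    · rw [if_neg hq, irr_sum_deg_mul _ hq]
  have hR1 : Cfsg.classInner θ R ≠ 0 := by
    unfold Cfsg.classInner
    rw [Finset.sum_eq_single (1 : Q → D)]
    · rw [hRf 1]
      simp only [Pi.one_apply, if_true, Finset.prod_const, Finset.card_univ, map_pow,
        Complex.conj_natCast]
      have h1 : θ 1 ≠ 0 := irr_one_ne_zero ⟨θ, hθ⟩
      have h2 : (Nat.card D : ℂ) ≠ 0 := by exact_mod_cast Nat.card_pos.ne'
      have h3 : (Nat.card (Q → D) : ℂ) ≠ 0 := by exact_mod_cast Nat.card_pos.ne'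
      exact mul_ne_zero (inv_ne_zero h3) (mul_ne_zero h1 (pow_ne_zero _ h2))
    · intro f _ hf
      rw [hRf f]
      have : ∃ q, f q ≠ 1 := by
        by_contra h
        push Not at h
        exact hf (funext h)
      obtain ⟨q, hq⟩ := this
      rw [Finset.prod_eq_zero (Finset.mem_univ q) (if_neg hq), map_zero, mul_zero]
    · intro h
      exact absurd (Finset.mem_univ _) h
  exact hR1 hR0

/-- identification of a product subgroup with a product of subgroups -/
def dmPiEquiv (H : Q → Subgroup D) : ↥(Subgroup.pi Set.univ H) ≃ (∀ q, ↥(H q)) where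
  toFun x q := ⟨x.1 q, x.2 q (Set.mem_univ q)⟩
  invFun y := ⟨fun q => (y q : D), fun q _ => (y q).2⟩
  left_inv _ := rfl
  right_inv _ := rfl

omit [DecidableEq Q] [Fintype D] in
theorem dm_ext_pi (H : Q → Subgroup D) (lam : ∀ q, H q → ℂ) (y : Q → D) :
    Cfsg.extendByZero (Subgroup.pi Set.univ H)
      (fun x => ∏ q, lam q ⟨x.1 q, x.2 q (Set.mem_univ q)⟩) y
      = ∏ q, Cfsg.extendByZero (H q) (lam q) (y q) := by
  by_cases hy : y ∈ Subgroup.pi Set.univ H
  · rw [h7_extendByZero_mem _ _ _ hy]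
    refine Finset.prod_congr rfl fun q _ => ?_
    rw [h7_extendByZero_mem _ _ _ (hy q (Set.mem_univ q))]
  · rw [h7_extendByZero_not_mem _ _ _ hy]
    have : ∃ q, y q ∉ H q := by
      by_contra h
      push Not at h
      exact hy (fun q _ => h q)
    obtain ⟨q, hq⟩ := this
    symm
    apply Finset.prod_eq_zero (Finset.mem_univ q)
    exact h7_extendByZero_not_mem _ _ _ hq

theorem dm_pi_ind (H : Q → Subgroup D) (lam : ∀ q, H q → ℂ) :
    Cfsg.indFun (Subgroup.pi Set.univ H)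
      (fun x => ∏ q, lam q ⟨x.1 q, x.2 q (Set.mem_univ q)⟩)
      = dmTens (fun q => Cfsg.indFun (H q) (lam q)) := by
  funext f
  rw [dm_tens_apply]
  unfold Cfsg.indFun
  simp only [dm_ext_pi]
  rw [Finset.prod_mul_distrib]
  congr 1
  · rw [Nat.card_congr (dmPiEquiv H), Nat.card_pi]
    push_cast
    rw [Finset.prod_inv_distrib]
  · rw [Fintype.prod_sum]
    rfl

/-- a tensor product of monomial functions is monomial -/
theorem dm_pi_mono (φ : Q → D → ℂ) (hφ : ∀ q, dmMono (φ q)) : dmMono (dmTens φ) := by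
  classical
  choose H lam hlam using hφ
  let pr : ∀ q, ↥(Subgroup.pi Set.univ H) →* ↥(H q) := fun q =>
    MonoidHom.codRestrict ((Pi.evalMonoidHom (fun _ => D) q).comp (Subgroup.subtype _)) (H q)
      (fun x => x.2 q (Set.mem_univ q))
  refine ⟨Subgroup.pi Set.univ H, ∏ q, (lam q).comp (pr q), ?_⟩
  have h1 : (fun h : ↥(Subgroup.pi Set.univ H) => (((∏ q, (lam q).comp (pr q)) h : ℂˣ) : ℂ)) =
      (fun x => ∏ q, (fun h : H q => ((lam q h : ℂˣ) : ℂ)) ⟨x.1 q, x.2 q (Set.mem_univ q)⟩) := by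
    funext x
    rw [MonoidHom.finsetProd_apply, Units.coe_prod]
    rfl
  rw [h1, dm_pi_ind H (fun q (h : H q) => ((lam q h : ℂˣ) : ℂ))]
  congr 1
  funext q
  exact hlam q

/-- a direct power of an M-group is an M-group -/
theorem dm_pi_isM (hD : dmIsM D) : dmIsM (Q → D) := by
  intro θ hθ
  obtain ⟨φ, hφ, rfl⟩ := dm_pi_irr_form θ hθ
  exact dm_pi_mono φ fun q => hD _ (hφ q)

end pi

end Cfsg.Agent.Lib.helper2
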