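import Mathlib
import Cfsg.Prelude.Def_Characters
import Cfsg.Agent.Lib.helper2.DM1
import Cfsg.Agent.Lib.helper2.IndTools

set_option autoImplicit false

/-! # Dade's embedding theorem, part 2: transport lemmas and the wreath product computation -/

namespace Cfsg.Agent.Lib.helper2

open scoped ComplexConjugate
open Cfsg.Agent.Lib.helper7 Cfsg.Agent.Lib.Helper25 Cfsg.Agent.Lib.Helper11

/-- extension by zero commutes with an isomorphism -/
theorem dm_ext_equiv {M M' : Type*} [Group M] [Group M'] (e : M ≃* M') (H : Subgroup M)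
    (lam : H → ℂ) (y : M) :
    Cfsg.extendByZero (H.map e.toMonoidHom)
      (fun h => lam ((H.equivMapOfInjective e.toMonoidHom e.injective).symm h)) (e y) =
    Cfsg.extendByZero H lam y := by
  by_cases hy : y ∈ H
  · have hy' : e y ∈ H.map e.toMonoidHom := Subgroup.mem_map_of_mem _ hy
    rw [h7_extendByZero_mem _ _ _ hy, h7_extendByZero_mem _ _ _ hy']
    congr 1
    apply (H.equivMapOfInjective e.toMonoidHom e.injective).injective
    rw [MulEquiv.apply_symm_apply]
    apply Subtype.ext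
    exact (Subgroup.coe_equivMapOfInjective_apply H e.toMonoidHom _ ⟨y, hy⟩).symm
  · have hy' : e y ∉ H.map e.toMonoidHom := by
      intro h
      rw [Subgroup.mem_map_equiv] at h
      rw [MulEquiv.symm_apply_apply] at h
      exact hy h
    rw [h7_extendByZero_not_mem _ _ _ hy, h7_extendByZero_not_mem _ _ _ hy']

/-- monomial functions are transported along isomorphisms -/
theorem dm_mono_equiv {M M' : Type*} [Group M] [Fintype M] [Group M'] [Fintype M']
    (e : M ≃* M') (χ : M → ℂ) (hχ : dmMono χ) : dmMono (fun m' => χ (e.symm m')) := by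
  obtain ⟨H, lam, rfl⟩ := hχ
  refine ⟨H.map e.toMonoidHom,
    lam.comp (H.equivMapOfInjective e.toMonoidHom e.injective).symm.toMonoidHom, ?_⟩
  funext m'
  unfold Cfsg.indFun
  have hcard : Nat.card (H.map e.toMonoidHom) = Nat.card H :=
    (Nat.card_congr (H.equivMapOfInjective _ e.injective).toEquiv).symm
  rw [hcard]
  congr 1
  rw [← Equiv.sum_comp e.toEquiv]
  refine Finset.sum_congr rfl fun x _ => ?_
  have h1 := dm_ext_equiv e H (fun h => ((lam h : ℂˣ) : ℂ)) (x⁻¹ * e.symm m' * x)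
  rw [map_mul, map_mul, map_inv, MulEquiv.apply_symm_apply] at h1
  rw [← h1]
  rfl

/-- the M-group property is invariant under isomorphism -/
theorem dm_isM_equiv {M M' : Type*} [Group M] [Fintype M] [Group M'] [Fintype M']
    (e : M ≃* M') (h : dmIsM M) : dmIsM M' := by
  intro χ hχ
  have h1 : Cfsg.IsIrrCharacter M (fun m => χ (e.toMonoidHom m)) :=
    bg_irr_comp_surjective e.toMonoidHom e.surjective hχ
  have h2 := dm_mono_equiv e _ (h _ h1)
  have h3 : (fun m' => (fun m => χ (e.toMonoidHom m)) (e.symm m')) = χ := by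
    funext m'
    show χ (e (e.symm m')) = χ m'
    rw [MulEquiv.apply_symm_apply]
  rw [h3] at h2
  exact h2

/-- inducing a monomial function gives a monomial function -/
theorem dm_mono_ind {G : Type*} [Group G] [Fintype G] (K : Subgroup G) [Fintype K] (ψ : K → ℂ)
    (hψ : dmMono ψ) : dmMono (Cfsg.indFun K ψ) := by
  obtain ⟨S, lam, rfl⟩ := hψ
  refine ⟨S.map K.subtype,
    lam.comp (S.equivMapOfInjective K.subtype K.subtype_injective).symm.toMonoidHom, ?_⟩
  rw [indFun_trans]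
  rfl

section wreath

open RegularWreathProduct

variable {D Q : Type*} [Group D] [Group Q]

/-- the base group of the wreath product -/
abbrev dmBase (D Q : Type*) [Group D] [Group Q] : Subgroup (D ≀ᵣ Q) :=
  (rightHom : D ≀ᵣ Q →* Q).ker

theorem dm_mem_base (w : D ≀ᵣ Q) : w ∈ dmBase D Q ↔ w.right = 1 := MonoidHom.mem_ker

/-- the base group is the direct power -/
def dmBaseEquiv (D Q : Type*) [Group D] [Group Q] : (Q → D) ≃* ↥(dmBase D Q) where
  toFun f := ⟨⟨f, 1⟩, (dm_mem_base _).mpr rfl⟩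
  invFun b := b.1.left
  left_inv f := rfl
  right_inv b := by
    apply Subtype.ext
    ext
    · rfl
    · exact ((dm_mem_base _).mp b.2).symm
  map_mul' f g := by
    apply Subtype.ext
    ext
    · simp
    · simp

theorem dmBaseEquiv_symm_apply (b : ↥(dmBase D Q)) : (dmBaseEquiv D Q).symm b = b.1.left := rfl

/-- the wreath product of a subgroup with `Q`, inside `D ≀ᵣ Q` -/
def dmV (Q : Type*) [Group Q] (H : Subgroup D) : Subgroup (D ≀ᵣ Q) where
  carrier := {w | ∀ q, w.left q ∈ H}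
  one_mem' := fun q => H.one_mem
  mul_mem' := by
    intro a b ha hb q
    show a.left q * b.left (a.right⁻¹ * q) ∈ H
    exact H.mul_mem (ha q) (hb _)
  inv_mem' := by
    intro a ha q
    show (a.left (a.right * q))⁻¹ ∈ H
    exact H.inv_mem (ha _)

theorem dm_mem_V (H : Subgroup D) (w : D ≀ᵣ Q) : w ∈ dmV Q H ↔ ∀ q, w.left q ∈ H := Iff.rfl

variable [Fintype Q]

/-- the diagonal extension of a linear character of `H` to `H ≀ Q` -/
def dmMu (H : Subgroup D) (lam : H →* ℂˣ) : ↥(dmV Q H) →* ℂˣ where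
  toFun w := ∏ q, lam ⟨w.1.left q, w.2 q⟩
  map_one' := by
    apply Finset.prod_eq_one
    intro q _
    have : (⟨(1 : ↥(dmV Q H)).1.left q, (1 : ↥(dmV Q H)).2 q⟩ : H) = 1 := Subtype.ext rfl
    rw [this, map_one]
  map_mul' a b := by
    have h1 : ∀ q, lam ⟨(a * b).1.left q, (a * b).2 q⟩ =
        lam ⟨a.1.left q, a.2 q⟩ * lam ⟨b.1.left (a.1.right⁻¹ * q), b.2 _⟩ := by
      intro q
      rw [← map_mul]
      rfl
    rw [Finset.prod_congr rfl (fun q _ => h1 q), Finset.prod_mul_distrib]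
    congr 1
    exact Equiv.prod_comp (Equiv.mulLeft a.1.right⁻¹)
      (fun q => lam ⟨b.1.left q, b.2 q⟩)

theorem dmMu_apply (H : Subgroup D) (lam : H →* ℂˣ) (w : ↥(dmV Q H)) :
    ((dmMu H lam w : ℂˣ) : ℂ) = ∏ q, ((lam ⟨w.1.left q, w.2 q⟩ : ℂˣ) : ℂ) := by
  show ((∏ q, lam ⟨w.1.left q, w.2 q⟩ : ℂˣ) : ℂ) = _
  rw [Units.coe_prod]

theorem dm_ext_V (H : Subgroup D) (lam : H →* ℂˣ) (y : D ≀ᵣ Q) :
    Cfsg.extendByZero (dmV Q H) (fun w => ((dmMu H lam w : ℂˣ) : ℂ)) y
      = ∏ q, Cfsg.extendByZero H (fun h => ((lam h : ℂˣ) : ℂ)) (y.left q) := by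
  by_cases hy : y ∈ dmV Q H
  · rw [h7_extendByZero_mem _ _ _ hy, dmMu_apply]
    refine Finset.prod_congr rfl fun q _ => ?_
    rw [h7_extendByZero_mem _ _ _ (hy q)]
  · rw [h7_extendByZero_not_mem _ _ _ hy]
    have : ∃ q, y.left q ∉ H := by
      by_contra h
      push Not at h
      exact hy h
    obtain ⟨q, hq⟩ := this
    symm
    apply Finset.prod_eq_zero (Finset.mem_univ q)
    exact h7_extendByZero_not_mem _ _ _ hq

/-- the underlying set of `H ≀ Q` -/
def dmVEquiv (H : Subgroup D) : ↥(dmV Q H) ≃ (Q → ↥H) × Q where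
  toFun w := (fun q => ⟨w.1.left q, w.2 q⟩, w.1.right)
  invFun p := ⟨⟨fun q => (p.1 q : D), p.2⟩, fun q => (p.1 q).2⟩
  left_inv _ := rfl
  right_inv _ := rfl

theorem dm_card_V (H : Subgroup D) :
    Nat.card (dmV Q H) = Nat.card H ^ Fintype.card Q * Fintype.card Q := by
  rw [Nat.card_congr (dmVEquiv H), Nat.card_prod, Nat.card_fun, Nat.card_eq_fintype_card (α := Q)]

variable [Fintype D] [DecidableEq Q] [Fintype (D ≀ᵣ Q)]

/-- the key computation: the induced character restricted to the base group -/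
theorem dm_ind_V_base (H : Subgroup D) (lam : H →* ℂˣ) (b : D ≀ᵣ Q) (hb : b.right = 1) :
    Cfsg.indFun (dmV Q H) (fun w => ((dmMu H lam w : ℂˣ) : ℂ)) b
      = ∏ q, Cfsg.indFun H (fun h => ((lam h : ℂˣ) : ℂ)) (b.left q) := by
  unfold Cfsg.indFun
  simp only [dm_ext_V]
  rw [← Equiv.sum_comp (equivProd D Q).symm, Fintype.sum_prod_type]
  have h1 : ∀ (g : Q → D) (s : Q),
      (∏ q, Cfsg.extendByZero H (fun h => ((lam h : ℂˣ) : ℂ))
        ((((equivProd D Q).symm (g, s))⁻¹ * b * ((equivProd D Q).symm (g, s))).left q)) =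
      ∏ q, Cfsg.extendByZero H (fun h => ((lam h : ℂˣ) : ℂ)) ((g q)⁻¹ * b.left q * g q) := by
    intro g s
    rw [← Equiv.prod_comp (Equiv.mulLeft s)
      (fun q => Cfsg.extendByZero H (fun h => ((lam h : ℂˣ) : ℂ)) ((g q)⁻¹ * b.left q * g q))]
    refine Finset.prod_congr rfl fun q _ => ?_
    congr 1
    show (g (s * q))⁻¹ * b.left (s⁻¹⁻¹ * q) * g ((s⁻¹ * b.right)⁻¹ * q) = _
    rw [hb, mul_one, inv_inv]
    rfl
  simp only [h1]
  rw [Finset.sum_comm, Finset.sum_const, Finset.card_univ, nsmul_eq_mul,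
    ← Fintype.prod_sum (fun (q : Q) (d : D) =>
      Cfsg.extendByZero H (fun h => ((lam h : ℂˣ) : ℂ)) (d⁻¹ * b.left q * d)),
    Finset.prod_mul_distrib, Finset.prod_const, Finset.card_univ, dm_card_V]
  have hH : (Nat.card H : ℂ) ≠ 0 := by exact_mod_cast Nat.card_pos.ne'
  have hQ : (Fintype.card Q : ℂ) ≠ 0 := by exact_mod_cast Fintype.card_ne_zero
  push_cast
  rw [inv_pow]
  field_simp

end wreath

end Cfsg.Agent.Lib.helper2
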