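import Mathlib
import Cfsg.Prelude.Def_Characters
import Cfsg.Agent.Lib.helper2.DM2
import Cfsg.Agent.Lib.helper2.Ito
import Cfsg.Agent.Lib.helper2.BergerLib
import Cfsg.Agent.Lib.Helper25.CharQuot
import Cfsg.Agent.Lib.Helper24.GaloisNorm
import Cfsg.Agent.Lib.Helper18.CommHom
import Cfsg.Agent.S0854

set_option autoImplicit false

/-! # Dade's embedding theorem, part 3: a wreath product of an M-group with a group of
prime order is an M-group -/

namespace Cfsg.Agent.Lib.helper2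

open scoped ComplexConjugate
open Cfsg.Agent.Lib.helper7 Cfsg.Agent.Lib.Helper25 Cfsg.Agent.Lib.Helper11
open Cfsg.Agent.Lib.Helper24

section wreath

open RegularWreathProduct

variable {D Q : Type*} [Group D] [Group Q] [Fintype Q] [Fintype D] [DecidableEq Q]

theorem dm_base_irr_form (θ : ↥(dmBase D Q) → ℂ) (hθ : Cfsg.IsIrrCharacter ↥(dmBase D Q) θ) :
    ∃ φ : Q → D → ℂ, (∀ q, Cfsg.IsIrrCharacter D (φ q)) ∧
      ∀ b : ↥(dmBase D Q), θ b = ∏ q, φ q (b.1.left q) := by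
  haveI : Fintype ↥(dmBase D Q) := Fintype.ofFinite _
  have h1 : Cfsg.IsIrrCharacter (Q → D) (fun f => θ ((dmBaseEquiv D Q).toMonoidHom f)) :=
    bg_irr_comp_surjective (dmBaseEquiv D Q).toMonoidHom (dmBaseEquiv D Q).surjective hθ
  obtain ⟨φ, hφ, hform⟩ := dm_pi_irr_form _ h1
  refine ⟨φ, hφ, fun b => ?_⟩
  have h2 := congrFun hform ((dmBaseEquiv D Q).symm b)
  have h3 : (dmBaseEquiv D Q).toMonoidHom ((dmBaseEquiv D Q).symm b) = b :=
    (dmBaseEquiv D Q).apply_symm_apply b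
  simp only [h3] at h2
  rw [h2, dm_tens_apply]
  rfl

theorem dm_base_inv_const (φ : Q → D → ℂ) (hφ : ∀ q, Cfsg.IsIrrCharacter D (φ q))
    (hinv : ∀ (s : Q) (f : Q → D), ∏ q, φ q (f (s⁻¹ * q)) = ∏ q, φ q (f q)) (q : Q) :
    φ q = φ 1 := by
  have h1 : dmTens (fun k => φ (q * k)) = dmTens φ := by
    funext f
    rw [dm_tens_apply, dm_tens_apply, ← hinv q f,
      ← Equiv.prod_comp (Equiv.mulLeft q) (fun k => φ k (f (q⁻¹ * k)))]
    refine Finset.prod_congr rfl fun k _ => ?_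
    rw [Equiv.coe_mulLeft, inv_mul_cancel_left]
  have h2 := dm_tens_inj _ _ (fun k => hφ (q * k)) hφ h1
  have h3 := congrFun h2 1
  rw [mul_one] at h3
  exact h3

variable [Fintype (D ≀ᵣ Q)]

theorem dm_wreath (hD : dmIsM D) (hp : (Nat.card Q).Prime) : dmIsM (D ≀ᵣ Q) := by
  classical
  intro χ hχ
  haveI : Fintype ↥(dmBase D Q) := Fintype.ofFinite _
  have hBn : (dmBase D Q).Normal := MonoidHom.normal_ker _
  have hsurj : Function.Surjective (rightHom : D ≀ᵣ Q →* Q) := fun q => ⟨inl q, rfl⟩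
  have hidx : (dmBase D Q).index = Nat.card Q := by
    rw [Subgroup.index_ker, MonoidHom.range_eq_top.mpr hsurj]
    exact Nat.card_congr Subgroup.topEquiv.toEquiv
  have hBM : dmIsM ↥(dmBase D Q) := dm_isM_equiv (dmBaseEquiv D Q) (dm_pi_isM hD)
  have hχc := h7_irr_isCharacter hχ
  have hres : Cfsg.IsCharacter ↥(dmBase D Q) (fun n : ↥(dmBase D Q) => χ n) :=
    isCharacter_restrict hχc _
  have hχ1 : χ 1 ≠ 0 := irr_one_ne_zero ⟨χ, hχ⟩
  obtain ⟨ϑ, m, hm, hϑm⟩ := isCharacter_exists_constituent hres (by simpa using hχ1)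
  have hcon : Cfsg.classInner (fun n : ↥(dmBase D Q) => χ n) (ϑ : ↥(dmBase D Q) → ℂ) ≠ 0 := by
    rw [hϑm]
    exact_mod_cast hm.ne'
  by_cases hT : ∀ (g : D ≀ᵣ Q) (n : ↥(dmBase D Q)),
      (ϑ : ↥(dmBase D Q) → ℂ) ⟨g * n * g⁻¹, hBn.conj_mem (n : D ≀ᵣ Q) n.2 g⟩ =
        (ϑ : ↥(dmBase D Q) → ℂ) n
  · -- the invariant case
    obtain ⟨φ, hφ, hform⟩ := dm_base_irr_form (ϑ : ↥(dmBase D Q) → ℂ) ϑ.2
    have hconst : ∀ q, φ q = φ 1 := by
      apply dm_base_inv_const φ hφ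
      intro s f
      have h1 := hT (inl s) ((dmBaseEquiv D Q) f)
      rw [hform, hform] at h1
      refine Eq.trans ?_ (h1.trans rfl)
      refine Finset.prod_congr rfl fun q _ => ?_
      congr 1
      show f (s⁻¹ * q) = 1 * f (s⁻¹ * q) * (1 : D)⁻¹
      rw [one_mul, inv_one, mul_one]
    obtain ⟨H, lam, hH⟩ := hD (φ 1) (hφ 1)
    obtain ⟨Ψ, hΨ⟩ : ∃ Ψ : D ≀ᵣ Q → ℂ,
        Ψ = Cfsg.indFun (dmV Q H) (fun w => ((dmMu H lam w : ℂˣ) : ℂ)) := ⟨_, rfl⟩
    have hΨc : Cfsg.IsCharacter (D ≀ᵣ Q) Ψ := by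
      rw [hΨ]
      exact isCharacter_indFun _ _ (h7_irr_isCharacter (linIrr (dmMu H lam)).2)
    have hΨres : (fun n : ↥(dmBase D Q) => Ψ n) = (ϑ : ↥(dmBase D Q) → ℂ) := by
      funext b
      rw [hform b, hΨ, dm_ind_V_base H lam b.1 ((dm_mem_base _).mp b.2)]
      refine Finset.prod_congr rfl fun q _ => ?_
      rw [hconst q, hH]
    have hΨirr : Cfsg.IsIrrCharacter (D ≀ᵣ Q) Ψ :=
      irr_of_restrict_irr (dmBase D Q) Ψ hΨc (by rw [hΨres]; exact ϑ.2)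
    obtain ⟨γ, hγ, hχγ⟩ := gn_gal_surj (dmBase D Q) (rightHom : D ≀ᵣ Q →* Q) hsurj
      (fun g => MonoidHom.mem_ker.symm) Ψ hΨirr (by rw [hΨres]; exact ϑ.2) χ hχ
      (by rw [hΨres]; exact hcon)
    haveI : Fact (Nat.card Q).Prime := ⟨hp⟩
    haveI : IsCyclic Q := isCyclic_of_prime_card rfl
    have hγ1 : γ 1 = 1 := gn_irr_one_of_isMulCommutative ⟨γ, hγ⟩
    refine ⟨dmV Q H, dmMu H lam *
      ((irrLinearHom ⟨γ, hγ⟩ hγ1).comp ((rightHom : D ≀ᵣ Q →* Q).comp (dmV Q H).subtype)), ?_⟩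
    rw [hχγ]
    have hcl : Cfsg.IsClassFunction (D ≀ᵣ Q) (fun g => γ (rightHom g)) := by
      intro g h
      show γ (rightHom (h * g * h⁻¹)) = γ (rightHom g)
      rw [map_mul, map_mul, map_inv]
      exact h7_irr_isClassFunction hγ _ _
    have h2 := h7_indFun_mul_restrict (dmV Q H) (fun w => ((dmMu H lam w : ℂˣ) : ℂ))
      (fun g => γ (rightHom g)) hcl
    rw [← hΨ] at h2
    rw [mul_comm, ← h2]
    congr 1
  · -- the inertia group is the base group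
    have hTB : ∀ g : D ≀ᵣ Q, g ∈ dmBase D Q ↔ ∀ n : ↥(dmBase D Q),
        (ϑ : ↥(dmBase D Q) → ℂ) ⟨g * n * g⁻¹, hBn.conj_mem (n : D ≀ᵣ Q) n.2 g⟩ =
          (ϑ : ↥(dmBase D Q) → ℂ) n := by
      intro g
      rw [← mem_inertia]
      constructor
      · intro hg
        exact le_inertia _ _ (isCharacter_isClassFunction (isCharacter_of_irr ϑ)) hg
      · intro hg
        by_contra hgB
        have htop := Cfsg.Agent.Lib.Helper18.eq_top_of_index_prime (dmBase D Q)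
          (inertia (dmBase D Q) (ϑ : ↥(dmBase D Q) → ℂ)) hp hidx
          (le_inertia _ _ (isCharacter_isClassFunction (isCharacter_of_irr ϑ))) g hg hgB
        apply hT
        intro g' n
        have : g' ∈ inertia (dmBase D Q) (ϑ : ↥(dmBase D Q) → ℂ) := by
          rw [htop]
          exact Subgroup.mem_top _
        exact (mem_inertia _ _ _).mp this n
    obtain ⟨ψ, hψ, hind, -⟩ := Cfsg.Agent.S0854.result (dmBase D Q) (ϑ : ↥(dmBase D Q) → ℂ) ϑ.2
      (dmBase D Q) hTB le_rfl χ hχ hcon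
    rw [← hind]
    exact dm_mono_ind _ ψ (hBM ψ hψ)

end wreath

end Cfsg.Agent.Lib.helper2
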