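import Mathlib
import Cfsg.Prelude.Def_Characters
import Cfsg.Agent.Lib.helper2.DM3

set_option autoImplicit false

/-! # Dade's embedding theorem, part 4: the Kaloujnine–Krasner embedding and the induction -/

namespace Cfsg.Agent.Lib.helper2

open scoped ComplexConjugate commutatorElement
open Cfsg.Agent.Lib.helper7 Cfsg.Agent.Lib.Helper25 Cfsg.Agent.Lib.Helper11
open Cfsg.Agent.Lib.Helper24

universe u

section kk

open RegularWreathProduct

variable {G : Type*} [Group G] (N : Subgroup G) [hN : N.Normal] {M : Type*} [Group M]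
  (j : N →* M)

theorem dm_kk_mem (g : G) (q : G ⧸ N) :
    (Quotient.out q)⁻¹ * g * Quotient.out ((g : G ⧸ N)⁻¹ * q) ∈ N := by
  rw [← QuotientGroup.eq_one_iff, QuotientGroup.mk_mul, QuotientGroup.mk_mul, QuotientGroup.mk_inv,
    QuotientGroup.out_eq', QuotientGroup.out_eq']
  group

/-- the Kaloujnine–Krasner embedding, composed with an embedding of the normal subgroup -/
noncomputable def dmKK : G →* M ≀ᵣ (G ⧸ N) :=
  MonoidHom.mk' (fun g => ⟨fun q => j ⟨(Quotient.out q)⁻¹ * g *
    Quotient.out ((g : G ⧸ N)⁻¹ * q), dm_kk_mem N g q⟩, (g : G ⧸ N)⟩) (by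
    intro g h
    ext q
    · show j ⟨(Quotient.out q)⁻¹ * (g * h) * Quotient.out (((g * h : G) : G ⧸ N)⁻¹ * q), _⟩ =
        j ⟨(Quotient.out q)⁻¹ * g * Quotient.out ((g : G ⧸ N)⁻¹ * q), _⟩ *
        j ⟨(Quotient.out ((g : G ⧸ N)⁻¹ * q))⁻¹ * h *
          Quotient.out ((h : G ⧸ N)⁻¹ * ((g : G ⧸ N)⁻¹ * q)), _⟩
      rw [← map_mul]
      congr 1
      apply Subtype.ext
      show (Quotient.out q)⁻¹ * (g * h) * Quotient.out (((g * h : G) : G ⧸ N)⁻¹ * q) =
        ((Quotient.out q)⁻¹ * g * Quotient.out ((g : G ⧸ N)⁻¹ * q)) *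
        ((Quotient.out ((g : G ⧸ N)⁻¹ * q))⁻¹ * h *
          Quotient.out ((h : G ⧸ N)⁻¹ * ((g : G ⧸ N)⁻¹ * q)))
      rw [QuotientGroup.mk_mul, mul_inv_rev, mul_assoc (h : G ⧸ N)⁻¹]
      group
    · rfl)

theorem dmKK_right (g : G) : (dmKK N j g).right = (g : G ⧸ N) := rfl

theorem dmKK_left (g : G) (q : G ⧸ N) : (dmKK N j g).left q =
    j ⟨(Quotient.out q)⁻¹ * g * Quotient.out ((g : G ⧸ N)⁻¹ * q), dm_kk_mem N g q⟩ := rfl

theorem dmKK_injective (hj : Function.Injective j) : Function.Injective (dmKK N j) := by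
  rw [injective_iff_map_eq_one]
  intro g hg
  have h1 : (g : G ⧸ N) = 1 := congrArg RegularWreathProduct.right hg
  have h2 : (dmKK N j g).left 1 = 1 := congrFun (congrArg RegularWreathProduct.left hg) 1
  rw [dmKK_left] at h2
  have h3 : (⟨(Quotient.out (1 : G ⧸ N))⁻¹ * g * Quotient.out ((g : G ⧸ N)⁻¹ * 1),
      dm_kk_mem N g 1⟩ : N) = 1 := by
    apply hj
    rw [map_one]
    exact h2
  have h4 : (Quotient.out (1 : G ⧸ N))⁻¹ * g * Quotient.out ((g : G ⧸ N)⁻¹ * 1) = 1 :=
    congrArg Subtype.val h3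
  rw [h1, inv_one, mul_one] at h4
  have h5 : g = Quotient.out (1 : G ⧸ N) * 1 * (Quotient.out (1 : G ⧸ N))⁻¹ := by
    rw [← h4]
    group
  rw [h5]
  group

end kk

/-- a nontrivial finite solvable group has a normal subgroup of prime index -/
theorem dm_exists_normal_prime_index {H : Type*} [Group H] [Finite H] [Group.IsSolvable H]
    [Nontrivial H] : ∃ M : Subgroup H, M.Normal ∧ M.index.Prime := by
  have hlt : commutator H < ⊤ := Group.IsSolvable.commutator_lt_top_of_nontrivial H
  obtain ⟨M, hM, hle⟩ := (IsCoatomic.eq_top_or_exists_le_coatom (commutator H)).resolve_left hlt.ne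
  have hMn : M.Normal := by
    constructor
    intro n hn g
    have h1 : ⁅g, n⁆ ∈ commutator H :=
      Subgroup.commutator_mem_commutator (Subgroup.mem_top g) (Subgroup.mem_top n)
    have e : g * n * g⁻¹ = ⁅g, n⁆ * n := by
      rw [commutatorElement_def]; group
    rw [e]
    exact M.mul_mem (hle h1) hn
  refine ⟨M, hMn, ?_⟩
  have hq1 : M.index ≠ 1 := fun h => hM.1 (Subgroup.index_eq_one.mp h)
  obtain ⟨ℓ, hℓ, hdvd⟩ := Nat.exists_prime_and_dvd hq1
  have : Fact ℓ.Prime := ⟨hℓ⟩
  have hdvd' : ℓ ∣ Nat.card (H ⧸ M) := hdvd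
  obtain ⟨x, hx⟩ := exists_prime_orderOf_dvd_card' ℓ hdvd'
  obtain ⟨y, rfl⟩ := QuotientGroup.mk_surjective x
  let L : Subgroup H := (Subgroup.zpowers (QuotientGroup.mk' M y)).comap (QuotientGroup.mk' M)
  have hML : M ≤ L := by
    intro z hz
    rw [Subgroup.mem_comap]
    have : QuotientGroup.mk' M z = 1 := (QuotientGroup.eq_one_iff z).mpr hz
    rw [this]
    exact Subgroup.one_mem _
  have hyL : y ∈ L := by
    rw [Subgroup.mem_comap]
    exact Subgroup.mem_zpowers _
  have hyM : y ∉ M := by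
    intro h
    have h1 : (QuotientGroup.mk y : H ⧸ M) = 1 := (QuotientGroup.eq_one_iff y).mpr h
    rw [h1, orderOf_one] at hx
    exact hℓ.one_lt.ne hx
  have hLtop : L = ⊤ := by
    by_contra hne
    have := hM.2 L (lt_of_le_of_ne hML (fun h => hyM (h ▸ hyL)))
    exact hne this
  have hz : Subgroup.zpowers (QuotientGroup.mk' M y) = ⊤ := by
    rw [eq_top_iff]
    intro z _
    obtain ⟨w, rfl⟩ := QuotientGroup.mk_surjective z
    have : w ∈ L := by rw [hLtop]; exact Subgroup.mem_top w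
    exact this
  have hcard : Nat.card (H ⧸ M) = ℓ := by
    rw [← Subgroup.card_top (G := H ⧸ M), ← hz, Nat.card_zpowers]
    exact hx
  have : M.index = ℓ := hcard
  rw [this]
  exact hℓ

/-- commutative groups are M-groups -/
theorem dm_isM_of_comm {M : Type*} [Group M] [Fintype M] (hc : ∀ a b : M, a * b = b * a) :
    dmIsM M := by
  intro χ hχ
  haveI : IsMulCommutative M := ⟨⟨hc⟩⟩
  have h1 : χ 1 = 1 := gn_irr_one_of_isMulCommutative ⟨χ, hχ⟩
  refine ⟨⊤, (irrLinearHom ⟨χ, hχ⟩ h1).comp (Subgroup.subtype ⊤), ?_⟩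
  exact (indFun_top χ (h7_irr_isClassFunction hχ)).symm

theorem dm_main_aux (n : ℕ) : ∀ (G : Type u) [Group G] [Finite G], Group.IsSolvable G →
    Nat.card G ≤ n →
    ∃ (M : Type u) (_ : Group M) (_ : Fintype M), dmIsM M ∧
      ∃ f : G →* M, Function.Injective f := by
  induction n with
  | zero =>
    intro G _ _ _ h
    exact absurd h (by have := Nat.card_pos (α := G); omega)
  | succ n ih =>
    intro G _ _ hsolv hcard
    classical
    by_cases htriv : Subsingleton G
    · haveI := Fintype.ofFinite G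
      refine ⟨G, inferInstance, inferInstance, ?_, MonoidHom.id G, fun _ _ h => h⟩
      exact dm_isM_of_comm fun a b => by rw [Subsingleton.elim a b]
    · haveI : Nontrivial G := not_subsingleton_iff_nontrivial.mp htriv
      haveI := hsolv
      obtain ⟨N, hNn, hNp⟩ := dm_exists_normal_prime_index (H := G)
      haveI := hNn
      have hlt : Nat.card N < Nat.card G := by
        have h1 := Subgroup.card_mul_index N
        have h2 := hNp.two_le
        have h3 := Nat.card_pos (α := N)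
        nlinarith
      have hNs : Group.IsSolvable N := solvable_of_solvable_injective N.subtype_injective
      obtain ⟨M₀, iG, iF, hM₀, j, hj⟩ := ih N hNs (by omega)
      haveI : Fintype (G ⧸ N) := Fintype.ofFinite _
      haveI : Fintype (M₀ ≀ᵣ (G ⧸ N)) := Fintype.ofFinite _
      have hQ : (Nat.card (G ⧸ N)).Prime := by
        rw [← Subgroup.index_eq_card]
        exact hNp
      exact ⟨M₀ ≀ᵣ (G ⧸ N), inferInstance, inferInstance, dm_wreath hM₀ hQ, dmKK N j,
        dmKK_injective N j hj⟩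

end Cfsg.Agent.Lib.helper2
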