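import Mathlib
import Cfsg.Prelude.Def_Characters
import Cfsg.Agent.Lib.helper2.BrauerInd
import Cfsg.Agent.Lib.Helper25.RealOrbits
import Cfsg.Agent.Lib.helper7.Clifford

set_option autoImplicit false
open scoped ComplexConjugate

namespace Cfsg.Agent.Lib.helper2

open Cfsg.Agent.Lib.helper7 Cfsg.Agent.Lib.Helper11 Cfsg.Agent.Lib.Helper25 Cfsg.Agent.Lib.Helper24

theorem weighted_fixed_point {Γ X : Type*} [Group Γ] [MulAction Γ X] [Fintype X] (p : ℕ)
    (w : X → ℕ) (hw : ∀ (g : Γ) (x : X), w (g • x) = w x)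
    (horb : ∀ x : X, ∃ j : ℕ, Nat.card (MulAction.orbit Γ x) = p ^ j)
    (hsum : ¬ p ∣ ∑ x, w x) : ∃ x : X, (∀ g : Γ, g • x = x) ∧ ¬ p ∣ w x := by
  classical
  by_contra hcon
  push Not at hcon
  apply hsum
  letI : Fintype (Quotient (MulAction.orbitRel Γ X)) := Fintype.ofFinite _
  rw [← Finset.sum_fiberwise Finset.univ (fun x : X => (Quotient.mk (MulAction.orbitRel Γ X) x))
    w]
  apply Finset.dvd_sum
  intro q _
  obtain ⟨x₀, rfl⟩ := Quotient.exists_rep q
  have hconst : ∀ x ∈ Finset.univ.filter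
      (fun x : X => Quotient.mk (MulAction.orbitRel Γ X) x =
        Quotient.mk (MulAction.orbitRel Γ X) x₀), w x = w x₀ := by
    intro x hx
    have h1 := (Finset.mem_filter.mp hx).2
    have h2 : x ∈ MulAction.orbit Γ x₀ := by
      have := Quotient.exact h1
      exact this
    obtain ⟨g, rfl⟩ := h2
    exact hw g x₀
  rw [Finset.sum_congr rfl hconst, Finset.sum_const, smul_eq_mul]
  have hcard : (Finset.univ.filter
      (fun x : X => Quotient.mk (MulAction.orbitRel Γ X) x =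
        Quotient.mk (MulAction.orbitRel Γ X) x₀)).card = Nat.card (MulAction.orbit Γ x₀) := by
    rw [Nat.card_eq_fintype_card, Fintype.card_subtype]
    congr 1
    ext x
    simp only [Finset.mem_filter, Finset.mem_univ, true_and]
    constructor
    · intro h
      exact Quotient.exact h
    · intro h
      exact Quotient.sound h
  rw [hcard]
  obtain ⟨j, hj⟩ := horb x₀
  rcases Nat.eq_zero_or_pos j with h0 | h0
  · -- orbit is a singleton: x₀ fixed
    rw [h0, pow_zero] at hj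
    have hfix : ∀ g : Γ, g • x₀ = x₀ := by
      intro g
      have h1 : Nat.card (MulAction.orbit Γ x₀) ≤ 1 := hj.le
      rw [Nat.card_eq_fintype_card] at h1
      have h2 := Fintype.card_le_one_iff.mp h1
        ⟨g • x₀, MulAction.mem_orbit x₀ g⟩ ⟨x₀, MulAction.mem_orbit_self x₀⟩
      exact congrArg Subtype.val h2
    exact Dvd.dvd.mul_left (hcon x₀ hfix) _
  · rw [hj]
    exact Dvd.dvd.mul_right (dvd_pow_self p h0.ne') _

theorem dade_core {Γ : Type*} [Group Γ] [Finite Γ] (K : Subgroup Γ) [hK : K.Normal] [Fintype K]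
    (p : ℕ) (hidx : ∃ j : ℕ, K.index = p ^ j) (hp : p.Prime) (α β : K → ℂ)
    (hα : Cfsg.IsCharacter K α) (hβ : Cfsg.IsCharacter K β)
    (hαinv : ∀ g : Γ, cj K α g = α) (hβinv : ∀ g : Γ, cj K β g = β) (c : ℕ)
    (hc : Cfsg.classInner α β = (c : ℂ)) (hpc : ¬ p ∣ c) :
    ∃ φ : Cfsg.IrrCharacter K, (∀ g : Γ, cj K (φ : K → ℂ) g = (φ : K → ℂ)) ∧
      ∃ b : ℕ, Cfsg.classInner β (φ : K → ℂ) = (b : ℂ) ∧ ¬ p ∣ b := by
  classical
  haveI : Fintype (Cfsg.IrrCharacter K) := Fintype.ofFinite _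
  letI : MulAction Γ (Cfsg.IrrCharacter K) := irrMulAction K
  have hsmul : ∀ (g : Γ) (φ : Cfsg.IrrCharacter K), ((g • φ : Cfsg.IrrCharacter K) : K → ℂ) =
      cj K (φ : K → ℂ) g⁻¹ := fun g φ => rfl
  obtain ⟨a, ha, -⟩ := isCharacter_expansion hα
  obtain ⟨b, hb, hbexp⟩ := isCharacter_expansion hβ
  have hsum : c = ∑ φ : Cfsg.IrrCharacter K, a φ * b φ := by
    have h1 : Cfsg.classInner α β = ((∑ φ : Cfsg.IrrCharacter K, a φ * b φ : ℕ) : ℂ) := by
      conv_lhs => rw [hbexp]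
      rw [classInner_sum_right'']
      push_cast
      refine Finset.sum_congr rfl fun φ _ => ?_
      rw [← ha φ]
      unfold Cfsg.classInner
      simp only [Pi.smul_apply, smul_eq_mul, map_mul, map_natCast]
      rw [mul_assoc, Finset.sum_mul]
      congr 1
      refine Finset.sum_congr rfl fun h _ => ?_
      ring
    rw [hc] at h1
    exact_mod_cast h1
  have hainv : ∀ (g : Γ) (φ : Cfsg.IrrCharacter K), a (g • φ) = a φ := by
    intro g φ
    have h1 : ((a (g • φ) : ℕ) : ℂ) = (a φ : ℂ) := by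
      rw [← ha, ← ha, hsmul]
      conv_lhs => rw [← hαinv g⁻¹]
      exact h7_classInner_cj_cj K α (φ : K → ℂ) g⁻¹
    exact_mod_cast h1
  have hbinv : ∀ (g : Γ) (φ : Cfsg.IrrCharacter K), b (g • φ) = b φ := by
    intro g φ
    have h1 : ((b (g • φ) : ℕ) : ℂ) = (b φ : ℂ) := by
      rw [← hb, ← hb, hsmul]
      conv_lhs => rw [← hβinv g⁻¹]
      exact h7_classInner_cj_cj K β (φ : K → ℂ) g⁻¹
    exact_mod_cast h1
  have horb : ∀ φ : Cfsg.IrrCharacter K, ∃ j : ℕ, Nat.card (MulAction.orbit Γ φ) = p ^ j := by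
    intro φ
    obtain ⟨j, hj⟩ := hidx
    have h1 : K ≤ MulAction.stabilizer Γ φ := by
      intro x hx
      rw [MulAction.mem_stabilizer_iff]
      exact conjIrr_of_mem K x hx φ
    have h2 := Subgroup.index_dvd_of_le h1
    rw [MulAction.index_stabilizer, hj, ← Nat.card_coe_set_eq] at h2
    obtain ⟨i, -, hi⟩ := (Nat.dvd_prime_pow hp).mp h2
    exact ⟨i, hi⟩
  obtain ⟨φ, hfix, hφ⟩ := weighted_fixed_point (Γ := Γ) p (fun φ => a φ * b φ)
    (fun g φ => by simp only [hainv, hbinv]) horb (by rw [← hsum]; exact hpc)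
  refine ⟨φ, ?_, b φ, hb φ, fun h => hφ (Dvd.dvd.mul_left h _)⟩
  intro g
  have := hfix g⁻¹
  have h2 := congrArg (fun ψ : Cfsg.IrrCharacter K => (ψ : K → ℂ)) this
  simp only [hsmul, inv_inv] at h2
  exact h2

theorem dade_mackey {G : Type*} [Group G] [Fintype G] (N : Subgroup G) [hN : N.Normal]
    [Fintype N] (E : Subgroup G) [Fintype (N.subgroupOf E)] (ψ : E → ℂ) (ϑ : N → ℂ)
    (hinv : ∀ g : G, cj N ϑ g = ϑ) :
    Cfsg.classInner (fun n : N => Cfsg.indFun E ψ (n : G) * ϑ n) ϑ =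
      ((E ⊔ N).index : ℂ) *
        Cfsg.classInner (fun k : N.subgroupOf E => ψ (k : E) * ϑ ⟨((k : E) : G), k.2⟩)
          (fun k : N.subgroupOf E => ϑ ⟨((k : E) : G), k.2⟩) := by
  classical
  obtain ⟨F, hF⟩ : ∃ F : N → ℂ, F = fun n => ϑ n * conj (ϑ n) := ⟨_, rfl⟩
  have hFinv : ∀ (x : G) (n : N), F ⟨x * n * x⁻¹, hN.conj_mem n n.2 x⟩ = F n := by
    intro x n
    have h1 := congrFun (hinv x) n
    rw [cj_apply] at h1
    rw [hF]
    simp only [h1]
  -- step 1: swap sums and reindex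
  have h1 : ∑ n : N, (∑ x : G, Cfsg.extendByZero E ψ (x⁻¹ * (n : G) * x)) * F n =
      (Nat.card G : ℂ) * ∑ n : N, Cfsg.extendByZero E ψ (n : G) * F n := by
    simp only [Finset.sum_mul]
    rw [Finset.sum_comm]
    have h2 : ∀ x : G, ∑ n : N, Cfsg.extendByZero E ψ (x⁻¹ * (n : G) * x) * F n =
        ∑ n : N, Cfsg.extendByZero E ψ (n : G) * F n := by
      intro x
      rw [← Equiv.sum_comp (MulAut.conjNormal x : N ≃* N).toEquiv
        (fun n : N => Cfsg.extendByZero E ψ (x⁻¹ * (n : G) * x) * F n)]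
      refine Finset.sum_congr rfl fun n _ => ?_
      have h3 : (((MulAut.conjNormal x : N ≃* N).toEquiv n : N) : G) = x * n * x⁻¹ := rfl
      have h4 : ((MulAut.conjNormal x : N ≃* N).toEquiv n : N) =
          ⟨x * n * x⁻¹, hN.conj_mem n n.2 x⟩ := Subtype.ext h3
      rw [h3, h4, hFinv]
      congr 2
      group
    simp only [h2]
    rw [Finset.sum_const, Finset.card_univ, nsmul_eq_mul, Nat.card_eq_fintype_card]
  -- step 2: restrict the sum to K
  have h2 : ∑ n : N, Cfsg.extendByZero E ψ (n : G) * F n =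
      ∑ k : N.subgroupOf E, ψ (k : E) * F ⟨((k : E) : G), k.2⟩ := by
    symm
    apply Finset.sum_of_injOn (fun k : N.subgroupOf E => (⟨((k : E) : G), k.2⟩ : N))
    · intro k₁ _ k₂ _ h
      apply Subtype.ext
      apply Subtype.ext
      exact congrArg (fun n : N => (n : G)) h
    · intro k _
      exact Finset.mem_coe.mpr (Finset.mem_univ _)
    · intro n _ hn
      have hnE : (n : G) ∉ E := by
        intro hmem
        apply hn
        refine ⟨⟨⟨(n : G), hmem⟩, n.2⟩, Finset.mem_coe.mpr (Finset.mem_univ _), ?_⟩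
        rfl
      rw [h7_extendByZero_not_mem E ψ _ hnE, zero_mul]
    · intro k _
      rw [h7_extendByZero_mem E ψ _ (k : E).2]
  -- cardinalities
  have hcards : Nat.card G * Nat.card (N.subgroupOf E) =
      (E ⊔ N).index * (Nat.card N * Nat.card E) := by
    have e1 : N.relIndex (E ⊔ N) * (E ⊔ N).index = N.index :=
      Subgroup.relIndex_mul_index le_sup_right
    have e2 : N.relIndex (E ⊔ N) = (N.subgroupOf E).index := by
      rw [Subgroup.relIndex_sup_right]
      rfl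
    have e3 := Subgroup.card_mul_index N
    have e4 := Subgroup.card_mul_index (N.subgroupOf E)
    rw [← e3, ← e1, e2, ← e4]
    ring
  have hGne : (Nat.card G : ℂ) ≠ 0 := by exact_mod_cast Nat.card_pos.ne'
  have hNne : (Nat.card N : ℂ) ≠ 0 := by exact_mod_cast Nat.card_pos.ne'
  have hEne : (Nat.card E : ℂ) ≠ 0 := by exact_mod_cast Nat.card_pos.ne'
  have hKne : (Nat.card (N.subgroupOf E) : ℂ) ≠ 0 := by exact_mod_cast Nat.card_pos.ne'
  have hcards' : (Nat.card G : ℂ) * (Nat.card (N.subgroupOf E) : ℂ) =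
      ((E ⊔ N).index : ℂ) * ((Nat.card N : ℂ) * (Nat.card E : ℂ)) := by exact_mod_cast hcards
  unfold Cfsg.classInner
  have h3 : ∀ n : N, Cfsg.indFun E ψ (n : G) * ϑ n * conj (ϑ n) =
      (Nat.card E : ℂ)⁻¹ * ((∑ x : G, Cfsg.extendByZero E ψ (x⁻¹ * (n : G) * x)) * F n) := by
    intro n
    rw [hF]
    unfold Cfsg.indFun
    ring
  have h4 : ∀ k : N.subgroupOf E, ψ (k : E) * ϑ ⟨((k : E) : G), k.2⟩ *
      conj (ϑ ⟨((k : E) : G), k.2⟩) = ψ (k : E) * F ⟨((k : E) : G), k.2⟩ := by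
    intro k
    rw [hF]
    ring
  simp only [h3, h4]
  rw [← Finset.mul_sum, h1, h2]
  field_simp
  linear_combination (∑ k : N.subgroupOf E, ψ (k : E) * F ⟨((k : E) : G), k.2⟩) * hcards'

end Cfsg.Agent.Lib.helper2
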