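import Mathlib

set_option autoImplicit false

namespace Cfsg.Agent.Lib.helper2

/-- index set -/
abbrev DcI (n : ℕ) := Fin n → ZMod 2
/-- base ring -/
abbrev DcF := ZMod 7

/-- sign character of `ZMod 2` -/
def dcSgn (t : ZMod 2) : DcF := if t = 0 then 1 else -1

theorem dcSgn_add (s t : ZMod 2) : dcSgn (s + t) = dcSgn s * dcSgn t := by
  revert s t; decide

theorem dcSgn_zero : dcSgn 0 = 1 := by decide
theorem dcSgn_one : dcSgn 1 = -1 := by decide
theorem dcSgn_mul_self (t : ZMod 2) : dcSgn t * dcSgn t = 1 := by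
  revert t; decide
theorem dcSgn_inj (s t : ZMod 2) (h : dcSgn s = dcSgn t) : s = t := by
  revert s t; decide

theorem dc_add_self {n : ℕ} (x : DcI n) : x + x = 0 := by
  funext i
  exact (by decide : ∀ t : ZMod 2, t + t = 0) (x i)

theorem dc_hom_add_self {n : ℕ} (φ : DcI n →+ ZMod 2) : φ + φ = 0 := by
  refine AddMonoidHom.ext fun x => ?_
  exact (by decide : ∀ t : ZMod 2, t + t = 0) (φ x)

/-- monomial matrices -/
def dcMono {n : ℕ} (φ : DcI n →+ ZMod 2) (σ : DcI n) : Matrix (DcI n) (DcI n) DcF :=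
  fun a b => if a = b + σ then dcSgn (φ b) else 0

theorem dcMono_apply {n : ℕ} (φ : DcI n →+ ZMod 2) (σ : DcI n) (a b : DcI n) :
    dcMono φ σ a b = if a = b + σ then dcSgn (φ b) else 0 := rfl

theorem dcMono_mul {n : ℕ} (φ ψ : DcI n →+ ZMod 2) (σ τ : DcI n) :
    dcMono φ σ * dcMono ψ τ = dcSgn (φ τ) • dcMono (φ + ψ) (σ + τ) := by
  ext a b
  rw [Matrix.mul_apply, Finset.sum_eq_single (b + τ)]
  · rw [dcMono_apply, dcMono_apply, Matrix.smul_apply, dcMono_apply, if_pos rfl]
    have h1 : b + τ + σ = b + (σ + τ) := by abel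
    rw [h1]
    by_cases h : a = b + (σ + τ)
    · rw [if_pos h, if_pos h, map_add, dcSgn_add, AddMonoidHom.add_apply, dcSgn_add, smul_eq_mul]
      ring
    · rw [if_neg h, if_neg h]
      simp
  · intro c _ hc
    rw [dcMono_apply ψ τ, if_neg hc, mul_zero]
  · intro h
    exact absurd (Finset.mem_univ _) h

theorem dcMono_zero {n : ℕ} : dcMono (0 : DcI n →+ ZMod 2) 0 = 1 := by
  ext a b
  rw [dcMono_apply, Matrix.one_apply, add_zero]
  simp [dcSgn_zero]

theorem dcMono_transpose {n : ℕ} (φ : DcI n →+ ZMod 2) (σ : DcI n) :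
    (dcMono φ σ).transpose = dcSgn (φ σ) • dcMono φ σ := by
  ext a b
  rw [Matrix.transpose_apply, Matrix.smul_apply, dcMono_apply, dcMono_apply, smul_eq_mul]
  by_cases h : a = b + σ
  · have h' : b = a + σ := by
      rw [h, add_assoc, dc_add_self, add_zero]
    rw [if_pos h, if_pos h']
    rw [h, map_add, dcSgn_add, mul_comm]
  · have h' : ¬ b = a + σ := by
      intro hb
      apply h
      rw [hb, add_assoc, dc_add_self, add_zero]
    rw [if_neg h, if_neg h', mul_zero]


/-- unit vector -/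
def dcδ {n : ℕ} (i : Fin n) : DcI n := Pi.single i 1

theorem dcδ_apply {n : ℕ} (i j : Fin n) : dcδ i j = if j = i then 1 else 0 := by
  unfold dcδ
  rw [Pi.single_apply]

theorem dcδ_inj {n : ℕ} (i j : Fin n) (h : dcδ i = dcδ j) : i = j := by
  have := congrFun h i
  rw [dcδ_apply, dcδ_apply, if_pos rfl] at this
  by_contra hne
  rw [if_neg hne] at this
  exact absurd this (by decide)

/-- sum of coordinates below `i` -/
def dcL {n : ℕ} (i : Fin n) : DcI n →+ ZMod 2 :=
  ∑ j ∈ Finset.univ.filter (fun j => j < i), Pi.evalAddMonoidHom (fun _ : Fin n => ZMod 2) j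

/-- sum of coordinates above `i` -/
def dcR {n : ℕ} (i : Fin n) : DcI n →+ ZMod 2 :=
  ∑ j ∈ Finset.univ.filter (fun j => i < j), Pi.evalAddMonoidHom (fun _ : Fin n => ZMod 2) j

/-- sum of all coordinates -/
def dcTot {n : ℕ} : DcI n →+ ZMod 2 :=
  ∑ j : Fin n, Pi.evalAddMonoidHom (fun _ : Fin n => ZMod 2) j

theorem dcL_apply {n : ℕ} (i : Fin n) (x : DcI n) :
    dcL i x = ∑ j ∈ Finset.univ.filter (fun j => j < i), x j := by
  unfold dcL
  rw [AddMonoidHom.finsetSum_apply]
  rfl

theorem dcR_apply {n : ℕ} (i : Fin n) (x : DcI n) :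
    dcR i x = ∑ j ∈ Finset.univ.filter (fun j => i < j), x j := by
  unfold dcR
  rw [AddMonoidHom.finsetSum_apply]
  rfl

theorem dcTot_apply {n : ℕ} (x : DcI n) : dcTot x = ∑ j : Fin n, x j := by
  unfold dcTot
  rw [AddMonoidHom.finsetSum_apply]
  rfl

theorem dcL_δ {n : ℕ} (i j : Fin n) : dcL i (dcδ j) = if j < i then 1 else 0 := by
  rw [dcL_apply]
  simp only [dcδ_apply]
  rw [Finset.sum_ite_eq']
  simp

theorem dcR_δ {n : ℕ} (i j : Fin n) : dcR i (dcδ j) = if i < j then 1 else 0 := by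
  rw [dcR_apply]
  simp only [dcδ_apply]
  rw [Finset.sum_ite_eq']
  simp

theorem dcTot_δ {n : ℕ} (j : Fin n) : dcTot (dcδ j) = 1 := by
  rw [dcTot_apply]
  simp only [dcδ_apply]
  rw [Finset.sum_ite_eq']
  simp

theorem dcL_add_dcR {n : ℕ} (i : Fin n) (x : DcI n) : dcL i x + dcR i x + x i = dcTot x := by
  rw [dcL_apply, dcR_apply, dcTot_apply]
  rw [← Finset.sum_filter_add_sum_filter_not Finset.univ (fun j => j < i) x]
  have : Finset.univ.filter (fun j : Fin n => ¬ j < i) =
      insert i (Finset.univ.filter (fun j => i < j)) := by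
    ext j
    simp only [Finset.mem_filter, Finset.mem_univ, true_and, Finset.mem_insert, not_lt]
    constructor
    · intro h
      rcases eq_or_lt_of_le h with h1 | h1
      · left; exact h1.symm
      · right; exact h1
    · rintro (h | h)
      · exact h ▸ le_refl _
      · exact le_of_lt h
  rw [this, Finset.sum_insert (by simp)]
  abel


/-- Clifford generators (left multiplication) -/
def dcE {n : ℕ} (i : Fin n) : Matrix (DcI n) (DcI n) DcF := dcMono (dcL i) (dcδ i)
/-- right multiplication operators -/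
def dcRm {n : ℕ} (i : Fin n) : Matrix (DcI n) (DcI n) DcF := dcMono (dcR i) (dcδ i)
/-- grading operator -/
def dcD {n : ℕ} : Matrix (DcI n) (DcI n) DcF := dcMono dcTot 0

theorem dcE_mul_self {n : ℕ} (i : Fin n) : dcE i * dcE i = 1 := by
  unfold dcE
  rw [dcMono_mul, dc_hom_add_self, dc_add_self, dcMono_zero, dcL_δ, if_neg (lt_irrefl i),
    dcSgn_zero, one_smul]

theorem dcE_anti {n : ℕ} (i j : Fin n) (hij : i ≠ j) : dcE i * dcE j = -(dcE j * dcE i) := by
  unfold dcE
  rw [dcMono_mul, dcMono_mul, dcL_δ, dcL_δ, add_comm (dcL j), add_comm (dcδ j)]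
  rcases lt_or_gt_of_ne hij with h | h
  · rw [if_neg (not_lt_of_gt h), if_pos h, dcSgn_zero, dcSgn_one]
    simp
  · rw [if_pos h, if_neg (not_lt_of_gt h), dcSgn_zero, dcSgn_one]
    simp

theorem dcE_Rm {n : ℕ} (i j : Fin n) : dcE i * dcRm j = dcRm j * dcE i := by
  unfold dcE dcRm
  rw [dcMono_mul, dcMono_mul, dcL_δ, dcR_δ, add_comm (dcR j), add_comm (dcδ j)]

theorem dcD_E {n : ℕ} (i : Fin n) : dcD * dcE i = -(dcE i * dcD) := by
  unfold dcE dcD
  rw [dcMono_mul, dcMono_mul, dcTot_δ, map_zero, dcSgn_zero, dcSgn_one, zero_add, add_zero,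
    add_comm dcTot]
  simp

theorem dcE_transpose {n : ℕ} (i : Fin n) : (dcE i).transpose = dcE i := by
  unfold dcE
  rw [dcMono_transpose, dcL_δ, if_neg (lt_irrefl i), dcSgn_zero, one_smul]

theorem dcE_apply_zero {n : ℕ} (i : Fin n) (a : DcI n) :
    dcE i a 0 = if a = dcδ i then 1 else 0 := by
  unfold dcE
  rw [dcMono_apply, zero_add, map_zero, dcSgn_zero]


/-- lifts of transpositions -/
def dcT {n : ℕ} (i j : Fin n) : Matrix (DcI n) (DcI n) DcF := (5 : DcF) • (dcE i - dcE j)

theorem dcT_mul_self {n : ℕ} (i j : Fin n) (hij : i ≠ j) : dcT i j * dcT i j = 1 := by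
  unfold dcT
  rw [Matrix.smul_mul, Matrix.mul_smul, smul_smul]
  have h : (dcE i - dcE j) * (dcE i - dcE j) = (2 : DcF) • (1 : Matrix (DcI n) (DcI n) DcF) := by
    have h1 : (dcE i - dcE j) * (dcE i - dcE j) =
        dcE i * dcE i - dcE i * dcE j - dcE j * dcE i + dcE j * dcE j := by noncomm_ring
    rw [h1, dcE_mul_self, dcE_mul_self, dcE_anti i j hij, two_smul]
    abel
  rw [h, smul_smul]
  have : (5 : DcF) * 5 * 2 = 1 := by decide
  rw [this, one_smul]

theorem dcT_transpose {n : ℕ} (i j : Fin n) : (dcT i j).transpose = dcT i j := by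
  unfold dcT
  rw [Matrix.transpose_smul, Matrix.transpose_sub, dcE_transpose, dcE_transpose]

theorem dcT_Rm {n : ℕ} (i j k : Fin n) : dcT i j * dcRm k = dcRm k * dcT i j := by
  unfold dcT
  rw [Matrix.smul_mul, Matrix.mul_smul, sub_mul, mul_sub, dcE_Rm, dcE_Rm]

theorem dcT_D {n : ℕ} (i j : Fin n) : dcT i j * dcD = -(dcD * dcT i j) := by
  unfold dcT
  rw [Matrix.smul_mul, Matrix.mul_smul, sub_mul, mul_sub, dcD_E, dcD_E]
  rw [← smul_neg]
  congr 1
  abel

theorem dcT_E {n : ℕ} (i j k : Fin n) (hij : i ≠ j) :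
    dcT i j * dcE k = -(dcE (Equiv.swap i j k) * dcT i j) := by
  unfold dcT
  rw [Matrix.smul_mul, Matrix.mul_smul, ← smul_neg]
  congr 1
  by_cases hki : k = i
  · subst hki
    rw [Equiv.swap_apply_left, sub_mul, mul_sub, dcE_mul_self, dcE_mul_self]
    abel
  · by_cases hkj : k = j
    · subst hkj
      rw [Equiv.swap_apply_right, sub_mul, mul_sub, dcE_mul_self, dcE_mul_self]
      abel
    · rw [Equiv.swap_apply_of_ne_of_ne hki hkj, sub_mul, mul_sub,
        dcE_anti i k (Ne.symm hki), dcE_anti j k (Ne.symm hkj)]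
      abel


theorem dc_mul_mono_apply {n : ℕ} (M : Matrix (DcI n) (DcI n) DcF) (φ : DcI n →+ ZMod 2)
    (σ a b : DcI n) : (M * dcMono φ σ) a b = M a (b + σ) * dcSgn (φ b) := by
  rw [Matrix.mul_apply, Finset.sum_eq_single (b + σ)]
  · rw [dcMono_apply, if_pos rfl]
  · intro c _ hc
    rw [dcMono_apply, if_neg hc, mul_zero]
  · intro h
    exact absurd (Finset.mem_univ _) h

theorem dc_mono_mul_apply {n : ℕ} (M : Matrix (DcI n) (DcI n) DcF) (φ : DcI n →+ ZMod 2)
    (σ a b : DcI n) : (dcMono φ σ * M) a b = dcSgn (φ (a + σ)) * M (a + σ) b := by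
  rw [Matrix.mul_apply, Finset.sum_eq_single (a + σ)]
  · rw [dcMono_apply, if_pos (by rw [add_assoc, dc_add_self, add_zero])]
  · intro c _ hc
    rw [dcMono_apply, if_neg, zero_mul]
    intro h
    apply hc
    rw [h, add_assoc, dc_add_self, add_zero]
  · intro h
    exact absurd (Finset.mem_univ _) h

/-- induction principle on `DcI n` -/
theorem dc_induction {n : ℕ} (P : DcI n → Prop) (h0 : P 0)
    (hstep : ∀ b k, P b → P (b + dcδ k)) : ∀ b, P b := by
  classical
  have key : ∀ s : Finset (Fin n), P (∑ k ∈ s, dcδ k) := by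
    intro s
    induction s using Finset.induction_on with
    | empty => simpa using h0
    | insert k s hk ih =>
      rw [Finset.sum_insert hk, add_comm]
      exact hstep _ _ ih
  intro b
  have hb : b = ∑ k ∈ Finset.univ.filter (fun k => b k = 1), dcδ k := by
    funext j
    rw [Finset.sum_apply]
    simp only [dcδ_apply]
    rw [Finset.sum_ite_eq]
    by_cases h : b j = 1
    · simp [h]
    · have : b j = 0 := by
        have := (by decide : ∀ t : ZMod 2, t ≠ 1 → t = 0) (b j) h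
        exact this
      simp [this]
  rw [hb]
  exact key _


theorem dc_scalar {n : ℕ} (M : Matrix (DcI n) (DcI n) DcF)
    (hE : ∀ k, M * dcE k = dcE k * M) (hR : ∀ k, M * dcRm k = dcRm k * M)
    (hD : M * dcD = dcD * M) : M = (M 0 0) • (1 : Matrix (DcI n) (DcI n) DcF) := by
  have h2ne : (2 : DcF) ≠ 0 := by decide
  haveI : Fact (Nat.Prime 7) := ⟨by norm_num⟩
  have HE : ∀ k a b, M a (b + dcδ k) * dcSgn (dcL k b) =
      dcSgn (dcL k (a + dcδ k)) * M (a + dcδ k) b := by
    intro k a b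
    have := congrFun (congrFun (hE k) a) b
    unfold dcE at this
    rwa [dc_mul_mono_apply, dc_mono_mul_apply] at this
  have HR : ∀ k a b, M a (b + dcδ k) * dcSgn (dcR k b) =
      dcSgn (dcR k (a + dcδ k)) * M (a + dcδ k) b := by
    intro k a b
    have := congrFun (congrFun (hR k) a) b
    unfold dcRm at this
    rwa [dc_mul_mono_apply, dc_mono_mul_apply] at this
  have HD : ∀ a b, M a b * dcSgn (dcTot b) = dcSgn (dcTot a) * M a b := by
    intro a b
    have := congrFun (congrFun hD a) b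
    unfold dcD at this
    rwa [dc_mul_mono_apply, dc_mono_mul_apply, add_zero, add_zero] at this
  have col0 : ∀ a : DcI n, a ≠ 0 → M a 0 = 0 := by
    intro a ha
    by_contra hne
    have h1 : ∀ k, dcL k a = dcR k a := by
      intro k
      have e1 := HE k (a + dcδ k) 0
      have e2 := HR k (a + dcδ k) 0
      rw [add_assoc, dc_add_self, add_zero, map_zero, dcSgn_zero, mul_one] at e1 e2
      have h2 : dcSgn (dcL k a) * M a 0 = dcSgn (dcR k a) * M a 0 := by rw [← e1, ← e2]
      exact dcSgn_inj _ _ (mul_right_cancel₀ hne h2)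
    have h3 : ∀ k, a k = dcTot a := by
      intro k
      have h4 := dcL_add_dcR k a
      rw [h1 k] at h4
      have h5 : dcR k a + dcR k a = 0 := (by decide : ∀ t : ZMod 2, t + t = 0) _
      rw [h5, zero_add] at h4
      exact h4
    rcases (by decide : ∀ t : ZMod 2, t = 0 ∨ t = 1) (dcTot a) with h6 | h6
    · apply ha
      funext k
      rw [h3 k, h6]
      rfl
    · have h7 := HD a 0
      rw [map_zero, dcSgn_zero, mul_one, h6, dcSgn_one] at h7
      have h8 : (2 : DcF) * M a 0 = 0 := by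
        have : M a 0 + M a 0 = 0 := by
          nth_rewrite 1 [h7]
          ring
        rw [two_mul]
        exact this
      rcases mul_eq_zero.mp h8 with h9 | h9
      · exact absurd h9 h2ne
      · exact hne h9
  have main : ∀ b a : DcI n, M a b = if a = b then M 0 0 else 0 := by
    intro b
    induction b using dc_induction with
    | h0 =>
      intro a
      by_cases ha : a = 0
      · rw [if_pos ha, ha]
      · rw [if_neg ha, col0 a ha]
    | hstep b k ih =>
      intro a
      have e1 := HE k a b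
      have e2 : M a (b + dcδ k) =
          dcSgn (dcL k (a + dcδ k)) * M (a + dcδ k) b * dcSgn (dcL k b) := by
        rw [← e1, mul_assoc, dcSgn_mul_self, mul_one]
      rw [e2, ih (a + dcδ k)]
      by_cases ha : a = b + dcδ k
      · have ha' : a + dcδ k = b := by rw [ha, add_assoc, dc_add_self, add_zero]
        rw [if_pos ha, if_pos ha', ha', mul_comm (dcSgn _), mul_assoc, dcSgn_mul_self, mul_one]
      · have ha' : ¬ a + dcδ k = b := by
          intro h
          apply ha
          rw [← h, add_assoc, dc_add_self, add_zero]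
        rw [if_neg ha, if_neg ha', mul_zero, zero_mul]
  ext a b
  rw [main b a, Matrix.smul_apply, Matrix.one_apply, smul_eq_mul]
  by_cases h : a = b
  · rw [if_pos h, if_pos h, mul_one]
  · rw [if_neg h, if_neg h, mul_zero]


/-- the sign of a permutation in `DcF` -/
def dcSg {n : ℕ} (π : Equiv.Perm (Fin n)) : DcF := (((Equiv.Perm.sign π : ℤˣ) : ℤ) : DcF)

theorem dcSg_mul {n : ℕ} (π τ : Equiv.Perm (Fin n)) : dcSg (π * τ) = dcSg π * dcSg τ := by
  unfold dcSg
  rw [map_mul, Units.val_mul, Int.cast_mul]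

theorem dcSg_one {n : ℕ} : dcSg (1 : Equiv.Perm (Fin n)) = 1 := by
  unfold dcSg
  simp

theorem dcSg_cases {n : ℕ} (π : Equiv.Perm (Fin n)) : dcSg π = 1 ∨ dcSg π = -1 := by
  unfold dcSg
  rcases Int.units_eq_one_or (Equiv.Perm.sign π) with h | h
  · left; rw [h]; simp
  · right; rw [h]; simp

theorem dcSg_mul_self {n : ℕ} (π : Equiv.Perm (Fin n)) : dcSg π * dcSg π = 1 := by
  rcases dcSg_cases π with h | h <;> rw [h] <;> decide

theorem dcSg_inv {n : ℕ} (π : Equiv.Perm (Fin n)) : dcSg π⁻¹ = dcSg π := by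
  unfold dcSg
  rw [map_inv, Int.units_inv_eq_self]

theorem dcSg_swap {n : ℕ} (i j : Fin n) (hij : i ≠ j) : dcSg (Equiv.swap i j) = -1 := by
  unfold dcSg
  rw [Equiv.Perm.sign_swap hij]
  simp

theorem dcSg_of_mem {n : ℕ} (π : Equiv.Perm (Fin n)) (h : π ∈ alternatingGroup (Fin n)) :
    dcSg π = 1 := by
  unfold dcSg
  rw [Equiv.Perm.mem_alternatingGroup.mp h]
  simp

theorem dcSg_ne_zero {n : ℕ} (π : Equiv.Perm (Fin n)) : dcSg π ≠ 0 := by
  rcases dcSg_cases π with h | h <;> rw [h] <;> decide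

/-- the relation "M induces π" -/
def dcRel {n : ℕ} (M : Matrix (DcI n) (DcI n) DcF) (π : Equiv.Perm (Fin n)) : Prop :=
  M * dcD = dcSg π • (dcD * M) ∧ ∀ k, M * dcE k = dcSg π • (dcE (π k) * M)

theorem dcRel_one {n : ℕ} : dcRel (1 : Matrix (DcI n) (DcI n) DcF) 1 := by
  refine ⟨?_, fun k => ?_⟩
  · rw [dcSg_one, one_smul, one_mul, mul_one]
  · rw [dcSg_one, one_smul, one_mul, mul_one, Equiv.Perm.one_apply]

theorem dcRel_mul {n : ℕ} {M M' : Matrix (DcI n) (DcI n) DcF} {π π' : Equiv.Perm (Fin n)}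
    (h : dcRel M π) (h' : dcRel M' π') : dcRel (M * M') (π * π') := by
  refine ⟨?_, fun k => ?_⟩
  · rw [mul_assoc, h'.1, Matrix.mul_smul, ← mul_assoc, h.1, Matrix.smul_mul, smul_smul,
      dcSg_mul, mul_assoc, mul_comm (dcSg π')]
  · rw [mul_assoc, h'.2 k, Matrix.mul_smul, ← mul_assoc, h.2 (π' k), Matrix.smul_mul, smul_smul,
      dcSg_mul, mul_assoc, mul_comm (dcSg π'), Equiv.Perm.mul_apply]

theorem dcRel_inv {n : ℕ} {A B : Matrix (DcI n) (DcI n) DcF} {π : Equiv.Perm (Fin n)}
    (hAB : A * B = 1) (hBA : B * A = 1) (h : dcRel A π) : dcRel B π⁻¹ := by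
  have key : ∀ X Y : Matrix (DcI n) (DcI n) DcF, A * X = dcSg π • (Y * A) →
      B * Y = dcSg π • (X * B) := by
    intro X Y hXY
    have h1 : B * (A * X) * B = B * (dcSg π • (Y * A)) * B := by rw [hXY]
    rw [← mul_assoc, hBA, one_mul, Matrix.mul_smul, Matrix.smul_mul, mul_assoc, mul_assoc, hAB,
      mul_one] at h1
    rw [h1, smul_smul, dcSg_mul_self, one_smul]
  refine ⟨?_, fun k => ?_⟩
  · rw [dcSg_inv]
    exact key _ _ h.1
  · rw [dcSg_inv]
    have := key _ _ (h.2 (π⁻¹ k))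
    have hk : π (π⁻¹ k) = k := by simp
    rwa [hk] at this

theorem dcRel_unique {n : ℕ} {A B : Matrix (DcI n) (DcI n) DcF} {π π' : Equiv.Perm (Fin n)}
    (hAB : A * B = 1) (h : dcRel A π) (h' : dcRel A π') : π = π' := by
  ext k
  congr 1
  have h1 : dcSg π • dcE (π k) = dcSg π' • dcE (π' k) := by
    have h2 : dcSg π • (dcE (π k) * A) = dcSg π' • (dcE (π' k) * A) := by
      rw [← h.2 k, ← h'.2 k]
    have h3 : (dcSg π • (dcE (π k) * A)) * B = (dcSg π' • (dcE (π' k) * A)) * B := by rw [h2]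
    rwa [Matrix.smul_mul, Matrix.smul_mul, mul_assoc, mul_assoc, hAB, mul_one, mul_one] at h3
  have h4 := congrFun (congrFun h1 (dcδ (π k))) 0
  rw [Matrix.smul_apply, Matrix.smul_apply, dcE_apply_zero, dcE_apply_zero, if_pos rfl,
    smul_eq_mul, smul_eq_mul, mul_one] at h4
  by_contra hne
  rw [if_neg (fun h => hne (dcδ_inj _ _ h)), mul_zero] at h4
  exact dcSg_ne_zero π h4

end Cfsg.Agent.Lib.helper2
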