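import Mathlib
import Cfsg.Agent.Lib.helper2.DoubleCover1

set_option autoImplicit false

namespace Cfsg.Agent.Lib.helper2

open scoped commutatorElement

/-- membership predicate for the pin-type group -/
def dcMem {n : ℕ} (M : Matrix (DcI n) (DcI n) DcF) : Prop :=
  M * M.transpose = 1 ∧ (∀ k, M * dcRm k = dcRm k * M) ∧ ∃ π, dcRel M π

theorem dcMem_one {n : ℕ} : dcMem (1 : Matrix (DcI n) (DcI n) DcF) := by
  refine ⟨by simp, fun k => by rw [one_mul, mul_one], 1, dcRel_one⟩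

theorem dcMem_mul {n : ℕ} {M M' : Matrix (DcI n) (DcI n) DcF} (h : dcMem M) (h' : dcMem M') :
    dcMem (M * M') := by
  obtain ⟨h1, h2, π, h3⟩ := h
  obtain ⟨h1', h2', π', h3'⟩ := h'
  refine ⟨?_, fun k => ?_, π * π', dcRel_mul h3 h3'⟩
  · rw [Matrix.transpose_mul, mul_assoc, ← mul_assoc M', h1', one_mul, h1]
  · rw [mul_assoc, h2' k, ← mul_assoc, h2 k, mul_assoc]

theorem dcMem_inv {n : ℕ} {A B : Matrix (DcI n) (DcI n) DcF} (hAB : A * B = 1) (hBA : B * A = 1)
    (h : dcMem A) : dcMem B := by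
  obtain ⟨h1, h2, π, h3⟩ := h
  have hB : B = A.transpose := by
    calc B = B * (A * A.transpose) := by rw [h1, mul_one]
      _ = A.transpose := by rw [← mul_assoc, hBA, one_mul]
  refine ⟨?_, fun k => ?_, π⁻¹, dcRel_inv hAB hBA h3⟩
  · rw [hB, Matrix.transpose_transpose, ← hB, hBA]
  · have h4 : B * (A * dcRm k) * B = B * (dcRm k * A) * B := by rw [h2 k]
    rw [← mul_assoc, hBA, one_mul, mul_assoc, mul_assoc, hAB, mul_one] at h4
    exact h4.symm

/-- the pin-type group -/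
def dcPin (n : ℕ) : Subgroup (GL (DcI n) DcF) where
  carrier := {g | dcMem (g : Matrix (DcI n) (DcI n) DcF)}
  one_mem' := by
    show dcMem ((1 : GL (DcI n) DcF) : Matrix (DcI n) (DcI n) DcF)
    rw [Units.val_one]
    exact dcMem_one
  mul_mem' := by
    intro g h hg hh
    show dcMem ((g * h : GL (DcI n) DcF) : Matrix (DcI n) (DcI n) DcF)
    rw [Units.val_mul]
    exact dcMem_mul hg hh
  inv_mem' := by
    intro g hg
    show dcMem ((g⁻¹ : GL (DcI n) DcF) : Matrix (DcI n) (DcI n) DcF)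
    exact dcMem_inv (Units.mul_inv g) (Units.inv_mul g) hg

theorem dcPin_mem {n : ℕ} (g : GL (DcI n) DcF) :
    g ∈ dcPin n ↔ dcMem (g : Matrix (DcI n) (DcI n) DcF) := Iff.rfl

/-- the induced permutation -/
noncomputable def dcRhoFun {n : ℕ} (g : dcPin n) : Equiv.Perm (Fin n) :=
  Classical.choose g.2.2.2

theorem dcRhoFun_spec {n : ℕ} (g : dcPin n) :
    dcRel ((g : GL (DcI n) DcF) : Matrix (DcI n) (DcI n) DcF) (dcRhoFun g) :=
  Classical.choose_spec g.2.2.2

theorem dcRhoFun_eq {n : ℕ} (g : dcPin n) (π : Equiv.Perm (Fin n))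
    (h : dcRel ((g : GL (DcI n) DcF) : Matrix (DcI n) (DcI n) DcF) π) : dcRhoFun g = π :=
  dcRel_unique (Units.mul_inv (g : GL (DcI n) DcF)) (dcRhoFun_spec g) h

/-- the homomorphism to the symmetric group -/
noncomputable def dcRho (n : ℕ) : dcPin n →* Equiv.Perm (Fin n) where
  toFun := dcRhoFun
  map_one' := by
    apply dcRhoFun_eq
    show dcRel ((1 : GL (DcI n) DcF) : Matrix (DcI n) (DcI n) DcF) 1
    rw [Units.val_one]
    exact dcRel_one
  map_mul' := by
    intro g h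
    apply dcRhoFun_eq
    show dcRel (((g : GL (DcI n) DcF) * (h : GL (DcI n) DcF) : GL (DcI n) DcF) :
      Matrix (DcI n) (DcI n) DcF) _
    rw [Units.val_mul]
    exact dcRel_mul (dcRhoFun_spec g) (dcRhoFun_spec h)

theorem dcRho_eq {n : ℕ} (g : dcPin n) (π : Equiv.Perm (Fin n))
    (h : dcRel ((g : GL (DcI n) DcF) : Matrix (DcI n) (DcI n) DcF) π) : dcRho n g = π :=
  dcRhoFun_eq g π h

theorem dcRho_spec {n : ℕ} (g : dcPin n) :
    dcRel ((g : GL (DcI n) DcF) : Matrix (DcI n) (DcI n) DcF) (dcRho n g) :=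
  dcRhoFun_spec g

/-- the unit attached to a transposition -/
def dcTU {n : ℕ} (i j : Fin n) (hij : i ≠ j) : GL (DcI n) DcF :=
  ⟨dcT i j, dcT i j, dcT_mul_self i j hij, dcT_mul_self i j hij⟩

theorem dcT_rel {n : ℕ} (i j : Fin n) (hij : i ≠ j) : dcRel (dcT i j) (Equiv.swap i j) := by
  refine ⟨?_, fun k => ?_⟩
  · rw [dcSg_swap i j hij, dcT_D, neg_smul, one_smul]
  · rw [dcSg_swap i j hij, dcT_E i j k hij, neg_smul, one_smul]

theorem dcT_mem {n : ℕ} (i j : Fin n) (hij : i ≠ j) : dcMem (dcT i j) := by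
  refine ⟨?_, fun k => dcT_Rm i j k, _, dcT_rel i j hij⟩
  rw [dcT_transpose, dcT_mul_self i j hij]

theorem dcTU_mem {n : ℕ} (i j : Fin n) (hij : i ≠ j) : dcTU i j hij ∈ dcPin n :=
  dcT_mem i j hij

theorem dcRho_TU {n : ℕ} (i j : Fin n) (hij : i ≠ j) :
    dcRho n ⟨dcTU i j hij, dcTU_mem i j hij⟩ = Equiv.swap i j :=
  dcRho_eq _ _ (dcT_rel i j hij)

theorem dcRho_surjective (n : ℕ) : Function.Surjective (dcRho n) := by
  rw [← MonoidHom.range_eq_top, eq_top_iff, ← Equiv.Perm.closure_isSwap, Subgroup.closure_le]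
  rintro σ ⟨i, j, hij, rfl⟩
  exact ⟨_, dcRho_TU i j hij⟩


/-- the double cover of the alternating group -/
noncomputable def dcSpin (n : ℕ) : Subgroup (dcPin n) := (alternatingGroup (Fin n)).comap (dcRho n)

/-- the covering map -/
noncomputable def dcRhoA (n : ℕ) : dcSpin n →* alternatingGroup (Fin n) :=
  ((dcRho n).comp (dcSpin n).subtype).codRestrict _ (fun g => g.2)

theorem dcRhoA_coe {n : ℕ} (g : dcSpin n) :
    ((dcRhoA n g : alternatingGroup (Fin n)) : Equiv.Perm (Fin n)) = dcRho n (g : dcPin n) := rfl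

theorem dcRhoA_surjective (n : ℕ) : Function.Surjective (dcRhoA n) := by
  rintro ⟨π, hπ⟩
  obtain ⟨g, hg⟩ := dcRho_surjective n π
  refine ⟨⟨g, ?_⟩, ?_⟩
  · show dcRho n g ∈ alternatingGroup (Fin n)
    rw [hg]
    exact hπ
  · apply Subtype.ext
    exact hg

theorem dc_neg_one_mem (n : ℕ) : (-1 : GL (DcI n) DcF) ∈ dcPin n := by
  rw [dcPin_mem, Units.val_neg, Units.val_one]
  refine ⟨?_, fun k => ?_, 1, ?_, fun k => ?_⟩
  · rw [Matrix.transpose_neg, Matrix.transpose_one, neg_mul_neg, one_mul]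
  · rw [neg_mul, mul_neg, one_mul, mul_one]
  · rw [dcSg_one, one_smul, neg_mul, mul_neg, one_mul, mul_one]
  · rw [dcSg_one, one_smul, neg_mul, mul_neg, one_mul, mul_one, Equiv.Perm.one_apply]

theorem dc_neg_one_rel (n : ℕ) : dcRel (-1 : Matrix (DcI n) (DcI n) DcF) 1 := by
  refine ⟨?_, fun k => ?_⟩
  · rw [dcSg_one, one_smul, neg_mul, mul_neg, one_mul, mul_one]
  · rw [dcSg_one, one_smul, neg_mul, mul_neg, one_mul, mul_one, Equiv.Perm.one_apply]

/-- the central involution -/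
noncomputable def dcZ (n : ℕ) : dcSpin n :=
  ⟨⟨-1, dc_neg_one_mem n⟩, by
    show dcRho n ⟨-1, dc_neg_one_mem n⟩ ∈ alternatingGroup (Fin n)
    have : dcRho n ⟨-1, dc_neg_one_mem n⟩ = 1 := by
      apply dcRho_eq
      show dcRel ((-1 : GL (DcI n) DcF) : Matrix (DcI n) (DcI n) DcF) 1
      rw [Units.val_neg, Units.val_one]
      exact dc_neg_one_rel n
    rw [this]
    exact Subgroup.one_mem _⟩

theorem dcZ_coe (n : ℕ) : (((dcZ n : dcSpin n) : dcPin n) : GL (DcI n) DcF) = -1 := rfl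

theorem dc_ext {n : ℕ} (g h : dcSpin n)
    (H : (((g : dcPin n) : GL (DcI n) DcF) : Matrix (DcI n) (DcI n) DcF) =
      (((h : dcPin n) : GL (DcI n) DcF) : Matrix (DcI n) (DcI n) DcF)) : g = h :=
  Subtype.ext (Subtype.ext (Units.ext H))

theorem dcZ_sq (n : ℕ) : dcZ n ^ 2 = 1 := by
  apply dc_ext
  rw [pow_two]
  show ((-1 : GL (DcI n) DcF) * (-1 : GL (DcI n) DcF) : GL (DcI n) DcF).val = _
  simp

theorem dcZ_ne_one (n : ℕ) : dcZ n ≠ 1 := by
  intro h
  have h1 : (((dcZ n : dcSpin n) : dcPin n) : GL (DcI n) DcF) = 1 := by rw [h]; rfl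
  rw [dcZ_coe] at h1
  have h2 := congrArg (fun g : GL (DcI n) DcF => (g : Matrix (DcI n) (DcI n) DcF) 0 0) h1
  simp only [Units.val_neg, Units.val_one, Matrix.neg_apply, Matrix.one_apply_eq] at h2
  exact absurd h2 (by decide)

theorem dcZ_central (n : ℕ) : dcZ n ∈ Subgroup.center (dcSpin n) := by
  rw [Subgroup.mem_center_iff]
  intro g
  apply dc_ext
  show ((((g : dcPin n) : GL (DcI n) DcF) * (-1 : GL (DcI n) DcF) : GL (DcI n) DcF)).val =
    (((-1 : GL (DcI n) DcF) * ((g : dcPin n) : GL (DcI n) DcF) : GL (DcI n) DcF)).val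
  simp

theorem dc_ker (n : ℕ) : (dcRhoA n).ker = Subgroup.zpowers (dcZ n) := by
  apply le_antisymm
  · intro g hg
    rw [MonoidHom.mem_ker] at hg
    have h1 : dcRho n (g : dcPin n) = 1 := by
      rw [← dcRhoA_coe, hg]
      rfl
    have h2 := dcRho_spec (g : dcPin n)
    rw [h1] at h2
    obtain ⟨h3, h4, -⟩ := (g : dcPin n).2
    obtain ⟨M, hM⟩ : ∃ M, M = (((g : dcPin n) : GL (DcI n) DcF) : Matrix (DcI n) (DcI n) DcF) :=
      ⟨_, rfl⟩
    rw [← hM] at h2 h3 h4
    have h5 : M = (M 0 0) • (1 : Matrix (DcI n) (DcI n) DcF) := by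
      apply dc_scalar M
      · intro k
        have := h2.2 k
        rwa [dcSg_one, one_smul, Equiv.Perm.one_apply] at this
      · exact h4
      · have := h2.1
        rwa [dcSg_one, one_smul] at this
    have h6 : M 0 0 * M 0 0 = 1 := by
      have h7 := congrFun (congrFun h3 0) 0
      rw [h5, Matrix.transpose_smul, Matrix.transpose_one, Matrix.smul_mul, Matrix.mul_smul,
        one_mul, smul_smul] at h7
      simpa using h7
    rcases (by decide : ∀ c : DcF, c * c = 1 → c = 1 ∨ c = -1) _ h6 with h8 | h8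
    · have : g = 1 := by
        apply dc_ext
        rw [← hM, h5, h8, one_smul]
        rfl
      rw [this]
      exact Subgroup.one_mem _
    · have : g = dcZ n := by
        apply dc_ext
        rw [← hM, h5, h8, dcZ_coe, Units.val_neg, Units.val_one]
        simp
      rw [this]
      exact Subgroup.mem_zpowers _
  · rw [Subgroup.zpowers_le, MonoidHom.mem_ker]
    apply Subtype.ext
    rw [dcRhoA_coe]
    apply dcRho_eq
    show dcRel ((-1 : GL (DcI n) DcF) : Matrix (DcI n) (DcI n) DcF) _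
    rw [Units.val_neg, Units.val_one]
    exact dc_neg_one_rel n


theorem dcT_dcT {n : ℕ} (i j k l : Fin n) (hij : i ≠ j) :
    dcT i j * dcT k l = -(dcT (Equiv.swap i j k) (Equiv.swap i j l) * dcT i j) := by
  have h1 : dcT k l = (5 : DcF) • (dcE k - dcE l) := rfl
  have h2 : dcT (Equiv.swap i j k) (Equiv.swap i j l) =
      (5 : DcF) • (dcE (Equiv.swap i j k) - dcE (Equiv.swap i j l)) := rfl
  rw [h1, h2, Matrix.mul_smul, mul_sub, dcT_E i j k hij, dcT_E i j l hij, Matrix.smul_mul, sub_mul,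
    ← smul_neg]
  congr 1
  abel

theorem dc_anticomm {n : ℕ} (a b c d : Fin n) (hab : a ≠ b) (hac : a ≠ c) (had : a ≠ d)
    (hbc : b ≠ c) (hbd : b ≠ d) (hcd : c ≠ d) :
    (dcT a c * dcT b d) * (dcT a b * dcT c d) = -((dcT a b * dcT c d) * (dcT a c * dcT b d)) := by
  have e1 : dcT b d * dcT a b = -(dcT a d * dcT b d) := by
    rw [dcT_dcT b d a b hbd, Equiv.swap_apply_of_ne_of_ne hab had, Equiv.swap_apply_left]
  have e2 : dcT a c * dcT a d = -(dcT c d * dcT a c) := by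
    rw [dcT_dcT a c a d hac, Equiv.swap_apply_left,
      Equiv.swap_apply_of_ne_of_ne (Ne.symm had) (Ne.symm hcd)]
  have e3 : dcT b d * dcT c d = -(dcT c b * dcT b d) := by
    rw [dcT_dcT b d c d hbd, Equiv.swap_apply_of_ne_of_ne (Ne.symm hbc) hcd,
      Equiv.swap_apply_right]
  have e4 : dcT a c * dcT c b = -(dcT a b * dcT a c) := by
    rw [dcT_dcT a c c b hac, Equiv.swap_apply_right,
      Equiv.swap_apply_of_ne_of_ne (Ne.symm hab) hbc]
  have e5 : dcT c d * dcT a b = -(dcT a b * dcT c d) := by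
    rw [dcT_dcT c d a b hcd, Equiv.swap_apply_of_ne_of_ne hac had,
      Equiv.swap_apply_of_ne_of_ne hbc hbd]
  have A1 : (dcT a c * dcT b d) * dcT a b = dcT c d * (dcT a c * dcT b d) := by
    rw [mul_assoc, e1, mul_neg, ← mul_assoc, e2, neg_mul, neg_neg, mul_assoc]
  have A2 : (dcT a c * dcT b d) * dcT c d = dcT a b * (dcT a c * dcT b d) := by
    rw [mul_assoc, e3, mul_neg, ← mul_assoc, e4, neg_mul, neg_neg, mul_assoc]
  rw [← mul_assoc, A1, mul_assoc, A2, ← mul_assoc, e5, neg_mul]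


/-- lift of a product of two transpositions, in the pin group -/
def dcPairP {n : ℕ} (a b c d : Fin n) (hab : a ≠ b) (hcd : c ≠ d) : dcPin n :=
  ⟨dcTU a b hab, dcTU_mem a b hab⟩ * ⟨dcTU c d hcd, dcTU_mem c d hcd⟩

theorem dcRho_pairP {n : ℕ} (a b c d : Fin n) (hab : a ≠ b) (hcd : c ≠ d) :
    dcRho n (dcPairP a b c d hab hcd) = Equiv.swap a b * Equiv.swap c d := by
  unfold dcPairP
  rw [map_mul, dcRho_TU, dcRho_TU]

/-- lift of a product of two transpositions, in the spin group -/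
noncomputable def dcPair {n : ℕ} (a b c d : Fin n) (hab : a ≠ b) (hcd : c ≠ d) : dcSpin n :=
  ⟨dcPairP a b c d hab hcd, by
    show dcRho n (dcPairP a b c d hab hcd) ∈ alternatingGroup (Fin n)
    rw [dcRho_pairP, Equiv.Perm.mem_alternatingGroup, map_mul, Equiv.Perm.sign_swap hab,
      Equiv.Perm.sign_swap hcd]
    rfl⟩

theorem dcPair_coe {n : ℕ} (a b c d : Fin n) (hab : a ≠ b) (hcd : c ≠ d) :
    ((((dcPair a b c d hab hcd : dcSpin n) : dcPin n) : GL (DcI n) DcF) :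
      Matrix (DcI n) (DcI n) DcF) = dcT a b * dcT c d := rfl

theorem dc_comm_eq {n : ℕ} (a b c d : Fin n) (hab : a ≠ b) (hac : a ≠ c) (had : a ≠ d)
    (hbc : b ≠ c) (hbd : b ≠ d) (hcd : c ≠ d) :
    ⁅dcPair a c b d hac hbd, dcPair a b c d hab hcd⁆ = dcZ n := by
  have key : dcPair a c b d hac hbd * dcPair a b c d hab hcd =
      dcZ n * (dcPair a b c d hab hcd * dcPair a c b d hac hbd) := by
    apply dc_ext
    show (dcT a c * dcT b d) * (dcT a b * dcT c d) =
      ((-1 : GL (DcI n) DcF) : Matrix (DcI n) (DcI n) DcF) *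
        ((dcT a b * dcT c d) * (dcT a c * dcT b d))
    rw [Units.val_neg, Units.val_one, neg_mul, one_mul]
    exact dc_anticomm a b c d hab hac had hbc hbd hcd
  rw [commutatorElement_def, key]
  group

theorem dcZ_mem_commutator (n : ℕ) (hn : 4 ≤ n) : dcZ n ∈ commutator (dcSpin n) := by
  have h0 : (⟨0, by omega⟩ : Fin n) ≠ ⟨1, by omega⟩ := by
    intro h; simp [Fin.ext_iff] at h
  have h1 : (⟨0, by omega⟩ : Fin n) ≠ ⟨2, by omega⟩ := by
    intro h; simp [Fin.ext_iff] at h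
  have h2 : (⟨0, by omega⟩ : Fin n) ≠ ⟨3, by omega⟩ := by
    intro h; simp [Fin.ext_iff] at h
  have h3 : (⟨1, by omega⟩ : Fin n) ≠ ⟨2, by omega⟩ := by
    intro h; simp [Fin.ext_iff] at h
  have h4 : (⟨1, by omega⟩ : Fin n) ≠ ⟨3, by omega⟩ := by
    intro h; simp [Fin.ext_iff] at h
  have h5 : (⟨2, by omega⟩ : Fin n) ≠ ⟨3, by omega⟩ := by
    intro h; simp [Fin.ext_iff] at h
  rw [← dc_comm_eq _ _ _ _ h0 h1 h2 h3 h4 h5, commutator_def]
  exact Subgroup.commutator_mem_commutator (Subgroup.mem_top _) (Subgroup.mem_top _)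

theorem dcZ_orderOf (n : ℕ) : orderOf (dcZ n) = 2 :=
  orderOf_eq_prime (dcZ_sq n) (dcZ_ne_one n)

/-- the double cover theorem -/
theorem dc_main (n : ℕ) (hn : 4 ≤ n) : ∃ (Γ : Type) (_ : Group Γ) (_ : Finite Γ) (z : Γ)
    (hz : z ∈ Subgroup.center Γ), orderOf z = 2 ∧ z ∈ commutator Γ ∧
    ∃ _ : (Subgroup.zpowers z).Normal,
      Nonempty (Γ ⧸ Subgroup.zpowers z ≃* alternatingGroup (Fin n)) := by
  refine ⟨dcSpin n, inferInstance, inferInstance, dcZ n, dcZ_central n, dcZ_orderOf n,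
    dcZ_mem_commutator n hn, ?_⟩
  have hker := dc_ker n
  have hnorm : (Subgroup.zpowers (dcZ n)).Normal := by
    rw [← hker]
    infer_instance
  refine ⟨hnorm, ⟨?_⟩⟩
  exact (QuotientGroup.quotientMulEquivOfEq hker.symm).trans
    (QuotientGroup.quotientKerEquivOfSurjective (dcRhoA n) (dcRhoA_surjective n))

end Cfsg.Agent.Lib.helper2
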