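import Mathlib
import Cfsg.Agent.Lib.Helper1.FrobQ.Props

set_option autoImplicit false

namespace Cfsg.Agent.Lib.helper2.FrobQChevWarn

open MvPolynomial in
theorem quad_common_zero {V : Type*} [AddCommGroup V] [Module (ZMod 2) V] [Finite V]
    (m : ℕ) (B : Fin m → V → V → ZMod 2)
    (hl : ∀ j a b c, B j (a + b) c = B j a c + B j b c)
    (hr : ∀ j a b c, B j a (b + c) = B j a b + B j a c)
    (hdim : 2 * m < Module.finrank (ZMod 2) V) :
    ∃ v : V, v ≠ 0 ∧ ∀ j, B j v v = 0 := by
  classical
  have hl0 : ∀ j c, B j 0 c = 0 := by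
    intro j c
    have := hl j 0 0 c
    rw [add_zero] at this
    exact left_eq_add.mp this
  have hr0 : ∀ j a, B j a 0 = 0 := by
    intro j a
    have := hr j a 0 0
    rw [add_zero] at this
    exact left_eq_add.mp this
  have hls : ∀ j (t : ZMod 2) a c, B j (t • a) c = t * B j a c := by
    intro j t a c
    have ht : t = 0 ∨ t = 1 := by revert t; decide
    rcases ht with rfl | rfl
    · simp [hl0]
    · simp
  have hrs : ∀ j (t : ZMod 2) a c, B j a (t • c) = t * B j a c := by
    intro j t a c
    have ht : t = 0 ∨ t = 1 := by revert t; decide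
    rcases ht with rfl | rfl
    · simp [hr0]
    · simp
  have hlsum : ∀ j (s : Finset (Fin (Module.finrank (ZMod 2) V))) (f : Fin (Module.finrank (ZMod 2) V) → V) c,
      B j (∑ a ∈ s, f a) c = ∑ a ∈ s, B j (f a) c := by
    intro j s f c
    induction s using Finset.induction_on with
    | empty => simp [hl0]
    | insert a s ha ih => rw [Finset.sum_insert ha, Finset.sum_insert ha, hl, ih]
  have hrsum : ∀ j (s : Finset (Fin (Module.finrank (ZMod 2) V))) (f : Fin (Module.finrank (ZMod 2) V) → V) c,
      B j c (∑ a ∈ s, f a) = ∑ a ∈ s, B j c (f a) := by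
    intro j s f c
    induction s using Finset.induction_on with
    | empty => simp [hr0]
    | insert a s ha ih => rw [Finset.sum_insert ha, Finset.sum_insert ha, hr, ih]
  let N := Module.finrank (ZMod 2) V
  let b : Module.Basis (Fin N) (ZMod 2) V := Module.finBasis (ZMod 2) V
  let P : Fin m → MvPolynomial (Fin N) (ZMod 2) := fun j =>
    ∑ a : Fin N, ∑ c : Fin N, C (B j (b a) (b c)) * X a * X c
  have hdeg : ∀ j, (P j).totalDegree ≤ 2 := by
    intro j
    refine (totalDegree_finsetSum_le (fun a _ => ?_))
    refine (totalDegree_finsetSum_le (fun c _ => ?_))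
    refine (totalDegree_mul _ _).trans ?_
    refine (add_le_add (totalDegree_mul _ _) le_rfl).trans ?_
    rw [totalDegree_C, totalDegree_X, totalDegree_X]
  have heval : ∀ j (x : Fin N → ZMod 2),
      eval x (P j) = B j (∑ a, x a • b a) (∑ c, x c • b c) := by
    intro j x
    rw [hlsum]
    simp only [P, map_sum, map_mul, eval_C, eval_X]
    refine Finset.sum_congr rfl (fun a _ => ?_)
    rw [hrsum]
    refine Finset.sum_congr rfl (fun c _ => ?_)
    rw [hls, hrs]
    ring
  have hsum : (∑ j ∈ (Finset.univ : Finset (Fin m)), (P j).totalDegree) < Fintype.card (Fin N) := by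
    calc (∑ j ∈ (Finset.univ : Finset (Fin m)), (P j).totalDegree)
        ≤ ∑ j ∈ (Finset.univ : Finset (Fin m)), 2 := Finset.sum_le_sum (fun j _ => hdeg j)
      _ = 2 * m := by simp [mul_comm]
      _ < Fintype.card (Fin N) := by rw [Fintype.card_fin]; exact hdim
  have hCW := char_dvd_card_solutions_of_sum_lt (K := ZMod 2) 2 hsum
  have h0 : ∀ i ∈ (Finset.univ : Finset (Fin m)), eval (0 : Fin N → ZMod 2) (P i) = 0 := by
    intro i _
    rw [heval]
    simp [hl0]
  rw [Fintype.card_eq_nat_card] at hCW
  have hcard : 1 < Nat.card { x : Fin N → ZMod 2 // ∀ i ∈ (Finset.univ : Finset (Fin m)), eval x (P i) = 0 } := by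
    have hpos : 0 < Nat.card { x : Fin N → ZMod 2 // ∀ i ∈ (Finset.univ : Finset (Fin m)), eval x (P i) = 0 } :=
      haveI : Nonempty { x : Fin N → ZMod 2 // ∀ i ∈ (Finset.univ : Finset (Fin m)), eval x (P i) = 0 } := ⟨⟨0, h0⟩⟩
      Nat.card_pos
    obtain ⟨k, hk⟩ := hCW
    omega
  have := (Finite.one_lt_card_iff_nontrivial).mp hcard
  obtain ⟨⟨x, hx⟩, hne⟩ := exists_ne (⟨0, h0⟩ : { x : Fin N → ZMod 2 // ∀ i ∈ (Finset.univ : Finset (Fin m)), eval x (P i) = 0 })
  refine ⟨∑ a, x a • b a, ?_, fun j => ?_⟩
  · intro h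
    apply hne
    apply Subtype.ext
    have h2 : b.equivFun.symm x = 0 := by rw [Module.Basis.equivFun_symm_apply]; exact h
    exact b.equivFun.symm.injective (by rw [h2, map_zero])
  · rw [← heval]
    exact hx j (Finset.mem_univ j)

universe u

theorem chevWarn : Cfsg.Agent.Lib.Helper1.FrobQ.ChevWarnProp.{u} := by
  intro Y _ _ q σ β X hq hq2 hexp hσq hβl hβr hβalt hβσ hXσ hcard
  classical
  let _ : Module (ZMod 2) (Additive X) := AddCommGroup.zmodModule (n := 2) (by
    intro x
    apply Additive.toMul.injective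
    rw [toMul_nsmul, toMul_zero]
    apply Subtype.ext
    rw [Subgroup.coe_pow, Subgroup.coe_one]
    exact hexp _)
  have hfin : Module.Finite (ZMod 2) (Additive X) := Module.Finite.of_finite
  have hcardV : Nat.card X = 2 ^ Module.finrank (ZMod 2) (Additive X) := by
    have h := Module.natCard_eq_pow_finrank (K := ZMod 2) (V := Additive X)
    rw [Nat.card_zmod] at h
    exact h
  have hqodd : q % 2 = 1 := by
    rcases hq.eq_two_or_odd with h | h
    · exact absurd h hq2
    · exact h
  have hN : q - 1 < Module.finrank (ZMod 2) (Additive X) := by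
    rw [hcardV] at hcard
    exact (Nat.pow_lt_pow_iff_right (by norm_num)).mp hcard
  have hinv : ∀ (k : ℕ) (a b : Y), β ((σ ^ k) a) ((σ ^ k) b) = β a b := by
    intro k
    induction k with
    | zero => intro a b; simp
    | succ k ih =>
      intro a b
      rw [pow_succ, MulAut.mul_apply, MulAut.mul_apply, ih, hβσ]
  have hsymm : ∀ a b : Y, β a b = β b a := by
    intro a b
    have h := hβalt (a * b)
    rw [hβl, hβr, hβr, hβalt, hβalt, zero_add, add_zero] at h
    have : ∀ s t : ZMod 2, s + t = 0 → s = t := by decide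
    exact this _ _ h
  obtain ⟨v, hv0, hv⟩ := quad_common_zero (V := Additive X) ((q - 1) / 2)
    (fun j x y => β ((Additive.toMul x : X) : Y) ((σ ^ (j.val + 1)) ((Additive.toMul y : X) : Y)))
    (by
      intro j a b c
      simp only [toMul_add, Subgroup.coe_mul]
      exact hβl _ _ _)
    (by
      intro j a b c
      simp only [toMul_add, Subgroup.coe_mul, map_mul]
      exact hβr _ _ _)
    (by omega)
  refine ⟨((Additive.toMul v : X) : Y), (Additive.toMul v : X).2, ?_, ?_⟩
  · intro h
    apply hv0
    apply Additive.toMul.injective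
    rw [toMul_zero]
    exact Subtype.ext h
  · intro j
    set y : Y := ((Additive.toMul v : X) : Y) with hy
    have hmod : σ ^ j = σ ^ (j % q) := pow_eq_pow_mod j hσq
    rw [hmod]
    have hr : j % q < q := Nat.mod_lt _ hq.pos
    generalize j % q = r at hr
    rcases Nat.eq_zero_or_pos r with rfl | hr0
    · simpa using hβalt y
    · by_cases hrm : r ≤ (q - 1) / 2
      · have h1 := hv ⟨r - 1, by omega⟩
        simp only at h1
        rw [show r - 1 + 1 = r by omega] at h1
        exact h1
      · have h1 := hv ⟨q - r - 1, by omega⟩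
        simp only at h1
        rw [show q - r - 1 + 1 = q - r by omega] at h1
        rw [← hinv (q - r) y ((σ ^ r) y), ← MulAut.mul_apply, ← pow_add,
          show q - r + r = q by omega, hσq, MulAut.one_apply, hsymm]
        exact h1

end Cfsg.Agent.Lib.helper2.FrobQChevWarn
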