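import Mathlib

set_option autoImplicit false
set_option linter.unusedVariables false

namespace Cfsg.Agent.Lib.helper2

/-- In a Frobenius-type semidirect product `G = K ⋊ H` (with `H` acting fixed-point-freely on `K`),
every element of the coset `K h` (`1 ≠ h ∈ H`) is `K`-conjugate to `h`. -/
theorem frob_coset_conj {G : Type*} [Group G] [Finite G] (K H : Subgroup G) [K.Normal]
    (hfpf : ∀ h ∈ H, h ≠ 1 → ∀ k ∈ K, h * k = k * h → k = 1)
    (h : G) (hh : h ∈ H) (hh1 : h ≠ 1) (x : G) (hx : x ∈ K) :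
    ∃ c ∈ K, x * h = c * h * c⁻¹ := by
  classical
  let f : K → K := fun c => ⟨(c : G) * (h * (c : G)⁻¹ * h⁻¹),
    K.mul_mem c.2 (Subgroup.Normal.conj_mem inferInstance _ (K.inv_mem c.2) h)⟩
  have hinj : Function.Injective f := by
    intro c₁ c₂ h12
    have e : (c₁ : G) * (h * (c₁ : G)⁻¹ * h⁻¹) = (c₂ : G) * (h * (c₂ : G)⁻¹ * h⁻¹) :=
      congrArg Subtype.val h12
    have e2 : h * ((c₂ : G)⁻¹ * (c₁ : G)) = ((c₂ : G)⁻¹ * (c₁ : G)) * h := by
      have e3 : (c₁ : G) * h * (c₁ : G)⁻¹ = (c₂ : G) * h * (c₂ : G)⁻¹ := by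
        have := congrArg (fun z => z * h) e
        simpa [mul_assoc] using this
      calc h * ((c₂ : G)⁻¹ * (c₁ : G))
          = (c₂ : G)⁻¹ * ((c₂ : G) * h * (c₂ : G)⁻¹) * (c₁ : G) := by group
        _ = (c₂ : G)⁻¹ * ((c₁ : G) * h * (c₁ : G)⁻¹) * (c₁ : G) := by rw [e3]
        _ = ((c₂ : G)⁻¹ * (c₁ : G)) * h := by group
    have e4 := hfpf h hh hh1 _ (K.mul_mem (K.inv_mem c₂.2) c₁.2) e2
    apply Subtype.ext
    rw [inv_mul_eq_one] at e4
    exact e4.symm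
  have hsurj : Function.Surjective f := Finite.surjective_of_injective hinj
  obtain ⟨c, hc⟩ := hsurj ⟨x, hx⟩
  refine ⟨c, c.2, ?_⟩
  have hc' : (c : G) * (h * (c : G)⁻¹ * h⁻¹) = x := congrArg Subtype.val hc
  rw [← hc']
  group

/-- In such a group, the centralizer of a nontrivial element of `K` lies in `K`. -/
theorem frob_centralizer_le {G : Type*} [Group G] [Finite G] (K H : Subgroup G) [K.Normal]
    (hKH' : K ⊔ H = ⊤) (hfpf : ∀ h ∈ H, h ≠ 1 → ∀ k ∈ K, h * k = k * h → k = 1)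
    (n : G) (hn : n ∈ K) (hn1 : n ≠ 1) : Subgroup.centralizer ({n} : Set G) ≤ K := by
  intro y hy
  rw [Subgroup.mem_centralizer_singleton_iff] at hy
  have hy' : y ∈ K ⊔ H := hKH' ▸ Subgroup.mem_top y
  rw [Subgroup.mem_sup_of_normal_left] at hy'
  obtain ⟨x, hx, h, hh, rfl⟩ := hy'
  by_cases hh1 : h = 1
  · rw [hh1, mul_one]; exact hx
  exfalso
  obtain ⟨c, hc, hce⟩ := frob_coset_conj K H hfpf h hh hh1 x hx
  rw [hce] at hy
  have hk : c⁻¹ * n * c ∈ K := by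
    have := Subgroup.Normal.conj_mem (inferInstance : K.Normal) n hn c⁻¹
    simpa using this
  have hcomm : h * (c⁻¹ * n * c) = (c⁻¹ * n * c) * h := by
    calc h * (c⁻¹ * n * c) = c⁻¹ * ((c * h * c⁻¹) * n) * c := by group
      _ = c⁻¹ * (n * (c * h * c⁻¹)) * c := by rw [hy]
      _ = (c⁻¹ * n * c) * h := by group
  have h1 := hfpf h hh hh1 _ hk hcomm
  apply hn1
  have : n = c * (c⁻¹ * n * c) * c⁻¹ := by group
  rw [this, h1]
  group

end Cfsg.Agent.Lib.helper2
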