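import Mathlib
import Cfsg.Prelude.Def_ChevStructure
import Cfsg.Prelude.Def_ChevG2
import Cfsg.Agent.Lib.helper14.G2T.Basic
import Cfsg.Agent.Lib.helper14.G2T.Long
import Cfsg.Agent.Lib.helper8.ChevFix1
import Cfsg.Agent.Lib.helper2.G2TD9core
import Cfsg.Agent.Lib.Helper11.G2TB3
import Cfsg.Agent.Lib.Helper11.G2TD4
import Cfsg.Agent.Lib.Helper11.G2TD6
import Cfsg.Agent.Lib.Helper11.G2TD7
import Cfsg.Agent.Lib.Helper16.G2TC3
import Cfsg.Agent.Lib.Helper26.G2TD5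
import Cfsg.Agent.Lib.Helper26.G2TD8

/-!
# Project G2T (S2371), row D9: `cent_sigma` (verbatim wrapper of `g2td9_core` on the landed rows
D6 `cent_in_T`, B3 `T_form`, D4 `block_extract`, C3 `moore_shift`, D7 `mu_pow`, D8 `hh_pow`,
D5 `sigma_conj`).
-/

set_option autoImplicit false

namespace Cfsg.Agent.Lib.helper14.G2T

open Cfsg.Lie Cfsg.Lie.ChevalleyDatum Cfsg.Agent.Lib.helper8 Matrix

universe u v

section D

variable {F : Type u} [Field F] [Fintype F] {E : Type v} [Field E] [Fintype E] [Algebra F E]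

/-- D9 [M-L]. The centraliser of `σ` in `G₂(F)` is `⟨σ⟩`.  D6 and B3 give `c₀' c₁'` with
`Phi P * (g.map ι) = hh c₀' c₁' * Phi P`; D4 gives `P * (gW g).map ι = diag(μ) * P`
(`gW (g.map ι) = (gW g).map ι`); cancel `diag(d, 1, 1)` (`hP`, `hd`; diagonal matrices commute) to get the same
with `moore b q`; C3, D7: `c₀' = c₀ ^ i`, `c₁' = c₁ ^ i`; D8 and D5: the conjugate of `Ψ g` is `T₀ ^ i`, the
conjugate of `Ψ (σ ^ i)`; `h8Psi_injective`. -/
theorem cent_sigma (hq : 3 ≤ Fintype.card F) (b : Module.Basis (Fin 3) F E) (lam : E)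
    (hlam : orderOf lam = Fintype.card F ^ 2 + Fintype.card F + 1)
    (s : Matrix.SpecialLinearGroup (Fin 3) F) (P : Matrix.SpecialLinearGroup (Fin 3) E) (d : E)
    (hd : d ≠ 0)
    (hP : (P : Matrix (Fin 3) (Fin 3) E) = Matrix.diagonal ![d, 1, 1] * moore b (Fintype.card F))
    (hPs : (P : Matrix (Fin 3) (Fin 3) E) * (s : Matrix (Fin 3) (Fin 3) F).map (algebraMap F E) =
      Matrix.diagonal (lamD lam (Fintype.card F)) * (P : Matrix (Fin 3) (Fin 3) E))
    (σ : GL chevG2.Idx F)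
    (hσ : h8Psi chevG2 (algebraMap F E) σ =
      PhiGL (Matrix.SpecialLinearGroup.map (algebraMap F E) s))
    (g : GL chevG2.Idx F) (hg : g ∈ chevG2.group F) (hcomm : g * σ = σ * g) :
    ∃ i : ℕ, g = σ ^ i :=
  g2td9_core b lam hlam P d hd hP σ g
    (cent_in_T hq lam hlam s P hPs σ hσ g hg hcomm)
    (T_form (E := E)).1
    (fun M P' c0 c1 hc0 hc1 h => block_extract M P' c0 c1 hc0 hc1 h)
    (fun M μ h => moore_shift b M μ h)
    (fun c0 c1 hc0 hc1 h1 h2 => mu_pow (F := F) lam hlam c0 c1 hc0 hc1 h1 h2)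
    (fun c0 c1 hc0 hc1 i => hh_pow c0 c1 hc0 hc1 i)
    (sigma_conj lam hlam s P hPs σ hσ)

end D

end Cfsg.Agent.Lib.helper14.G2T
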