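import Mathlib
import Cfsg.Prelude.Def_Characters

set_option autoImplicit false

/-! # Gagola's embedding theorem, part 1: a Heisenberg-type extension of `L₀ ≀ᵣ C_p` -/

namespace Cfsg.Agent.Lib.helper2

open RegularWreathProduct

/-- the Heisenberg-type extension of `L₀ ≀ᵣ C_p` by `ZMod p × ZMod p` -/
@[ext] structure GgExt (L₀ : Type*) (p : ℕ) where
  /-- the wreath product component -/
  w : L₀ ≀ᵣ Multiplicative (ZMod p)
  /-- the dual component -/
  a : ZMod p
  /-- the central component -/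
  c : ZMod p

namespace GgExt

variable {L₀ : Type*} [Group L₀] {p : ℕ}

/-- projection of the wreath part onto `ZMod p` -/
def pi (w : L₀ ≀ᵣ Multiplicative (ZMod p)) : ZMod p := Multiplicative.toAdd w.right

theorem pi_mul (w w' : L₀ ≀ᵣ Multiplicative (ZMod p)) : pi (w * w') = pi w + pi w' := rfl

theorem pi_one : pi (1 : L₀ ≀ᵣ Multiplicative (ZMod p)) = 0 := rfl

theorem pi_inv (w : L₀ ≀ᵣ Multiplicative (ZMod p)) : pi w⁻¹ = - pi w := rfl

theorem pi_eq_zero (w : L₀ ≀ᵣ Multiplicative (ZMod p)) : pi w = 0 ↔ w.right = 1 := Iff.rfl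

instance : Mul (GgExt L₀ p) := ⟨fun x y => ⟨x.w * y.w, x.a + y.a, x.c + y.c + y.a * pi x.w⟩⟩

instance : One (GgExt L₀ p) := ⟨⟨1, 0, 0⟩⟩

instance : Inv (GgExt L₀ p) := ⟨fun x => ⟨x.w⁻¹, -x.a, -x.c + x.a * pi x.w⟩⟩

@[simp] theorem mul_w (x y : GgExt L₀ p) : (x * y).w = x.w * y.w := rfl
@[simp] theorem mul_a (x y : GgExt L₀ p) : (x * y).a = x.a + y.a := rfl
@[simp] theorem mul_c (x y : GgExt L₀ p) : (x * y).c = x.c + y.c + y.a * pi x.w := rfl
@[simp] theorem one_w : (1 : GgExt L₀ p).w = 1 := rfl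
@[simp] theorem one_a : (1 : GgExt L₀ p).a = 0 := rfl
@[simp] theorem one_c : (1 : GgExt L₀ p).c = 0 := rfl
@[simp] theorem inv_w (x : GgExt L₀ p) : (x⁻¹).w = x.w⁻¹ := rfl
@[simp] theorem inv_a (x : GgExt L₀ p) : (x⁻¹).a = -x.a := rfl
@[simp] theorem inv_c (x : GgExt L₀ p) : (x⁻¹).c = -x.c + x.a * pi x.w := rfl

instance : Group (GgExt L₀ p) where
  mul_assoc x y z := by
    ext1
    · simp [mul_assoc]
    · simp [add_assoc]
    · simp only [mul_c, mul_a, mul_w, pi_mul]
      ring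
  one_mul x := by
    ext1
    · simp
    · simp
    · simp [pi_one]
  mul_one x := by
    ext1
    · simp
    · simp
    · simp
  inv_mul_cancel x := by
    ext1
    · simp
    · simp
    · simp only [mul_c, inv_c, inv_w, pi_inv, one_c]
      ring

/-- the underlying set -/
def equivProd (L₀ : Type*) (p : ℕ) :
    GgExt L₀ p ≃ (L₀ ≀ᵣ Multiplicative (ZMod p)) × ZMod p × ZMod p where
  toFun x := (x.w, x.a, x.c)
  invFun y := ⟨y.1, y.2.1, y.2.2⟩
  left_inv _ := rfl
  right_inv _ := rfl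

instance [Finite L₀] [NeZero p] : Finite (GgExt L₀ p) :=
  Finite.of_equiv _ (equivProd L₀ p).symm

/-- the projection to the top group -/
def rightHom' : GgExt L₀ p →* Multiplicative (ZMod p) where
  toFun x := x.w.right
  map_one' := rfl
  map_mul' _ _ := rfl

/-- the inclusion of the wreath product -/
def inW : (L₀ ≀ᵣ Multiplicative (ZMod p)) →* GgExt L₀ p where
  toFun w := ⟨w, 0, 0⟩
  map_one' := rfl
  map_mul' x y := by
    ext1
    · rfl
    · simp
    · simp

@[simp] theorem inW_w (w : L₀ ≀ᵣ Multiplicative (ZMod p)) : (inW w : GgExt L₀ p).w = w := rfl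
@[simp] theorem inW_a (w : L₀ ≀ᵣ Multiplicative (ZMod p)) : (inW w : GgExt L₀ p).a = 0 := rfl
@[simp] theorem inW_c (w : L₀ ≀ᵣ Multiplicative (ZMod p)) : (inW w : GgExt L₀ p).c = 0 := rfl

end GgExt

end Cfsg.Agent.Lib.helper2
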