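import Mathlib
import Cfsg.Prelude.Def_Characters
import Cfsg.Agent.Lib.helper2.GG1
import Cfsg.Agent.Lib.helper2.DM3

set_option autoImplicit false

/-! # Gagola's embedding theorem, part 2: the fully ramified character of the extension -/

namespace Cfsg.Agent.Lib.helper2

open scoped ComplexConjugate
open RegularWreathProduct
open Cfsg.Agent.Lib.helper7 Cfsg.Agent.Lib.Helper25 Cfsg.Agent.Lib.Helper11

section

variable {L₀ : Type*} [Group L₀] {p : ℕ}

/-- the base group of the extension -/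
def ggBase (L₀ : Type*) [Group L₀] (p : ℕ) : Subgroup (GgExt L₀ p) :=
  (GgExt.rightHom' : GgExt L₀ p →* Multiplicative (ZMod p)).ker

theorem gg_mem_base (x : GgExt L₀ p) : x ∈ ggBase L₀ p ↔ x.w.right = 1 := MonoidHom.mem_ker

instance gg_base_normal : (ggBase L₀ p).Normal := MonoidHom.normal_ker _

theorem gg_rightHom_surjective :
    Function.Surjective (GgExt.rightHom' : GgExt L₀ p →* Multiplicative (ZMod p)) :=
  fun s => ⟨⟨inl s, 0, 0⟩, rfl⟩

theorem gg_base_index [NeZero p] : (ggBase L₀ p).index = p := by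
  unfold ggBase
  rw [Subgroup.index_ker, MonoidHom.range_eq_top.mpr gg_rightHom_surjective]
  rw [Nat.card_congr Subgroup.topEquiv.toEquiv, Nat.card_eq_fintype_card,
    Fintype.card_multiplicative]
  exact ZMod.card p

/-- the left component of a conjugate of a base element -/
theorem gg_conj_left (v w : L₀ ≀ᵣ Multiplicative (ZMod p)) (hw : w.right = 1)
    (q : Multiplicative (ZMod p)) :
    (v⁻¹ * w * v).left q =
      (v.left (v.right * q))⁻¹ * w.left (v.right * q) * v.left (v.right * q) := by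
  show (v.left (v.right * q))⁻¹ * w.left (v.right⁻¹⁻¹ * q) *
    v.left ((v.right⁻¹ * w.right)⁻¹ * q) = _
  rw [hw, mul_one, inv_inv]

theorem gg_conj_right (v w : L₀ ≀ᵣ Multiplicative (ZMod p)) (hw : w.right = 1) :
    (v⁻¹ * w * v).right = 1 := by
  show v.right⁻¹ * w.right * v.right = 1
  rw [hw, mul_one, inv_mul_cancel]

variable [Fintype L₀] [hp : Fact p.Prime]

/-- invariance of the tensor power under conjugation -/
theorem gg_tens_conj (χ₀ : L₀ → ℂ) (hcl : Cfsg.IsClassFunction L₀ χ₀)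
    (v w : L₀ ≀ᵣ Multiplicative (ZMod p)) (hw : w.right = 1) :
    ∏ q, χ₀ ((v⁻¹ * w * v).left q) = ∏ q, χ₀ (w.left q) := by
  rw [← Equiv.prod_comp (Equiv.mulLeft v.right) (fun q => χ₀ (w.left q))]
  refine Finset.prod_congr rfl fun q _ => ?_
  rw [gg_conj_left v w hw q, Equiv.coe_mulLeft]
  have := hcl (w.left (v.right * q)) (v.left (v.right * q))⁻¹
  rw [inv_inv] at this
  exact this

/-- the linear character of `C_p` given by the standard additive character -/
noncomputable def ggEps (p : ℕ) [Fact p.Prime] : Multiplicative (ZMod p) →* ℂˣ :=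
  (ZMod.stdAddChar (N := p)).toMonoidHom.toHomUnits

theorem ggEps_apply (s : Multiplicative (ZMod p)) :
    ((ggEps p s : ℂˣ) : ℂ) = ZMod.stdAddChar (N := p) (Multiplicative.toAdd s) := rfl

/-- the character of the base group -/
noncomputable def ggPsi (χ₀ : L₀ → ℂ) : ↥(ggBase L₀ p) → ℂ :=
  fun x => (∏ q, χ₀ (x.1.w.left q)) * ZMod.stdAddChar (N := p) x.1.c

/-- the left-component homomorphism on the base group -/
def ggLeftHom (L₀ : Type*) [Group L₀] (p : ℕ) :
    ↥(ggBase L₀ p) →* (Multiplicative (ZMod p) → L₀) where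
  toFun x := x.1.w.left
  map_one' := rfl
  map_mul' x y := by
    funext q
    show x.1.w.left q * y.1.w.left (x.1.w.right⁻¹ * q) = x.1.w.left q * y.1.w.left q
    rw [(gg_mem_base _).mp x.2, inv_one, one_mul]

/-- the central-component homomorphism on the base group -/
def ggCHom (L₀ : Type*) [Group L₀] (p : ℕ) :
    ↥(ggBase L₀ p) →* Multiplicative (ZMod p) where
  toFun x := Multiplicative.ofAdd x.1.c
  map_one' := rfl
  map_mul' x y := by
    show Multiplicative.ofAdd (x.1.c + y.1.c + y.1.a * GgExt.pi x.1.w) =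
      Multiplicative.ofAdd x.1.c * Multiplicative.ofAdd y.1.c
    rw [(GgExt.pi_eq_zero _).mpr ((gg_mem_base _).mp x.2), mul_zero, add_zero]
    rfl

theorem gg_psi_char (χ₀ : L₀ → ℂ) (hχ₀ : Cfsg.IsCharacter L₀ χ₀) :
    Cfsg.IsCharacter ↥(ggBase L₀ p) (ggPsi χ₀ : ↥(ggBase L₀ p) → ℂ) := by
  have h1 : Cfsg.IsCharacter ↥(ggBase L₀ p)
      (fun x => dmTens (fun _ : Multiplicative (ZMod p) => χ₀) (ggLeftHom L₀ p x)) :=
    isCharacter_comp_hom (dm_tens_char _ fun _ => hχ₀) (ggLeftHom L₀ p)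
  have h2 : Cfsg.IsCharacter ↥(ggBase L₀ p)
      (fun x => ((ggEps p (ggCHom L₀ p x) : ℂˣ) : ℂ)) :=
    isCharacter_comp_hom (h7_irr_isCharacter (linIrr (ggEps p)).2) (ggCHom L₀ p)
  exact h7_isCharacter_mul h1 h2

/-- the induced character, in explicit form -/
noncomputable def ggChi (χ₀ : L₀ → ℂ) : GgExt L₀ p → ℂ :=
  fun x => if x.w.right = 1 ∧ x.a = 0 then
    (p : ℂ) * (∏ q, χ₀ (x.w.left q)) * ZMod.stdAddChar (N := p) x.c else 0

theorem gg_conj_c (x y : GgExt L₀ p) (hx : x.w.right = 1) :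
    (y⁻¹ * x * y).c = x.c + (-x.a) * GgExt.pi y.w := by
  have h0 : GgExt.pi x.w = 0 := (GgExt.pi_eq_zero _).mpr hx
  simp only [GgExt.mul_c, GgExt.inv_c, GgExt.mul_w, GgExt.inv_w,
    GgExt.pi_mul, GgExt.pi_inv, h0]
  ring

theorem gg_sum_eps (a : ZMod p) :
    ∑ s : Multiplicative (ZMod p), ZMod.stdAddChar (N := p) (a * Multiplicative.toAdd s) =
      if a = 0 then (p : ℂ) else 0 := by
  have h1 := AddChar.sum_mulShift (R' := ℂ) a (ZMod.isPrimitive_stdAddChar p)
  rw [← Equiv.sum_comp (Multiplicative.ofAdd : ZMod p ≃ Multiplicative (ZMod p))]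
  have h2 : ∀ t : ZMod p, ZMod.stdAddChar (N := p)
      (a * Multiplicative.toAdd (Multiplicative.ofAdd t)) = ZMod.stdAddChar (N := p) (t * a) := by
    intro t
    rw [toAdd_ofAdd, mul_comm]
  simp only [h2]
  rw [h1, ZMod.card]
  split_ifs <;> simp

theorem gg_ind_eq (χ₀ : L₀ → ℂ) (hcl : Cfsg.IsClassFunction L₀ χ₀)
    [Fintype (GgExt L₀ p)] :
    Cfsg.indFun (ggBase L₀ p) (ggPsi χ₀ : ↥(ggBase L₀ p) → ℂ) = ggChi χ₀ := by
  classical
  funext x
  unfold Cfsg.indFun
  by_cases hx : x.w.right = 1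
  · have hterm : ∀ y : GgExt L₀ p,
        Cfsg.extendByZero (ggBase L₀ p) (ggPsi χ₀ : ↥(ggBase L₀ p) → ℂ) (y⁻¹ * x * y) =
        ((∏ q, χ₀ (x.w.left q)) * ZMod.stdAddChar (N := p) x.c) *
          ZMod.stdAddChar (N := p) ((-x.a) * Multiplicative.toAdd (GgExt.rightHom' y)) := by
      intro y
      have hmem : y⁻¹ * x * y ∈ ggBase L₀ p := by
        rw [gg_mem_base]
        exact gg_conj_right y.w x.w hx
      rw [h7_extendByZero_mem _ _ _ hmem]
      show (∏ q, χ₀ ((y⁻¹ * x * y).w.left q)) * ZMod.stdAddChar (N := p) (y⁻¹ * x * y).c = _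
      rw [gg_conj_c x y hx, AddChar.map_add_eq_mul, ← mul_assoc]
      congr 2
      exact gg_tens_conj χ₀ hcl y.w x.w hx
    simp only [hterm]
    rw [← Finset.mul_sum]
    have hsum := sum_comp_surjective (GgExt.rightHom' : GgExt L₀ p →* Multiplicative (ZMod p))
      gg_rightHom_surjective
      (fun s => ZMod.stdAddChar (N := p) ((-x.a) * Multiplicative.toAdd s))
    rw [gg_sum_eps] at hsum
    have hcard : (Nat.card (GgExt L₀ p) : ℂ) = (Nat.card (ggBase L₀ p) : ℂ) * p := by
      rw [← Subgroup.card_mul_index (ggBase L₀ p), gg_base_index]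
      push_cast
      rfl
    have hC : (Nat.card (Multiplicative (ZMod p)) : ℂ) = p := by
      rw [Nat.card_eq_fintype_card, Fintype.card_multiplicative]
      exact_mod_cast ZMod.card p
    have hp0 : (p : ℂ) ≠ 0 := by exact_mod_cast hp.out.ne_zero
    have hb0 : (Nat.card (ggBase L₀ p) : ℂ) ≠ 0 := by exact_mod_cast Nat.card_pos.ne'
    rw [hcard, hC] at hsum
    have hsum' : ∑ y : GgExt L₀ p, ZMod.stdAddChar (N := p)
        ((-x.a) * Multiplicative.toAdd (GgExt.rightHom' y)) =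
        (Nat.card (ggBase L₀ p) : ℂ) * (if -x.a = 0 then (p : ℂ) else 0) := by
      rw [inv_mul_eq_iff_eq_mul₀ (mul_ne_zero hb0 hp0)] at hsum
      rw [hsum, mul_assoc, ← mul_assoc (p : ℂ), mul_inv_cancel₀ hp0, one_mul]
    rw [hsum']
    unfold ggChi
    by_cases ha : x.a = 0
    · rw [if_pos (show x.w.right = 1 ∧ x.a = 0 from ⟨hx, ha⟩),
        if_pos (show -x.a = 0 by rw [ha, neg_zero])]
      field_simp
    · rw [if_neg (show ¬ (x.w.right = 1 ∧ x.a = 0) from fun h => ha h.2),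
        if_neg (show ¬ (-x.a = 0) by rwa [neg_eq_zero])]
      ring
  · have hterm : ∀ y : GgExt L₀ p,
        Cfsg.extendByZero (ggBase L₀ p) (ggPsi χ₀ : ↥(ggBase L₀ p) → ℂ) (y⁻¹ * x * y) = 0 := by
      intro y
      apply h7_extendByZero_not_mem
      intro hmem
      apply hx
      have h2 := (gg_base_normal (L₀ := L₀) (p := p)).conj_mem _ hmem y
      have h3 : y * (y⁻¹ * x * y) * y⁻¹ = x := by group
      rw [h3] at h2
      exact (gg_mem_base _).mp h2
    simp only [hterm]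
    unfold ggChi
    rw [Finset.sum_const_zero, mul_zero, if_neg (fun h => hx h.1)]

end

end Cfsg.Agent.Lib.helper2
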