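import Mathlib
import Cfsg.Prelude.Def_Characters
import Cfsg.Agent.Lib.helper2.GG2
import Cfsg.Agent.Lib.Helper25.CliffordCorr
import Cfsg.Agent.Lib.Helper11.AbelianQuot

set_option autoImplicit false

/-! # Gagola's embedding theorem, part 3: irreducibility of the induced character -/

namespace Cfsg.Agent.Lib.helper2

open scoped ComplexConjugate
open RegularWreathProduct
open Cfsg.Agent.Lib.helper7 Cfsg.Agent.Lib.Helper25 Cfsg.Agent.Lib.Helper11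

section

variable {L₀ : Type*} [Group L₀] [Fintype L₀] {p : ℕ} [hp : Fact p.Prime]

omit [Fintype L₀] hp in
theorem gg_leftHom_surjective : Function.Surjective (ggLeftHom L₀ p) :=
  fun f => ⟨⟨⟨⟨f, 1⟩, 0, 0⟩, (gg_mem_base _).mpr rfl⟩, rfl⟩

theorem gg_psi_irr (χ₀ : L₀ → ℂ) (hχ₀ : Cfsg.IsIrrCharacter L₀ χ₀) [Fintype ↥(ggBase L₀ p)] :
    Cfsg.IsIrrCharacter ↥(ggBase L₀ p) (ggPsi χ₀ : ↥(ggBase L₀ p) → ℂ) := by
  have h1 : Cfsg.IsIrrCharacter ↥(ggBase L₀ p)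
      (fun x => dmTens (fun _ : Multiplicative (ZMod p) => χ₀) (ggLeftHom L₀ p x)) :=
    bg_irr_comp_surjective (ggLeftHom L₀ p) gg_leftHom_surjective
      (dm_tens_irr _ fun _ => hχ₀)
  have h2 := isIrr_linChar_mul ((ggEps p).comp (ggCHom L₀ p)) _ h1
  have h3 : (ggPsi χ₀ : ↥(ggBase L₀ p) → ℂ) = fun g =>
      ((((ggEps p).comp (ggCHom L₀ p)) g : ℂˣ) : ℂ) *
        dmTens (fun _ : Multiplicative (ZMod p) => χ₀) (ggLeftHom L₀ p g) := by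
    funext x
    show (∏ q, χ₀ (x.1.w.left q)) * ZMod.stdAddChar (N := p) x.1.c = _
    rw [mul_comm]
    rfl
  rw [h3]
  exact h2

theorem gg_chi_irr (χ₀ : L₀ → ℂ) (hχ₀ : Cfsg.IsIrrCharacter L₀ χ₀) [Fintype (GgExt L₀ p)] :
    Cfsg.IsIrrCharacter (GgExt L₀ p) (ggChi χ₀) := by
  classical
  haveI : Fintype ↥(ggBase L₀ p) := Fintype.ofFinite _
  have hψ := gg_psi_irr (p := p) χ₀ hχ₀
  rw [← gg_ind_eq χ₀ (h7_irr_isClassFunction hχ₀)]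
  have hT : ∀ g : GgExt L₀ p, g ∈ ggBase L₀ p ↔ ∀ n n' : ↥(ggBase L₀ p),
      (n' : GgExt L₀ p) = g * n * g⁻¹ →
      (ggPsi χ₀ : ↥(ggBase L₀ p) → ℂ) n' = (ggPsi χ₀ : ↥(ggBase L₀ p) → ℂ) n := by
    intro g
    constructor
    · intro hg n n' hn'
      have h1 := h7_irr_isClassFunction hψ n ⟨g, hg⟩
      rw [← h1]
      congr 1
      exact Subtype.ext hn'
    · intro h
      have hn : (⟨1, 1, 0⟩ : GgExt L₀ p) ∈ ggBase L₀ p := (gg_mem_base _).mpr rfl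
      have h1 := h ⟨_, hn⟩ ⟨g * (⟨1, 1, 0⟩ : GgExt L₀ p) * g⁻¹,
        gg_base_normal.conj_mem _ hn g⟩ rfl
      have hw : (g * (⟨1, 1, 0⟩ : GgExt L₀ p) * g⁻¹).w = 1 := by
        show g.w * 1 * g.w⁻¹ = 1
        rw [mul_one, mul_inv_cancel]
      have hc : (g * (⟨1, 1, 0⟩ : GgExt L₀ p) * g⁻¹).c = GgExt.pi g.w := by
        simp only [GgExt.mul_c, GgExt.inv_c, GgExt.mul_w, GgExt.inv_a, GgExt.pi_mul, GgExt.pi_one]
        ring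
      have h2 : (ggPsi χ₀ : ↥(ggBase L₀ p) → ℂ) ⟨g * (⟨1, 1, 0⟩ : GgExt L₀ p) * g⁻¹,
          gg_base_normal.conj_mem _ hn g⟩ =
          (∏ _q : Multiplicative (ZMod p), χ₀ 1) * ZMod.stdAddChar (N := p) (GgExt.pi g.w) := by
        show (∏ q, χ₀ ((g * (⟨1, 1, 0⟩ : GgExt L₀ p) * g⁻¹).w.left q)) *
          ZMod.stdAddChar (N := p) (g * (⟨1, 1, 0⟩ : GgExt L₀ p) * g⁻¹).c = _
        rw [hw, hc]
        rfl
      have h3 : (ggPsi χ₀ : ↥(ggBase L₀ p) → ℂ) ⟨(⟨1, 1, 0⟩ : GgExt L₀ p), hn⟩ =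
          (∏ _q : Multiplicative (ZMod p), χ₀ 1) * ZMod.stdAddChar (N := p) 0 := rfl
      rw [h2, h3] at h1
      have hne : (∏ _q : Multiplicative (ZMod p), χ₀ 1) ≠ 0 := by
        rw [Finset.prod_const]
        exact pow_ne_zero _ (irr_one_ne_zero ⟨χ₀, hχ₀⟩)
      have h4 := ZMod.injective_stdAddChar (mul_left_cancel₀ hne h1)
      exact (gg_mem_base _).mpr ((GgExt.pi_eq_zero _).mp h4)
  have hcon : Cfsg.classInner (fun n : ↥(ggBase L₀ p) =>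
      (ggPsi χ₀ : ↥(ggBase L₀ p) → ℂ) ⟨(n : GgExt L₀ p), (le_refl (ggBase L₀ p)) n.2⟩)
      (ggPsi χ₀ : ↥(ggBase L₀ p) → ℂ) ≠ 0 := by
    have : (fun n : ↥(ggBase L₀ p) =>
      (ggPsi χ₀ : ↥(ggBase L₀ p) → ℂ) ⟨(n : GgExt L₀ p), (le_refl (ggBase L₀ p)) n.2⟩) =
      (ggPsi χ₀ : ↥(ggBase L₀ p) → ℂ) := rfl
    rw [this, h7_irr_norm hψ]
    exact one_ne_zero
  exact (cc_ind_irr (ggBase L₀ p) (ggBase L₀ p) le_rfl ⟨_, hψ⟩ hT ⟨_, hψ⟩ hcon).1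

omit [Fintype L₀] in
theorem gg_chi_one (χ₀ : L₀ → ℂ) :
    ggChi (p := p) χ₀ 1 = (p : ℂ) * χ₀ 1 ^ p := by
  unfold ggChi
  rw [if_pos ⟨rfl, rfl⟩]
  have h1 : (∏ q : Multiplicative (ZMod p), χ₀ ((1 : GgExt L₀ p).w.left q)) = χ₀ 1 ^ p := by
    have : ∀ q : Multiplicative (ZMod p), χ₀ ((1 : GgExt L₀ p).w.left q) = χ₀ 1 := fun _ => rfl
    simp only [this]
    rw [Finset.prod_const, Finset.card_univ, Fintype.card_multiplicative, ZMod.card]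
  rw [h1]
  show (p : ℂ) * χ₀ 1 ^ p * ZMod.stdAddChar (N := p) 0 = _
  rw [AddChar.map_zero_eq_one, mul_one]

end

end Cfsg.Agent.Lib.helper2
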