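import Mathlib
import Cfsg.Prelude.Def_Characters
import Cfsg.Agent.Lib.helper2.GG3

set_option autoImplicit false

/-! # Gagola's embedding theorem, part 4: the scalar subgroup of the extension -/

namespace Cfsg.Agent.Lib.helper2

open scoped ComplexConjugate
open RegularWreathProduct
open Cfsg.Agent.Lib.helper7 Cfsg.Agent.Lib.Helper25 Cfsg.Agent.Lib.Helper11

section

variable {L₀ : Type*} [Group L₀] {p : ℕ} (Z₀ : Subgroup L₀) [hZ₀ : Z₀.Normal]

/-- coordinatewise quotient map on the wreath product -/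
def ggMapW : (L₀ ≀ᵣ Multiplicative (ZMod p)) →* ((L₀ ⧸ Z₀) ≀ᵣ Multiplicative (ZMod p)) where
  toFun w := ⟨fun q => (w.left q : L₀ ⧸ Z₀), w.right⟩
  map_one' := rfl
  map_mul' x y := by
    ext q
    · rfl
    · rfl

/-- the homomorphism whose kernel is the scalar subgroup -/
def ggPhi : GgExt L₀ p →*
    ((L₀ ⧸ Z₀) ≀ᵣ Multiplicative (ZMod p)) × Multiplicative (ZMod p) where
  toFun x := (ggMapW Z₀ x.w, Multiplicative.ofAdd x.a)
  map_one' := rfl
  map_mul' x y := by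
    apply Prod.ext
    · show ggMapW Z₀ (x.w * y.w) = ggMapW Z₀ x.w * ggMapW Z₀ y.w
      rw [map_mul]
    · rfl

theorem gg_phi_surjective : Function.Surjective (ggPhi (p := p) Z₀) := by
  rintro ⟨v, s⟩
  refine ⟨⟨⟨fun q => Quotient.out (v.left q), v.right⟩, Multiplicative.toAdd s, 0⟩, ?_⟩
  apply Prod.ext
  · ext q
    · show ((Quotient.out (v.left q) : L₀) : L₀ ⧸ Z₀) = v.left q
      exact QuotientGroup.out_eq' _
    · rfl
  · rfl

/-- the scalar subgroup of the extension -/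
def ggZ (p : ℕ) : Subgroup (GgExt L₀ p) := (ggPhi (p := p) Z₀).ker

instance gg_Z_normal : (ggZ Z₀ p).Normal := MonoidHom.normal_ker _

theorem gg_mem_Z (x : GgExt L₀ p) :
    x ∈ ggZ Z₀ p ↔ (∀ q, x.w.left q ∈ Z₀) ∧ x.w.right = 1 ∧ x.a = 0 := by
  unfold ggZ
  rw [MonoidHom.mem_ker]
  constructor
  · intro h
    have h1 : ggMapW Z₀ x.w = 1 := congrArg Prod.fst h
    have h2 : Multiplicative.ofAdd x.a = 1 := congrArg Prod.snd h
    refine ⟨fun q => ?_, congrArg RegularWreathProduct.right h1, h2⟩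
    have h3 : ((x.w.left q : L₀) : L₀ ⧸ Z₀) = 1 :=
      congrFun (congrArg RegularWreathProduct.left h1) q
    exact (QuotientGroup.eq_one_iff _).mp h3
  · rintro ⟨h1, h2, h3⟩
    apply Prod.ext
    · ext q
      · exact (QuotientGroup.eq_one_iff _).mpr (h1 q)
      · exact h2
    · show Multiplicative.ofAdd x.a = 1
      rw [h3]
      rfl

theorem gg_Z_index [Finite L₀] [hp : Fact p.Prime] :
    (ggZ Z₀ p).index = Z₀.index ^ p * p * p := by
  unfold ggZ
  rw [Subgroup.index_ker, MonoidHom.range_eq_top.mpr (gg_phi_surjective Z₀),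
    Nat.card_congr Subgroup.topEquiv.toEquiv, Nat.card_prod, RegularWreathProduct.card,
    Nat.card_eq_fintype_card (α := Multiplicative (ZMod p)), Fintype.card_multiplicative,
    ZMod.card, ← Subgroup.index_eq_card]

/-- coordinate projections of the scalar subgroup -/
def ggPr (q : Multiplicative (ZMod p)) : ↥(ggZ Z₀ p) →* ↥Z₀ where
  toFun x := ⟨x.1.w.left q, ((gg_mem_Z Z₀ x.1).mp x.2).1 q⟩
  map_one' := rfl
  map_mul' x y := by
    apply Subtype.ext
    show x.1.w.left q * y.1.w.left (x.1.w.right⁻¹ * q) = x.1.w.left q * y.1.w.left q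
    rw [((gg_mem_Z Z₀ x.1).mp x.2).2.1, inv_one, one_mul]

/-- the central coordinate of the scalar subgroup -/
def ggCZ : ↥(ggZ Z₀ p) →* Multiplicative (ZMod p) where
  toFun x := Multiplicative.ofAdd x.1.c
  map_one' := rfl
  map_mul' x y := by
    show Multiplicative.ofAdd (x.1.c + y.1.c + y.1.a * GgExt.pi x.1.w) =
      Multiplicative.ofAdd x.1.c * Multiplicative.ofAdd y.1.c
    rw [((gg_mem_Z Z₀ y.1).mp y.2).2.2, zero_mul, add_zero]
    rfl

variable [hp : Fact p.Prime]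

/-- the central character of the extension -/
noncomputable def ggLam (lam₀ : ↥Z₀ →* ℂˣ) : ↥(ggZ Z₀ p) →* ℂˣ :=
  (∏ q, lam₀.comp (ggPr Z₀ q)) * (ggEps p).comp (ggCZ Z₀)

theorem ggLam_apply (lam₀ : ↥Z₀ →* ℂˣ) (x : ↥(ggZ Z₀ p)) :
    ((ggLam Z₀ lam₀ x : ℂˣ) : ℂ) =
      (∏ q, ((lam₀ (ggPr Z₀ q x) : ℂˣ) : ℂ)) * ZMod.stdAddChar (N := p) x.1.c := by
  unfold ggLam
  rw [MonoidHom.mul_apply, Units.val_mul, MonoidHom.finsetProd_apply, Units.coe_prod]
  rfl

/-- the scalar property is inherited by the extension -/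
theorem gg_scalar (lam₀ : ↥Z₀ →* ℂˣ) (χ₀ : L₀ → ℂ)
    (hsc : ∀ (z : ↥Z₀) (y : L₀), χ₀ (z * y) = ((lam₀ z : ℂˣ) : ℂ) * χ₀ y)
    (z : ↥(ggZ Z₀ p)) (x : GgExt L₀ p) :
    ggChi χ₀ ((z : GgExt L₀ p) * x) = ((ggLam Z₀ lam₀ z : ℂˣ) : ℂ) * ggChi χ₀ x := by
  obtain ⟨hz1, hz2, hz3⟩ := (gg_mem_Z Z₀ z.1).mp z.2
  have hr : ((z : GgExt L₀ p) * x).w.right = x.w.right := by
    show z.1.w.right * x.w.right = x.w.right
    rw [hz2, one_mul]
  have ha : ((z : GgExt L₀ p) * x).a = x.a := by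
    show z.1.a + x.a = x.a
    rw [hz3, zero_add]
  unfold ggChi
  by_cases h : x.w.right = 1 ∧ x.a = 0
  · rw [if_pos h, if_pos (show ((z : GgExt L₀ p) * x).w.right = 1 ∧ ((z : GgExt L₀ p) * x).a = 0
      by rw [hr, ha]; exact h)]
    have hc : ((z : GgExt L₀ p) * x).c = z.1.c + x.c := by
      show z.1.c + x.c + x.a * GgExt.pi z.1.w = z.1.c + x.c
      rw [h.2, zero_mul, add_zero]
    have hl : ∀ q, χ₀ (((z : GgExt L₀ p) * x).w.left q) =
        ((lam₀ (ggPr Z₀ q z) : ℂˣ) : ℂ) * χ₀ (x.w.left q) := by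
      intro q
      have h1 : ((z : GgExt L₀ p) * x).w.left q = z.1.w.left q * x.w.left q := by
        show z.1.w.left q * x.w.left (z.1.w.right⁻¹ * q) = _
        rw [hz2, inv_one, one_mul]
      rw [h1]
      exact hsc (ggPr Z₀ q z) (x.w.left q)
    simp only [hl]
    rw [hc, AddChar.map_add_eq_mul, Finset.prod_mul_distrib, ggLam_apply]
    ring
  · rw [if_neg h, if_neg (show ¬ (((z : GgExt L₀ p) * x).w.right = 1 ∧
      ((z : GgExt L₀ p) * x).a = 0) by rw [hr, ha]; exact h), mul_zero]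

end

end Cfsg.Agent.Lib.helper2
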