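import Mathlib
import Cfsg.Prelude.Def_Characters
import Cfsg.Agent.Lib.helper2.GG4

set_option autoImplicit false

/-! # Gagola's embedding theorem, part 5: the order of the central character -/

namespace Cfsg.Agent.Lib.helper2

open scoped ComplexConjugate
open RegularWreathProduct
open Cfsg.Agent.Lib.helper7 Cfsg.Agent.Lib.Helper25 Cfsg.Agent.Lib.Helper11

theorem gg_finite_range {A : Type*} [Group A] [Finite A] (f : A →* ℂˣ) : Finite ↥f.range :=
  Finite.of_surjective f.rangeRestrict f.rangeRestrict_surjective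

section

variable {L₀ : Type*} [Group L₀] [Finite L₀] {p : ℕ} (Z₀ : Subgroup L₀) [hZ₀ : Z₀.Normal]
  [hp : Fact p.Prime]

omit [Finite L₀] hZ₀ in
theorem ggEps_injective : Function.Injective (ggEps p) := by
  intro s t h
  have h1 : ((ggEps p s : ℂˣ) : ℂ) = ((ggEps p t : ℂˣ) : ℂ) := by rw [h]
  rw [ggEps_apply, ggEps_apply] at h1
  exact Multiplicative.toAdd.injective (ZMod.injective_stdAddChar h1)

omit [Finite L₀] hZ₀ in
theorem ggEps_range_card : Nat.card (ggEps p).range = p := by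
  have h1 : Nat.card (ggEps p).range = Nat.card (Multiplicative (ZMod p)) :=
    Nat.card_range_of_injective ggEps_injective
  rw [h1, Nat.card_eq_fintype_card, Fintype.card_multiplicative, ZMod.card]

omit [Finite L₀] in
theorem gg_lam_range_left (lam₀ : ↥Z₀ →* ℂˣ) : lam₀.range ≤ (ggLam (p := p) Z₀ lam₀).range := by
  classical
  rintro u ⟨z₀, rfl⟩
  have hmem : (⟨⟨(Pi.mulSingle 1 (z₀ : L₀) : Multiplicative (ZMod p) → L₀), 1⟩, 0, 0⟩ : GgExt L₀ p) ∈ ggZ Z₀ p := by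
    rw [gg_mem_Z]
    refine ⟨fun q => ?_, rfl, rfl⟩
    by_cases hq : q = 1
    · subst hq
      show (Pi.mulSingle 1 (z₀ : L₀) : Multiplicative (ZMod p) → L₀) 1 ∈ Z₀
      rw [Pi.mulSingle_eq_same]
      exact z₀.2
    · show (Pi.mulSingle 1 (z₀ : L₀) : Multiplicative (ZMod p) → L₀) q ∈ Z₀
      rw [Pi.mulSingle_eq_of_ne hq]
      exact Z₀.one_mem
  refine ⟨⟨_, hmem⟩, ?_⟩
  apply Units.ext
  rw [ggLam_apply]
  have hc : ZMod.stdAddChar (N := p) (⟨_, hmem⟩ : ↥(ggZ Z₀ p)).1.c = 1 :=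
    AddChar.map_zero_eq_one _
  rw [hc, mul_one, Finset.prod_eq_single (1 : Multiplicative (ZMod p))]
  · congr 2
    apply Subtype.ext
    show (Pi.mulSingle 1 (z₀ : L₀) : Multiplicative (ZMod p) → L₀) 1 = z₀
    rw [Pi.mulSingle_eq_same]
  · intro q _ hq
    have : ggPr Z₀ q (⟨_, hmem⟩ : ↥(ggZ Z₀ p)) = 1 := by
      apply Subtype.ext
      show (Pi.mulSingle 1 (z₀ : L₀) : Multiplicative (ZMod p) → L₀) q = 1
      rw [Pi.mulSingle_eq_of_ne hq]
    rw [this, map_one, Units.val_one]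
  · intro h
    exact absurd (Finset.mem_univ _) h

omit [Finite L₀] in
theorem gg_lam_range_right (lam₀ : ↥Z₀ →* ℂˣ) :
    (ggEps p).range ≤ (ggLam (p := p) Z₀ lam₀).range := by
  rintro u ⟨s, rfl⟩
  have hmem : (⟨1, 0, Multiplicative.toAdd s⟩ : GgExt L₀ p) ∈ ggZ Z₀ p := by
    rw [gg_mem_Z]
    exact ⟨fun q => Z₀.one_mem, rfl, rfl⟩
  refine ⟨⟨_, hmem⟩, ?_⟩
  apply Units.ext
  rw [ggLam_apply, ggEps_apply]
  have h1 : ∀ q, ((lam₀ (ggPr Z₀ q (⟨_, hmem⟩ : ↥(ggZ Z₀ p))) : ℂˣ) : ℂ) = 1 := by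
    intro q
    have : ggPr Z₀ q (⟨_, hmem⟩ : ↥(ggZ Z₀ p)) = 1 := Subtype.ext rfl
    rw [this, map_one, Units.val_one]
  simp only [h1]
  rw [Finset.prod_const_one, one_mul]

theorem gg_lam_pow (lam₀ : ↥Z₀ →* ℂˣ) (x : ↥(ggZ Z₀ p)) :
    (ggLam Z₀ lam₀ x) ^ (Nat.lcm (Nat.card lam₀.range) p) = 1 := by
  haveI := gg_finite_range lam₀
  unfold ggLam
  rw [MonoidHom.mul_apply, mul_pow, MonoidHom.finsetProd_apply, ← Finset.prod_pow]
  have h1 : ∀ z : ↥Z₀, (lam₀ z) ^ (Nat.lcm (Nat.card lam₀.range) p) = 1 := by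
    intro z
    obtain ⟨k, hk⟩ := Nat.dvd_lcm_left (Nat.card lam₀.range) p
    have h2 : (⟨lam₀ z, ⟨z, rfl⟩⟩ : ↥lam₀.range) ^ Nat.card lam₀.range = 1 := pow_card_eq_one'
    have h3 : (lam₀ z) ^ Nat.card lam₀.range = 1 := by
      have := congrArg Subtype.val h2
      simpa using this
    rw [hk, pow_mul, h3, one_pow]
  have h4 : (ggEps p (ggCZ Z₀ x)) ^ (Nat.lcm (Nat.card lam₀.range) p) = 1 := by
    obtain ⟨k, hk⟩ := Nat.dvd_lcm_right (Nat.card lam₀.range) p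
    have h5 : (ggCZ Z₀ x) ^ p = 1 := by
      have := pow_card_eq_one' (G := Multiplicative (ZMod p)) (x := ggCZ Z₀ x)
      rwa [Nat.card_eq_fintype_card, Fintype.card_multiplicative, ZMod.card] at this
    rw [hk, pow_mul, ← map_pow, h5, map_one, one_pow]
  rw [Finset.prod_eq_one (fun q _ => by rw [MonoidHom.comp_apply]; exact h1 _)]
  rw [one_mul, MonoidHom.comp_apply]
  exact h4

theorem gg_range_card (lam₀ : ↥Z₀ →* ℂˣ) :
    Nat.card (ggLam (p := p) Z₀ lam₀).range = Nat.lcm (Nat.card lam₀.range) p := by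
  haveI : Finite (GgExt L₀ p) := inferInstance
  haveI := gg_finite_range (ggLam (p := p) Z₀ lam₀)
  haveI : IsCyclic ↥(ggLam (p := p) Z₀ lam₀).range := isCyclic_subgroup_units _
  apply Nat.dvd_antisymm
  · rw [← IsCyclic.exponent_eq_card]
    apply Monoid.exponent_dvd_of_forall_pow_eq_one
    rintro ⟨u, x, rfl⟩
    apply Subtype.ext
    rw [Subgroup.coe_pow, Subgroup.coe_one]
    exact gg_lam_pow Z₀ lam₀ x
  · apply Nat.lcm_dvd
    · exact Subgroup.card_dvd_of_le (gg_lam_range_left Z₀ lam₀)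
    · have := Subgroup.card_dvd_of_le (gg_lam_range_right (p := p) Z₀ lam₀)
      rwa [ggEps_range_card] at this

end

/-- arithmetic of the order of the central character -/
theorem gg_lcm_facts (m₀ n p : ℕ) (hp : p.Prime) (hsq : Squarefree m₀)
    (hpr : ∀ q : ℕ, q.Prime → (q ∣ m₀ ↔ q ∣ n)) :
    Squarefree (Nat.lcm m₀ p) ∧ ∀ q : ℕ, q.Prime → (q ∣ Nat.lcm m₀ p ↔ q ∣ n * p) := by
  constructor
  · by_cases hpm : p ∣ m₀
    · rw [Nat.lcm_eq_left_iff_dvd.mpr hpm]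
      exact hsq
    · have hcop : Nat.Coprime m₀ p := (Nat.Prime.coprime_iff_not_dvd hp).mpr hpm |>.symm
      rw [hcop.lcm_eq_mul, Nat.squarefree_mul hcop]
      exact ⟨hsq, hp.prime.squarefree⟩
  · intro q hq
    rw [hq.dvd_mul, ← hpr q hq]
    constructor
    · intro h
      exact (hq.dvd_mul).mp (h.trans (Nat.lcm_dvd_mul m₀ p))
    · rintro (h | h)
      · exact h.trans (Nat.dvd_lcm_left m₀ p)
      · exact h.trans (Nat.dvd_lcm_right m₀ p)

end Cfsg.Agent.Lib.helper2
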