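import Mathlib
import Cfsg.Prelude.Def_Characters
import Cfsg.Prelude.Def_Blocks
import Cfsg.Agent.Lib.helper2.GG5
import Cfsg.Agent.Lib.helper2.DM4
import Cfsg.Agent.Lib.Helper25.CharQuot
import Cfsg.Agent.Lib.Helper25.CharAbelian
import Cfsg.Agent.Lib.helper7.CharCentral

set_option autoImplicit false

/-! # Gagola's embedding theorem, part 6: passing to the quotient by the kernel -/

namespace Cfsg.Agent.Lib.helper2

open scoped ComplexConjugate
open Cfsg.Agent.Lib.helper7 Cfsg.Agent.Lib.Helper25 Cfsg.Agent.Lib.Helper11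

universe u

/-- the inductive invariant: `G` embeds in `L ⧸ Z` where `Z` acts by scalars in the irreducible
character `χ` of `L` and `χ(1)^2 = [L : Z]` -/
def GgInv (G : Type u) [Group G] : Prop :=
  ∃ (L : Type u) (_ : Group L) (_ : Finite L) (χ : L → ℂ) (Z : Subgroup L) (_ : Z.Normal)
    (lam : ↥Z →* ℂˣ),
    Cfsg.IsIrrCharacter L χ ∧
    (∀ (z : ↥Z) (x : L), χ ((z : L) * x) = ((lam z : ℂˣ) : ℂ) * χ x) ∧
    (χ 1) ^ 2 = (Z.index : ℂ) ∧
    (∃ f : G →* L ⧸ Z, Function.Injective f) ∧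
    Squarefree (Nat.card lam.range) ∧
    (∀ q : ℕ, q.Prime → (q ∣ Nat.card lam.range ↔ q ∣ Nat.card G)) ∧
    (∀ q : ℕ, q.Prime → q ∣ Z.index → q ∣ Nat.card G)

/-- from the invariant to a group of central type -/
theorem gg_final {G : Type u} [Group G] [Finite G] (h : GgInv G) :
    ∃ (H : Type u) (_ : Group H) (_ : Finite H) (χ : Cfsg.IrrCharacter H),
      (∀ h : H, (χ : H → ℂ) h = (χ : H → ℂ) 1 → h = 1) ∧
      (Cfsg.charDegree (χ : H → ℂ)) ^ 2 = (Subgroup.center H).index ∧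
      (∃ f : G →* H ⧸ Subgroup.center H, Function.Injective f) ∧
      (∀ p : ℕ, p.Prime → ((p ∣ Nat.card H ↔ p ∣ Nat.card G) ∧
        (p ∣ Nat.card (Subgroup.center H) ↔ p ∣ Nat.card G))) ∧
      Squarefree (Nat.card (Subgroup.center H)) := by
  classical
  obtain ⟨L, iG, iF, χ, Z, hZn, lam, hχ, hsc, hdeg, ⟨f, hf⟩, hsq, hpr, hidx⟩ := h
  haveI : Fintype L := Fintype.ofFinite L
  obtain ⟨hd, hdpos⟩ := charDegree_irr ⟨χ, hχ⟩
  change ((Cfsg.charDegree χ : ℕ) : ℂ) = χ 1 at hd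
  have hdZ : Cfsg.charDegree χ ^ 2 = Z.index := by
    have : ((Cfsg.charDegree χ ^ 2 : ℕ) : ℂ) = (Z.index : ℂ) := by
      push_cast
      rw [hd, hdeg]
    exact_mod_cast this
  obtain ⟨K, hKn, n, σ, hσirr, hK, hσχ, hσfaith⟩ := quotient_setup ⟨χ, hχ⟩
  change ∀ g : L, g ∈ K ↔ χ g = χ 1 at hK
  change ∀ g : L, σ.character (g : L ⧸ K) = χ g at hσχ
  have hπs : Function.Surjective (QuotientGroup.mk' K) := QuotientGroup.mk'_surjective K
  have hχcl := h7_irr_isClassFunction hχ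
  have hχ1 : χ 1 ≠ 0 := irr_one_ne_zero ⟨χ, hχ⟩
  have hχHirr : Cfsg.IsIrrCharacter (L ⧸ K) σ.character := ⟨n, σ, hσirr, rfl⟩
  have hχH1 : σ.character (1 : L ⧸ K) = χ 1 := hσχ 1
  -- `Z` maps into the centre
  have hZc : Z ≤ (Subgroup.center (L ⧸ K)).comap (QuotientGroup.mk' K) := by
    intro z hz
    rw [Subgroup.mem_comap, Subgroup.mem_center_iff]
    intro y
    obtain ⟨x, rfl⟩ := hπs y
    show ((x * z : L) : L ⧸ K) = ((z * x : L) : L ⧸ K)
    rw [QuotientGroup.eq, hK]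
    have e1 : (x * z)⁻¹ * (z * x) = z⁻¹ * (x⁻¹ * z * x) := by group
    have h1 := hsc ⟨z⁻¹, Z.inv_mem hz⟩ (x⁻¹ * z * x)
    have h2 : χ (x⁻¹ * z * x) = χ z := by
      have := hχcl z x⁻¹
      rwa [inv_inv] at this
    have h3 := hsc ⟨z, hz⟩ 1
    rw [mul_one] at h3
    rw [e1, h1, h2, h3, ← mul_assoc, ← Units.val_mul, ← map_mul]
    have : (⟨z⁻¹, Z.inv_mem hz⟩ : ↥Z) * ⟨z, hz⟩ = 1 := Subtype.ext (inv_mul_cancel z)
    rw [this, map_one, Units.val_one, one_mul]
  obtain ⟨Zh, hZh⟩ : ∃ Zh : Subgroup L,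
      Zh = (Subgroup.center (L ⧸ K)).comap (QuotientGroup.mk' K) := ⟨_, rfl⟩
  rw [← hZh] at hZc
  -- elements of `Zh` have character values of absolute value `χ 1`
  have hnorm : ∀ x ∈ Zh, ‖χ x‖ ^ 2 = ((Cfsg.charDegree χ : ℕ) : ℝ) ^ 2 := by
    intro x hx
    rw [hZh, Subgroup.mem_comap] at hx
    obtain ⟨c, hc⟩ := h7_central_char hχHirr _ hx
    have hc' : ∀ y : L, χ (x * y) = c * χ y := by
      intro y
      have := hc (y : L ⧸ K)
      rw [QuotientGroup.mk'_apply, ← QuotientGroup.mk_mul, hσχ, hσχ] at this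
      exact this
    have h1 := hc' 1
    rw [mul_one] at h1
    have h2 := hc' x⁻¹
    have hinv : χ x⁻¹ = conj (χ x) := irr_inv ⟨χ, hχ⟩ x
    rw [mul_inv_cancel, hinv] at h2
    rw [h1, map_mul, ← hd, Complex.conj_natCast, ← mul_assoc] at h2
    have hdne : ((Cfsg.charDegree χ : ℕ) : ℂ) ≠ 0 := by exact_mod_cast hdpos.ne'
    have h3 : c * conj c = 1 := by
      have := mul_right_cancel₀ hdne (h2.symm.trans (one_mul _).symm)
      exact this
    have h4 : ‖c‖ ^ 2 = 1 := by
      have : ((‖c‖ ^ 2 : ℝ) : ℂ) = 1 := by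
        rw [← h3, Complex.mul_conj, Complex.normSq_eq_norm_sq]
      exact_mod_cast this
    rw [h1, norm_mul, mul_pow, h4, one_mul, ← hd, Complex.norm_natCast]
  -- the counting inequality
  have hineq : Nat.card Zh * Cfsg.charDegree χ ^ 2 ≤ Nat.card L := by
    haveI : Fintype Zh := Fintype.ofFinite Zh
    have hle : ∑ a : Zh, ‖χ (a : L)‖ ^ 2 ≤ ∑ g : L, ‖χ g‖ ^ 2 := by
      rw [← Finset.sum_subtype (Finset.univ.filter (· ∈ Zh)) (by simp)
        (fun g => ‖χ g‖ ^ 2)]
      apply Finset.sum_le_sum_of_subset_of_nonneg (Finset.filter_subset _ _)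
      intro g _ _
      positivity
    have h1 := irr_sum_norm_sq ⟨χ, hχ⟩
    change ∑ g : L, ‖χ g‖ ^ 2 = (Nat.card L : ℝ) at h1
    rw [h1] at hle
    have h2 : ∑ a : Zh, ‖χ (a : L)‖ ^ 2 =
        (Nat.card Zh : ℝ) * ((Cfsg.charDegree χ : ℕ) : ℝ) ^ 2 := by
      rw [Finset.sum_congr rfl (fun (a : ↥Zh) _ => hnorm (a : L) a.2), Finset.sum_const,
        Finset.card_univ, nsmul_eq_mul, Nat.card_eq_fintype_card]
    rw [h2] at hle
    exact_mod_cast hle
  -- hence `Zh = Z`
  have hidx1 : Zh.index ∣ Z.index := Subgroup.index_dvd_of_le hZc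
  have hZhidx : Zh.index = Z.index := by
    apply Nat.dvd_antisymm hidx1
    rw [← hdZ]
    have h1 := Subgroup.card_mul_index Zh
    rw [← h1] at hineq
    have h2 := Nat.le_of_mul_le_mul_left hineq Nat.card_pos
    have h3 : Zh.index ≤ Cfsg.charDegree χ ^ 2 := by
      rw [hdZ]
      exact Nat.le_of_dvd (by rw [← hdZ]; positivity) hidx1
    rw [le_antisymm h3 h2]
  have hZhZ : Zh = Z := by
    apply le_antisymm _ hZc
    rw [← Subgroup.relIndex_eq_one]
    have h1 := Subgroup.relIndex_mul_index hZc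
    rw [hZhidx] at h1
    have hpos : 0 < Z.index := by rw [← hdZ]; positivity
    have : Z.relIndex Zh * Z.index = 1 * Z.index := by rw [h1, one_mul]
    exact Nat.eq_of_mul_eq_mul_right hpos this
  have hcidx : (Subgroup.center (L ⧸ K)).index = Z.index := by
    rw [← hZhidx, hZh, Subgroup.index_comap_of_surjective _ hπs]
  -- the centre and its order
  have hcenter : Subgroup.center (L ⧸ K) = Z.map (QuotientGroup.mk' K) := by
    rw [← hZhZ, hZh, Subgroup.map_comap_eq_self_of_surjective hπs]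
  have hker : ((QuotientGroup.mk' K).comp Z.subtype).ker = lam.ker := by
    ext z
    rw [MonoidHom.mem_ker, MonoidHom.mem_ker, MonoidHom.comp_apply, QuotientGroup.mk'_apply,
      QuotientGroup.eq_one_iff, Subgroup.coe_subtype, hK]
    have h3 := hsc z 1
    rw [mul_one] at h3
    rw [h3]
    constructor
    · intro h4
      have h5 : ((lam z : ℂˣ) : ℂ) = 1 := by
        have := mul_right_cancel₀ hχ1 (h4.trans (one_mul _).symm)
        exact this
      exact Units.ext h5
    · intro h4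
      rw [h4, Units.val_one, one_mul]
  have hccard : Nat.card (Subgroup.center (L ⧸ K)) = Nat.card lam.range := by
    rw [hcenter, ← Subgroup.index_ker lam, ← hker, Subgroup.index_ker, MonoidHom.range_comp,
      Subgroup.range_subtype]
  have hHcard : Nat.card (L ⧸ K) = Nat.card lam.range * Z.index := by
    rw [← Subgroup.card_mul_index (Subgroup.center (L ⧸ K)), hccard, hcidx]
  -- the embedding
  have hle2 : Z ≤ (Subgroup.center (L ⧸ K)).comap (QuotientGroup.mk' K) := by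
    rw [← hZh]; exact hZc
  let g : L ⧸ Z →* (L ⧸ K) ⧸ Subgroup.center (L ⧸ K) :=
    QuotientGroup.map Z (Subgroup.center (L ⧸ K)) (QuotientGroup.mk' K) hle2
  have hg : Function.Injective g := by
    rw [injective_iff_map_eq_one]
    intro x hx
    obtain ⟨y, rfl⟩ := QuotientGroup.mk_surjective x
    rw [QuotientGroup.map_mk, QuotientGroup.eq_one_iff] at hx
    have : y ∈ Zh := by
      rw [hZh, Subgroup.mem_comap]
      exact hx
    rw [hZhZ] at this
    exact (QuotientGroup.eq_one_iff y).mpr this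
  refine ⟨L ⧸ K, inferInstance, inferInstance, ⟨σ.character, hχHirr⟩, hσfaith, ?_,
    ⟨g.comp f, hg.comp hf⟩, ?_, ?_⟩
  · have : Cfsg.charDegree σ.character = Cfsg.charDegree χ := by
      unfold Cfsg.charDegree
      rw [hχH1]
    show Cfsg.charDegree σ.character ^ 2 = _
    rw [this, hdZ, hcidx]
  · intro q hq
    constructor
    · rw [hHcard, hq.dvd_mul]
      constructor
      · rintro (h1 | h1)
        · exact (hpr q hq).mp h1
        · exact hidx q hq h1
      · intro h1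
        exact Or.inl ((hpr q hq).mpr h1)
    · rw [hccard]
      exact hpr q hq
  · rw [hccard]
    exact hsq

end Cfsg.Agent.Lib.helper2
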