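import Mathlib
import Cfsg.Prelude.Def_Characters
import Cfsg.Agent.Lib.helper2.GG6

set_option autoImplicit false

/-! # Gagola's embedding theorem, part 7: the induction -/

namespace Cfsg.Agent.Lib.helper2

open scoped ComplexConjugate
open Cfsg.Agent.Lib.helper7 Cfsg.Agent.Lib.Helper25 Cfsg.Agent.Lib.Helper11

universe u

theorem gg_inv_trivial (G : Type u) [Group G] [Subsingleton G] : GgInv G := by
  have hc : Nat.card (1 : ↥(⊤ : Subgroup PUnit.{u+1}) →* ℂˣ).range = 1 := by
    rw [MonoidHom.range_one]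
    exact Subgroup.card_bot
  have hG : Nat.card G = 1 := Nat.card_unique
  refine ⟨PUnit.{u+1}, inferInstance, inferInstance, fun _ => 1, ⊤, inferInstance, 1,
    bg_trivial_irr _, ?_, ?_, ⟨1, ?_⟩, ?_, ?_, ?_⟩
  · intro z x
    simp
  · simp [Subgroup.index_top]
  · intro a b _
    exact Subsingleton.elim a b
  · rw [hc]
    exact squarefree_one
  · intro q hq
    rw [hc, hG]
  · intro q hq hdvd
    rw [Subgroup.index_top] at hdvd
    exact absurd (Nat.dvd_one.mp hdvd) hq.one_lt.ne'

theorem gg_inv_step {G : Type u} [Group G] [Finite G] (N : Subgroup G) [hN : N.Normal] (p : ℕ)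
    (hp : p.Prime) (hidx : N.index = p) (h : GgInv N) : GgInv G := by
  classical
  obtain ⟨L₀, iG, iF, χ₀, Z₀, hZn, lam₀, hχ₀, hsc, hdeg, ⟨f₀, hf₀⟩, hsq, hpr, hidx₀⟩ := h
  haveI : Fact p.Prime := ⟨hp⟩
  haveI : Fintype L₀ := Fintype.ofFinite _
  haveI : Fintype (GgExt L₀ p) := Fintype.ofFinite _
  have hcardG : Nat.card G = Nat.card N * p := by rw [← hidx, Subgroup.card_mul_index]
  obtain ⟨hsq', hpr'⟩ := gg_lcm_facts (Nat.card lam₀.range) (Nat.card N) p hp hsq hpr
  have hQ : Nat.card (G ⧸ N) = p := by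
    rw [← Subgroup.index_eq_card]
    exact hidx
  have hC : Nat.card (Multiplicative (ZMod p)) = p := by
    rw [Nat.card_eq_fintype_card, Fintype.card_multiplicative, ZMod.card]
  let e : G ⧸ N ≃* Multiplicative (ZMod p) := mulEquivOfPrimeCardEq hQ hC
  let iso : GgExt L₀ p ⧸ ggZ Z₀ p ≃*
      ((L₀ ⧸ Z₀) ≀ᵣ Multiplicative (ZMod p)) × Multiplicative (ZMod p) :=
    QuotientGroup.quotientKerEquivOfSurjective (ggPhi (p := p) Z₀) (gg_phi_surjective Z₀)
  let F : G →* GgExt L₀ p ⧸ ggZ Z₀ p := iso.symm.toMonoidHom.comp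
    ((MonoidHom.inl _ _).comp
      ((RegularWreathProduct.congr (MulEquiv.refl (L₀ ⧸ Z₀)) e).toMonoidHom.comp (dmKK N f₀)))
  have hF : Function.Injective F := by
    apply iso.symm.injective.comp
    refine Function.Injective.comp (g := MonoidHom.inl _ _) (fun a b hab => ?_) ?_
    · exact congrArg Prod.fst hab
    apply (RegularWreathProduct.congr (MulEquiv.refl (L₀ ⧸ Z₀)) e).injective.comp
    exact dmKK_injective N f₀ hf₀
  refine ⟨GgExt L₀ p, inferInstance, inferInstance, ggChi χ₀, ggZ Z₀ p, inferInstance,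
    ggLam Z₀ lam₀, gg_chi_irr χ₀ hχ₀, gg_scalar Z₀ lam₀ χ₀ hsc, ?_, ⟨F, hF⟩, ?_, ?_, ?_⟩
  · rw [gg_chi_one, gg_Z_index]
    push_cast
    rw [← hdeg]
    ring
  · rw [gg_range_card]
    exact hsq'
  · intro q hq
    rw [gg_range_card, hcardG]
    exact hpr' q hq
  · intro q hq hdvd
    rw [gg_Z_index] at hdvd
    rw [hcardG]
    rcases (hq.dvd_mul).mp hdvd with h1 | h1
    · rcases (hq.dvd_mul).mp h1 with h2 | h2
      · exact Dvd.dvd.mul_right (hidx₀ q hq (hq.dvd_of_dvd_pow h2)) p
      · exact Dvd.dvd.mul_left h2 _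
    · exact Dvd.dvd.mul_left h1 _

theorem gg_main_aux (n : ℕ) : ∀ (G : Type u) [Group G] [Finite G], Group.IsSolvable G →
    Nat.card G ≤ n → GgInv G := by
  induction n with
  | zero =>
    intro G _ _ _ h
    exact absurd h (by have := Nat.card_pos (α := G); omega)
  | succ n ih =>
    intro G _ _ hsolv hcard
    by_cases htriv : Subsingleton G
    · exact gg_inv_trivial G
    · haveI : Nontrivial G := not_subsingleton_iff_nontrivial.mp htriv
      haveI := hsolv
      obtain ⟨N, hNn, hNp⟩ := dm_exists_normal_prime_index (H := G)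
      haveI := hNn
      have hlt : Nat.card N < Nat.card G := by
        have h1 := Subgroup.card_mul_index N
        have h2 := hNp.two_le
        have h3 := Nat.card_pos (α := N)
        nlinarith
      have hNs : Group.IsSolvable N := Group.isSolvable_of_isSolvable_injective N.subtype_injective
      exact gg_inv_step N N.index hNp rfl (ih N hNs (by omega))

end Cfsg.Agent.Lib.helper2
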