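import Mathlib
import Cfsg.Agent.Lib.Helper20.GLE.Defs
import Cfsg.Agent.Lib.Helper20.GLE.DefsP
import Cfsg.Agent.Lib.helper23.SPMP01

/-!
# GLE row P2: `evG_Wc` (the word `Wc` evaluates to the conjugated homomorphism `lamC`).  (helper2)
-/

set_option autoImplicit false

namespace Cfsg.Agent.Lib.Helper20.GLE

open Cfsg.Agent.Lib.helper3.STC (ng ab)
open Cfsg.Agent.Lib.helper3.SPM (Pts pe sgm sn sig2 ptsFin pe2 inN inL evG evN evL)
open Cfsg.Agent.Lib.Helper27.STU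
open Cfsg.Agent.Lib.helper17.SLP (cm)

universe u v w x v' y

section P

variable {F : Type u} [Field F] [StarRing F] {L : Type x} [Group L] {ι : Type w} [Fintype ι] [DecidableEq ι] {k : ℕ}
  (S₂ : SysU F False (Fin 2) L) (swL : L) (ζ : F)

/-- P2 [S]  model SPM P2 (dep SPM P01).  `Wc`, `map_mul`, `map_inv`, `lamC_apply`. -/
theorem evG_Wc {G : Type v} [Group G] (wN : Equiv.Perm ι → FreeGroup (Fin k)) (wL : L → FreeGroup (Fin 6))
    (s : Fin k → G) (g : Fin 6 → G) (ν : Equiv.Perm ι →* G) (lam : L →* G)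
    (hν : ∀ σ, ν σ = evN s (wN σ)) (hlam : ∀ m, lam m = evL g (wL m)) (σ : Equiv.Perm ι) (m : L) :
    evG s g (Wc wN wL σ m) = lamC ν lam σ m := by
  unfold Wc lamC
  rw [map_mul, map_mul, map_inv, Cfsg.Agent.Lib.helper3.SPM.evG_inN, Cfsg.Agent.Lib.helper3.SPM.evG_inL,
    ← hν, ← hlam]
  rfl

end P

end Cfsg.Agent.Lib.Helper20.GLE
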