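import Mathlib
import Cfsg.Prelude.Def_CaseTheorems
import Cfsg.Agent.S0249
import Cfsg.Agent.Lib.Helper10.Quasi
import Cfsg.Agent.Lib.helper17.Cores

set_option autoImplicit false

namespace Cfsg.Agent.Lib.helper2

open Matrix Cfsg

variable {F : Type*} [Field F] {m : ℕ}

/-- block embedding `A ↦ diag(A, 1)` -/
def gliEmb (A : Matrix (Fin m) (Fin m) F) : Matrix (Fin (m + 1)) (Fin (m + 1)) F :=
  Matrix.reindex finSumFinEquiv finSumFinEquiv
    (Matrix.fromBlocks A 0 0 (1 : Matrix (Fin 1) (Fin 1) F))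

theorem gliEmb_cc (A : Matrix (Fin m) (Fin m) F) (i j : Fin m) :
    gliEmb A (Fin.castSucc i) (Fin.castSucc j) = A i j := by
  simp [gliEmb, Matrix.reindex_apply]

theorem gliEmb_cl (A : Matrix (Fin m) (Fin m) F) (i : Fin m) :
    gliEmb A (Fin.castSucc i) (Fin.last m) = 0 := by
  simp [gliEmb, Matrix.reindex_apply]

theorem gliEmb_lc (A : Matrix (Fin m) (Fin m) F) (j : Fin m) :
    gliEmb A (Fin.last m) (Fin.castSucc j) = 0 := by
  simp [gliEmb, Matrix.reindex_apply]

theorem gliEmb_ll (A : Matrix (Fin m) (Fin m) F) :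
    gliEmb A (Fin.last m) (Fin.last m) = 1 := by
  simp [gliEmb, Matrix.reindex_apply]

theorem gliEmb_mul (A B : Matrix (Fin m) (Fin m) F) : gliEmb (A * B) = gliEmb A * gliEmb B := by
  unfold gliEmb
  rw [Matrix.reindex_apply, Matrix.reindex_apply, Matrix.reindex_apply, Matrix.submatrix_mul_equiv,
    Matrix.fromBlocks_multiply]
  simp

theorem gliEmb_one : gliEmb (1 : Matrix (Fin m) (Fin m) F) = 1 := by
  unfold gliEmb
  rw [Matrix.fromBlocks_one, Matrix.reindex_apply, Matrix.submatrix_one_equiv]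

theorem gliEmb_det (A : Matrix (Fin m) (Fin m) F) : (gliEmb A).det = A.det := by
  unfold gliEmb
  rw [Matrix.det_reindex_self, Matrix.det_fromBlocks_zero₂₁]
  simp

/-- sign vector of the involution -/
def gliD (F : Type*) [Field F] (m : ℕ) : Fin (m + 1) → F :=
  fun i => if i = Fin.last m then -1 else 1

theorem gliD_mul_self : Matrix.diagonal (gliD F m) * Matrix.diagonal (gliD F m) = 1 := by
  rw [Matrix.diagonal_mul_diagonal, ← Matrix.diagonal_one]
  congr 1
  funext i
  unfold gliD
  split_ifs <;> simp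

/-- the involution `diag(1, …, 1, -1)` -/
def gliT (F : Type*) [Field F] (m : ℕ) : Matrix.GeneralLinearGroup (Fin (m + 1)) F :=
  ⟨Matrix.diagonal (gliD F m), Matrix.diagonal (gliD F m), gliD_mul_self, gliD_mul_self⟩

theorem gliT_sq : gliT F m * gliT F m = 1 := by
  apply Units.ext
  exact gliD_mul_self

theorem gliT_ne_one (h2 : (2 : F) ≠ 0) : gliT F m ≠ 1 := by
  intro h
  have h1 := congrArg (fun g : Matrix.GeneralLinearGroup (Fin (m + 1)) F =>
    (g : Matrix (Fin (m + 1)) (Fin (m + 1)) F) (Fin.last m) (Fin.last m)) h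
  simp only [gliT, Units.val_one, Matrix.one_apply_eq, Matrix.diagonal_apply_eq, gliD,
    if_true] at h1
  apply h2
  linear_combination (-1 : F) * h1

theorem gliT_orderOf (h2 : (2 : F) ≠ 0) : orderOf (gliT F m) = 2 := by
  apply orderOf_eq_prime
  · rw [pow_two]; exact gliT_sq
  · exact gliT_ne_one h2

/-- block-diagonality of elements of the centralizer -/
theorem gli_cent_entry (h2 : (2 : F) ≠ 0) {g : Matrix.GeneralLinearGroup (Fin (m + 1)) F}
    (hg : g ∈ Subgroup.centralizer ({gliT F m} : Set (Matrix.GeneralLinearGroup (Fin (m + 1)) F)))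
    (i : Fin m) :
    (g : Matrix (Fin (m + 1)) (Fin (m + 1)) F) (Fin.castSucc i) (Fin.last m) = 0 ∧
    (g : Matrix (Fin (m + 1)) (Fin (m + 1)) F) (Fin.last m) (Fin.castSucc i) = 0 := by
  rw [Subgroup.mem_centralizer_iff] at hg
  have h := hg (gliT F m) rfl
  have h' := congrArg (fun g : Matrix.GeneralLinearGroup (Fin (m + 1)) F =>
    (g : Matrix (Fin (m + 1)) (Fin (m + 1)) F)) h
  simp only [Units.val_mul, gliT] at h'
  have hne : Fin.castSucc i ≠ Fin.last m := Fin.castSucc_ne_last i
  constructor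
  · have h1 := congrFun (congrFun h' (Fin.castSucc i)) (Fin.last m)
    rw [Matrix.diagonal_mul, Matrix.mul_diagonal] at h1
    simp only [gliD, if_true, if_neg hne] at h1
    have : (2 : F) * (g : Matrix (Fin (m + 1)) (Fin (m + 1)) F) (Fin.castSucc i) (Fin.last m) = 0 := by
      linear_combination h1
    rcases mul_eq_zero.1 this with h | h
    · exact absurd h h2
    · exact h
  · have h1 := congrFun (congrFun h' (Fin.last m)) (Fin.castSucc i)
    rw [Matrix.diagonal_mul, Matrix.mul_diagonal] at h1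
    simp only [gliD, if_true, if_neg hne] at h1
    have : (2 : F) * (g : Matrix (Fin (m + 1)) (Fin (m + 1)) F) (Fin.last m) (Fin.castSucc i) = 0 := by
      linear_combination (-1 : F) * h1
    rcases mul_eq_zero.1 this with h | h
    · exact absurd h h2
    · exact h


/-- the centralizer of the involution -/
abbrev gliC (F : Type*) [Field F] (m : ℕ) : Subgroup (Matrix.GeneralLinearGroup (Fin (m + 1)) F) :=
  Subgroup.centralizer ({gliT F m} : Set (Matrix.GeneralLinearGroup (Fin (m + 1)) F))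

/-- the corner entry as a homomorphism on the centralizer -/
def gliChi (h2 : (2 : F) ≠ 0) : gliC F m →* F where
  toFun x := (x.1 : Matrix (Fin (m + 1)) (Fin (m + 1)) F) (Fin.last m) (Fin.last m)
  map_one' := by simp
  map_mul' x y := by
    show ((x.1 * y.1 : Matrix.GeneralLinearGroup (Fin (m + 1)) F) :
      Matrix (Fin (m + 1)) (Fin (m + 1)) F) (Fin.last m) (Fin.last m) = _
    rw [Units.val_mul, Matrix.mul_apply, Fin.sum_univ_castSucc]
    have : ∀ i : Fin m, (x.1 : Matrix (Fin (m + 1)) (Fin (m + 1)) F) (Fin.last m) (Fin.castSucc i) *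
        (y.1 : Matrix (Fin (m + 1)) (Fin (m + 1)) F) (Fin.castSucc i) (Fin.last m) = 0 := by
      intro i
      rw [(gli_cent_entry h2 x.2 i).2, zero_mul]
    rw [Finset.sum_congr rfl (fun i _ => this i), Finset.sum_const_zero, zero_add]

/-- the embedding as a monoid hom of matrices -/
def gliEmbHom (F : Type*) [Field F] (m : ℕ) :
    Matrix (Fin m) (Fin m) F →* Matrix (Fin (m + 1)) (Fin (m + 1)) F where
  toFun := gliEmb
  map_one' := gliEmb_one
  map_mul' := gliEmb_mul

theorem gliEmb_comm (A : Matrix (Fin m) (Fin m) F) :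
    Matrix.diagonal (gliD F m) * gliEmb A = gliEmb A * Matrix.diagonal (gliD F m) := by
  ext i j
  rw [Matrix.diagonal_mul, Matrix.mul_diagonal]
  refine Fin.lastCases ?_ (fun i' => ?_) i <;> refine Fin.lastCases ?_ (fun j' => ?_) j
  · rw [mul_comm]
  · rw [gliEmb_lc]; simp
  · rw [gliEmb_cl]; simp
  · simp [gliD, Fin.castSucc_ne_last]

/-- the embedding of `SL` into the centralizer -/
def gliPhi (F : Type*) [Field F] (m : ℕ) :
    Matrix.SpecialLinearGroup (Fin m) F →* gliC F m :=
  ((Units.map (gliEmbHom F m)).comp Matrix.SpecialLinearGroup.toGL).codRestrict (gliC F m) (by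
    intro A
    rw [Subgroup.mem_centralizer_iff]
    intro h hh
    rw [Set.mem_singleton_iff] at hh
    subst hh
    apply Units.ext
    exact gliEmb_comm _)

theorem gliPhi_coe (A : Matrix.SpecialLinearGroup (Fin m) F) :
    ((gliPhi F m A).1 : Matrix (Fin (m + 1)) (Fin (m + 1)) F) =
      gliEmb (A : Matrix (Fin m) (Fin m) F) := rfl

theorem gliPhi_injective : Function.Injective (gliPhi F m) := by
  intro A B h
  have h1 := congrArg (fun x : gliC F m => (x.1 : Matrix (Fin (m + 1)) (Fin (m + 1)) F)) h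
  simp only [gliPhi_coe] at h1
  apply Subtype.ext
  ext i j
  have := congrFun (congrFun h1 (Fin.castSucc i)) (Fin.castSucc j)
  rwa [gliEmb_cc, gliEmb_cc] at this

/-- the normal subgroup `SL × 1` of the centralizer -/
def gliL (h2 : (2 : F) ≠ 0) : Subgroup (gliC F m) :=
  (gliChi h2).toHomUnits.ker ⊓
    (Matrix.GeneralLinearGroup.det.comp (gliC F m).subtype).ker

instance gliL_normal (h2 : (2 : F) ≠ 0) : (gliL (m := m) h2).Normal := by
  unfold gliL
  infer_instance

theorem gliPhi_range (h2 : (2 : F) ≠ 0) : (gliPhi F m).range = gliL h2 := by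
  ext x
  rw [gliL, Subgroup.mem_inf, MonoidHom.mem_ker, MonoidHom.mem_ker]
  constructor
  · rintro ⟨A, rfl⟩
    refine ⟨?_, ?_⟩
    · apply Units.ext
      rw [MonoidHom.coe_toHomUnits]
      show ((gliPhi F m A).1 : Matrix (Fin (m + 1)) (Fin (m + 1)) F) (Fin.last m) (Fin.last m) = 1
      rw [gliPhi_coe, gliEmb_ll]
    · apply Units.ext
      show ((gliPhi F m A).1 : Matrix (Fin (m + 1)) (Fin (m + 1)) F).det = 1
      rw [gliPhi_coe, gliEmb_det]
      exact A.2
  · rintro ⟨hx1, hx2⟩
    have e1 : (x.1 : Matrix (Fin (m + 1)) (Fin (m + 1)) F) (Fin.last m) (Fin.last m) = 1 := by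
      have := congrArg Units.val hx1
      rwa [MonoidHom.coe_toHomUnits] at this
    have e2 : (x.1 : Matrix (Fin (m + 1)) (Fin (m + 1)) F).det = 1 := by
      have := congrArg Units.val hx2
      exact this
    set A : Matrix (Fin m) (Fin m) F :=
      (x.1 : Matrix (Fin (m + 1)) (Fin (m + 1)) F).submatrix Fin.castSucc Fin.castSucc with hA
    have e3 : (x.1 : Matrix (Fin (m + 1)) (Fin (m + 1)) F) = gliEmb A := by
      ext i j
      refine Fin.lastCases ?_ (fun i' => ?_) i <;> refine Fin.lastCases ?_ (fun j' => ?_) j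
      · rw [gliEmb_ll, e1]
      · rw [gliEmb_lc, (gli_cent_entry h2 x.2 j').2]
      · rw [gliEmb_cl, (gli_cent_entry h2 x.2 i').1]
      · rw [gliEmb_cc]; rfl
    have e4 : A.det = 1 := by rw [← gliEmb_det, ← e3, e2]
    refine ⟨(⟨A, e4⟩ : Matrix.SpecialLinearGroup (Fin m) F), ?_⟩
    apply Subtype.ext
    apply Units.ext
    exact e3.symm

/-- an involution in `SL(m+2)` -/
def gliInv (F : Type*) [Field F] (m : ℕ) : Matrix.SpecialLinearGroup (Fin (m + 2)) F :=
  ⟨Matrix.diagonal (Fin.cons (-1) (Fin.cons (-1) (fun _ => 1))), by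
    rw [Matrix.det_diagonal, Fin.prod_univ_succ, Fin.prod_univ_succ]
    simp⟩

theorem gliInv_sq : gliInv F m * gliInv F m = 1 := by
  apply Subtype.ext
  show Matrix.diagonal _ * Matrix.diagonal _ = 1
  rw [Matrix.diagonal_mul_diagonal, ← Matrix.diagonal_one]
  congr 1
  funext i
  refine Fin.cases ?_ (fun i' => ?_) i
  · simp
  · refine Fin.cases ?_ (fun i'' => ?_) i'
    · simp
    · simp

theorem gliInv_ne_one (h2 : (2 : F) ≠ 0) : gliInv F m ≠ 1 := by
  intro h
  have h1 := congrArg (fun g : Matrix.SpecialLinearGroup (Fin (m + 2)) F =>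
    (g : Matrix (Fin (m + 2)) (Fin (m + 2)) F) 0 0) h
  simp only [gliInv, Matrix.SpecialLinearGroup.coe_one, Matrix.one_apply_eq,
    Matrix.diagonal_apply_eq, Fin.cons_zero] at h1
  apply h2
  linear_combination (-1 : F) * h1

theorem gli_two_dvd_card_SL [Finite F] (h2 : (2 : F) ≠ 0) :
    2 ∣ Nat.card (Matrix.SpecialLinearGroup (Fin (m + 2)) F) := by
  have h : orderOf (gliInv F m) = 2 := by
    apply orderOf_eq_prime
    · rw [pow_two]; exact gliInv_sq
    · exact gliInv_ne_one h2
  have h3 := orderOf_dvd_natCard (gliInv F m)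
  rwa [h] at h3

theorem gli_SL_quasisimple_ge3 (hm : 3 ≤ m) :
    IsQuasisimple (Matrix.SpecialLinearGroup (Fin m) F) := by
  refine ⟨⟨Cfsg.Agent.Lib.Lead.SL_commutator_eq_top (by simpa using hm)⟩, ?_⟩
  exact Cfsg.Agent.S0249.result m hm

theorem gli_SL_quasisimple_two [Finite F] (hF : 4 ≤ Nat.card F) :
    IsQuasisimple (Matrix.SpecialLinearGroup (Fin 2) F) := by
  have hex : ∃ a : F, a ≠ 0 ∧ a ^ 2 ≠ 1 := by
    obtain ⟨x, hx⟩ : IsCyclic Fˣ := by infer_instance
    refine ⟨x, Units.ne_zero x, fun h ↦ ?_⟩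
    have h1 : orderOf x ≤ 2 :=
      orderOf_le_of_pow_eq_one zero_lt_two (Units.ext <| by simpa using h)
    rw [orderOf_eq_card_of_forall_mem_zpowers hx] at h1
    have h2 := Nat.card_eq_card_units_add_one F
    omega
  obtain ⟨a, ha, hasq⟩ := hex
  refine ⟨⟨Matrix.SL2.commutator_eq_top ha hasq⟩, ?_⟩
  exact Matrix.ProjectiveSpecialLinearGroup.rank_two_simple hF

/-- abstract assembly: a normal quasisimple subgroup of even order survives in `C/O(C)` -/
theorem gli_hasComponent_of_normal {C : Type*} [Group C] [Finite C] (L : Subgroup C) [L.Normal]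
    (hq : IsQuasisimple L) (heven : 2 ∣ Nat.card L) :
    HasComponent (C ⧸ oddCore C) := by
  set ψ : L →* C ⧸ oddCore C := (QuotientGroup.mk' (oddCore C)).comp L.subtype with hψ
  have hne : ψ.ker ≠ ⊤ := by
    intro htop
    have hle : L ≤ oddCore C := by
      intro x hx
      have : (⟨x, hx⟩ : L) ∈ ψ.ker := by rw [htop]; trivial
      rw [MonoidHom.mem_ker] at this
      have h1 : (QuotientGroup.mk' (oddCore C)) x = 1 := this
      rwa [QuotientGroup.mk'_apply, QuotientGroup.eq_one_iff] at h1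
    have hdvd : Nat.card L ∣ Nat.card (oddCore C) := Subgroup.card_dvd_of_le hle
    have hcop : (Nat.card (oddCore C)).Coprime 2 := Cfsg.Agent.Lib.helper17.pPrimeCore_coprime 2
    have : 2 ∣ Nat.card (oddCore C) := heven.trans hdvd
    have h1 : (2 : ℕ) ∣ 1 := by
      have := Nat.dvd_gcd this (dvd_refl 2)
      rwa [hcop] at this
    omega
  have hq2 : IsQuasisimple (L ⧸ ψ.ker) := Cfsg.Agent.Lib.Helper10.isQuasisimple_quotient hq ψ.ker hne
  have hq3 : IsQuasisimple ψ.range :=
    Cfsg.Agent.Lib.Helper9.isQuasisimple_of_mulEquiv (QuotientGroup.quotientKerEquivRange ψ) hq2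
  refine ⟨ψ.range, ?_, hq3⟩
  have hr : ψ.range = L.map (QuotientGroup.mk' (oddCore C)) := by
    rw [hψ, MonoidHom.range_comp, Subgroup.range_subtype]
  rw [hr]
  exact (Subgroup.Normal.map inferInstance _ (QuotientGroup.mk'_surjective _)).isSubnormal

end Cfsg.Agent.Lib.helper2
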