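import Mathlib
import Cfsg.Prelude.Def_Characters
import Cfsg.Agent.Lib.helper2.BergerG1
import Cfsg.Agent.Lib.helper7.Clifford
import Cfsg.Agent.Lib.helper7.Induction
import Cfsg.Agent.S0854
import Cfsg.Agent.S1489

set_option autoImplicit false

namespace Cfsg.Agent.Lib.helper2

open scoped ComplexConjugate
open Cfsg.Agent.Lib.helper7 Cfsg.Agent.Lib.Helper25

/-- inner products over `H.subgroupOf T` and over `H` agree -/
theorem gn_inner_subgroupOf {G : Type*} [Group G] (H T : Subgroup G) [Fintype H]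
    [Fintype (H.subgroupOf T)] (hHT : H ≤ T) (ψ : T → ℂ) (ϑ : H → ℂ) :
    Cfsg.classInner (fun n : H.subgroupOf T => ψ (n : T))
      (fun x : H.subgroupOf T => ϑ ⟨((x : T) : G), Subgroup.mem_subgroupOf.mp x.2⟩) =
    Cfsg.classInner (fun n : H => ψ ⟨(n : G), hHT n.2⟩) ϑ := by
  have h := classInner_comp_surjective (Subgroup.subgroupOfEquivOfLe hHT).toMonoidHom
    (Subgroup.subgroupOfEquivOfLe hHT).surjective (fun n : H => ψ ⟨(n : G), hHT n.2⟩) ϑ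
  rw [← h]
  rfl

/-- Clifford correspondence, restriction form, going down -/
theorem gn_cliff_down {G : Type*} [Group G] [Fintype G] (H T : Subgroup G) [hN : H.Normal]
    [Fintype H] [Fintype T] (ϑ : H → ℂ) (hϑ : Cfsg.IsIrrCharacter H ϑ)
    (hT : ∀ g : G, g ∈ T ↔ ∀ n : H, ϑ ⟨g * n * g⁻¹, hN.conj_mem (n : G) n.2 g⟩ = ϑ n)
    (hHT : H ≤ T) (χ : G → ℂ) (hχ : Cfsg.IsIrrCharacter G χ)
    (hcon : Cfsg.classInner (fun n : H => χ n) ϑ ≠ 0) :
    ∃ ψ : T → ℂ, Cfsg.IsIrrCharacter T ψ ∧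
      Cfsg.classInner (fun n : H => ψ ⟨(n : G), hHT n.2⟩) ϑ ≠ 0 ∧
      Cfsg.classInner (fun t : T => χ t) ψ = 1 ∧ χ 1 = (T.index : ℂ) * ψ 1 ∧
      ∀ ψ' : T → ℂ, Cfsg.IsIrrCharacter T ψ' →
        Cfsg.classInner (fun n : H => ψ' ⟨(n : G), hHT n.2⟩) ϑ ≠ 0 → ψ' ≠ ψ →
        Cfsg.classInner (fun t : T => χ t) ψ' = 0 := by
  classical
  obtain ⟨ψ, hψ, hind, hinner⟩ := Cfsg.Agent.S0854.result H ϑ hϑ T hT hHT χ hχ hcon
  have hχcl := h7_irr_isClassFunction hχ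
  have hfrob : ∀ ψ' : T → ℂ, Cfsg.classInner (fun t : T => χ t) ψ' =
      conj (Cfsg.classInner (Cfsg.indFun T ψ') χ) := by
    intro ψ'
    rw [h7_frobenius_irr T χ hχcl ψ', Complex.conj_conj]
  haveI : Fintype (H.subgroupOf T) := Fintype.ofFinite _
  have hc : ∀ ψ' : T → ℂ, Cfsg.IsIrrCharacter T ψ' →
      Cfsg.classInner (fun n : H => ψ' ⟨(n : G), hHT n.2⟩) ϑ ≠ 0 →
      Cfsg.classInner (Cfsg.indFun (H.subgroupOf T)
        (fun x => ϑ ⟨(x : T), Subgroup.mem_subgroupOf.mp x.2⟩)) ψ' ≠ 0 := by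
    intro ψ' hψ' h
    rw [h7_frobenius_irr (H.subgroupOf T) ψ' (h7_irr_isClassFunction hψ'),
      gn_inner_subgroupOf H T hHT ψ' ϑ]
    intro h0
    apply h
    have := congrArg conj h0
    rw [Complex.conj_conj, map_zero] at this
    exact this
  have hψover : Cfsg.classInner (fun n : H => ψ ⟨(n : G), hHT n.2⟩) ϑ ≠ 0 := by
    rw [hinner]
    exact hcon
  refine ⟨ψ, hψ, hψover, ?_, ?_, ?_⟩
  · rw [hfrob, hind, h7_irr_norm hχ, map_one]
  · rw [← hind, h7_indFun_one]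
  · intro ψ' hψ' hover hne
    obtain ⟨hirr', hinj⟩ := Cfsg.Agent.S1489.result H T ϑ hϑ hT hHT ψ' ψ hψ' hψ
      (hc ψ' hψ' hover) (hc ψ hψ hψover)
    rw [hfrob]
    have hne2 : Cfsg.indFun T ψ' ≠ χ := by
      intro h
      rw [← hind] at h
      exact hne (hinj h)
    rw [h7_irr_inner_ne hirr' hχ hne2, map_zero]

/-- Clifford correspondence, restriction form, going up -/
theorem gn_cliff_up {G : Type*} [Group G] [Fintype G] (H T : Subgroup G) [hN : H.Normal]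
    [Fintype H] [Fintype T] (ϑ : H → ℂ) (hϑ : Cfsg.IsIrrCharacter H ϑ)
    (hT : ∀ g : G, g ∈ T ↔ ∀ n : H, ϑ ⟨g * n * g⁻¹, hN.conj_mem (n : G) n.2 g⟩ = ϑ n)
    (hHT : H ≤ T) (ψ : T → ℂ) (hψ : Cfsg.IsIrrCharacter T ψ)
    (hover : Cfsg.classInner (fun n : H => ψ ⟨(n : G), hHT n.2⟩) ϑ ≠ 0) :
    ∃ χ : G → ℂ, Cfsg.IsIrrCharacter G χ ∧
      Cfsg.classInner (fun t : T => χ t) ψ = 1 ∧ χ 1 = (T.index : ℂ) * ψ 1 ∧
      ∀ χ' : G → ℂ, Cfsg.IsIrrCharacter G χ' → χ' ≠ χ →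
        Cfsg.classInner (fun t : T => χ' t) ψ = 0 := by
  classical
  haveI : Fintype (H.subgroupOf T) := Fintype.ofFinite _
  have hc : Cfsg.classInner (Cfsg.indFun (H.subgroupOf T)
        (fun x => ϑ ⟨(x : T), Subgroup.mem_subgroupOf.mp x.2⟩)) ψ ≠ 0 := by
    rw [h7_frobenius_irr (H.subgroupOf T) ψ (h7_irr_isClassFunction hψ),
      gn_inner_subgroupOf H T hHT ψ ϑ]
    intro h0
    apply hover
    have := congrArg conj h0
    rw [Complex.conj_conj, map_zero] at this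
    exact this
  obtain ⟨hirr, -⟩ := Cfsg.Agent.S1489.result H T ϑ hϑ hT hHT ψ ψ hψ hψ hc hc
  have hfrob : ∀ χ' : G → ℂ, Cfsg.IsIrrCharacter G χ' →
      Cfsg.classInner (fun t : T => χ' t) ψ = conj (Cfsg.classInner (Cfsg.indFun T ψ) χ') := by
    intro χ' hχ'
    rw [h7_frobenius_irr T χ' (h7_irr_isClassFunction hχ') ψ, Complex.conj_conj]
  refine ⟨Cfsg.indFun T ψ, hirr, ?_, h7_indFun_one T ψ, ?_⟩
  · rw [hfrob _ hirr, h7_irr_norm hirr, map_one]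
  · intro χ' hχ' hne
    rw [hfrob χ' hχ', h7_irr_inner_ne hirr hχ' (Ne.symm hne), map_zero]

end Cfsg.Agent.Lib.helper2
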