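import Mathlib
import Cfsg.Prelude.Def_Characters
import Cfsg.Agent.Lib.helper2.GN1

set_option autoImplicit false

namespace Cfsg.Agent.Lib.helper2

open scoped ComplexConjugate
open Cfsg.Agent.Lib.helper7 Cfsg.Agent.Lib.Helper25

section ambient

variable {Γ : Type*} [Group Γ] [Finite Γ]

/-- transport of irreducibility along the identification `X.subgroupOf H ≃ X` -/
theorem gn_irr_to_sub (X H : Subgroup Γ) (hXH : X ≤ H) {φ : X → ℂ}
    (hφ : Cfsg.IsIrrCharacter X φ) :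
    Cfsg.IsIrrCharacter (X.subgroupOf H)
      (fun x : X.subgroupOf H => φ ⟨((x : H) : Γ), Subgroup.mem_subgroupOf.mp x.2⟩) := by
  classical
  haveI : Fintype X := Fintype.ofFinite _
  haveI : Fintype (X.subgroupOf H) := Fintype.ofFinite _
  exact bg_irr_comp_surjective (Subgroup.subgroupOfEquivOfLe hXH).toMonoidHom
    (Subgroup.subgroupOfEquivOfLe hXH).surjective hφ

theorem gn_irr_of_sub (X H : Subgroup Γ) (hXH : X ≤ H) {φ : X.subgroupOf H → ℂ}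
    (hφ : Cfsg.IsIrrCharacter (X.subgroupOf H) φ) :
    Cfsg.IsIrrCharacter X
      (fun x : X => φ ⟨⟨(x : Γ), hXH x.2⟩, Subgroup.mem_subgroupOf.mpr x.2⟩) := by
  classical
  haveI : Fintype X := Fintype.ofFinite _
  haveI : Fintype (X.subgroupOf H) := Fintype.ofFinite _
  exact bg_irr_comp_surjective (Subgroup.subgroupOfEquivOfLe hXH).symm.toMonoidHom
    (Subgroup.subgroupOfEquivOfLe hXH).symm.surjective hφ

/-- transport of inner products -/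
theorem gn_inner_to_sub (X H : Subgroup Γ) (hXH : X ≤ H) [Fintype X] [Fintype (X.subgroupOf H)]
    (a b : X → ℂ) :
    Cfsg.classInner
      (fun x : X.subgroupOf H => a ⟨((x : H) : Γ), Subgroup.mem_subgroupOf.mp x.2⟩)
      (fun x : X.subgroupOf H => b ⟨((x : H) : Γ), Subgroup.mem_subgroupOf.mp x.2⟩) =
    Cfsg.classInner a b :=
  classInner_comp_surjective (Subgroup.subgroupOfEquivOfLe hXH).toMonoidHom
    (Subgroup.subgroupOfEquivOfLe hXH).surjective a b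

/-- the stabilizer condition -/
def gnStab (H T Q : Subgroup Γ) (θ : Q → ℂ) : Prop :=
  ∀ h ∈ H, (h ∈ T ↔ ∀ n n' : Q, (n' : Γ) = h * n * h⁻¹ → θ n' = θ n)

omit [Finite Γ] in
theorem gn_normal_sub (H Q : Subgroup Γ) (hQH : ∀ h ∈ H, ∀ q ∈ Q, h * q * h⁻¹ ∈ Q) :
    (Q.subgroupOf H).Normal := by
  constructor
  intro n hn g
  rw [Subgroup.mem_subgroupOf] at hn ⊢
  exact hQH g g.2 n hn

omit [Finite Γ] in
theorem gn_stab_sub (H T Q : Subgroup Γ) (hQH' : Q ≤ H) (θ : Q → ℂ)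
    (hT : gnStab H T Q θ) [hN : (Q.subgroupOf H).Normal] (g : H) :
    g ∈ T.subgroupOf H ↔ ∀ n : Q.subgroupOf H,
      (fun x : Q.subgroupOf H => θ ⟨((x : H) : Γ), Subgroup.mem_subgroupOf.mp x.2⟩)
        ⟨g * n * g⁻¹, hN.conj_mem (n : H) n.2 g⟩ =
      (fun x : Q.subgroupOf H => θ ⟨((x : H) : Γ), Subgroup.mem_subgroupOf.mp x.2⟩) n := by
  rw [Subgroup.mem_subgroupOf, hT g g.2]
  constructor
  · intro h n
    exact h ⟨((n : H) : Γ), Subgroup.mem_subgroupOf.mp n.2⟩ _ rfl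
  · intro h n n' hnn'
    have h1 := h ⟨⟨(n : Γ), hQH' n.2⟩, Subgroup.mem_subgroupOf.mpr n.2⟩
    simp only at h1
    rw [← h1]
    congr 1
    exact Subtype.ext hnn'

/-- ambient Clifford correspondence, going down -/
theorem gn_acliff_down (H T Q : Subgroup Γ) [Fintype H] [Fintype T] [Fintype Q] (hQT : Q ≤ T)
    (hTH : T ≤ H) (hQH : ∀ h ∈ H, ∀ q ∈ Q, h * q * h⁻¹ ∈ Q) (θ : Q → ℂ)
    (hθ : Cfsg.IsIrrCharacter Q θ) (hT : gnStab H T Q θ) (χ : H → ℂ)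
    (hχ : Cfsg.IsIrrCharacter H χ)
    (hcon : Cfsg.classInner (fun n : Q => χ ⟨n, hTH (hQT n.2)⟩) θ ≠ 0) :
    ∃ ψ : T → ℂ, Cfsg.IsIrrCharacter T ψ ∧
      Cfsg.classInner (fun n : Q => ψ ⟨n, hQT n.2⟩) θ ≠ 0 ∧
      Cfsg.classInner (fun t : T => χ ⟨t, hTH t.2⟩) ψ = 1 ∧
      χ 1 = (T.relIndex H : ℂ) * ψ 1 ∧
      ∀ ψ' : T → ℂ, Cfsg.IsIrrCharacter T ψ' →
        Cfsg.classInner (fun n : Q => ψ' ⟨n, hQT n.2⟩) θ ≠ 0 → ψ' ≠ ψ →
        Cfsg.classInner (fun t : T => χ ⟨t, hTH t.2⟩) ψ' = 0 := by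
  classical
  have hQH' : Q ≤ H := hQT.trans hTH
  haveI hN : (Q.subgroupOf H).Normal := gn_normal_sub H Q hQH
  haveI : Fintype (Q.subgroupOf H) := Fintype.ofFinite _
  haveI : Fintype (T.subgroupOf H) := Fintype.ofFinite _
  have hHT₀ : Q.subgroupOf H ≤ T.subgroupOf H := by
    intro x hx
    rw [Subgroup.mem_subgroupOf] at hx ⊢
    exact hQT hx
  have hcon₀ : Cfsg.classInner (fun n : Q.subgroupOf H => χ n)
      (fun x : Q.subgroupOf H => θ ⟨((x : H) : Γ), Subgroup.mem_subgroupOf.mp x.2⟩) ≠ 0 := by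
    rw [gn_inner_subgroupOf Q H hQH' χ θ]
    exact hcon
  obtain ⟨ψ₀, hψ₀, hover₀, hone₀, hdeg₀, huniq₀⟩ := gn_cliff_down (Q.subgroupOf H)
    (T.subgroupOf H) _ (gn_irr_to_sub Q H hQH' hθ) (gn_stab_sub H T Q hQH' θ hT) hHT₀ χ hχ hcon₀
  -- key transport identities
  have tr_over : ∀ φ₀ : T.subgroupOf H → ℂ,
      Cfsg.classInner (fun n : Q.subgroupOf H => φ₀ ⟨(n : H), hHT₀ n.2⟩)
        (fun x : Q.subgroupOf H => θ ⟨((x : H) : Γ), Subgroup.mem_subgroupOf.mp x.2⟩) =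
      Cfsg.classInner (fun n : Q =>
        (fun x : T => φ₀ ⟨⟨(x : Γ), hTH x.2⟩, Subgroup.mem_subgroupOf.mpr x.2⟩) ⟨n, hQT n.2⟩) θ := by
    intro φ₀
    rw [← gn_inner_to_sub Q H hQH']
  have tr_inner : ∀ φ₀ : T.subgroupOf H → ℂ,
      Cfsg.classInner (fun t : T.subgroupOf H => χ t) φ₀ =
      Cfsg.classInner (fun t : T => χ ⟨t, hTH t.2⟩)
        (fun x : T => φ₀ ⟨⟨(x : Γ), hTH x.2⟩, Subgroup.mem_subgroupOf.mpr x.2⟩) := by
    intro φ₀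
    rw [← gn_inner_to_sub T H hTH]
  refine ⟨fun x : T => ψ₀ ⟨⟨(x : Γ), hTH x.2⟩, Subgroup.mem_subgroupOf.mpr x.2⟩,
    gn_irr_of_sub T H hTH hψ₀, ?_, ?_, ?_, ?_⟩
  · rw [← tr_over]
    exact hover₀
  · rw [← tr_inner]
    exact hone₀
  · rw [hdeg₀]
    rfl
  · intro ψ' hψ' hover' hne
    have h0 := tr_over
      (fun x : T.subgroupOf H => ψ' ⟨((x : H) : Γ), Subgroup.mem_subgroupOf.mp x.2⟩)
    have h1 := huniq₀ _ (gn_irr_to_sub T H hTH hψ') (by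
      intro hz
      exact hover' (h0.symm.trans hz)) (by
      intro h
      apply hne
      funext x
      exact congrFun h ⟨⟨(x : Γ), hTH x.2⟩, Subgroup.mem_subgroupOf.mpr x.2⟩)
    rw [tr_inner] at h1
    exact h1

/-- ambient Clifford correspondence, going up -/
theorem gn_acliff_up (H T Q : Subgroup Γ) [Fintype H] [Fintype T] [Fintype Q] (hQT : Q ≤ T)
    (hTH : T ≤ H) (hQH : ∀ h ∈ H, ∀ q ∈ Q, h * q * h⁻¹ ∈ Q) (θ : Q → ℂ)
    (hθ : Cfsg.IsIrrCharacter Q θ) (hT : gnStab H T Q θ) (ψ : T → ℂ)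
    (hψ : Cfsg.IsIrrCharacter T ψ)
    (hover : Cfsg.classInner (fun n : Q => ψ ⟨n, hQT n.2⟩) θ ≠ 0) :
    ∃ χ : H → ℂ, Cfsg.IsIrrCharacter H χ ∧
      Cfsg.classInner (fun t : T => χ ⟨t, hTH t.2⟩) ψ = 1 ∧
      χ 1 = (T.relIndex H : ℂ) * ψ 1 ∧
      ∀ χ' : H → ℂ, Cfsg.IsIrrCharacter H χ' → χ' ≠ χ →
        Cfsg.classInner (fun t : T => χ' ⟨t, hTH t.2⟩) ψ = 0 := by
  classical
  have hQH' : Q ≤ H := hQT.trans hTH
  haveI hN : (Q.subgroupOf H).Normal := gn_normal_sub H Q hQH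
  haveI : Fintype (Q.subgroupOf H) := Fintype.ofFinite _
  haveI : Fintype (T.subgroupOf H) := Fintype.ofFinite _
  have hHT₀ : Q.subgroupOf H ≤ T.subgroupOf H := by
    intro x hx
    rw [Subgroup.mem_subgroupOf] at hx ⊢
    exact hQT hx
  have hover₀ : Cfsg.classInner (fun n : Q.subgroupOf H =>
      (fun x : T.subgroupOf H => ψ ⟨((x : H) : Γ), Subgroup.mem_subgroupOf.mp x.2⟩)
        ⟨(n : H), hHT₀ n.2⟩)
      (fun x : Q.subgroupOf H => θ ⟨((x : H) : Γ), Subgroup.mem_subgroupOf.mp x.2⟩) ≠ 0 := by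
    have h0 := gn_inner_to_sub Q H hQH' (fun n : Q => ψ ⟨n, hQT n.2⟩) θ
    intro hz
    exact hover (h0.symm.trans hz)
  obtain ⟨χ, hχ, hone₀, hdeg₀, huniq₀⟩ := gn_cliff_up (Q.subgroupOf H)
    (T.subgroupOf H) _ (gn_irr_to_sub Q H hQH' hθ) (gn_stab_sub H T Q hQH' θ hT) hHT₀ _
    (gn_irr_to_sub T H hTH hψ) hover₀
  have tr_inner : ∀ χ' : H → ℂ,
      Cfsg.classInner (fun t : T.subgroupOf H => χ' t)
        (fun x : T.subgroupOf H => ψ ⟨((x : H) : Γ), Subgroup.mem_subgroupOf.mp x.2⟩) =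
      Cfsg.classInner (fun t : T => χ' ⟨t, hTH t.2⟩) ψ := by
    intro χ'
    rw [← gn_inner_to_sub T H hTH]
  refine ⟨χ, hχ, ?_, ?_, ?_⟩
  · rw [← tr_inner]
    exact hone₀
  · rw [hdeg₀]
    rfl
  · intro χ' hχ' hne
    rw [← tr_inner]
    exact huniq₀ χ' hχ' hne

end ambient

end Cfsg.Agent.Lib.helper2
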