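import Mathlib
import Cfsg.Prelude.Def_Characters

set_option autoImplicit false

namespace Cfsg.Agent.Lib.helper2

section quot

variable {Γ : Type*} [Group Γ] (Q : Subgroup Γ)

/-- the ambient quotient `N(Q)/Q` -/
abbrev gnQuot : Type _ :=
  ↥(Subgroup.normalizer (Q : Set Γ)) ⧸ Q.subgroupOf (Subgroup.normalizer (Q : Set Γ))

/-- image of a subgroup in `N(Q)/Q` -/
def gnIm (X : Subgroup Γ) : Subgroup (gnQuot Q) :=
  (X.subgroupOf (Subgroup.normalizer (Q : Set Γ))).map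
    (QuotientGroup.mk' (Q.subgroupOf (Subgroup.normalizer (Q : Set Γ))))

theorem gn_mem_im (X : Subgroup Γ) (y : gnQuot Q) :
    y ∈ gnIm Q X ↔ ∃ x : Γ, ∃ hx : x ∈ Subgroup.normalizer (Q : Set Γ), x ∈ X ∧
      (QuotientGroup.mk (⟨x, hx⟩ : Subgroup.normalizer (Q : Set Γ)) : gnQuot Q) = y := by
  unfold gnIm
  rw [Subgroup.mem_map]
  constructor
  · rintro ⟨x, hx, rfl⟩
    exact ⟨x.1, x.2, Subgroup.mem_subgroupOf.mp hx, rfl⟩
  · rintro ⟨x, hx, hxX, rfl⟩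
    exact ⟨⟨x, hx⟩, Subgroup.mem_subgroupOf.mpr hxX, rfl⟩

/-- the map from a subgroup of the normalizer onto its image -/
def gnS (X : Subgroup Γ) (hX : X ≤ Subgroup.normalizer (Q : Set Γ)) : X →* gnIm Q X where
  toFun x := ⟨QuotientGroup.mk (⟨(x : Γ), hX x.2⟩ : Subgroup.normalizer (Q : Set Γ)),
    (gn_mem_im Q X _).mpr ⟨x, hX x.2, x.2, rfl⟩⟩
  map_one' := rfl
  map_mul' _ _ := rfl

theorem gnS_coe (X : Subgroup Γ) (hX : X ≤ Subgroup.normalizer (Q : Set Γ)) (x : X) :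
    ((gnS Q X hX x : gnIm Q X) : gnQuot Q) =
      QuotientGroup.mk (⟨(x : Γ), hX x.2⟩ : Subgroup.normalizer (Q : Set Γ)) := rfl

theorem gnS_surjective (X : Subgroup Γ) (hX : X ≤ Subgroup.normalizer (Q : Set Γ)) :
    Function.Surjective (gnS Q X hX) := by
  rintro ⟨y, hy⟩
  obtain ⟨x, hx, hxX, rfl⟩ := (gn_mem_im Q X y).mp hy
  exact ⟨⟨x, hxX⟩, rfl⟩

theorem gnS_eq_one (X : Subgroup Γ) (hX : X ≤ Subgroup.normalizer (Q : Set Γ)) (x : X) :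
    gnS Q X hX x = 1 ↔ (x : Γ) ∈ Q := by
  rw [Subtype.ext_iff, gnS_coe, Subgroup.coe_one, QuotientGroup.eq_one_iff,
    Subgroup.mem_subgroupOf]

theorem gn_mk_eq_iff (x y : Subgroup.normalizer (Q : Set Γ)) :
    (QuotientGroup.mk x : gnQuot Q) = QuotientGroup.mk y ↔ (x : Γ)⁻¹ * (y : Γ) ∈ Q := by
  rw [QuotientGroup.eq, Subgroup.mem_subgroupOf]
  rfl

end quot

section glaubhyp

variable {Γ : Type*} [Group Γ] [Finite Γ] (Q : Subgroup Γ) (p : ℕ) [hp : Fact p.Prime]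
variable (P T T₂ : Subgroup Γ)
variable (hPn : P ≤ Subgroup.normalizer (Q : Set Γ)) (hTn : T ≤ Subgroup.normalizer (Q : Set Γ))

omit [Finite Γ] in
include hPn hTn in
theorem gn_im_norm (hPT : ∀ x ∈ P, ∀ t ∈ T, x * t * x⁻¹ ∈ T) :
    ∀ s ∈ gnIm Q P, ∀ g ∈ gnIm Q T, s * g * s⁻¹ ∈ gnIm Q T := by
  intro s hs g hg
  obtain ⟨x, hx, hxP, rfl⟩ := (gn_mem_im Q P s).mp hs
  obtain ⟨t, ht, htT, rfl⟩ := (gn_mem_im Q T g).mp hg
  rw [gn_mem_im]
  exact ⟨x * t * x⁻¹, hTn (hPT x hxP t htT), hPT x hxP t htT, rfl⟩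

omit [Finite Γ] in
theorem gn_im_pgroup (hP : IsPGroup p P) : IsPGroup p (gnIm Q P) := by
  unfold gnIm
  exact (hP.comap_subtype).map _

include hTn in
theorem gn_im_card : Nat.card (gnIm Q T) = Q.relIndex T := by
  unfold gnIm
  rw [← Subgroup.relIndex_ker, QuotientGroup.ker_mk', Subgroup.relIndex_subgroupOf hTn]

include hTn in
theorem gn_im_coprime (hP : IsPGroup p P) (hidx : ¬ p ∣ Q.relIndex T) :
    (Nat.card (gnIm Q T)).Coprime (Nat.card (gnIm Q P)) := by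
  obtain ⟨k, hk⟩ := IsPGroup.iff_card.mp (gn_im_pgroup Q p P hP)
  rw [hk, gn_im_card Q T hTn]
  exact Nat.Coprime.pow_right k ((Nat.Prime.coprime_iff_not_dvd hp.out).mpr hidx).symm

omit [Finite Γ] in
include hPn hTn in
theorem gn_im_fixed
    (hT₂ : ∀ t : Γ, t ∈ T₂ ↔ t ∈ T ∧ ∀ x ∈ P, x * t * x⁻¹ * t⁻¹ ∈ Q) :
    gnIm Q T₂ = gnIm Q T ⊓ Subgroup.centralizer (gnIm Q P : Set (gnQuot Q)) := by
  ext y
  rw [Subgroup.mem_inf, Subgroup.mem_centralizer_iff]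
  constructor
  · intro hy
    obtain ⟨t, ht, htT₂, rfl⟩ := (gn_mem_im Q T₂ y).mp hy
    obtain ⟨htT, hcomm⟩ := (hT₂ t).mp htT₂
    refine ⟨(gn_mem_im Q T _).mpr ⟨t, ht, htT, rfl⟩, ?_⟩
    intro z hz
    obtain ⟨x, hx, hxP, rfl⟩ := (gn_mem_im Q P z).mp hz
    show (QuotientGroup.mk (⟨x, hx⟩ * ⟨t, ht⟩ : Subgroup.normalizer (Q : Set Γ)) : gnQuot Q) =
      QuotientGroup.mk (⟨t, ht⟩ * ⟨x, hx⟩ : Subgroup.normalizer (Q : Set Γ))
    rw [gn_mk_eq_iff]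
    show (x * t)⁻¹ * (t * x) ∈ Q
    have h1 := hcomm x⁻¹ (P.inv_mem hxP)
    have h2 := (Subgroup.mem_normalizer_iff.mp
      ((Subgroup.normalizer (Q : Set Γ)).inv_mem ht) _).mp h1
    have e : t⁻¹ * (x⁻¹ * t * x⁻¹⁻¹ * t⁻¹) * t⁻¹⁻¹ = (x * t)⁻¹ * (t * x) := by group
    rw [e] at h2
    exact h2
  · rintro ⟨hyT, hcomm⟩
    obtain ⟨t, ht, htT, rfl⟩ := (gn_mem_im Q T y).mp hyT
    refine (gn_mem_im Q T₂ _).mpr ⟨t, ht, (hT₂ t).mpr ⟨htT, ?_⟩, rfl⟩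
    intro x hxP
    have hx' : x⁻¹ ∈ Subgroup.normalizer (Q : Set Γ) := hPn (P.inv_mem hxP)
    have h1 := hcomm (QuotientGroup.mk (⟨x⁻¹, hx'⟩ : Subgroup.normalizer (Q : Set Γ)))
      ((gn_mem_im Q P _).mpr ⟨x⁻¹, hx', P.inv_mem hxP, rfl⟩)
    have h2 : (QuotientGroup.mk (⟨x⁻¹, hx'⟩ * ⟨t, ht⟩ : Subgroup.normalizer (Q : Set Γ)) :
        gnQuot Q) = QuotientGroup.mk (⟨t, ht⟩ * ⟨x⁻¹, hx'⟩ : Subgroup.normalizer (Q : Set Γ)) := h1
    rw [gn_mk_eq_iff] at h2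
    have h3 : (x⁻¹ * t)⁻¹ * (t * x⁻¹) ∈ Q := h2
    have h4 := (Subgroup.mem_normalizer_iff.mp ht _).mp h3
    have e : t * ((x⁻¹ * t)⁻¹ * (t * x⁻¹)) * t⁻¹ = x * t * x⁻¹ * t⁻¹ := by group
    rw [e] at h4
    exact h4

end glaubhyp

section fixedpoints

variable {Y : Type*} [Group Y] [Finite Y] (p : ℕ) [hp : Fact p.Prime]

/-- fixed-point congruence for a `p`-group acting by conjugation on an invariant subset -/
theorem gn_fp_card (P' : Subgroup Y) (hP : IsPGroup p P') (A : Set Y)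
    (hA : ∀ x ∈ P', ∀ a ∈ A, x * a * x⁻¹ ∈ A) :
    Nat.card A ≡ Nat.card {a : Y | a ∈ A ∧ ∀ x ∈ P', x * a * x⁻¹ = a} [MOD p] := by
  classical
  letI act : MulAction P' A :=
    { smul := fun x a => ⟨(x : Y) * a * (x : Y)⁻¹, hA x x.2 a a.2⟩
      one_smul := by
        intro a
        apply Subtype.ext
        show ((1 : P') : Y) * a * ((1 : P') : Y)⁻¹ = a
        simp
      mul_smul := by
        intro x y a
        apply Subtype.ext
        show ((x * y : P') : Y) * a * ((x * y : P') : Y)⁻¹ =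
          (x : Y) * ((y : Y) * a * (y : Y)⁻¹) * (x : Y)⁻¹
        rw [Subgroup.coe_mul]
        group }
  have h1 := hP.card_modEq_card_fixedPoints A
  have h2 : Nat.card (MulAction.fixedPoints P' A) =
      Nat.card {a : Y | a ∈ A ∧ ∀ x ∈ P', x * a * x⁻¹ = a} := by
    apply Nat.card_congr
    refine
      { toFun := fun a => ⟨(a : A), (a : A).2, fun x hx => ?_⟩
        invFun := fun a => ⟨⟨(a : Y), a.2.1⟩, fun x => ?_⟩
        left_inv := fun a => rfl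
        right_inv := fun a => rfl }
    · have := a.2 ⟨x, hx⟩
      exact congrArg Subtype.val this
    · apply Subtype.ext
      exact a.2.2 x x.2
  rw [← h2]
  exact h1

/-- existence of a fixed point -/
theorem gn_fp_exists (P' : Subgroup Y) (hP : IsPGroup p P') (A : Set Y)
    (hA : ∀ x ∈ P', ∀ a ∈ A, x * a * x⁻¹ ∈ A) (hcard : ¬ p ∣ Nat.card A) :
    ∃ a ∈ A, ∀ x ∈ P', x * a * x⁻¹ = a := by
  have h := gn_fp_card p P' hP A hA
  by_contra hcon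
  push Not at hcon
  have hempty : IsEmpty {a : Y | a ∈ A ∧ ∀ x ∈ P', x * a * x⁻¹ = a} := by
    constructor
    rintro ⟨a, ha, hfix⟩
    obtain ⟨x, hx, hne⟩ := hcon a ha
    exact hne (hfix x hx)
  have h0 : Nat.card {a : Y | a ∈ A ∧ ∀ x ∈ P', x * a * x⁻¹ = a} = 0 := Nat.card_of_isEmpty
  rw [h0] at h
  exact hcard (Nat.modEq_zero_iff_dvd.mp h)

end fixedpoints

end Cfsg.Agent.Lib.helper2
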