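import Mathlib
import Cfsg.Prelude.Def_Characters
import Cfsg.Agent.Lib.helper2.GN5
import Cfsg.Agent.Lib.helper2.GN2
import Cfsg.Agent.Lib.helper2.RelGlauberman
import Cfsg.Agent.Lib.helper2.GlaubP2

set_option autoImplicit false

namespace Cfsg.Agent.Lib.helper2

section prelim

variable {Γ : Type*} [Group Γ] [Finite Γ] (p : ℕ) [hp : Fact p.Prime] (P K Q C : Subgroup Γ)

omit [Finite Γ] in
/-- a normal Sylow subgroup is stable under every element normalising the big group -/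
theorem gn_sylow_conj (hPK : P ≤ Subgroup.normalizer (K : Set Γ)) (hQK : Q ≤ K)
    (hQn : ∀ k ∈ K, ∀ q ∈ Q, k * q * k⁻¹ ∈ Q) (hQp : ∃ a : ℕ, Nat.card Q = p ^ a)
    (hQsyl : ¬ p ∣ Q.relIndex K) : ∀ x ∈ P, ∀ q ∈ Q, x * q * x⁻¹ ∈ Q := by
  intro x hx q hq
  obtain ⟨a, ha⟩ := hQp
  have hyK : x * q * x⁻¹ ∈ K := (Subgroup.mem_normalizer_iff.mp (hPK hx) q).mp (hQK hq)
  haveI : (Q.subgroupOf K).Normal := gn_normal_sub K Q hQn
  have h1 : (⟨x * q * x⁻¹, hyK⟩ : K) ^ (Q.relIndex K) ∈ Q.subgroupOf K :=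
    Subgroup.pow_index_mem _ _
  have h2 : (x * q * x⁻¹) ^ (Q.relIndex K) ∈ Q := by
    rw [Subgroup.mem_subgroupOf] at h1
    simpa using h1
  have h3 : (x * q * x⁻¹) ^ (p ^ a) = 1 := by
    rw [conj_pow]
    have h4 : q ^ (p ^ a) = 1 := by
      have h5 := pow_card_eq_one' (G := Q) (x := ⟨q, hq⟩)
      rw [ha] at h5
      have h6 := congrArg Subtype.val h5
      simpa using h6
    rw [h4]
    group
  have hcop : Nat.Coprime (Q.relIndex K) (orderOf (x * q * x⁻¹)) := by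
    have hdvd : orderOf (x * q * x⁻¹) ∣ p ^ a := orderOf_dvd_of_pow_eq_one h3
    exact Nat.Coprime.coprime_dvd_right hdvd
      (Nat.Coprime.pow_right a ((Nat.Prime.coprime_iff_not_dvd hp.out).mpr hQsyl).symm)
  obtain ⟨m, hm⟩ := exists_pow_eq_self_of_coprime hcop
  rw [← hm]
  exact Q.pow_mem h2 m

end prelim

section stabT

variable {Γ : Type*} [Group Γ]

/-- the stabilizer of `θ` in `H` -/
def gnT (H Q : Subgroup Γ) (θ : Q → ℂ) : Subgroup Γ := H ⊓ rgStabN Q θ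

theorem gnT_le (H Q : Subgroup Γ) (θ : Q → ℂ) : gnT H Q θ ≤ H := inf_le_left

theorem gn_mem_stabN (Q : Subgroup Γ) (θ : Q → ℂ) (h : Γ)
    (hh : h ∈ Subgroup.normalizer (Q : Set Γ)) :
    h ∈ rgStabN Q θ ↔ ∀ n n' : Q, (n' : Γ) = h * n * h⁻¹ → θ n' = θ n := by
  constructor
  · rintro ⟨h1, h2⟩ n n' hn
    rw [← h2 n]
    congr 1
    exact Subtype.ext hn
  · intro h2
    exact ⟨hh, fun n => h2 n _ rfl⟩

theorem gnT_stab (H Q : Subgroup Γ) (θ : Q → ℂ) (hHn : H ≤ Subgroup.normalizer (Q : Set Γ)) :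
    gnStab H (gnT H Q θ) Q θ := by
  intro h hh
  unfold gnT
  rw [Subgroup.mem_inf, gn_mem_stabN Q θ h (hHn hh)]
  exact ⟨fun h1 => h1.2, fun h1 => ⟨hh, h1⟩⟩

theorem gnT_Q_le (H Q : Subgroup Γ) (θ : Q → ℂ) (hQH : Q ≤ H)
    (hθ : Cfsg.IsClassFunction Q θ) : Q ≤ gnT H Q θ := by
  intro q hq
  unfold gnT
  rw [Subgroup.mem_inf]
  refine ⟨hQH hq, ?_⟩
  rw [gn_mem_stabN Q θ q (Subgroup.le_normalizer hq)]
  intro n n' hn
  have := hθ n ⟨q, hq⟩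
  rw [← this]
  congr 1
  exact Subtype.ext hn

theorem gnT_conj (H Q : Subgroup Γ) (θ : Q → ℂ) (x : Γ)
    (hxH : x ∈ Subgroup.normalizer (H : Set Γ)) (hxQ : x ∈ Subgroup.normalizer (Q : Set Γ))
    (hinv : ∀ n n' : Q, (n' : Γ) = x * n * x⁻¹ → θ n' = θ n) :
    ∀ t ∈ gnT H Q θ, x * t * x⁻¹ ∈ gnT H Q θ := by
  intro t ht
  unfold gnT at ht ⊢
  rw [Subgroup.mem_inf] at ht ⊢
  refine ⟨(Subgroup.mem_normalizer_iff.mp hxH t).mp ht.1, ?_⟩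
  have hx : x ∈ rgStabN Q θ := (gn_mem_stabN Q θ x hxQ).mpr hinv
  exact Subgroup.mul_mem _ (Subgroup.mul_mem _ hx ht.2) (Subgroup.inv_mem _ hx)

theorem gnT_fix (P K Q C : Subgroup Γ) (θ : Q → ℂ)
    (hC : ∀ k : Γ, k ∈ C ↔ (k ∈ K ∧ ∀ x ∈ P, x * k * x⁻¹ * k⁻¹ ∈ Q)) :
    ∀ t : Γ, t ∈ gnT C Q θ ↔ t ∈ gnT K Q θ ∧ ∀ x ∈ P, x * t * x⁻¹ * t⁻¹ ∈ Q := by
  intro t
  unfold gnT
  rw [Subgroup.mem_inf, Subgroup.mem_inf, hC t]
  tauto

theorem gnT_mono (K Q C : Subgroup Γ) (θ : Q → ℂ) (hCK : C ≤ K) : gnT C Q θ ≤ gnT K Q θ :=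
  inf_le_inf_right _ hCK

end stabT



section idx

variable {Γ : Type*} [Group Γ] [Finite Γ] (p : ℕ) [hp : Fact p.Prime] (P Q : Subgroup Γ)

theorem gn_card_congr (T T₂ : Subgroup Γ) (hP : IsPGroup p P)
    (hPn : P ≤ Subgroup.normalizer (Q : Set Γ)) (hTn : T ≤ Subgroup.normalizer (Q : Set Γ))
    (hPT : ∀ x ∈ P, ∀ t ∈ T, x * t * x⁻¹ ∈ T)
    (hT₂ : ∀ t : Γ, t ∈ T₂ ↔ t ∈ T ∧ ∀ x ∈ P, x * t * x⁻¹ * t⁻¹ ∈ Q) :
    Q.relIndex T ≡ Q.relIndex T₂ [MOD p] := by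
  have hT₂T : T₂ ≤ T := fun t ht => ((hT₂ t).mp ht).1
  have h1 := gn_fp_card p (gnIm Q P) (gn_im_pgroup Q p P hP) (gnIm Q T : Set (gnQuot Q))
    (gn_im_norm Q P T hPn hTn hPT)
  have h2 : {a : gnQuot Q | a ∈ (gnIm Q T : Set (gnQuot Q)) ∧ ∀ x ∈ gnIm Q P, x * a * x⁻¹ = a} =
      (gnIm Q T₂ : Set (gnQuot Q)) := by
    rw [gn_im_fixed Q P T T₂ hPn hTn hT₂]
    ext a
    simp only [Set.mem_ofPred_eq, SetLike.mem_coe, Subgroup.mem_inf, Subgroup.mem_centralizer_iff]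
    constructor
    · rintro ⟨h3, h4⟩
      refine ⟨h3, fun z hz => ?_⟩
      have := h4 z hz
      rw [mul_inv_eq_iff_eq_mul] at this
      exact this
    · rintro ⟨h3, h4⟩
      refine ⟨h3, fun z hz => ?_⟩
      rw [mul_inv_eq_iff_eq_mul]
      exact h4 z hz
  rw [h2] at h1
  have h3 : Nat.card (gnIm Q T : Set (gnQuot Q)) = Q.relIndex T := gn_im_card Q T hTn
  have h4 : Nat.card (gnIm Q T₂ : Set (gnQuot Q)) = Q.relIndex T₂ :=
    gn_im_card Q T₂ (hT₂T.trans hTn)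
  rw [h3, h4] at h1
  exact h1

theorem gn_index_congr (K C T T₂ : Subgroup Γ) (hP : IsPGroup p P)
    (hPn : P ≤ Subgroup.normalizer (Q : Set Γ)) (hKn : K ≤ Subgroup.normalizer (Q : Set Γ))
    (hPK : ∀ x ∈ P, ∀ t ∈ K, x * t * x⁻¹ ∈ K)
    (hPT : ∀ x ∈ P, ∀ t ∈ T, x * t * x⁻¹ ∈ T)
    (hC : ∀ t : Γ, t ∈ C ↔ t ∈ K ∧ ∀ x ∈ P, x * t * x⁻¹ * t⁻¹ ∈ Q)
    (hT₂ : ∀ t : Γ, t ∈ T₂ ↔ t ∈ T ∧ ∀ x ∈ P, x * t * x⁻¹ * t⁻¹ ∈ Q)
    (hQT₂ : Q ≤ T₂) (hTK : T ≤ K) (hT₂C : T₂ ≤ C)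
    (hQsyl : ¬ p ∣ Q.relIndex K) :
    (T.relIndex K : ZMod p) = (T₂.relIndex C : ZMod p) := by
  have hT₂T : T₂ ≤ T := fun t ht => ((hT₂ t).mp ht).1
  have h1 := gn_card_congr p P Q K C hP hPn hKn hPK hC
  have h2 := gn_card_congr p P Q T T₂ hP hPn (hTK.trans hKn) hPT hT₂
  have e1 : Q.relIndex T * T.relIndex K = Q.relIndex K :=
    Subgroup.relIndex_mul_relIndex Q T K (hQT₂.trans hT₂T) hTK
  have e2 : Q.relIndex T₂ * T₂.relIndex C = Q.relIndex C :=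
    Subgroup.relIndex_mul_relIndex Q T₂ C hQT₂ hT₂C
  have h1' : ((Q.relIndex K : ℕ) : ZMod p) = ((Q.relIndex C : ℕ) : ZMod p) :=
    (ZMod.natCast_eq_natCast_iff _ _ _).mpr h1
  have h2' : ((Q.relIndex T : ℕ) : ZMod p) = ((Q.relIndex T₂ : ℕ) : ZMod p) :=
    (ZMod.natCast_eq_natCast_iff _ _ _).mpr h2
  rw [← e1, ← e2, Nat.cast_mul, Nat.cast_mul, ← h2'] at h1'
  have hne : ((Q.relIndex T : ℕ) : ZMod p) ≠ 0 := by
    intro h0
    rw [ZMod.natCast_eq_zero_iff] at h0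
    apply hQsyl
    rw [← e1]
    exact Dvd.dvd.mul_right h0 _
  exact mul_left_cancel₀ hne h1'

end idx



section trans

variable {Γ : Type*} [Group Γ] [Finite Γ] (p : ℕ) [hp : Fact p.Prime] (P Q : Subgroup Γ)

/-- two `P`-invariant characters of `Q` conjugate under `K` are conjugate under `C` -/
theorem gn_trans (K C T : Subgroup Γ) (θ θ' : Q → ℂ) (hP : IsPGroup p P)
    (hPn : P ≤ Subgroup.normalizer (Q : Set Γ)) (hKn : K ≤ Subgroup.normalizer (Q : Set Γ))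
    (hPK : ∀ x ∈ P, ∀ t ∈ K, x * t * x⁻¹ ∈ K)
    (hC : ∀ t : Γ, t ∈ C ↔ t ∈ K ∧ ∀ x ∈ P, x * t * x⁻¹ * t⁻¹ ∈ Q)
    (hT : gnStab K T Q θ) (hTK : T ≤ K) (hidx : ¬ p ∣ Q.relIndex T)
    (hθ : gpInv Q P θ) (hθ' : gpInv Q P θ')
    (k : Γ) (hk : k ∈ K) (hconj : ∀ n n' : Q, (n' : Γ) = k * n * k⁻¹ → θ' n = θ n') :
    ∃ c ∈ C, ∀ n n' : Q, (n' : Γ) = c * n * c⁻¹ → θ' n = θ n' := by
  classical
  have hTn : T ≤ Subgroup.normalizer (Q : Set Γ) := hTK.trans hKn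
  -- conjugation helper
  have hcj : ∀ (g : Γ), g ∈ Subgroup.normalizer (Q : Set Γ) → ∀ n : Q, g * n * g⁻¹ ∈ Q :=
    fun g hg n => (Subgroup.mem_normalizer_iff.mp hg n).mp n.2
  have hcj' : ∀ (g : Γ), g ∈ Subgroup.normalizer (Q : Set Γ) → ∀ n : Q, g⁻¹ * n * g ∈ Q := by
    intro g hg n
    have := hcj g⁻¹ (Subgroup.inv_mem _ hg) n
    simpa using this
  set A : Set (gnQuot Q) := {y | ∃ k' : Γ, ∃ hk' : k' ∈ Subgroup.normalizer (Q : Set Γ),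
    k' ∈ K ∧ (∀ n n' : Q, (n' : Γ) = k' * n * k'⁻¹ → θ' n = θ n') ∧
    (QuotientGroup.mk (⟨k', hk'⟩ : Subgroup.normalizer (Q : Set Γ)) : gnQuot Q) = y} with hAdef
  have hA : ∀ z ∈ gnIm Q P, ∀ a ∈ A, z * a * z⁻¹ ∈ A := by
    intro z hz a ha
    obtain ⟨x, hx, hxP, rfl⟩ := (gn_mem_im Q P z).mp hz
    obtain ⟨k', hk', hk'K, hprop, rfl⟩ := ha
    have hxk : x * k' * x⁻¹ ∈ Subgroup.normalizer (Q : Set Γ) :=
      Subgroup.mul_mem _ (Subgroup.mul_mem _ hx hk') (Subgroup.inv_mem _ hx)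
    refine ⟨x * k' * x⁻¹, hxk, hPK x hxP k' hk'K, ?_, rfl⟩
    intro n n' hn
    set m : Q := ⟨x⁻¹ * n * x, hcj' x hx n⟩ with hm
    set m' : Q := ⟨k' * m * k'⁻¹, hcj k' hk' m⟩ with hm'
    have e1 : θ' n = θ' m := by
      apply hθ' x hxP m n
      rw [hm]
      simp only
      group
    have e2 : θ' m = θ m' := hprop m m' rfl
    have e3 : θ n' = θ m' := by
      apply hθ x hxP m' n'
      rw [hn, hm', hm]
      simp only
      group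
    rw [e1, e2, e3]
  have hkn : k ∈ Subgroup.normalizer (Q : Set Γ) := hKn hk
  have hAeq : A = (fun y : gnQuot Q => y *
      (QuotientGroup.mk (⟨k, hkn⟩ : Subgroup.normalizer (Q : Set Γ)) : gnQuot Q)) ''
        (gnIm Q T : Set (gnQuot Q)) := by
    ext y
    constructor
    · rintro ⟨k', hk', hk'K, hprop, rfl⟩
      have htK : k' * k⁻¹ ∈ K := K.mul_mem hk'K (K.inv_mem hk)
      have htn : k' * k⁻¹ ∈ Subgroup.normalizer (Q : Set Γ) := hKn htK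
      have htT : k' * k⁻¹ ∈ T := by
        rw [hT _ htK]
        intro n n' hn
        set m : Q := ⟨k⁻¹ * n * k, hcj' k hkn n⟩ with hm
        have e1 : θ' m = θ n' := by
          apply hprop m n'
          rw [hn, hm]
          simp only
          group
        have e2 : θ' m = θ n := by
          apply hconj m n
          rw [hm]
          simp only
          group
        rw [← e1, e2]
      refine ⟨QuotientGroup.mk (⟨k' * k⁻¹, htn⟩ : Subgroup.normalizer (Q : Set Γ)),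
        (gn_mem_im Q T _).mpr ⟨_, htn, htT, rfl⟩, ?_⟩
      show (QuotientGroup.mk ((⟨k' * k⁻¹, htn⟩ : Subgroup.normalizer (Q : Set Γ)) * ⟨k, hkn⟩) :
        gnQuot Q) = _
      congr 1
      apply Subtype.ext
      show k' * k⁻¹ * k = k'
      group
    · rintro ⟨t', ht', rfl⟩
      obtain ⟨t, htn, htT, rfl⟩ := (gn_mem_im Q T t').mp ht'
      refine ⟨t * k, Subgroup.mul_mem _ htn hkn, K.mul_mem (hTK htT) hk, ?_, rfl⟩
      intro n n' hn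
      set m : Q := ⟨k * n * k⁻¹, hcj k hkn n⟩ with hm
      have e1 : θ' n = θ m := hconj n m rfl
      have e2 : θ n' = θ m := by
        apply ((hT t (hTK htT)).mp htT) m n'
        rw [hn, hm]
        simp only
        group
      rw [e1, e2]
  have hcard : ¬ p ∣ Nat.card A := by
    rw [hAeq, Nat.card_image_of_injective (mul_left_injective _)]
    have : Nat.card (gnIm Q T : Set (gnQuot Q)) = Q.relIndex T := gn_im_card Q T hTn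
    rw [this]
    exact hidx
  obtain ⟨a, haA, hfix⟩ := gn_fp_exists p (gnIm Q P) (gn_im_pgroup Q p P hP) A hA hcard
  obtain ⟨c, hcn, hcK, hprop, rfl⟩ := haA
  refine ⟨c, (hC c).mpr ⟨hcK, ?_⟩, hprop⟩
  intro x hxP
  have hx : x ∈ Subgroup.normalizer (Q : Set Γ) := hPn hxP
  have h1 := hfix (QuotientGroup.mk (⟨x, hx⟩ : Subgroup.normalizer (Q : Set Γ)))
    ((gn_mem_im Q P _).mpr ⟨x, hx, hxP, rfl⟩)
  have h2 : (QuotientGroup.mk ((⟨x, hx⟩ : Subgroup.normalizer (Q : Set Γ)) * ⟨c, hcn⟩ *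
      (⟨x, hx⟩)⁻¹) : gnQuot Q) = QuotientGroup.mk (⟨c, hcn⟩ : Subgroup.normalizer (Q : Set Γ)) := h1
  rw [gn_mk_eq_iff] at h2
  have h3 : (x * c * x⁻¹)⁻¹ * c ∈ Q := h2
  have h4 := (Subgroup.mem_normalizer_iff.mp hcn _).mp h3
  have h5 := Q.inv_mem h4
  have e : (c * ((x * c * x⁻¹)⁻¹ * c) * c⁻¹)⁻¹ = x * c * x⁻¹ * c⁻¹ := by group
  rw [e] at h5
  exact h5

end trans

end Cfsg.Agent.Lib.helper2
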