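import Mathlib
import Cfsg.Prelude.Def_Characters
import Cfsg.Agent.Lib.helper2.GN6
import Cfsg.Agent.Lib.helper2.GN3

set_option autoImplicit false

namespace Cfsg.Agent.Lib.helper2

open scoped ComplexConjugate
open Cfsg.Agent.Lib.helper7 Cfsg.Agent.Lib.Helper25

section conjm

variable {Γ : Type*} [Group Γ] [Finite Γ]

/-- conjugate of a function on `X` by an element normalising `X` -/
def gnCj (X : Subgroup Γ) (x : Γ) (hx : x ∈ Subgroup.normalizer (X : Set Γ)) (φ : X → ℂ) :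
    X → ℂ :=
  fun t => φ (rgConjN X x hx t)

theorem gnCj_irr (X : Subgroup Γ) (x : Γ) (hx : x ∈ Subgroup.normalizer (X : Set Γ)) {φ : X → ℂ}
    (hφ : Cfsg.IsIrrCharacter X φ) : Cfsg.IsIrrCharacter X (gnCj X x hx φ) := by
  classical
  haveI : Fintype X := Fintype.ofFinite _
  exact bg_irr_comp_surjective (rgConjN X x hx).toMonoidHom (rgConjN X x hx).surjective hφ

theorem gnCj_inner (X : Subgroup Γ) [Fintype X] (x : Γ)
    (hx : x ∈ Subgroup.normalizer (X : Set Γ)) (a b : X → ℂ) :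
    Cfsg.classInner (gnCj X x hx a) (gnCj X x hx b) = Cfsg.classInner a b :=
  classInner_comp_surjective (rgConjN X x hx).toMonoidHom (rgConjN X x hx).surjective a b

omit [Finite Γ] in
theorem gnCj_res (Y X : Subgroup Γ) (hYX : Y ≤ X) (x : Γ)
    (hxX : x ∈ Subgroup.normalizer (X : Set Γ)) (hxY : x ∈ Subgroup.normalizer (Y : Set Γ))
    (φ : X → ℂ) :
    (fun y : Y => gnCj X x hxX φ ⟨y, hYX y.2⟩) =
      gnCj Y x hxY (fun y : Y => φ ⟨y, hYX y.2⟩) := by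
  funext y
  unfold gnCj
  congr 1

omit [Finite Γ] in
theorem gnCj_eq_of_inv (X P : Subgroup Γ) (φ : X → ℂ) (hinv : gpInv X P φ) (x : Γ) (hxP : x ∈ P)
    (hx : x ∈ Subgroup.normalizer (X : Set Γ)) : gnCj X x hx φ = φ := by
  funext t
  exact hinv x hxP t _ rfl

omit [Finite Γ] in
theorem gn_inv_of_cj (X P : Subgroup Γ) (φ : X → ℂ)
    (hPX : P ≤ Subgroup.normalizer (X : Set Γ))
    (h : ∀ x (hxP : x ∈ P), gnCj X x (hPX hxP) φ = φ) : gpInv X P φ := by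
  intro x hxP g g' hg
  have := congrFun (h x hxP) g
  rw [← this]
  unfold gnCj
  congr 1
  exact Subtype.ext hg

end conjm

section constit

variable {Γ : Type*} [Group Γ] [Finite Γ]

/-- constituents of constituents -/
theorem gn_over_trans (Q A : Subgroup Γ) [Fintype Q] [Fintype A] (hQA : Q ≤ A) (Ψ : A → ℂ)
    (hΨ : Cfsg.IsCharacter A Ψ) (η : A → ℂ) (hη : Cfsg.IsIrrCharacter A η) (θ : Q → ℂ)
    (hθ : Cfsg.IsIrrCharacter Q θ) (h1 : Cfsg.classInner Ψ η ≠ 0)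
    (h2 : Cfsg.classInner (fun n : Q => η ⟨n, hQA n.2⟩) θ ≠ 0) :
    Cfsg.classInner (fun n : Q => Ψ ⟨n, hQA n.2⟩) θ ≠ 0 := by
  classical
  obtain ⟨R, hR, hsplit⟩ := isCharacter_split hΨ ⟨η, hη⟩ h1
  have e : (fun n : Q => Ψ ⟨n, hQA n.2⟩) =
      (fun n : Q => η ⟨n, hQA n.2⟩) + (fun n : Q => R ⟨n, hQA n.2⟩) := by
    funext n
    rw [hsplit]
    rfl
  rw [e, classInner_add_left]
  have hηc : Cfsg.IsCharacter Q (fun n : Q => η ⟨n, hQA n.2⟩) :=
    isCharacter_comp_hom (h7_irr_isCharacter hη) (Subgroup.inclusion hQA)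
  have hRc : Cfsg.IsCharacter Q (fun n : Q => R ⟨n, hQA n.2⟩) :=
    isCharacter_comp_hom hR (Subgroup.inclusion hQA)
  obtain ⟨m₁, hm₁⟩ := classInner_character_nat hηc (h7_irr_isCharacter hθ)
  obtain ⟨m₂, hm₂⟩ := classInner_character_nat hRc (h7_irr_isCharacter hθ)
  rw [hm₁] at h2 ⊢
  rw [hm₂]
  have : m₁ ≠ 0 := by
    intro h0
    apply h2
    rw [h0]
    simp
  have h3 : ((m₁ + m₂ : ℕ) : ℂ) ≠ 0 := by
    rw [Nat.cast_ne_zero]
    omega
  push_cast at h3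
  exact h3

/-- expansion of an inner product of a restriction -/
theorem gn_res_sum (A B : Subgroup Γ) [Fintype A] [Fintype B] [Fintype (Cfsg.IrrCharacter B)]
    (hAB : A ≤ B) (Ψ : B → ℂ) (hΨ : Cfsg.IsCharacter B Ψ) (η : A → ℂ) :
    Cfsg.classInner (fun a : A => Ψ ⟨a, hAB a.2⟩) η =
      ∑ ξ : Cfsg.IrrCharacter B, Cfsg.classInner Ψ (ξ : B → ℂ) *
        Cfsg.classInner (fun a : A => (ξ : B → ℂ) ⟨a, hAB a.2⟩) η := by
  classical
  obtain ⟨m, hm, hexp⟩ := isCharacter_expansion hΨ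
  have e : (fun a : A => Ψ ⟨a, hAB a.2⟩) =
      ∑ ξ : Cfsg.IrrCharacter B, (m ξ : ℂ) • (fun a : A => (ξ : B → ℂ) ⟨a, hAB a.2⟩) := by
    funext a
    have := congrFun hexp ⟨a, hAB a.2⟩
    rw [this]
    simp only [Finset.sum_apply, Pi.smul_apply]
  rw [e, classInner_sum_left]
  apply Finset.sum_congr rfl
  intro ξ _
  rw [classInner_smul_left, hm ξ]

end constit



section agal

variable {Γ : Type*} [Group Γ] [Finite Γ] (Q T : Subgroup Γ) [Fintype Q] [Fintype T]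
variable (hQT : Q ≤ T) (hTn : T ≤ Subgroup.normalizer (Q : Set Γ))
variable (θ : Q → ℂ) (hθ : Cfsg.IsIrrCharacter Q θ)
variable (θh : T → ℂ) (hθh : Cfsg.IsIrrCharacter T θh) (hext : ∀ n : Q, θh ⟨n, hQT n.2⟩ = θ n)
variable [Fintype (gnIm Q T)]

omit [Finite Γ] [Fintype Q] [Fintype T] [Fintype (gnIm Q T)] in
include hTn in
theorem gn_ag_normal : (Q.subgroupOf T).Normal :=
  gn_normal_sub T Q (fun t ht q hq => (Subgroup.mem_normalizer_iff.mp (hTn ht) q).mp hq)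

omit [Fintype Q] [Fintype T] [Fintype (gnIm Q T)] in
include hθ hext in
theorem gn_ag_res : Cfsg.IsIrrCharacter (Q.subgroupOf T) (fun n : Q.subgroupOf T => θh n) := by
  have h := gn_irr_to_sub Q T hQT hθ
  have e : (fun x : Q.subgroupOf T => θ ⟨((x : T) : Γ), Subgroup.mem_subgroupOf.mp x.2⟩) =
      (fun n : Q.subgroupOf T => θh n) := by
    funext x
    exact (hext ⟨((x : T) : Γ), Subgroup.mem_subgroupOf.mp x.2⟩).symm
  rw [e] at h
  exact h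

omit [Finite Γ] [Fintype Q] [Fintype T] [Fintype (gnIm Q T)] in
theorem gn_ag_ker (g : T) : gnS Q T hTn g = 1 ↔ g ∈ Q.subgroupOf T := by
  rw [gnS_eq_one, Subgroup.mem_subgroupOf]

include hQT hθ hθh hext in
theorem gn_ag_irr (γ : gnIm Q T → ℂ) (hγ : Cfsg.IsIrrCharacter (gnIm Q T) γ) :
    Cfsg.IsIrrCharacter T ((fun t => γ (gnS Q T hTn t)) * θh) := by
  classical
  haveI := gn_ag_normal Q T hTn
  haveI : Fintype (Q.subgroupOf T) := Fintype.ofFinite _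
  exact gn_gal_irr (Q.subgroupOf T) (gnS Q T hTn) (gnS_surjective Q T hTn) (gn_ag_ker Q T hTn) θh hθh
    (gn_ag_res Q T hQT θ hθ θh hext) γ hγ

include hQT hθ hθh hext in
theorem gn_ag_surj (ψ : T → ℂ) (hψ : Cfsg.IsIrrCharacter T ψ)
    (hover : Cfsg.classInner (fun n : Q => ψ ⟨n, hQT n.2⟩) θ ≠ 0) :
    ∃ γ : gnIm Q T → ℂ, Cfsg.IsIrrCharacter (gnIm Q T) γ ∧
      ψ = (fun t => γ (gnS Q T hTn t)) * θh := by
  classical
  haveI := gn_ag_normal Q T hTn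
  haveI : Fintype (Q.subgroupOf T) := Fintype.ofFinite _
  apply gn_gal_surj (Q.subgroupOf T) (gnS Q T hTn) (gnS_surjective Q T hTn) (gn_ag_ker Q T hTn) θh hθh
    (gn_ag_res Q T hQT θ hθ θh hext) ψ hψ
  have h0 := gn_inner_to_sub Q T hQT (fun n : Q => ψ ⟨n, hQT n.2⟩) θ
  have e : (fun x : Q.subgroupOf T => θ ⟨((x : T) : Γ), Subgroup.mem_subgroupOf.mp x.2⟩) =
      (fun n : Q.subgroupOf T => θh n) := by
    funext x
    exact (hext ⟨((x : T) : Γ), Subgroup.mem_subgroupOf.mp x.2⟩).symm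
  rw [e] at h0
  intro hz
  exact hover (h0.symm.trans hz)

include hQT hθ hθh hext in
theorem gn_ag_inj (γ₁ γ₂ : gnIm Q T → ℂ) (h₁ : Cfsg.IsIrrCharacter (gnIm Q T) γ₁)
    (h₂ : Cfsg.IsIrrCharacter (gnIm Q T) γ₂)
    (h : (fun t => γ₁ (gnS Q T hTn t)) * θh = (fun t => γ₂ (gnS Q T hTn t)) * θh) : γ₁ = γ₂ := by
  classical
  haveI := gn_ag_normal Q T hTn
  haveI : Fintype (Q.subgroupOf T) := Fintype.ofFinite _
  exact gn_gal_inj (Q.subgroupOf T) (gnS Q T hTn) (gnS_surjective Q T hTn) (gn_ag_ker Q T hTn) θh hθh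
    (gn_ag_res Q T hQT θ hθ θh hext) γ₁ γ₂ h₁ h₂ h

include hQT hθ hθh hext in
theorem gn_ag_inner (B : gnIm Q T → ℂ) (hB : Cfsg.IsCharacter (gnIm Q T) B) (γ : gnIm Q T → ℂ)
    (hγ : Cfsg.IsIrrCharacter (gnIm Q T) γ) :
    Cfsg.classInner ((fun t => B (gnS Q T hTn t)) * θh) ((fun t => γ (gnS Q T hTn t)) * θh) =
      Cfsg.classInner B γ := by
  classical
  haveI := gn_ag_normal Q T hTn
  haveI : Fintype (Q.subgroupOf T) := Fintype.ofFinite _
  exact gn_gal_inner (Q.subgroupOf T) (gnS Q T hTn) (gnS_surjective Q T hTn) (gn_ag_ker Q T hTn) θh hθh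
    (gn_ag_res Q T hQT θ hθ θh hext) B hB γ hγ

include hθ hext in
theorem gn_ag_over (γ : gnIm Q T → ℂ) (hγ : Cfsg.IsIrrCharacter (gnIm Q T) γ) :
    Cfsg.classInner (fun n : Q => ((fun t => γ (gnS Q T hTn t)) * θh) ⟨n, hQT n.2⟩) θ ≠ 0 := by
  have e : (fun n : Q => ((fun t => γ (gnS Q T hTn t)) * θh) ⟨n, hQT n.2⟩) = (γ 1) • θ := by
    funext n
    have h1 : gnS Q T hTn ⟨n, hQT n.2⟩ = 1 := (gnS_eq_one Q T hTn _).mpr n.2
    show γ (gnS Q T hTn ⟨n, hQT n.2⟩) * θh ⟨n, hQT n.2⟩ = γ 1 * θ n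
    rw [h1, hext]
  rw [e, classInner_smul_left, h7_irr_norm hθ, mul_one]
  exact irr_one_ne_zero (⟨γ, hγ⟩ : Cfsg.IrrCharacter (gnIm Q T))

end agal

end Cfsg.Agent.Lib.helper2
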