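import Mathlib
import Cfsg.Prelude.Def_Characters
import Cfsg.Prelude.Def_Blocks
import Cfsg.Agent.Lib.helper2.GN7
import Cfsg.Agent.Lib.Helper25.CharAbelian

set_option autoImplicit false

namespace Cfsg.Agent.Lib.helper2

open scoped ComplexConjugate
open Cfsg.Agent.Lib.helper7 Cfsg.Agent.Lib.Helper25

section inv

variable {Γ : Type*} [Group Γ] [Finite Γ] (P H T Q : Subgroup Γ) [Fintype H] [Fintype T] [Fintype Q]
variable (hQT : Q ≤ T) (hTH : T ≤ H)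
variable (hPH : P ≤ Subgroup.normalizer (H : Set Γ)) (hPT : P ≤ Subgroup.normalizer (T : Set Γ))
variable (hPQ : P ≤ Subgroup.normalizer (Q : Set Γ))

include hPH hPT hPQ in
/-- invariance passes down the Clifford correspondence -/
theorem gn_inv_down (θ : Q → ℂ) (hθ : gpInv Q P θ) (χ : H → ℂ) (hχ : gpInv H P χ)
    (ψ : T → ℂ) (hψ : Cfsg.IsIrrCharacter T ψ)
    (hψθ : Cfsg.classInner (fun n : Q => ψ ⟨n, hQT n.2⟩) θ ≠ 0)
    (hχψ : Cfsg.classInner (fun t : T => χ ⟨t, hTH t.2⟩) ψ ≠ 0)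
    (huniq : ∀ ψ' : T → ℂ, Cfsg.IsIrrCharacter T ψ' →
        Cfsg.classInner (fun n : Q => ψ' ⟨n, hQT n.2⟩) θ ≠ 0 → ψ' ≠ ψ →
        Cfsg.classInner (fun t : T => χ ⟨t, hTH t.2⟩) ψ' = 0) :
    gpInv T P ψ := by
  apply gn_inv_of_cj T P ψ hPT
  intro x hxP
  by_contra hne
  have hover : Cfsg.classInner (fun n : Q => gnCj T x (hPT hxP) ψ ⟨n, hQT n.2⟩) θ ≠ 0 := by
    rw [gnCj_res Q T hQT x (hPT hxP) (hPQ hxP) ψ]
    have eθ := gnCj_eq_of_inv Q P θ hθ x hxP (hPQ hxP)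
    rw [← eθ, gnCj_inner]
    exact hψθ
  have h0 := huniq (gnCj T x (hPT hxP) ψ) (gnCj_irr T x (hPT hxP) hψ) hover hne
  have e1 : (fun t : T => χ ⟨t, hTH t.2⟩) =
      gnCj T x (hPT hxP) (fun t : T => χ ⟨t, hTH t.2⟩) := by
    rw [← gnCj_res T H hTH x (hPH hxP) (hPT hxP) χ, gnCj_eq_of_inv H P χ hχ x hxP (hPH hxP)]
  rw [e1, gnCj_inner] at h0
  exact hχψ h0

include hPH hPT in
/-- invariance passes up the Clifford correspondence -/
theorem gn_inv_up (χ : H → ℂ) (hχ : Cfsg.IsIrrCharacter H χ)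
    (ψ : T → ℂ) (hψ : gpInv T P ψ)
    (hχψ : Cfsg.classInner (fun t : T => χ ⟨t, hTH t.2⟩) ψ ≠ 0)
    (huniq : ∀ χ' : H → ℂ, Cfsg.IsIrrCharacter H χ' → χ' ≠ χ →
        Cfsg.classInner (fun t : T => χ' ⟨t, hTH t.2⟩) ψ = 0) :
    gpInv H P χ := by
  apply gn_inv_of_cj H P χ hPH
  intro x hxP
  by_contra hne
  have h0 := huniq (gnCj H x (hPH hxP) χ) (gnCj_irr H x (hPH hxP) hχ) hne
  rw [gnCj_res T H hTH x (hPH hxP) (hPT hxP) χ] at h0
  have eψ := gnCj_eq_of_inv T P ψ hψ x hxP (hPT hxP)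
  rw [← eψ, gnCj_inner] at h0
  exact hχψ h0

end inv



section invgal

variable {Γ : Type*} [Group Γ] [Finite Γ] (P Q T : Subgroup Γ) [Fintype Q] [Fintype T]
variable (hQT : Q ≤ T) (hTn : T ≤ Subgroup.normalizer (Q : Set Γ))
variable (hPn : P ≤ Subgroup.normalizer (Q : Set Γ))
variable (hPT : ∀ x ∈ P, ∀ t ∈ T, x * t * x⁻¹ ∈ T)
variable (θ : Q → ℂ) (hθ : Cfsg.IsIrrCharacter Q θ)
variable (θh : T → ℂ) (hθh : Cfsg.IsIrrCharacter T θh) (hext : ∀ n : Q, θh ⟨n, hQT n.2⟩ = θ n)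
variable (hθhinv : gpInv T P θh)
variable [Fintype (gnIm Q T)]

omit [Finite Γ] [Fintype Q] [Fintype T] [Fintype (gnIm Q T)] in
include hθhinv hPn in
/-- twisting an invariant character of the quotient by the invariant extension is invariant -/
theorem gn_inv_gal_up (β : gnIm Q T → ℂ) (hβ : gpInv (gnIm Q T) (gnIm Q P) β) :
    gpInv T P ((fun t => β (gnS Q T hTn t)) * θh) := by
  intro x hxP t t' ht
  show β (gnS Q T hTn t') * θh t' = β (gnS Q T hTn t) * θh t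
  rw [hθhinv x hxP t t' ht]
  congr 1
  have hx : x ∈ Subgroup.normalizer (Q : Set Γ) := hPn hxP
  apply hβ (QuotientGroup.mk (⟨x, hx⟩ : Subgroup.normalizer (Q : Set Γ)))
    ((gn_mem_im Q P _).mpr ⟨x, hx, hxP, rfl⟩)
  rw [gnS_coe, gnS_coe]
  show _ = (QuotientGroup.mk ((⟨x, hx⟩ : Subgroup.normalizer (Q : Set Γ)) *
    ⟨(t : Γ), hTn t.2⟩ * (⟨x, hx⟩)⁻¹) : gnQuot Q)
  congr 1
  exact Subtype.ext ht

include hQT hθ hθh hext hθhinv hPT hPn in
/-- conversely the quotient character of an invariant twist is invariant -/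
theorem gn_inv_gal_down (β : gnIm Q T → ℂ) (hβ : Cfsg.IsIrrCharacter (gnIm Q T) β)
    (hinv : gpInv T P ((fun t => β (gnS Q T hTn t)) * θh)) :
    gpInv (gnIm Q T) (gnIm Q P) β := by
  have hnorm : gnIm Q P ≤ Subgroup.normalizer (gnIm Q T : Set (gnQuot Q)) :=
    rg_le_normalizer _ _ (gn_im_norm Q P T hPn hTn hPT)
  apply gn_inv_of_cj (gnIm Q T) (gnIm Q P) β hnorm
  intro z hz
  obtain ⟨x, hx, hxP, rfl⟩ := (gn_mem_im Q P z).mp hz
  apply gn_ag_inj Q T hQT hTn θ hθ θh hθh hext _ _ (gnCj_irr _ _ _ hβ) hβ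
  funext t
  show β (rgConjN (gnIm Q T) _ (hnorm hz) (gnS Q T hTn t)) * θh t = β (gnS Q T hTn t) * θh t
  have h1 := hinv x hxP t ⟨x * t * x⁻¹, hPT x hxP t t.2⟩ rfl
  have h2 : β (gnS Q T hTn ⟨x * t * x⁻¹, hPT x hxP t t.2⟩) * θh ⟨x * t * x⁻¹, hPT x hxP t t.2⟩ =
      β (gnS Q T hTn t) * θh t := h1
  rw [hθhinv x hxP t ⟨x * t * x⁻¹, hPT x hxP t t.2⟩ rfl] at h2
  rw [← h2]
  congr 2

omit [Finite Γ] in
/-- everything on a centralised subgroup is invariant -/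
theorem gn_inv_central {Y : Type*} [Group Y] (A S : Subgroup Y)
    (hcent : A ≤ Subgroup.centralizer (S : Set Y)) (γ : A → ℂ) : gpInv A S γ := by
  intro z hz g g' hg
  congr 1
  apply Subtype.ext
  rw [hg]
  have := (Subgroup.mem_centralizer_iff.mp (hcent g.2)) z hz
  rw [this]
  group

end invgal



section mult

variable {Γ : Type*} [Group Γ] [Finite Γ]

/-- the multiplicity formula through the two Clifford correspondences -/
theorem gn_mult_formula (K C T T₂ Q : Subgroup Γ) [Fintype K] [Fintype C] [Fintype T] [Fintype T₂]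
    [Fintype Q] (hQT₂ : Q ≤ T₂) (hT₂T : T₂ ≤ T) (hTK : T ≤ K) (hT₂C : T₂ ≤ C) (hCK : C ≤ K)
    (θ : Q → ℂ) (hθ : Cfsg.IsIrrCharacter Q θ)
    (χ : K → ℂ) (hχ : Cfsg.IsIrrCharacter K χ) (ψ : T → ℂ) (hψ : Cfsg.IsIrrCharacter T ψ)
    (hχψ : Cfsg.classInner (fun t : T => χ ⟨t, hTK t.2⟩) ψ = 1)
    (huniqψ : ∀ ψ' : T → ℂ, Cfsg.IsIrrCharacter T ψ' →
        Cfsg.classInner (fun n : Q => ψ' ⟨n, hQT₂.trans hT₂T n.2⟩) θ ≠ 0 → ψ' ≠ ψ →
        Cfsg.classInner (fun t : T => χ ⟨t, hTK t.2⟩) ψ' = 0)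
    (ξ : C → ℂ) (hξ : Cfsg.IsIrrCharacter C ξ) (η : T₂ → ℂ) (hη : Cfsg.IsIrrCharacter T₂ η)
    (hηθ : Cfsg.classInner (fun n : Q => η ⟨n, hQT₂ n.2⟩) θ ≠ 0)
    (hξη : Cfsg.classInner (fun t : T₂ => ξ ⟨t, hT₂C t.2⟩) η = 1)
    (huniqξ : ∀ ξ' : C → ℂ, Cfsg.IsIrrCharacter C ξ' → ξ' ≠ ξ →
        Cfsg.classInner (fun t : T₂ => ξ' ⟨t, hT₂C t.2⟩) η = 0) :
    Cfsg.classInner (fun c : C => χ ⟨c, hCK c.2⟩) ξ =
      Cfsg.classInner (fun t : T₂ => ψ ⟨t, hT₂T t.2⟩) η := by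
  classical
  haveI : Fintype (Cfsg.IrrCharacter C) := Fintype.ofFinite _
  haveI : Fintype (Cfsg.IrrCharacter T) := Fintype.ofFinite _
  have hχc := h7_irr_isCharacter hχ
  have hχC : Cfsg.IsCharacter C (fun c : C => χ ⟨c, hCK c.2⟩) :=
    isCharacter_comp_hom hχc (Subgroup.inclusion hCK)
  have hχT : Cfsg.IsCharacter T (fun t : T => χ ⟨t, hTK t.2⟩) :=
    isCharacter_comp_hom hχc (Subgroup.inclusion hTK)
  have S1 := gn_res_sum T₂ C hT₂C _ hχC η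
  have S2 := gn_res_sum T₂ T hT₂T _ hχT η
  rw [Finset.sum_eq_single (⟨ξ, hξ⟩ : Cfsg.IrrCharacter C)] at S1
  · rw [Finset.sum_eq_single (⟨ψ, hψ⟩ : Cfsg.IrrCharacter T)] at S2
    · simp only at S1 S2
      rw [hξη, mul_one] at S1
      rw [hχψ, one_mul] at S2
      rw [← S1, ← S2]
    · intro ψ' _ hne
      have hne' : (ψ' : T → ℂ) ≠ ψ := fun h => hne (Subtype.ext h)
      by_cases hov : Cfsg.classInner (fun n : Q => (ψ' : T → ℂ) ⟨n, hQT₂.trans hT₂T n.2⟩) θ = 0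
      · have : Cfsg.classInner (fun a : T₂ => (ψ' : T → ℂ) ⟨a, hT₂T a.2⟩) η = 0 := by
          by_contra h1
          exact gn_over_trans Q T₂ hQT₂ (fun a : T₂ => (ψ' : T → ℂ) ⟨a, hT₂T a.2⟩)
            (isCharacter_comp_hom (h7_irr_isCharacter ψ'.2) (Subgroup.inclusion hT₂T)) η hη θ hθ
            h1 hηθ hov
        rw [this, mul_zero]
      · rw [huniqψ ψ' ψ'.2 hov hne', zero_mul]
    · intro h
      exact absurd (Finset.mem_univ _) h
  · intro ξ' _ hne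
    have hne' : (ξ' : C → ℂ) ≠ ξ := fun h => hne (Subtype.ext h)
    rw [huniqξ ξ' ξ'.2 hne', mul_zero]
  · intro h
    exact absurd (Finset.mem_univ _) h

end mult

section gdeg

/-- degrees of Glauberman correspondents agree up to sign modulo `p` -/
theorem gn_glaub_deg {Y : Type*} [Group Y] (G C : Subgroup Y) [Fintype G] [Fintype C]
    (hCG : C ≤ G) (p : ℕ) [hp : Fact p.Prime] (β : Cfsg.IrrCharacter G)
    (γ₀ : Cfsg.IrrCharacter C) (ε : ℤ)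
    (h : ∀ γ' : Cfsg.IrrCharacter C, ∃ m : ℕ,
      Cfsg.classInner (fun c : C => (β : G → ℂ) ⟨c, hCG c.2⟩) (γ' : C → ℂ) = m ∧
      (m : ℤ) ≡ (if γ' = γ₀ then ε else 0) [ZMOD p]) :
    (Cfsg.charDegree (β : G → ℂ) : ZMod p) =
      (ε : ZMod p) * (Cfsg.charDegree (γ₀ : C → ℂ) : ZMod p) := by
  classical
  haveI : Fintype (Cfsg.IrrCharacter C) := Fintype.ofFinite _
  choose m hm hmod using h
  have hβC : Cfsg.IsCharacter C (fun c : C => (β : G → ℂ) ⟨c, hCG c.2⟩) :=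
    isCharacter_comp_hom (h7_irr_isCharacter β.2) (Subgroup.inclusion hCG)
  obtain ⟨m', hm', hexp⟩ := isCharacter_expansion hβC
  have hmm : m' = m := by
    funext γ'
    have : (m' γ' : ℂ) = (m γ' : ℂ) := by rw [← hm' γ', hm γ']
    exact_mod_cast this
  rw [hmm] at hexp
  have h1 := congrFun hexp 1
  simp only [Finset.sum_apply, Pi.smul_apply, smul_eq_mul] at h1
  have h2 : ((Cfsg.charDegree (β : G → ℂ) : ℕ) : ℂ) =
      ((∑ γ' : Cfsg.IrrCharacter C, m γ' * Cfsg.charDegree (γ' : C → ℂ) : ℕ) : ℂ) := by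
    rw [(charDegree_irr β).1]
    push_cast
    rw [show (β : G → ℂ) 1 = (β : G → ℂ) ⟨((1 : C) : Y), hCG (1 : C).2⟩ from rfl, h1]
    apply Finset.sum_congr rfl
    intro γ' _
    rw [(charDegree_irr γ').1]
  have h3 : Cfsg.charDegree (β : G → ℂ) =
      ∑ γ' : Cfsg.IrrCharacter C, m γ' * Cfsg.charDegree (γ' : C → ℂ) := by exact_mod_cast h2
  rw [h3]
  push_cast
  rw [Finset.sum_eq_single γ₀]
  · congr 1
    have := (ZMod.intCast_eq_intCast_iff _ _ p).mpr (hmod γ₀)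
    rw [if_pos rfl] at this
    rw [← this]
    simp
  · intro γ' _ hne
    have := (ZMod.intCast_eq_intCast_iff _ _ p).mpr (hmod γ')
    rw [if_neg hne] at this
    have h0 : ((m γ' : ℕ) : ZMod p) = 0 := by
      have e : (((m γ' : ℕ) : ℤ) : ZMod p) = ((m γ' : ℕ) : ZMod p) := by simp
      rw [← e, this]
      simp
    rw [h0, zero_mul]
  · intro h
    exact absurd (Finset.mem_univ _) h

end gdeg

end Cfsg.Agent.Lib.helper2
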