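import Mathlib
import Cfsg.Prelude.Def_Characters
import Cfsg.Prelude.Def_Blocks
import Cfsg.Agent.Lib.helper2.GN8

set_option autoImplicit false

namespace Cfsg.Agent.Lib.helper2

open scoped ComplexConjugate
open Cfsg.Agent.Lib.helper7 Cfsg.Agent.Lib.Helper25

section pair

variable {Γ : Type*} [Group Γ] [Finite Γ] (P H T Q : Subgroup Γ) [Fintype H] [Fintype T]
variable [Fintype Q] [Fintype (gnIm Q T)]
variable (hQT : Q ≤ T) (hTH : T ≤ H) (hHn : H ≤ Subgroup.normalizer (Q : Set Γ))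
variable (θ : Q → ℂ) (θh : T → ℂ)

/-- `χ` corresponds to `β` under Clifford followed by Gallagher -/
def gnPair (χ : H → ℂ) (β : gnIm Q T → ℂ) : Prop :=
  Cfsg.classInner (fun t : T => χ ⟨t, hTH t.2⟩)
    ((fun t => β (gnS Q T (hTH.trans hHn) t)) * θh) = 1 ∧
  χ 1 = (T.relIndex H : ℂ) * (β 1 * θ 1) ∧
  (∀ ψ' : T → ℂ, Cfsg.IsIrrCharacter T ψ' →
      Cfsg.classInner (fun n : Q => ψ' ⟨n, hQT n.2⟩) θ ≠ 0 →
      ψ' ≠ ((fun t => β (gnS Q T (hTH.trans hHn) t)) * θh) →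
      Cfsg.classInner (fun t : T => χ ⟨t, hTH t.2⟩) ψ' = 0) ∧
  (∀ χ' : H → ℂ, Cfsg.IsIrrCharacter H χ' → χ' ≠ χ →
      Cfsg.classInner (fun t : T => χ' ⟨t, hTH t.2⟩)
        ((fun t => β (gnS Q T (hTH.trans hHn) t)) * θh) = 0)

variable (hθ : Cfsg.IsIrrCharacter Q θ) (hstab : gnStab H T Q θ)
variable (hθh : Cfsg.IsIrrCharacter T θh) (hext : ∀ n : Q, θh ⟨n, hQT n.2⟩ = θ n)

include hθ hstab hθh hext in
theorem gn_param_down (χ : H → ℂ) (hχ : Cfsg.IsIrrCharacter H χ)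
    (hχθ : Cfsg.classInner (fun n : Q => χ ⟨n, hTH (hQT n.2)⟩) θ ≠ 0) :
    ∃ β : gnIm Q T → ℂ, Cfsg.IsIrrCharacter (gnIm Q T) β ∧ gnPair H T Q hQT hTH hHn θ θh χ β := by
  have hQHn : ∀ h ∈ H, ∀ q ∈ Q, h * q * h⁻¹ ∈ Q :=
    fun h hh q hq => (Subgroup.mem_normalizer_iff.mp (hHn hh) q).mp hq
  obtain ⟨ψ, hψ, hψθ, hχψ, hdeg, huniq⟩ :=
    gn_acliff_down H T Q hQT hTH hQHn θ hθ hstab χ hχ hχθ
  obtain ⟨β, hβ, rfl⟩ := gn_ag_surj Q T hQT (hTH.trans hHn) θ hθ θh hθh hext ψ hψ hψθ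
  refine ⟨β, hβ, hχψ, ?_, huniq, ?_⟩
  · rw [hdeg]
    congr 1
    show β (gnS Q T (hTH.trans hHn) 1) * θh 1 = _
    rw [map_one]
    congr 1
    exact hext 1
  · obtain ⟨χ₁, hχ₁, hone₁, hdeg₁, huniq₁⟩ :=
      gn_acliff_up H T Q hQT hTH hQHn θ hθ hstab _ hψ hψθ
    have e : χ = χ₁ := by
      by_contra hne
      have := huniq₁ χ hχ hne
      rw [hχψ] at this
      exact one_ne_zero this
    rw [e]
    exact huniq₁

include hθ hstab hθh hext in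
theorem gn_param_up (β : gnIm Q T → ℂ) (hβ : Cfsg.IsIrrCharacter (gnIm Q T) β) :
    ∃ χ : H → ℂ, Cfsg.IsIrrCharacter H χ ∧
      Cfsg.classInner (fun n : Q => χ ⟨n, hTH (hQT n.2)⟩) θ ≠ 0 ∧
      gnPair H T Q hQT hTH hHn θ θh χ β := by
  have hQHn : ∀ h ∈ H, ∀ q ∈ Q, h * q * h⁻¹ ∈ Q :=
    fun h hh q hq => (Subgroup.mem_normalizer_iff.mp (hHn hh) q).mp hq
  have hψ := gn_ag_irr Q T hQT (hTH.trans hHn) θ hθ θh hθh hext β hβ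
  have hψθ := gn_ag_over Q T hQT (hTH.trans hHn) θ hθ θh hext β hβ
  obtain ⟨χ, hχ, hone, hdeg, huniq⟩ :=
    gn_acliff_up H T Q hQT hTH hQHn θ hθ hstab _ hψ hψθ
  have hχθ : Cfsg.classInner (fun n : Q => χ ⟨n, hTH (hQT n.2)⟩) θ ≠ 0 := by
    have hne : Cfsg.classInner (fun t : T => χ ⟨t, hTH t.2⟩)
        ((fun t => β (gnS Q T (hTH.trans hHn) t)) * θh) ≠ 0 := by
      rw [hone]
      exact one_ne_zero
    exact gn_over_trans Q T hQT (fun t : T => χ ⟨t, hTH t.2⟩)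
      (isCharacter_comp_hom (h7_irr_isCharacter hχ) (Subgroup.inclusion hTH)) _ hψ θ hθ hne hψθ
  refine ⟨χ, hχ, hχθ, hone, ?_, ?_, huniq⟩
  · rw [hdeg]
    congr 1
    show β (gnS Q T (hTH.trans hHn) 1) * θh 1 = _
    rw [map_one]
    congr 1
    exact hext 1
  · obtain ⟨ψ₁, hψ₁, hψ₁θ, hχψ₁, hdeg₁, huniq₁⟩ :=
      gn_acliff_down H T Q hQT hTH hQHn θ hθ hstab χ hχ hχθ
    have e : ((fun t => β (gnS Q T (hTH.trans hHn) t)) * θh) = ψ₁ := by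
      by_contra hne
      have := huniq₁ _ hψ hψθ hne
      rw [hone] at this
      exact one_ne_zero this
    rw [e]
    exact huniq₁

omit [Finite Γ] in
theorem gn_pair_unique_left (χ χ' : H → ℂ) (β : gnIm Q T → ℂ) (hχ' : Cfsg.IsIrrCharacter H χ')
    (h : gnPair H T Q hQT hTH hHn θ θh χ β) (h' : gnPair H T Q hQT hTH hHn θ θh χ' β) :
    χ' = χ := by
  by_contra hne
  have := h.2.2.2 χ' hχ' hne
  rw [h'.1] at this
  exact one_ne_zero this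

include hθ hθh hext in
theorem gn_pair_unique_right (χ : H → ℂ) (β β' : gnIm Q T → ℂ)
    (hβ : Cfsg.IsIrrCharacter (gnIm Q T) β) (hβ' : Cfsg.IsIrrCharacter (gnIm Q T) β')
    (h : gnPair H T Q hQT hTH hHn θ θh χ β) (h' : gnPair H T Q hQT hTH hHn θ θh χ β') :
    β' = β := by
  apply gn_ag_inj Q T hQT (hTH.trans hHn) θ hθ θh hθh hext β' β hβ' hβ
  by_contra hne
  have := h.2.2.1 _ (gn_ag_irr Q T hQT (hTH.trans hHn) θ hθ θh hθh hext β' hβ')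
    (gn_ag_over Q T hQT (hTH.trans hHn) θ hθ θh hext β' hβ') hne
  rw [h'.1] at this
  exact one_ne_zero this

variable (hPn : P ≤ Subgroup.normalizer (Q : Set Γ))
variable (hPH : ∀ x ∈ P, ∀ t ∈ H, x * t * x⁻¹ ∈ H) (hPT : ∀ x ∈ P, ∀ t ∈ T, x * t * x⁻¹ ∈ T)
variable (hθinv : gpInv Q P θ) (hθhinv : gpInv T P θh)

include hθ hθh hext hPn hPH hPT hθinv hθhinv in
theorem gn_pair_inv (χ : H → ℂ) (hχ : Cfsg.IsIrrCharacter H χ) (β : gnIm Q T → ℂ)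
    (hβ : Cfsg.IsIrrCharacter (gnIm Q T) β) (h : gnPair H T Q hQT hTH hHn θ θh χ β) :
    gpInv H P χ ↔ gpInv (gnIm Q T) (gnIm Q P) β := by
  have hψ := gn_ag_irr Q T hQT (hTH.trans hHn) θ hθ θh hθh hext β hβ
  have hψθ := gn_ag_over Q T hQT (hTH.trans hHn) θ hθ θh hext β hβ
  have hne : Cfsg.classInner (fun t : T => χ ⟨t, hTH t.2⟩)
      ((fun t => β (gnS Q T (hTH.trans hHn) t)) * θh) ≠ 0 := by
    rw [h.1]
    exact one_ne_zero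
  constructor
  · intro hχinv
    apply gn_inv_gal_down P Q T hQT (hTH.trans hHn) hPn hPT θ hθ θh hθh hext hθhinv β hβ
    exact gn_inv_down P H T Q hQT hTH (rg_le_normalizer _ _ hPH) (rg_le_normalizer _ _ hPT) hPn θ
      hθinv χ hχinv _ hψ hψθ hne h.2.2.1
  · intro hβinv
    have hψinv := gn_inv_gal_up P Q T (hTH.trans hHn) hPn θh hθhinv β hβinv
    exact gn_inv_up P H T hTH (rg_le_normalizer _ _ hPH) (rg_le_normalizer _ _ hPT) χ hχ _ hψinv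
      hne h.2.2.2

end pair



section pmult

variable {Γ : Type*} [Group Γ] [Finite Γ] (K C T T₂ Q : Subgroup Γ) [Fintype K] [Fintype C]
variable [Fintype T] [Fintype T₂] [Fintype Q] [Fintype (gnIm Q T)] [Fintype (gnIm Q T₂)]
variable (hQT₂ : Q ≤ T₂) (hT₂T : T₂ ≤ T) (hTK : T ≤ K) (hT₂C : T₂ ≤ C) (hCK : C ≤ K)
variable (hKn : K ≤ Subgroup.normalizer (Q : Set Γ))
variable (θ : Q → ℂ) (hθ : Cfsg.IsIrrCharacter Q θ)
variable (θh : T → ℂ) (hθh : Cfsg.IsIrrCharacter T θh)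
variable (hext : ∀ n : Q, θh ⟨n, (hQT₂.trans hT₂T) n.2⟩ = θ n)
variable (hθh₂ : Cfsg.IsIrrCharacter T₂ (fun t : T₂ => θh ⟨t, hT₂T t.2⟩))

omit [Finite Γ] [Fintype T] [Fintype T₂] [Fintype Q] [Fintype (gnIm Q T)]
  [Fintype (gnIm Q T₂)] in
include hT₂T in
theorem gn_im_mono : gnIm Q T₂ ≤ gnIm Q T := by
  intro y hy
  obtain ⟨t, ht, htT₂, rfl⟩ := (gn_mem_im Q T₂ y).mp hy
  exact (gn_mem_im Q T _).mpr ⟨t, ht, hT₂T htT₂, rfl⟩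

include hθ hθh hext hθh₂ in
theorem gn_pair_mult (χ : K → ℂ) (hχ : Cfsg.IsIrrCharacter K χ) (β : gnIm Q T → ℂ)
    (hβ : Cfsg.IsIrrCharacter (gnIm Q T) β) (ξ : C → ℂ) (hξ : Cfsg.IsIrrCharacter C ξ)
    (γ : gnIm Q T₂ → ℂ) (hγ : Cfsg.IsIrrCharacter (gnIm Q T₂) γ)
    (h : gnPair K T Q (hQT₂.trans hT₂T) hTK hKn θ θh χ β)
    (h' : gnPair C T₂ Q hQT₂ hT₂C (hCK.trans hKn) θ (fun t : T₂ => θh ⟨t, hT₂T t.2⟩) ξ γ) :
    Cfsg.classInner (fun c : C => χ ⟨c, hCK c.2⟩) ξ =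
      Cfsg.classInner (fun y : gnIm Q T₂ => β ⟨y, gn_im_mono T T₂ Q hT₂T y.2⟩) γ := by
  have hTn : T ≤ Subgroup.normalizer (Q : Set Γ) := hTK.trans hKn
  have hT₂n : T₂ ≤ Subgroup.normalizer (Q : Set Γ) := hT₂T.trans hTn
  have hψ := gn_ag_irr Q T (hQT₂.trans hT₂T) hTn θ hθ θh hθh hext β hβ
  have hη := gn_ag_irr Q T₂ hQT₂ hT₂n θ hθ (fun t : T₂ => θh ⟨t, hT₂T t.2⟩) hθh₂
    (fun n => hext n) γ hγ
  have hηθ := gn_ag_over Q T₂ hQT₂ hT₂n θ hθ (fun t : T₂ => θh ⟨t, hT₂T t.2⟩)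
    (fun n => hext n) γ hγ
  have h1 := gn_mult_formula K C T T₂ Q hQT₂ hT₂T hTK hT₂C hCK θ hθ χ hχ _ hψ h.1 h.2.2.1 ξ hξ _
    hη hηθ h'.1 h'.2.2.2
  rw [h1]
  have hB : Cfsg.IsCharacter (gnIm Q T₂)
      (fun y : gnIm Q T₂ => β ⟨y, gn_im_mono T T₂ Q hT₂T y.2⟩) :=
    isCharacter_comp_hom (h7_irr_isCharacter hβ) (Subgroup.inclusion (gn_im_mono T T₂ Q hT₂T))
  have h2 := gn_ag_inner Q T₂ hQT₂ hT₂n θ hθ (fun t : T₂ => θh ⟨t, hT₂T t.2⟩) hθh₂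
    (fun n => hext n) _ hB γ hγ
  rw [← h2]
  rfl

end pmult

end Cfsg.Agent.Lib.helper2
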