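import Mathlib
import Cfsg.Prelude.Def_Characters
import Cfsg.Prelude.Def_Blocks
import Cfsg.Agent.Lib.helper2.GN9
import Cfsg.Agent.Lib.helper2.GN4
import Cfsg.Agent.Lib.helper2.BergerLib

set_option autoImplicit false

namespace Cfsg.Agent.Lib.helper2

open scoped ComplexConjugate
open Cfsg.Agent.Lib.helper7 Cfsg.Agent.Lib.Helper25

/-- the local data attached to a `P`-invariant character `θ` of `Q` -/
structure GnLoc {Γ : Type*} [Group Γ] (p : ℕ) (P K Q C T T₂ : Subgroup Γ) (θ : Q → ℂ)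
    (θh : T → ℂ) : Prop where
  hP : IsPGroup p P
  hQT₂ : Q ≤ T₂
  hT₂T : T₂ ≤ T
  hTK : T ≤ K
  hT₂C : T₂ ≤ C
  hCK : C ≤ K
  hKn : K ≤ Subgroup.normalizer (Q : Set Γ)
  hPn : P ≤ Subgroup.normalizer (Q : Set Γ)
  hPK : ∀ x ∈ P, ∀ t ∈ K, x * t * x⁻¹ ∈ K
  hPC : ∀ x ∈ P, ∀ t ∈ C, x * t * x⁻¹ ∈ C
  hPT : ∀ x ∈ P, ∀ t ∈ T, x * t * x⁻¹ ∈ T
  hPT₂ : ∀ x ∈ P, ∀ t ∈ T₂, x * t * x⁻¹ ∈ T₂
  hθ : Cfsg.IsIrrCharacter Q θ
  hθinv : gpInv Q P θ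
  hstabK : gnStab K T Q θ
  hstabC : gnStab C T₂ Q θ
  hθh : Cfsg.IsIrrCharacter T θh
  hext : ∀ n : Q, θh ⟨n, (hQT₂.trans hT₂T) n.2⟩ = θ n
  hθhinv : gpInv T P θh
  hθh₂ : Cfsg.IsIrrCharacter T₂ (fun t : T₂ => θh ⟨t, hT₂T t.2⟩)
  hfix : ∀ t : Γ, t ∈ T₂ ↔ t ∈ T ∧ ∀ x ∈ P, x * t * x⁻¹ * t⁻¹ ∈ Q
  hidx : ¬ p ∣ Q.relIndex T
  hindex : (T.relIndex K : ZMod p) = (T₂.relIndex C : ZMod p)
  hC : ∀ k : Γ, k ∈ C ↔ (k ∈ K ∧ ∀ x ∈ P, x * k * x⁻¹ * k⁻¹ ∈ Q)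
  hQsyl : ¬ p ∣ Q.relIndex K

section mk

variable {Γ : Type*} [Group Γ] [Finite Γ] (p : ℕ) [hp : Fact p.Prime] (P K Q C : Subgroup Γ)

theorem gn_loc_mk (hP : IsPGroup p P) (hPK : P ≤ Subgroup.normalizer (K : Set Γ)) (hQK : Q ≤ K)
    (hQn : ∀ k ∈ K, ∀ q ∈ Q, k * q * k⁻¹ ∈ Q) (hQp : ∃ a : ℕ, Nat.card Q = p ^ a)
    (hQsyl : ¬ p ∣ Q.relIndex K) (hCK : C ≤ K)
    (hC : ∀ k : Γ, k ∈ C ↔ (k ∈ K ∧ ∀ x ∈ P, x * k * x⁻¹ * k⁻¹ ∈ Q))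
    (θ : Q → ℂ) (hθ : Cfsg.IsIrrCharacter Q θ) (hθinv : gpInv Q P θ) :
    ∃ θh : gnT K Q θ → ℂ, GnLoc p P K Q C (gnT K Q θ) (gnT C Q θ) θ θh := by
  classical
  have hPQ := gn_sylow_conj p P K Q hPK hQK hQn hQp hQsyl
  have hKn : K ≤ Subgroup.normalizer (Q : Set Γ) := rg_le_normalizer K Q hQn
  have hPn : P ≤ Subgroup.normalizer (Q : Set Γ) := rg_le_normalizer P Q hPQ
  have hCn : C ≤ Subgroup.normalizer (Q : Set Γ) := hCK.trans hKn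
  have hQC : Q ≤ C := by
    intro q hq
    rw [hC]
    refine ⟨hQK hq, fun x hx => ?_⟩
    exact Q.mul_mem (hPQ x hx q hq) (Q.inv_mem hq)
  have hθcl : Cfsg.IsClassFunction Q θ := h7_irr_isClassFunction hθ
  have hPK' : ∀ x ∈ P, ∀ t ∈ K, x * t * x⁻¹ ∈ K :=
    fun x hx t ht => (Subgroup.mem_normalizer_iff.mp (hPK hx) t).mp ht
  have hPC' : ∀ x ∈ P, ∀ t ∈ C, x * t * x⁻¹ ∈ C := by
    intro x hx t ht
    have h1 := ((hC t).mp ht).2 x hx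
    have h2 := C.mul_mem (hQC h1) ht
    have e : x * t * x⁻¹ * t⁻¹ * t = x * t * x⁻¹ := by group
    rw [e] at h2
    exact h2
  have hPCn : P ≤ Subgroup.normalizer (C : Set Γ) := rg_le_normalizer P C hPC'
  have hQT₂ : Q ≤ gnT C Q θ := gnT_Q_le C Q θ hQC hθcl
  have hT₂T : gnT C Q θ ≤ gnT K Q θ := gnT_mono K Q C θ hCK
  have hQT : Q ≤ gnT K Q θ := hQT₂.trans hT₂T
  have hTK : gnT K Q θ ≤ K := gnT_le K Q θ
  have hPT : ∀ x ∈ P, ∀ t ∈ gnT K Q θ, x * t * x⁻¹ ∈ gnT K Q θ :=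
    fun x hx => gnT_conj K Q θ x (hPK hx) (hPn hx) (fun n n' hn => hθinv x hx n n' hn)
  have hPT₂ : ∀ x ∈ P, ∀ t ∈ gnT C Q θ, x * t * x⁻¹ ∈ gnT C Q θ :=
    fun x hx => gnT_conj C Q θ x (hPCn hx) (hPn hx) (fun n n' hn => hθinv x hx n n' hn)
  have hstabK := gnT_stab K Q θ hKn
  have hstabC := gnT_stab C Q θ hCn
  have hfix := gnT_fix P K Q C θ hC
  have hidx : ¬ p ∣ Q.relIndex (gnT K Q θ) := by
    intro h
    apply hQsyl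
    rw [← Subgroup.relIndex_mul_relIndex Q (gnT K Q θ) K hQT hTK]
    exact Dvd.dvd.mul_right h _
  have hindex := gn_index_congr p P Q K C (gnT K Q θ) (gnT C Q θ) hP hPn hKn hPK' hPT hC hfix hQT₂
    hTK (gnT_le C Q θ) hQsyl
  -- the canonical extension
  have hTn : gnT K Q θ ≤ Subgroup.normalizer (Q : Set Γ) := hTK.trans hKn
  haveI hN : (Q.subgroupOf (gnT K Q θ)).Normal := gn_ag_normal Q (gnT K Q θ) hTn
  obtain ⟨a, ha⟩ := hQp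
  have hcardN : Nat.card (Q.subgroupOf (gnT K Q θ)) = p ^ a := by
    rw [← ha]
    exact Nat.card_congr (Subgroup.subgroupOfEquivOfLe hQT).toEquiv
  have hϑ := gn_irr_to_sub Q (gnT K Q θ) hQT hθ
  have hinvT : ∀ (g : gnT K Q θ) (n : Q.subgroupOf (gnT K Q θ)),
      (fun x : Q.subgroupOf (gnT K Q θ) =>
        θ ⟨((x : gnT K Q θ) : Γ), Subgroup.mem_subgroupOf.mp x.2⟩)
        ⟨g * n * g⁻¹, hN.conj_mem (n : gnT K Q θ) n.2 g⟩ =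
      (fun x : Q.subgroupOf (gnT K Q θ) =>
        θ ⟨((x : gnT K Q θ) : Γ), Subgroup.mem_subgroupOf.mp x.2⟩) n := by
    intro g n
    exact ((hstabK g (hTK g.2)).mp g.2) _ _ rfl
  obtain ⟨θh, hθh, hθhext, hθhaut⟩ := gn_canon (Q.subgroupOf (gnT K Q θ)) p hp.out ⟨a, hcardN⟩
    hidx _ hϑ hinvT
  have hext : ∀ n : Q, θh ⟨n, hQT n.2⟩ = θ n := by
    intro n
    exact hθhext ⟨⟨n, hQT n.2⟩, Subgroup.mem_subgroupOf.mpr n.2⟩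
  have hPTn : P ≤ Subgroup.normalizer ((gnT K Q θ : Subgroup Γ) : Set Γ) :=
    rg_le_normalizer P _ hPT
  have hθhinv : gpInv (gnT K Q θ) P θh := by
    intro x hx t t' ht
    have h1 := hθhaut (rgConjN (gnT K Q θ) x (hPTn hx)) (by
      intro n
      have hmem : (rgConjN (gnT K Q θ) x (hPTn hx) (n : gnT K Q θ)) ∈
          Q.subgroupOf (gnT K Q θ) := by
        rw [Subgroup.mem_subgroupOf]
        exact hPQ x hx _ (Subgroup.mem_subgroupOf.mp n.2)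
      refine ⟨hmem, ?_⟩
      exact hθinv x hx ⟨((n : gnT K Q θ) : Γ), Subgroup.mem_subgroupOf.mp n.2⟩ _ rfl) t
    rw [← h1]
    congr 1
    exact Subtype.ext ht
  have hθh₂ : Cfsg.IsIrrCharacter (gnT C Q θ) (fun t : gnT C Q θ => θh ⟨t, hT₂T t.2⟩) := by
    haveI : Fintype (gnT C Q θ) := Fintype.ofFinite _
    apply irr_of_restrict_irr (Q.subgroupOf (gnT C Q θ)) _
      (isCharacter_comp_hom (h7_irr_isCharacter hθh) (Subgroup.inclusion hT₂T))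
    exact gn_ag_res Q (gnT C Q θ) hQT₂ θ hθ (fun t : gnT C Q θ => θh ⟨t, hT₂T t.2⟩)
      (fun n => hext n)
  exact ⟨θh, ⟨hP, hQT₂, hT₂T, hTK, gnT_le C Q θ, hCK, hKn, hPn, hPK', hPC', hPT, hPT₂, hθ, hθinv,
    hstabK, hstabC, hθh, hext, hθhinv, hθh₂, hfix, hidx, hindex, hC, hQsyl⟩⟩

end mk

end Cfsg.Agent.Lib.helper2
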