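import Mathlib
import Cfsg.Prelude.Def_Characters
import Cfsg.Prelude.Def_Blocks
import Cfsg.Agent.Lib.helper2.GN10
import Cfsg.Agent.Lib.helper2.GlaubP6

set_option autoImplicit false

namespace Cfsg.Agent.Lib.helper2

open scoped ComplexConjugate
open Cfsg.Agent.Lib.helper7 Cfsg.Agent.Lib.Helper25

section loc

variable {Γ : Type*} [Group Γ] [Finite Γ] (p : ℕ) [hp : Fact p.Prime] {P K Q C T T₂ : Subgroup Γ}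
variable {θ : Q → ℂ} {θh : T → ℂ}

/-- Glauberman's correspondence in the quotient -/
theorem gn_loc_glaub (L : GnLoc p P K Q C T T₂ θ θh) [Fintype (gnIm Q T)] [Fintype (gnIm Q T₂)] :
    gpCorr (gnIm Q T) (gnIm Q P) (gnIm Q T₂) (gn_im_mono T T₂ Q L.hT₂T) p := by
  classical
  haveI : Fintype (gnQuot Q) := Fintype.ofFinite _
  have hTn : T ≤ Subgroup.normalizer (Q : Set Γ) := L.hTK.trans L.hKn
  exact gp_main p (Nat.card (gnIm Q P)) (gnIm Q T) (gnIm Q P) rfl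
    (gn_im_norm Q P T L.hPn hTn L.hPT) (gn_im_coprime Q p P T hTn L.hP L.hidx)
    (gn_im_pgroup Q p P L.hP) (gnIm Q T₂) (gn_im_fixed Q P T T₂ L.hPn hTn L.hfix)
    (gn_im_mono T T₂ Q L.hT₂T)

theorem gn_loc_cent (L : GnLoc p P K Q C T T₂ θ θh) :
    gnIm Q T₂ ≤ Subgroup.centralizer (gnIm Q P : Set (gnQuot Q)) := by
  have hTn : T ≤ Subgroup.normalizer (Q : Set Γ) := L.hTK.trans L.hKn
  rw [gn_im_fixed Q P T T₂ L.hPn hTn L.hfix]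
  exact inf_le_right

theorem gn_loc_inv₂ (L : GnLoc p P K Q C T T₂ θ θh) :
    gpInv T₂ P (fun t : T₂ => θh ⟨t, L.hT₂T t.2⟩) :=
  fun x hxP t t' ht => L.hθhinv x hxP ⟨t, L.hT₂T t.2⟩ ⟨t', L.hT₂T t'.2⟩ ht

/-- local correspondence: existence and multiplicities -/
theorem gn_loc_a (L : GnLoc p P K Q C T T₂ θ θh) [Fintype K] [Fintype C] [Fintype Q]
    (χ : K → ℂ) (hχ : Cfsg.IsIrrCharacter K χ) (hχinv : gpInv K P χ)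
    (hχθ : Cfsg.classInner (fun n : Q => χ ⟨n, L.hTK (L.hT₂T (L.hQT₂ n.2))⟩) θ ≠ 0) :
    ∃ ξ₀ : C → ℂ, Cfsg.IsIrrCharacter C ξ₀ ∧ gpInv C P ξ₀ ∧
      Cfsg.classInner (fun n : Q => ξ₀ ⟨n, L.hT₂C (L.hQT₂ n.2)⟩) θ ≠ 0 ∧
      ∃ ε : ℤ, (ε = 1 ∨ ε = -1) ∧
        (∀ ξ : C → ℂ, Cfsg.IsIrrCharacter C ξ →
          Cfsg.classInner (fun n : Q => ξ ⟨n, L.hT₂C (L.hQT₂ n.2)⟩) θ ≠ 0 →
          ∃ m : ℕ, Cfsg.classInner (fun c : C => χ ⟨c, L.hCK c.2⟩) ξ = m ∧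
            (ξ = ξ₀ → (m : ℤ) ≡ ε [ZMOD p]) ∧ (ξ ≠ ξ₀ → (m : ℤ) ≡ 0 [ZMOD p])) ∧
        (Cfsg.charDegree χ : ZMod p) = (ε : ZMod p) * (Cfsg.charDegree ξ₀ : ZMod p) := by
  classical
  haveI : Fintype T := Fintype.ofFinite _
  haveI : Fintype T₂ := Fintype.ofFinite _
  haveI : Fintype (gnIm Q T) := Fintype.ofFinite _
  haveI : Fintype (gnIm Q T₂) := Fintype.ofFinite _
  have hCn : C ≤ Subgroup.normalizer (Q : Set Γ) := L.hCK.trans L.hKn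
  have hQT : Q ≤ T := L.hQT₂.trans L.hT₂T
  obtain ⟨β, hβ, hpair⟩ := gn_param_down K T Q hQT L.hTK L.hKn θ θh L.hθ L.hstabK L.hθh L.hext
    χ hχ hχθ
  have hβinv := (gn_pair_inv P K T Q hQT L.hTK L.hKn θ θh L.hθ L.hθh L.hext L.hPn L.hPK L.hPT
    L.hθinv L.hθhinv χ hχ β hβ hpair).mp hχinv
  obtain ⟨HA, HB, HC⟩ := gn_loc_glaub p L
  obtain ⟨γ₀, ε, hε, hmult⟩ := HA ⟨β, hβ⟩ hβinv
  obtain ⟨ξ₀, hξ₀, hξ₀θ, hpair₀⟩ := gn_param_up C T₂ Q L.hQT₂ L.hT₂C hCn θ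
    (fun t : T₂ => θh ⟨t, L.hT₂T t.2⟩) L.hθ L.hstabC L.hθh₂ (fun n => L.hext n) γ₀ γ₀.2
  have hγinv : ∀ γ : gnIm Q T₂ → ℂ, gpInv (gnIm Q T₂) (gnIm Q P) γ :=
    fun γ => gn_inv_central _ _ (gn_loc_cent p L) γ
  have hξ₀inv := (gn_pair_inv P C T₂ Q L.hQT₂ L.hT₂C hCn θ (fun t : T₂ => θh ⟨t, L.hT₂T t.2⟩)
    L.hθ L.hθh₂ (fun n => L.hext n) L.hPn L.hPC L.hPT₂ L.hθinv (gn_loc_inv₂ p L) ξ₀ hξ₀ γ₀ γ₀.2
    hpair₀).mpr (hγinv _)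
  refine ⟨ξ₀, hξ₀, hξ₀inv, hξ₀θ, ε, hε, ?_, ?_⟩
  · intro ξ hξ hξθ
    obtain ⟨γ, hγ, hpairξ⟩ := gn_param_down C T₂ Q L.hQT₂ L.hT₂C hCn θ
      (fun t : T₂ => θh ⟨t, L.hT₂T t.2⟩) L.hθ L.hstabC L.hθh₂ (fun n => L.hext n) ξ hξ hξθ
    have hm := gn_pair_mult K C T T₂ Q L.hQT₂ L.hT₂T L.hTK L.hT₂C L.hCK L.hKn θ L.hθ θh L.hθh
      L.hext L.hθh₂ χ hχ β hβ ξ hξ γ hγ hpair hpairξ
    obtain ⟨m, hm1, hm2⟩ := hmult ⟨γ, hγ⟩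
    refine ⟨m, hm.trans hm1, ?_, ?_⟩
    · intro he
      subst he
      have e : γ = (γ₀ : gnIm Q T₂ → ℂ) := gn_pair_unique_right C T₂ Q L.hQT₂ L.hT₂C hCn θ
        (fun t : T₂ => θh ⟨t, L.hT₂T t.2⟩) L.hθ L.hθh₂ (fun n => L.hext n) ξ γ₀ γ γ₀.2 hγ
        hpair₀ hpairξ
      rw [if_pos (Subtype.ext e)] at hm2
      exact hm2
    · intro hne
      have hne' : (⟨γ, hγ⟩ : Cfsg.IrrCharacter (gnIm Q T₂)) ≠ γ₀ := by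
        intro he
        apply hne
        have e : γ = (γ₀ : gnIm Q T₂ → ℂ) := congrArg Subtype.val he
        rw [e] at hpairξ
        exact gn_pair_unique_left C T₂ Q L.hQT₂ L.hT₂C hCn θ
          (fun t : T₂ => θh ⟨t, L.hT₂T t.2⟩) ξ₀ ξ γ₀ hξ hpair₀ hpairξ
      rw [if_neg hne'] at hm2
      exact hm2
  · have hdβ := gn_glaub_deg (gnIm Q T) (gnIm Q T₂) (gn_im_mono T T₂ Q L.hT₂T) p ⟨β, hβ⟩ γ₀ ε hmult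
    have e1 := hpair.2.1
    have e2 := hpair₀.2.1
    have dχ : ((Cfsg.charDegree χ : ℕ) : ℂ) = χ 1 :=
      (charDegree_irr (⟨χ, hχ⟩ : Cfsg.IrrCharacter K)).1
    have dβ : ((Cfsg.charDegree β : ℕ) : ℂ) = β 1 :=
      (charDegree_irr (⟨β, hβ⟩ : Cfsg.IrrCharacter (gnIm Q T))).1
    have dθ : ((Cfsg.charDegree θ : ℕ) : ℂ) = θ 1 :=
      (charDegree_irr (⟨θ, L.hθ⟩ : Cfsg.IrrCharacter Q)).1
    have dξ : ((Cfsg.charDegree ξ₀ : ℕ) : ℂ) = ξ₀ 1 :=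
      (charDegree_irr (⟨ξ₀, hξ₀⟩ : Cfsg.IrrCharacter C)).1
    have dγ : ((Cfsg.charDegree (γ₀ : gnIm Q T₂ → ℂ) : ℕ) : ℂ) = (γ₀ : gnIm Q T₂ → ℂ) 1 :=
      (charDegree_irr γ₀).1
    rw [← dχ, ← dβ, ← dθ] at e1
    rw [← dξ, ← dγ, ← dθ] at e2
    have e1' : Cfsg.charDegree χ = T.relIndex K * (Cfsg.charDegree β * Cfsg.charDegree θ) := by
      exact_mod_cast e1
    have e2' : Cfsg.charDegree ξ₀ = T₂.relIndex C *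
        (Cfsg.charDegree (γ₀ : gnIm Q T₂ → ℂ) * Cfsg.charDegree θ) := by
      exact_mod_cast e2
    rw [e1', e2']
    push_cast
    rw [L.hindex]
    have hdβ' : (Cfsg.charDegree β : ZMod p) =
        (ε : ZMod p) * (Cfsg.charDegree (γ₀ : gnIm Q T₂ → ℂ) : ZMod p) := hdβ
    rw [hdβ']
    ring

/-- local correspondence: injectivity -/
theorem gn_loc_b (L : GnLoc p P K Q C T T₂ θ θh) [Fintype K] [Fintype C] [Fintype Q]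
    (χ χ' : K → ℂ) (hχ : Cfsg.IsIrrCharacter K χ) (hχ' : Cfsg.IsIrrCharacter K χ')
    (hχinv : gpInv K P χ) (hχ'inv : gpInv K P χ')
    (hχθ : Cfsg.classInner (fun n : Q => χ ⟨n, L.hTK (L.hT₂T (L.hQT₂ n.2))⟩) θ ≠ 0)
    (hχ'θ : Cfsg.classInner (fun n : Q => χ' ⟨n, L.hTK (L.hT₂T (L.hQT₂ n.2))⟩) θ ≠ 0)
    (ξ : C → ℂ) (hξ : Cfsg.IsIrrCharacter C ξ)
    (hξθ : Cfsg.classInner (fun n : Q => ξ ⟨n, L.hT₂C (L.hQT₂ n.2)⟩) θ ≠ 0) (m m' : ℕ)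
    (hm : Cfsg.classInner (fun c : C => χ ⟨c, L.hCK c.2⟩) ξ = m) (hpm : ¬ p ∣ m)
    (hm' : Cfsg.classInner (fun c : C => χ' ⟨c, L.hCK c.2⟩) ξ = m') (hpm' : ¬ p ∣ m') :
    χ = χ' := by
  classical
  haveI : Fintype T := Fintype.ofFinite _
  haveI : Fintype T₂ := Fintype.ofFinite _
  haveI : Fintype (gnIm Q T) := Fintype.ofFinite _
  haveI : Fintype (gnIm Q T₂) := Fintype.ofFinite _
  have hCn : C ≤ Subgroup.normalizer (Q : Set Γ) := L.hCK.trans L.hKn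
  have hQT : Q ≤ T := L.hQT₂.trans L.hT₂T
  obtain ⟨β, hβ, hpair⟩ := gn_param_down K T Q hQT L.hTK L.hKn θ θh L.hθ L.hstabK L.hθh L.hext
    χ hχ hχθ
  obtain ⟨β', hβ', hpair'⟩ := gn_param_down K T Q hQT L.hTK L.hKn θ θh L.hθ L.hstabK L.hθh L.hext
    χ' hχ' hχ'θ
  have hβinv := (gn_pair_inv P K T Q hQT L.hTK L.hKn θ θh L.hθ L.hθh L.hext L.hPn L.hPK L.hPT
    L.hθinv L.hθhinv χ hχ β hβ hpair).mp hχinv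
  have hβ'inv := (gn_pair_inv P K T Q hQT L.hTK L.hKn θ θh L.hθ L.hθh L.hext L.hPn L.hPK L.hPT
    L.hθinv L.hθhinv χ' hχ' β' hβ' hpair').mp hχ'inv
  obtain ⟨HA, HB, HC⟩ := gn_loc_glaub p L
  obtain ⟨γ, hγ, hpairξ⟩ := gn_param_down C T₂ Q L.hQT₂ L.hT₂C hCn θ
    (fun t : T₂ => θh ⟨t, L.hT₂T t.2⟩) L.hθ L.hstabC L.hθh₂ (fun n => L.hext n) ξ hξ hξθ
  have h1 := gn_pair_mult K C T T₂ Q L.hQT₂ L.hT₂T L.hTK L.hT₂C L.hCK L.hKn θ L.hθ θh L.hθh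
    L.hext L.hθh₂ χ hχ β hβ ξ hξ γ hγ hpair hpairξ
  have h2 := gn_pair_mult K C T T₂ Q L.hQT₂ L.hT₂T L.hTK L.hT₂C L.hCK L.hKn θ L.hθ θh L.hθh
    L.hext L.hθh₂ χ' hχ' β' hβ' ξ hξ γ hγ hpair' hpairξ
  have hββ' := HB ⟨β, hβ⟩ ⟨β', hβ'⟩ hβinv hβ'inv ⟨γ, hγ⟩ m m' (h1.symm.trans hm) hpm
    (h2.symm.trans hm') hpm'
  have e : β = β' := congrArg Subtype.val hββ'
  rw [← e] at hpair'
  exact (gn_pair_unique_left K T Q hQT L.hTK L.hKn θ θh χ χ' β hχ' hpair hpair').symm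

/-- local correspondence: surjectivity -/
theorem gn_loc_c (L : GnLoc p P K Q C T T₂ θ θh) [Fintype K] [Fintype C] [Fintype Q]
    (ξ : C → ℂ) (hξ : Cfsg.IsIrrCharacter C ξ)
    (hξθ : Cfsg.classInner (fun n : Q => ξ ⟨n, L.hT₂C (L.hQT₂ n.2)⟩) θ ≠ 0) :
    ∃ χ : K → ℂ, Cfsg.IsIrrCharacter K χ ∧ gpInv K P χ ∧
      Cfsg.classInner (fun n : Q => χ ⟨n, L.hTK (L.hT₂T (L.hQT₂ n.2))⟩) θ ≠ 0 ∧
      ∃ m : ℕ, Cfsg.classInner (fun c : C => χ ⟨c, L.hCK c.2⟩) ξ = m ∧ ¬ p ∣ m := by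
  classical
  haveI : Fintype T := Fintype.ofFinite _
  haveI : Fintype T₂ := Fintype.ofFinite _
  haveI : Fintype (gnIm Q T) := Fintype.ofFinite _
  haveI : Fintype (gnIm Q T₂) := Fintype.ofFinite _
  have hCn : C ≤ Subgroup.normalizer (Q : Set Γ) := L.hCK.trans L.hKn
  have hQT : Q ≤ T := L.hQT₂.trans L.hT₂T
  obtain ⟨HA, HB, HC⟩ := gn_loc_glaub p L
  obtain ⟨γ, hγ, hpairξ⟩ := gn_param_down C T₂ Q L.hQT₂ L.hT₂C hCn θ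
    (fun t : T₂ => θh ⟨t, L.hT₂T t.2⟩) L.hθ L.hstabC L.hθh₂ (fun n => L.hext n) ξ hξ hξθ
  obtain ⟨β, hβinv, m, hm, hpm⟩ := HC ⟨γ, hγ⟩
  obtain ⟨χ, hχ, hχθ, hpair⟩ := gn_param_up K T Q hQT L.hTK L.hKn θ θh L.hθ L.hstabK L.hθh L.hext
    β β.2
  have hχinv := (gn_pair_inv P K T Q hQT L.hTK L.hKn θ θh L.hθ L.hθh L.hext L.hPn L.hPK L.hPT
    L.hθinv L.hθhinv χ hχ β β.2 hpair).mpr hβinv
  have h1 := gn_pair_mult K C T T₂ Q L.hQT₂ L.hT₂T L.hTK L.hT₂C L.hCK L.hKn θ L.hθ θh L.hθh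
    L.hext L.hθh₂ χ hχ β β.2 ξ hξ γ hγ hpair hpairξ
  exact ⟨χ, hχ, hχinv, hχθ, m, h1.trans hm, hpm⟩

end loc

end Cfsg.Agent.Lib.helper2
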