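import Mathlib
import Cfsg.Prelude.Def_Characters
import Cfsg.Prelude.Def_Blocks
import Cfsg.Agent.Lib.helper2.GN11
import Cfsg.Agent.S4447

set_option autoImplicit false

namespace Cfsg.Agent.Lib.helper2

open scoped ComplexConjugate
open Cfsg.Agent.Lib.helper7 Cfsg.Agent.Lib.Helper25 Cfsg.Agent.Lib.Helper11

section glob

variable {Γ : Type*} [Group Γ] [Finite Γ] (p : ℕ) [hp : Fact p.Prime]

/-- an invariant irreducible character lies over an invariant character of `Q` -/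
theorem gn_inv_under (P H Q : Subgroup Γ) [Fintype H] [Fintype Q] (hP : IsPGroup p P)
    (hQH : Q ≤ H) (hHn : ∀ h ∈ H, ∀ q ∈ Q, h * q * h⁻¹ ∈ Q)
    (hPH : ∀ x ∈ P, ∀ t ∈ H, x * t * x⁻¹ ∈ H) (hPQ : ∀ x ∈ P, ∀ q ∈ Q, x * q * x⁻¹ ∈ Q)
    (hidx : ¬ p ∣ Q.relIndex H) (χ : H → ℂ) (hχ : Cfsg.IsIrrCharacter H χ)
    (hχinv : gpInv H P χ) :
    ∃ θ : Q → ℂ, Cfsg.IsIrrCharacter Q θ ∧ gpInv Q P θ ∧
      Cfsg.classInner (fun n : Q => χ ⟨n, hQH n.2⟩) θ ≠ 0 := by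
  classical
  haveI : Fintype Γ := Fintype.ofFinite Γ
  haveI : (Q.subgroupOf H).Normal := gn_normal_sub H Q hHn
  have hcop : (Q.relIndex H).Coprime (Nat.card P) := by
    obtain ⟨k, hk⟩ := IsPGroup.iff_card.mp hP
    rw [hk]
    exact Nat.Coprime.pow_right k ((Nat.Prime.coprime_iff_not_dvd hp.out).mpr hidx).symm
  haveI : Group.IsNilpotent P := hP.isNilpotent
  have hsolv : Group.IsSolvable P := inferInstance
  obtain ⟨θ, h1, h2⟩ := Cfsg.Agent.S4447.result H P Q hPH hQH hPQ hcop (Or.inl hsolv) ⟨χ, hχ⟩ hχinv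
  exact ⟨θ, θ.2, h2, h1⟩

variable {P K Q C T T₂ : Subgroup Γ} {θ : Q → ℂ} {θh : T → ℂ}

/-- an invariant constituent of `χ_C` lies over the chosen `θ` -/
theorem gn_over_of_constituent (L : GnLoc p P K Q C T T₂ θ θh)
    [Fintype K] [Fintype C] [Fintype Q] (χ : K → ℂ) (hχ : Cfsg.IsIrrCharacter K χ)
    (hχθ : Cfsg.classInner (fun n : Q => χ ⟨n, L.hTK (L.hT₂T (L.hQT₂ n.2))⟩) θ ≠ 0)
    (ξ : C → ℂ) (hξ : Cfsg.IsIrrCharacter C ξ) (hξinv : gpInv C P ξ)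
    (hcon : Cfsg.classInner (fun c : C => χ ⟨c, L.hCK c.2⟩) ξ ≠ 0) :
    Cfsg.classInner (fun n : Q => ξ ⟨n, L.hT₂C (L.hQT₂ n.2)⟩) θ ≠ 0 := by
  classical
  have hQC : Q ≤ C := L.hQT₂.trans L.hT₂C
  have hQK : Q ≤ K := hQC.trans L.hCK
  have hCn : C ≤ Subgroup.normalizer (Q : Set Γ) := L.hCK.trans L.hKn
  have hKel : ∀ h ∈ K, ∀ q ∈ Q, h * q * h⁻¹ ∈ Q :=
    fun h hh q hq => (Subgroup.mem_normalizer_iff.mp (L.hKn hh) q).mp hq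
  have hCel : ∀ h ∈ C, ∀ q ∈ Q, h * q * h⁻¹ ∈ Q := fun h hh => hKel h (L.hCK hh)
  have hPel : ∀ h ∈ P, ∀ q ∈ Q, h * q * h⁻¹ ∈ Q :=
    fun h hh q hq => (Subgroup.mem_normalizer_iff.mp (L.hPn hh) q).mp hq
  have hidxC : ¬ p ∣ Q.relIndex C := by
    intro h
    apply L.hQsyl
    rw [← Subgroup.relIndex_mul_relIndex Q C K hQC L.hCK]
    exact Dvd.dvd.mul_right h _
  obtain ⟨θ', hθ', hθ'inv, hξθ'⟩ := gn_inv_under p P C Q L.hP hQC hCel L.hPC hPel hidxC ξ hξ hξinv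
  have hχθ' : Cfsg.classInner (fun n : Q => χ ⟨n, hQK n.2⟩) θ' ≠ 0 :=
    gn_over_trans Q C hQC (fun c : C => χ ⟨c, L.hCK c.2⟩)
      (isCharacter_comp_hom (h7_irr_isCharacter hχ) (Subgroup.inclusion L.hCK)) ξ hξ θ' hθ' hcon hξθ'
  -- Clifford conjugacy in `K`
  haveI hN : (Q.subgroupOf K).Normal := gn_normal_sub K Q hKel
  haveI : Fintype (Q.subgroupOf K) := Fintype.ofFinite _
  have h1 : Cfsg.classInner (fun n : Q.subgroupOf K => χ n)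
      (fun x : Q.subgroupOf K => θ ⟨((x : K) : Γ), Subgroup.mem_subgroupOf.mp x.2⟩) ≠ 0 := by
    rw [gn_inner_subgroupOf Q K hQK χ θ]
    exact hχθ
  have h2 : Cfsg.classInner (fun n : Q.subgroupOf K => χ n)
      (fun x : Q.subgroupOf K => θ' ⟨((x : K) : Γ), Subgroup.mem_subgroupOf.mp x.2⟩) ≠ 0 := by
    rw [gn_inner_subgroupOf Q K hQK χ θ']
    exact hχθ'
  obtain ⟨g, hg⟩ := h7_clifford_conj (Q.subgroupOf K) χ hχ _ _ (gn_irr_to_sub Q K hQK L.hθ)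
    (gn_irr_to_sub Q K hQK hθ') h1 h2
  have hconj : ∀ n n' : Q, (n' : Γ) = (g : Γ) * n * (g : Γ)⁻¹ → θ' n = θ n' := by
    intro n n' hn
    have := congrFun hg ⟨⟨n, hQK n.2⟩, Subgroup.mem_subgroupOf.mpr n.2⟩
    rw [cj_apply] at this
    simp only at this
    rw [this]
    congr 1
    exact Subtype.ext hn.symm
  obtain ⟨c, hcC, hc⟩ := gn_trans p P Q K C T θ θ' L.hP L.hPn L.hKn L.hPK L.hC L.hstabK L.hTK L.hidx
    L.hθinv hθ'inv g g.2 hconj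
  have hcn : c ∈ Subgroup.normalizer (Q : Set Γ) := hCn hcC
  have e1 : θ' = gnCj Q c hcn θ := by
    funext n
    exact hc n _ rfl
  have e2 : (fun n : Q => ξ ⟨n, hQC n.2⟩) = gnCj Q c hcn (fun n : Q => ξ ⟨n, hQC n.2⟩) := by
    funext n
    have := h7_irr_isClassFunction hξ ⟨n, hQC n.2⟩ ⟨c, hcC⟩
    rw [← this]
    rfl
  rw [e1, e2, gnCj_inner] at hξθ'
  exact hξθ'

/-- the global correspondence, in inner-product form -/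
theorem gn_global (P K Q C : Subgroup Γ) [Fintype K] [Fintype C] (hP : IsPGroup p P)
    (hPK : P ≤ Subgroup.normalizer (K : Set Γ)) (hQK : Q ≤ K)
    (hQn : ∀ k ∈ K, ∀ q ∈ Q, k * q * k⁻¹ ∈ Q) (hQp : ∃ a : ℕ, Nat.card Q = p ^ a)
    (hQsyl : ¬ p ∣ Q.relIndex K) (hCK : C ≤ K)
    (hC : ∀ k : Γ, k ∈ C ↔ (k ∈ K ∧ ∀ x ∈ P, x * k * x⁻¹ * k⁻¹ ∈ Q)) :
    (∀ χ : K → ℂ, Cfsg.IsIrrCharacter K χ → gpInv K P χ →
      ∃ ξ₀ : C → ℂ, Cfsg.IsIrrCharacter C ξ₀ ∧ gpInv C P ξ₀ ∧ ∃ ε : ℤ, (ε = 1 ∨ ε = -1) ∧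
        (∀ ξ : C → ℂ, Cfsg.IsIrrCharacter C ξ → gpInv C P ξ →
          ∃ m : ℕ, Cfsg.classInner (fun c : C => χ ⟨c, hCK c.2⟩) ξ = m ∧
            (ξ = ξ₀ → (m : ℤ) ≡ ε [ZMOD p]) ∧ (ξ ≠ ξ₀ → (m : ℤ) ≡ 0 [ZMOD p])) ∧
        (Cfsg.charDegree χ : ZMod p) = (ε : ZMod p) * (Cfsg.charDegree ξ₀ : ZMod p)) ∧
    (∀ χ χ' : K → ℂ, Cfsg.IsIrrCharacter K χ → Cfsg.IsIrrCharacter K χ' → gpInv K P χ →
      gpInv K P χ' → ∀ ξ : C → ℂ, Cfsg.IsIrrCharacter C ξ → gpInv C P ξ → ∀ m m' : ℕ,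
        Cfsg.classInner (fun c : C => χ ⟨c, hCK c.2⟩) ξ = m → ¬ p ∣ m →
        Cfsg.classInner (fun c : C => χ' ⟨c, hCK c.2⟩) ξ = m' → ¬ p ∣ m' → χ = χ') ∧
    (∀ ξ : C → ℂ, Cfsg.IsIrrCharacter C ξ → gpInv C P ξ →
      ∃ χ : K → ℂ, Cfsg.IsIrrCharacter K χ ∧ gpInv K P χ ∧
        ∃ m : ℕ, Cfsg.classInner (fun c : C => χ ⟨c, hCK c.2⟩) ξ = m ∧ ¬ p ∣ m) := by
  classical
  haveI : Fintype Q := Fintype.ofFinite _
  have hPQ := gn_sylow_conj p P K Q hPK hQK hQn hQp hQsyl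
  have hPK' : ∀ x ∈ P, ∀ t ∈ K, x * t * x⁻¹ ∈ K :=
    fun x hx t ht => (Subgroup.mem_normalizer_iff.mp (hPK hx) t).mp ht
  refine ⟨?_, ?_, ?_⟩
  · intro χ hχ hχinv
    obtain ⟨θ, hθ, hθinv, hχθ⟩ := gn_inv_under p P K Q hP hQK hQn hPK' hPQ hQsyl χ hχ hχinv
    obtain ⟨θh, L⟩ := gn_loc_mk p P K Q C hP hPK hQK hQn hQp hQsyl hCK hC θ hθ hθinv
    obtain ⟨ξ₀, hξ₀, hξ₀inv, hξ₀θ, ε, hε, hmult, hdeg⟩ := gn_loc_a p L χ hχ hχinv hχθ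
    refine ⟨ξ₀, hξ₀, hξ₀inv, ε, hε, ?_, hdeg⟩
    intro ξ hξ hξinv
    by_cases hov : Cfsg.classInner (fun n : Q => ξ ⟨n, L.hT₂C (L.hQT₂ n.2)⟩) θ = 0
    · have h0 : Cfsg.classInner (fun c : C => χ ⟨c, hCK c.2⟩) ξ = 0 := by
        by_contra hcon
        exact (gn_over_of_constituent p L χ hχ hχθ ξ hξ hξinv hcon) hov
      refine ⟨0, by rw [h0]; simp, ?_, ?_⟩
      · intro he
        subst he
        exact absurd hov hξ₀θ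
      · intro _
        exact Int.ModEq.refl _
    · exact hmult ξ hξ hov
  · intro χ χ' hχ hχ' hχinv hχ'inv ξ hξ hξinv m m' hm hpm hm' hpm'
    obtain ⟨θ, hθ, hθinv, hχθ⟩ := gn_inv_under p P K Q hP hQK hQn hPK' hPQ hQsyl χ hχ hχinv
    obtain ⟨θh, L⟩ := gn_loc_mk p P K Q C hP hPK hQK hQn hQp hQsyl hCK hC θ hθ hθinv
    have hcon : Cfsg.classInner (fun c : C => χ ⟨c, hCK c.2⟩) ξ ≠ 0 := by
      rw [hm]
      intro h0
      have : m = 0 := by exact_mod_cast h0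
      apply hpm
      rw [this]
      exact dvd_zero p
    have hcon' : Cfsg.classInner (fun c : C => χ' ⟨c, hCK c.2⟩) ξ ≠ 0 := by
      rw [hm']
      intro h0
      have : m' = 0 := by exact_mod_cast h0
      apply hpm'
      rw [this]
      exact dvd_zero p
    have hξθ := gn_over_of_constituent p L χ hχ hχθ ξ hξ hξinv hcon
    have hχ'θ : Cfsg.classInner (fun n : Q => χ' ⟨n, L.hTK (L.hT₂T (L.hQT₂ n.2))⟩) θ ≠ 0 :=
      gn_over_trans Q C (L.hQT₂.trans L.hT₂C) (fun c : C => χ' ⟨c, hCK c.2⟩)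
        (isCharacter_comp_hom (h7_irr_isCharacter hχ') (Subgroup.inclusion hCK)) ξ hξ θ hθ hcon' hξθ
    exact gn_loc_b p L χ χ' hχ hχ' hχinv hχ'inv hχθ hχ'θ ξ hξ hξθ m m' hm hpm hm' hpm'
  · intro ξ hξ hξinv
    have hQC : Q ≤ C := by
      intro q hq
      rw [hC]
      exact ⟨hQK hq, fun x hx => Q.mul_mem (hPQ x hx q hq) (Q.inv_mem hq)⟩
    have hPC' : ∀ x ∈ P, ∀ t ∈ C, x * t * x⁻¹ ∈ C := by
      intro x hx t ht
      have h1 := ((hC t).mp ht).2 x hx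
      have h2 := C.mul_mem (hQC h1) ht
      have e : x * t * x⁻¹ * t⁻¹ * t = x * t * x⁻¹ := by group
      rw [e] at h2
      exact h2
    have hidxC : ¬ p ∣ Q.relIndex C := by
      intro h
      apply hQsyl
      rw [← Subgroup.relIndex_mul_relIndex Q C K hQC hCK]
      exact Dvd.dvd.mul_right h _
    obtain ⟨θ, hθ, hθinv, hξθ⟩ := gn_inv_under p P C Q hP hQC (fun h hh => hQn h (hCK hh)) hPC' hPQ
      hidxC ξ hξ hξinv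
    obtain ⟨θh, L⟩ := gn_loc_mk p P K Q C hP hPK hQK hQn hQp hQsyl hCK hC θ hθ hθinv
    obtain ⟨χ, hχ, hχinv, -, m, hm, hpm⟩ := gn_loc_c p L ξ hξ hξθ
    exact ⟨χ, hχ, hχinv, m, hm, hpm⟩

end glob

end Cfsg.Agent.Lib.helper2
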