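import Mathlib
import Cfsg.Prelude.Def_Characters
import Cfsg.Agent.Lib.helper2.GN1
import Cfsg.Agent.Lib.helper2.Ito
import Cfsg.Agent.Lib.helper2.CharInd
import Cfsg.Agent.Lib.helper2.CharNat
import Cfsg.Agent.Lib.Helper11.GaloisConj
import Cfsg.Agent.Lib.helper7.CharMul
import Cfsg.Agent.Lib.Helper25.CharAbelian
import Cfsg.Agent.Lib.Helper25.CharLinear

set_option autoImplicit false
set_option linter.unusedVariables false

namespace Cfsg.Agent.Lib.helper2

open scoped ComplexConjugate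
open Cfsg.Agent.Lib.helper7 Cfsg.Agent.Lib.Helper25 Cfsg.Agent.Lib.Helper11

/-- summing over the `k`-th powers in a finite group of order prime to `k` -/
theorem gq_sum_pow {T : Type*} [Group T] [Fintype T] (k : ℕ) (hk : Nat.Coprime k (Nat.card T))
    (f : T → ℂ) : ∑ t : T, f (t ^ k) = ∑ t : T, f t := by
  have h := Equiv.sum_comp (powCoprime (G := T) hk.symm) f
  simpa [powCoprime] using h

theorem gq_inner_pow {T : Type*} [Group T] [Fintype T] (k : ℕ) (hk : Nat.Coprime k (Nat.card T))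
    (a b : T → ℂ) :
    Cfsg.classInner (fun t => a (t ^ k)) (fun t => b (t ^ k)) = Cfsg.classInner a b := by
  unfold Cfsg.classInner
  congr 1
  exact gq_sum_pow k hk (fun t => a t * conj (b t))

theorem gq_coprime_sub {G : Type*} [Group G] [Finite G] (T : Subgroup G) (k : ℕ)
    (hk : Nat.Coprime k (Nat.card G)) : Nat.Coprime k (Nat.card T) :=
  Nat.Coprime.coprime_dvd_right (Subgroup.card_subgroup_dvd_card T) hk

theorem gq_irr_pow {T : Type*} [Group T] [Finite T] (k : ℕ) (hk : Nat.Coprime k (Nat.card T))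
    {ψ : T → ℂ} (hψ : Cfsg.IsIrrCharacter T ψ) : Cfsg.IsIrrCharacter T (fun t => ψ (t ^ k)) := by
  obtain ⟨τ, hτ⟩ := exists_ringAut_pow (Nat.card T) k Nat.card_pos hk
  have : (fun t => ψ (t ^ k)) = (fun t => τ (ψ t)) := by
    funext t
    exact (ringAut_character_apply τ k hτ (h7_irr_isCharacter hψ) t).symm
  rw [this]
  exact isIrrCharacter_ringAut τ hψ

theorem gq_char_pow {T : Type*} [Group T] [Finite T] (k : ℕ) (hk : Nat.Coprime k (Nat.card T))
    {ψ : T → ℂ} (hψ : Cfsg.IsCharacter T ψ) : Cfsg.IsCharacter T (fun t => ψ (t ^ k)) := by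
  obtain ⟨τ, hτ⟩ := exists_ringAut_pow (Nat.card T) k Nat.card_pos hk
  have : (fun t => ψ (t ^ k)) = (fun t => τ (ψ t)) := by
    funext t
    exact (ringAut_character_apply τ k hτ hψ t).symm
  rw [this]
  exact isCharacter_ringAut τ hψ

/-- If `χ` times a Galois conjugate is irreducible, every irreducible constituent of the
restriction of `χ` to a normal subgroup is invariant. -/
theorem gq_inertia_top {G : Type*} [Group G] [Fintype G] (χ : G → ℂ)
    (hχ : Cfsg.IsIrrCharacter G χ) (k : ℕ) (hk : Nat.Coprime k (Nat.card G))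
    (hirr : Cfsg.IsIrrCharacter G (fun g => χ g * χ (g ^ k)))
    (M : Subgroup G) [hN : M.Normal] [Fintype M] (ϑ : M → ℂ) (hϑ : Cfsg.IsIrrCharacter M ϑ)
    (hcon : Cfsg.classInner (fun n : M => χ n) ϑ ≠ 0) : ∀ g : G, cj M ϑ g = ϑ := by
  classical
  set T := inertia M ϑ with hTdef
  haveI : Fintype T := Fintype.ofFinite _
  have hT := mem_inertia M ϑ
  have hHT := le_inertia M ϑ (h7_irr_isClassFunction hϑ)
  obtain ⟨ψ₀, hψ₀, -, hin, hdeg, -⟩ := gn_cliff_down M T ϑ hϑ hT hHT χ hχ hcon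
  have hkT : Nat.Coprime k (Nat.card T) := gq_coprime_sub T k hk
  have hψ₀' : Cfsg.IsIrrCharacter T (fun t => ψ₀ (t ^ k)) := gq_irr_pow k hkT hψ₀
  have hχT : Cfsg.IsCharacter T (fun t : T => χ t) :=
    isCharacter_restrict (h7_irr_isCharacter hχ) T
  have hχT' : Cfsg.IsCharacter T (fun t : T => χ ((t : G) ^ k)) := by
    have := gq_char_pow k hkT hχT
    simpa [Subgroup.coe_pow] using this
  have hin' : Cfsg.classInner (fun t : T => χ ((t : G) ^ k)) (fun t => ψ₀ (t ^ k)) = 1 := by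
    have := gq_inner_pow k hkT (fun t : T => χ t) ψ₀
    rw [hin] at this
    simpa [Subgroup.coe_pow] using this
  obtain ⟨Δ, hΔ, hs⟩ := h7_char_split hχT ψ₀ hψ₀ (by rw [hin]; exact one_ne_zero)
  obtain ⟨Δ', hΔ', hs'⟩ := h7_char_split hχT' _ hψ₀' (by rw [hin']; exact one_ne_zero)
  have hP : Cfsg.IsCharacter T (ψ₀ * fun t => ψ₀ (t ^ k)) :=
    h7_isCharacter_mul (h7_irr_isCharacter hψ₀) (h7_irr_isCharacter hψ₀')
  obtain ⟨m₀, hm₀pos, hm₀⟩ := irr_one_eq_finrank ⟨ψ₀, hψ₀⟩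
  simp only at hm₀
  have hP1 : (ψ₀ * fun t => ψ₀ (t ^ k)) 1 = (m₀ : ℂ) * m₀ := by
    simp [hm₀]
  have hP1ne : (ψ₀ * fun t => ψ₀ (t ^ k)) 1 ≠ 0 := by
    rw [hP1]
    have : (m₀ : ℂ) ≠ 0 := by exact_mod_cast hm₀pos.ne'
    exact mul_ne_zero this this
  obtain ⟨φ, m, hm, hPφ⟩ := isCharacter_exists_constituent hP hP1ne
  obtain ⟨Δ₃, hΔ₃, hs₃⟩ := h7_char_split hP φ φ.2 (by
    rw [hPφ]; exact_mod_cast hm.ne')
  -- the restriction of the product
  set R : T → ℂ := Δ₃ + ψ₀ * Δ' + Δ * (fun t => ψ₀ (t ^ k)) + Δ * Δ' with hRdef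
  have hR : Cfsg.IsCharacter T R := by
    refine isCharacter_add (isCharacter_add (isCharacter_add hΔ₃ ?_) ?_) ?_
    · exact h7_isCharacter_mul (h7_irr_isCharacter hψ₀) hΔ'
    · exact h7_isCharacter_mul hΔ (h7_irr_isCharacter hψ₀')
    · exact h7_isCharacter_mul hΔ hΔ'
  have hΞT : (fun t : T => χ t * χ ((t : G) ^ k)) = (φ : T → ℂ) + R := by
    have e1 : (fun t : T => χ t * χ ((t : G) ^ k)) =
        (fun t : T => χ t) * (fun t : T => χ ((t : G) ^ k)) := rfl
    rw [e1, hs, hs', hRdef]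
    have : (ψ₀ + Δ) * ((fun t => ψ₀ (t ^ k)) + Δ') =
        (ψ₀ * fun t => ψ₀ (t ^ k)) + ψ₀ * Δ' + Δ * (fun t => ψ₀ (t ^ k)) + Δ * Δ' := by ring
    rw [this, hs₃]
    ring
  obtain ⟨r, hr⟩ := classInner_character_nat hR (h7_irr_isCharacter φ.2)
  have hΞφ : Cfsg.classInner (fun t : T => χ t * χ ((t : G) ^ k)) (φ : T → ℂ) = ((1 + r : ℕ) : ℂ) := by
    rw [hΞT, classInner_add_left, h7_irr_norm φ.2, hr]
    push_cast
    rfl
  -- Frobenius reciprocity
  have hfrob := h7_frobenius_irr T (fun g => χ g * χ (g ^ k)) (h7_irr_isClassFunction hirr)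
    (φ : T → ℂ)
  rw [hΞφ, Complex.conj_natCast] at hfrob
  have hind : Cfsg.IsCharacter G (Cfsg.indFun T (φ : T → ℂ)) :=
    isCharacter_indFun T _ (h7_irr_isCharacter φ.2)
  obtain ⟨Δ₄, hΔ₄, hs₄⟩ := h7_char_split hind _ hirr (by
    rw [hfrob]; exact_mod_cast (Nat.succ_ne_zero r) ∘ (by omega))
  -- degrees
  obtain ⟨n, hnpos, hn⟩ := irr_one_eq_finrank ⟨χ, hχ⟩
  simp only at hn
  obtain ⟨f, hfpos, hf⟩ := irr_one_eq_finrank φ
  obtain ⟨d₃, hd₃⟩ := isCharacter_one_eq_nat hΔ₃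
  obtain ⟨d₄, hd₄⟩ := isCharacter_one_eq_nat hΔ₄
  have e1 : n = T.index * m₀ := by
    have := hdeg
    rw [hn, hm₀] at this
    exact_mod_cast this
  have e2 : m₀ * m₀ = f + d₃ := by
    have := congrFun hs₃ 1
    rw [hP1, Pi.add_apply, hf, hd₃] at this
    exact_mod_cast this
  have e3 : T.index * f = n * n + d₄ := by
    have := congrFun hs₄ 1
    rw [h7_indFun_one, Pi.add_apply, hf, hd₄] at this
    simp only [one_pow, hn] at this
    exact_mod_cast this
  have hidx : T.index = 1 := by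
    have hipos : 0 < T.index := Nat.pos_of_ne_zero (Subgroup.index_ne_zero_of_finite)
    by_contra hne
    have h2 : 2 ≤ T.index := by omega
    have h3 : T.index * f ≤ T.index * (m₀ * m₀) := Nat.mul_le_mul_left _ (by omega)
    have h4 : n * n = T.index * (T.index * (m₀ * m₀)) := by rw [e1]; ring
    have h5 : 0 < T.index * (m₀ * m₀) := by positivity
    nlinarith
  have htop : T = ⊤ := Subgroup.index_eq_one.mp hidx
  intro g
  have hg : g ∈ T := by rw [htop]; exact Subgroup.mem_top g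
  exact hg

theorem gq_irr_one_of_comm {A : Type*} [Group A] (h : ∀ a b : A, a * b = b * a)
    (μ : Cfsg.IrrCharacter A) : (μ : A → ℂ) 1 = 1 := by
  letI : CommGroup A := { ‹Group A› with mul_comm := h }
  exact irr_one_of_comm μ

/-- abelian normal subgroups are central -/
theorem gq_abelian_central {G : Type*} [Group G] [Fintype G] (χ : G → ℂ)
    (hχ : Cfsg.IsIrrCharacter G χ) (hfaith : ∀ g : G, χ g = χ 1 → g = 1)
    (k : ℕ) (hk : Nat.Coprime k (Nat.card G))
    (hirr : Cfsg.IsIrrCharacter G (fun g => χ g * χ (g ^ k)))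
    (A : Subgroup G) [hN : A.Normal] (hA : ∀ a b : A, a * b = b * a) :
    A ≤ Subgroup.center G := by
  classical
  haveI : Fintype A := Fintype.ofFinite _
  have hχA : Cfsg.IsCharacter A (fun a : A => χ a) :=
    isCharacter_restrict (h7_irr_isCharacter hχ) A
  obtain ⟨n, hnpos, hn⟩ := irr_one_eq_finrank ⟨χ, hχ⟩
  simp only at hn
  have h1ne : (fun a : A => χ a) 1 ≠ 0 := by
    simp only [OneMemClass.coe_one, hn]
    exact_mod_cast hnpos.ne'
  obtain ⟨lam, m, hm, hlam⟩ := isCharacter_exists_constituent hχA h1ne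
  have hcon : Cfsg.classInner (fun a : A => χ a) (lam : A → ℂ) ≠ 0 := by
    rw [hlam]; exact_mod_cast hm.ne'
  have hlam1 := gq_irr_one_of_comm hA lam
  have hinv := gq_inertia_top χ hχ k hk hirr A (lam : A → ℂ) lam.2 hcon
  obtain ⟨e, he, -, hres⟩ := h7_clifford_invariant A χ hχ (lam : A → ℂ) lam.2 hcon hinv
  have hval : ∀ a : A, χ a = (e : ℂ) * (lam : A → ℂ) a := by
    intro a
    have := congrFun hres a
    simpa using this
  intro a ha
  rw [Subgroup.mem_center_iff]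
  intro g
  have hc : g * a * g⁻¹ * a⁻¹ ∈ A := A.mul_mem (hN.conj_mem a ha g) (A.inv_mem ha)
  have h2 : χ (g * a * g⁻¹ * a⁻¹) = χ 1 := by
    have e1 := hval ⟨g * a * g⁻¹ * a⁻¹, hc⟩
    have e2 : (⟨g * a * g⁻¹ * a⁻¹, hc⟩ : A) =
        ⟨g * a * g⁻¹, hN.conj_mem a ha g⟩ * (⟨a, ha⟩ : A)⁻¹ := rfl
    have e3 : (lam : A → ℂ) ⟨g * a * g⁻¹, hN.conj_mem a ha g⟩ = (lam : A → ℂ) ⟨a, ha⟩ := by
      have := congrFun (hinv g) ⟨a, ha⟩
      rwa [cj_apply] at this
    have e4 := hval 1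
    rw [hlam1] at e4
    simp only [OneMemClass.coe_one] at e4
    simp only at e1
    rw [e1, e2, irr_linear_mul lam hlam1, e3, ← irr_linear_mul lam hlam1, mul_inv_cancel, hlam1, e4]
  have h3 := hfaith _ h2
  have : g * a * g⁻¹ = a := by
    have := congrArg (· * a) h3
    simpa using this
  calc g * a = g * a * g⁻¹ * g := by group
    _ = a * g := by rw [this]

end Cfsg.Agent.Lib.helper2
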