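import Cfsg.Agent.Lib.helper2.GalProd1
import Cfsg.Agent.Lib.helper7.CharCentral
import Cfsg.Agent.Lib.Helper25.CharQuot
import Cfsg.Agent.S1489
import Cfsg.Prelude.Def_Solvable

set_option autoImplicit false
set_option linter.unusedVariables false

namespace Cfsg.Agent.Lib.helper2

open scoped ComplexConjugate
open Cfsg.Agent.Lib.helper7 Cfsg.Agent.Lib.Helper25 Cfsg.Agent.Lib.Helper11

theorem gq_one_ne {G : Type*} [Group G] {χ : G → ℂ} (hχ : Cfsg.IsIrrCharacter G χ) : χ 1 ≠ 0 := by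
  obtain ⟨n, hnpos, hn⟩ := irr_one_eq_finrank ⟨χ, hχ⟩
  simp only at hn
  rw [hn]
  exact_mod_cast hnpos.ne'

/-- the central character -/
theorem gq_cent {G : Type*} [Group G] {χ : G → ℂ} (hχ : Cfsg.IsIrrCharacter G χ) (z : G)
    (hz : z ∈ Subgroup.center G) (g : G) : χ (z * g) = χ z / χ 1 * χ g := by
  obtain ⟨c, hc⟩ := h7_central_char hχ z hz
  have h1 := hc 1
  rw [mul_one] at h1
  have : c = χ z / χ 1 := by
    rw [h1, mul_div_assoc, div_self (gq_one_ne hχ), mul_one]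
  rw [hc g, this]

theorem gq_cent_mul {G : Type*} [Group G] {χ : G → ℂ} (hχ : Cfsg.IsIrrCharacter G χ) (z : G)
    (hz : z ∈ Subgroup.center G) (g : G) : χ (z * g) / χ 1 = χ z / χ 1 * (χ g / χ 1) := by
  rw [gq_cent hχ z hz g, mul_div_assoc]

theorem gq_cent_inj {G : Type*} [Group G] {χ : G → ℂ} (hχ : Cfsg.IsIrrCharacter G χ)
    (hfaith : ∀ g : G, χ g = χ 1 → g = 1) (z : G) (h : χ z / χ 1 = 1) : z = 1 := by
  apply hfaith
  rwa [div_eq_one_iff_eq (gq_one_ne hχ)] at h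

/-- the twisted commutator map is multiplicative where it is central -/
theorem gq_delta_mul {G : Type*} [Group G] (x g₁ g₂ : G)
    (h : g₁⁻¹ * x * g₁ * x⁻¹ ∈ Subgroup.center G) :
    (g₁ * g₂)⁻¹ * x * (g₁ * g₂) * x⁻¹ = (g₁⁻¹ * x * g₁ * x⁻¹) * (g₂⁻¹ * x * g₂ * x⁻¹) := by
  have hc := Subgroup.mem_center_iff.mp h
  have e1 : (g₁ * g₂)⁻¹ * x * (g₁ * g₂) * x⁻¹ = g₂⁻¹ * (g₁⁻¹ * x * g₁ * x⁻¹) * (x * g₂ * x⁻¹) := by
    group
  rw [e1, hc g₂⁻¹]
  group

/-- the linear character attached to an element central modulo the centre -/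
noncomputable def gqHom {G : Type*} [Group G] (χ : G → ℂ) (hχ : Cfsg.IsIrrCharacter G χ) (x : G)
    (S : Subgroup G) (hS : ∀ g ∈ S, g⁻¹ * x * g * x⁻¹ ∈ Subgroup.center G) : S →* ℂˣ :=
  MonoidHom.toHomUnits
    { toFun := fun g => χ ((g : G)⁻¹ * x * g * x⁻¹) / χ 1
      map_one' := by
        simp only [OneMemClass.coe_one, inv_one, one_mul, mul_one, mul_inv_cancel]
        exact div_self (gq_one_ne hχ)
      map_mul' := by
        intro a b
        simp only [Subgroup.coe_mul]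
        rw [gq_delta_mul x a b (hS a a.2)]
        exact gq_cent_mul hχ _ (hS a a.2) _ }

theorem gqHom_apply {G : Type*} [Group G] (χ : G → ℂ) (hχ : Cfsg.IsIrrCharacter G χ) (x : G)
    (S : Subgroup G) (hS : ∀ g ∈ S, g⁻¹ * x * g * x⁻¹ ∈ Subgroup.center G) (g : S) :
    ((gqHom χ hχ x S hS g : ℂˣ) : ℂ) = χ ((g : G)⁻¹ * x * g * x⁻¹) / χ 1 := rfl

/-- `χ` is fixed by multiplication with the linear character -/
theorem gq_fix {G : Type*} [Group G] {χ : G → ℂ} (hχ : Cfsg.IsIrrCharacter G χ) (x g : G)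
    (h : g⁻¹ * x * g * x⁻¹ ∈ Subgroup.center G) :
    χ (g⁻¹ * x * g * x⁻¹) / χ 1 * χ g = χ g := by
  rw [← gq_cent hχ _ h g]
  have hcl := h7_irr_isClassFunction hχ
  have e : g⁻¹ * x * g * x⁻¹ * g = g⁻¹ * (x * g * x⁻¹) * g := by group
  rw [e]
  have := hcl (x * g * x⁻¹) g⁻¹
  rw [inv_inv] at this
  rw [this]
  exact hcl g x

theorem gq_inner_fix {S : Type*} [Group S] [Fintype S] (a ν : S → ℂ)
    (h : ∀ t, a t * ν t = a t) :
    Cfsg.classInner (fun t => a t * conj (a t)) ν = Cfsg.classInner a a := by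
  unfold Cfsg.classInner
  congr 1
  refine Finset.sum_congr rfl fun t _ => ?_
  rw [mul_assoc, ← map_mul, h t]

/-- two characters sharing two distinct irreducible constituents -/
theorem gq_two_common {G : Type*} [Group G] [Fintype G] {Φ Ψ a b : G → ℂ}
    (hΦ : Cfsg.IsCharacter G Φ) (hΨ : Cfsg.IsCharacter G Ψ) (ha : Cfsg.IsIrrCharacter G a)
    (hb : Cfsg.IsIrrCharacter G b) (hab : a ≠ b)
    (h1 : Cfsg.classInner Φ a ≠ 0) (h2 : Cfsg.classInner Φ b ≠ 0)
    (h3 : Cfsg.classInner Ψ a ≠ 0) (h4 : Cfsg.classInner Ψ b ≠ 0) :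
    ∃ n : ℕ, Cfsg.classInner Φ Ψ = ((2 + n : ℕ) : ℂ) := by
  have hab0 : Cfsg.classInner a b = 0 := h7_irr_inner_ne ha hb hab
  have hba0 : Cfsg.classInner b a = 0 := h7_irr_inner_ne hb ha (Ne.symm hab)
  obtain ⟨Δ₁, hΔ₁, hs₁⟩ := h7_char_split hΦ a ha h1
  have h2' : Cfsg.classInner Δ₁ b ≠ 0 := by
    rw [hs₁, classInner_add_left, hab0, zero_add] at h2
    exact h2
  obtain ⟨Δ₂, hΔ₂, hs₂⟩ := h7_char_split hΔ₁ b hb h2'
  obtain ⟨E₁, hE₁, ht₁⟩ := h7_char_split hΨ a ha h3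
  have h4' : Cfsg.classInner E₁ b ≠ 0 := by
    rw [ht₁, classInner_add_left, hab0, zero_add] at h4
    exact h4
  obtain ⟨E₂, hE₂, ht₂⟩ := h7_char_split hE₁ b hb h4'
  obtain ⟨n₁, hn₁⟩ := classInner_character_nat (h7_irr_isCharacter ha) hE₂
  obtain ⟨n₂, hn₂⟩ := classInner_character_nat (h7_irr_isCharacter hb) hE₂
  obtain ⟨n₃, hn₃⟩ := classInner_character_nat hΔ₂ hΨ
  refine ⟨n₁ + n₂ + n₃, ?_⟩
  rw [hs₁, hs₂, classInner_add_left, classInner_add_left, hn₃, ht₁, ht₂]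
  simp only [h7_classInner_add_right, h7_irr_norm ha, h7_irr_norm hb, hab0, hba0, hn₁, hn₂]
  push_cast
  ring

theorem gq_fix_pow {G : Type*} [Group G] [Finite G] {χ : G → ℂ} (hχ : Cfsg.IsIrrCharacter G χ)
    (x : G) (S : Subgroup G) (hS : ∀ g ∈ S, g⁻¹ * x * g * x⁻¹ ∈ Subgroup.center G)
    (k : ℕ) (hk : Nat.Coprime k (Nat.card S)) (g : S) :
    χ ((g : G) ^ k) * ((gqHom χ hχ x S hS g : ℂˣ) : ℂ) = χ ((g : G) ^ k) := by
  by_cases h0 : χ ((g : G) ^ k) = 0
  · rw [h0, zero_mul]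
  · have h1 := gq_fix hχ x ((g : G) ^ k) (hS _ (S.pow_mem g.2 k))
    have h2 : ((gqHom χ hχ x S hS (g ^ k) : ℂˣ) : ℂ) = 1 := by
      rw [gqHom_apply]
      have := mul_right_cancel₀ h0 (h1.trans (one_mul _).symm)
      simpa [Subgroup.coe_pow] using this
    have h3 : (gqHom χ hχ x S hS g) ^ k = 1 := by
      rw [← map_pow]
      exact Units.ext h2
    have h4 : (gqHom χ hχ x S hS g) ^ (Nat.card S) = 1 := by
      rw [← map_pow, pow_card_eq_one', map_one]
    have h5 := pow_gcd_eq_one.mpr ⟨h3, h4⟩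
    rw [hk, pow_one] at h5
    rw [h5, Units.val_one, mul_one]

/-- conjugation formula for the twisted commutator -/
theorem gq_conj_formula {G : Type*} [Group G] (x g y : G)
    (hc : y⁻¹ * (g⁻¹ * x * g * x⁻¹) * y * (g⁻¹ * x * g * x⁻¹)⁻¹ ∈ Subgroup.center G)
    (he : y⁻¹ * x * y * x⁻¹ ∈ Subgroup.center G) :
    (g * y * g⁻¹)⁻¹ * x * (g * y * g⁻¹) * x⁻¹ =
      (y⁻¹ * (g⁻¹ * x * g * x⁻¹) * y * (g⁻¹ * x * g * x⁻¹)⁻¹) * (y⁻¹ * x * y * x⁻¹) := by
  have hc' := Subgroup.mem_center_iff.mp hc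
  have he' := Subgroup.mem_center_iff.mp he
  set d := g⁻¹ * x * g * x⁻¹ with hd
  set c := y⁻¹ * d * y * d⁻¹ with hcdef
  set e := y⁻¹ * x * y * x⁻¹ with hedef
  have h1 : (g * y * g⁻¹)⁻¹ * x * (g * y * g⁻¹) * x⁻¹ = g * (c * d) * (e * x) * g⁻¹ * x⁻¹ := by
    rw [hcdef, hedef, hd]; group
  have h3 : g * d * x * g⁻¹ * x⁻¹ = 1 := by rw [hd]; group
  calc (g * y * g⁻¹)⁻¹ * x * (g * y * g⁻¹) * x⁻¹ = g * (c * d) * (e * x) * g⁻¹ * x⁻¹ := h1
    _ = (g * c) * (d * e) * x * g⁻¹ * x⁻¹ := by group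
    _ = (c * g) * (e * d) * x * g⁻¹ * x⁻¹ := by rw [hc' g, he' d]
    _ = c * (g * e) * d * x * g⁻¹ * x⁻¹ := by group
    _ = c * (e * g) * d * x * g⁻¹ * x⁻¹ := by rw [he' g]
    _ = c * e * (g * d * x * g⁻¹ * x⁻¹) := by group
    _ = c * e := by rw [h3, mul_one]

theorem gq_norm_ne {S : Type*} [Group S] [Fintype S] {a : S → ℂ} (ha : Cfsg.IsCharacter S a)
    (h1 : a 1 ≠ 0) : Cfsg.classInner a a ≠ 0 := by
  obtain ⟨φ, m, hm, hφ⟩ := isCharacter_exists_constituent ha h1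
  obtain ⟨Δ, hΔ, hs⟩ := h7_char_split ha φ φ.2 (by rw [hφ]; exact_mod_cast hm.ne')
  obtain ⟨r, hr⟩ := classInner_character_nat ha hΔ
  have : Cfsg.classInner a a = ((m + r : ℕ) : ℂ) := by
    conv_lhs => rw [hs]
    rw [h7_classInner_add_right, ← hs, hφ, hr]
    push_cast
    rfl
  rw [this]
  exact_mod_cast (by omega : m + r ≠ 0)

theorem gq_norm_prod {G : Type*} [Group G] [Fintype G] (a b : G → ℂ) :
    Cfsg.classInner (fun g => a g * conj (a g)) (fun g => b g * conj (b g)) =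
      Cfsg.classInner (fun g => a g * b g) (fun g => a g * b g) := by
  unfold Cfsg.classInner
  congr 1
  refine Finset.sum_congr rfl fun g _ => ?_
  simp only [map_mul, Complex.conj_conj]
  ring

theorem gq_inner_triv {G : Type*} [Group G] [Fintype G] (a : G → ℂ) :
    Cfsg.classInner (fun g => a g * conj (a g)) (fun _ => (1 : ℂ)) = Cfsg.classInner a a := by
  unfold Cfsg.classInner
  congr 1
  refine Finset.sum_congr rfl fun g _ => ?_
  simp only [map_one, mul_one]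

/-- a normal subgroup of class two modulo the centre is central -/
theorem gq_class2_central {G : Type*} [Group G] [Fintype G] (χ : G → ℂ)
    (hχ : Cfsg.IsIrrCharacter G χ) (hfaith : ∀ g : G, χ g = χ 1 → g = 1)
    (k : ℕ) (hk : Nat.Coprime k (Nat.card G))
    (hirr : Cfsg.IsIrrCharacter G (fun g => χ g * χ (g ^ k)))
    (E : Subgroup G) [hN : E.Normal]
    (hE2 : ∀ a ∈ E, ∀ b ∈ E, a⁻¹ * b * a * b⁻¹ ∈ Subgroup.center G) :
    E ≤ Subgroup.center G := by
  classical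
  by_contra hnot
  obtain ⟨x, hxE, hxZ⟩ := SetLike.not_le_iff_exists.mp hnot
  have hA : E ⊓ Subgroup.centralizer (E : Set G) ≤ Subgroup.center G := by
    haveI : (E ⊓ Subgroup.centralizer (E : Set G)).Normal := inferInstance
    apply gq_abelian_central χ hχ hfaith k hk hirr
    intro a b
    apply Subtype.ext
    have h1 := Subgroup.mem_centralizer_iff.mp b.2.2 a a.2.1
    exact h1
  have hSE : ∀ g ∈ E, g⁻¹ * x * g * x⁻¹ ∈ Subgroup.center G := fun g hg => hE2 g hg x hxE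
  have hχ1 := gq_one_ne hχ
  set μ := gqHom χ hχ x E hSE with hμ
  set μc : Cfsg.IrrCharacter E := linIrr μ with hμc
  haveI : Fintype E := Fintype.ofFinite _
  set T := inertia E (μc : E → ℂ) with hTdef
  haveI : Fintype T := Fintype.ofFinite _
  have hHT : E ≤ T := le_inertia E (μc : E → ℂ) (h7_irr_isClassFunction μc.2)
  have hST : ∀ g ∈ T, g⁻¹ * x * g * x⁻¹ ∈ Subgroup.center G := by
    intro g hg
    have hdE : g⁻¹ * x * g * x⁻¹ ∈ E := by
      have := hN.conj_mem x hxE g⁻¹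
      rw [inv_inv] at this
      exact E.mul_mem this (E.inv_mem hxE)
    apply hA
    refine Subgroup.mem_inf.mpr ⟨hdE, ?_⟩
    rw [Subgroup.mem_centralizer_iff]
    intro y hy
    have hcy := hE2 y hy _ hdE
    have hform := gq_conj_formula x g y hcy (hSE y hy)
    have hin := (mem_inertia E (μc : E → ℂ) g).mp hg ⟨y, hy⟩
    rw [hμc, linIrr_apply, linIrr_apply, hμ, gqHom_apply, gqHom_apply] at hin
    simp only at hin
    rw [hform, gq_cent_mul hχ _ hcy] at hin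
    have hne : χ (y⁻¹ * x * y * x⁻¹) / χ 1 ≠ 0 := by
      have := Units.ne_zero (gqHom χ hχ x E hSE ⟨y, hy⟩)
      rwa [gqHom_apply] at this
    have h1 : χ (y⁻¹ * (g⁻¹ * x * g * x⁻¹) * y * (g⁻¹ * x * g * x⁻¹)⁻¹) / χ 1 = 1 :=
      mul_right_cancel₀ hne (hin.trans (one_mul _).symm)
    have h2 := gq_cent_inj hχ hfaith _ h1
    have h3 : y⁻¹ * (g⁻¹ * x * g * x⁻¹) * y = g⁻¹ * x * g * x⁻¹ := mul_inv_eq_one.mp h2
    calc y * (g⁻¹ * x * g * x⁻¹) = y * (y⁻¹ * (g⁻¹ * x * g * x⁻¹) * y) := by rw [h3]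
      _ = (g⁻¹ * x * g * x⁻¹) * y := by group
  set ν := gqHom χ hχ x T hST with hν
  set νc : Cfsg.IrrCharacter T := linIrr ν with hνc
  -- ν restricts to μ
  have hres : (fun n : E => (νc : T → ℂ) ⟨(n : G), hHT n.2⟩) = (μc : E → ℂ) := rfl
  -- μ is nontrivial
  have hf : ∃ f : E, (μc : E → ℂ) f ≠ 1 := by
    by_contra hall
    push Not at hall
    apply hxZ
    apply hA
    refine Subgroup.mem_inf.mpr ⟨hxE, ?_⟩
    rw [Subgroup.mem_centralizer_iff]
    intro y hy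
    have h1 := hall ⟨y, hy⟩
    rw [hμc, linIrr_apply, hμ, gqHom_apply] at h1
    have h2 := gq_cent_inj hχ hfaith _ h1
    simp only at h2
    have h3 : y⁻¹ * x * y = x := mul_inv_eq_one.mp h2
    calc y * x = y * (y⁻¹ * x * y) := by rw [h3]
      _ = x * y := by group
  obtain ⟨f, hf⟩ := hf
  -- the induced character is irreducible
  haveI : Fintype (E.subgroupOf T) := Fintype.ofFinite _
  have hc : Cfsg.classInner (Cfsg.indFun (E.subgroupOf T)
        (fun x => (μc : E → ℂ) ⟨(x : T), Subgroup.mem_subgroupOf.mp x.2⟩)) (νc : T → ℂ) ≠ 0 := by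
    rw [h7_frobenius_irr (E.subgroupOf T) (νc : T → ℂ) (h7_irr_isClassFunction νc.2),
      gn_inner_subgroupOf E T hHT (νc : T → ℂ) (μc : E → ℂ), hres, h7_irr_norm μc.2, map_one]
    exact one_ne_zero
  obtain ⟨hφ, -⟩ := Cfsg.Agent.S1489.result E T (μc : E → ℂ) μc.2 (mem_inertia E (μc : E → ℂ)) hHT
    (νc : T → ℂ) (νc : T → ℂ) νc.2 νc.2 hc hc
  -- the two products
  have hχc := h7_irr_isCharacter hχ
  have hψ : Cfsg.IsCharacter G (fun g => χ g * conj (χ g)) :=
    h7_isCharacter_mul hχc (bg_isCharacter_conj hχc)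
  have hψ' : Cfsg.IsCharacter G (fun g => χ (g ^ k) * conj (χ (g ^ k))) :=
    gq_char_pow k hk hψ
  have hkT : Nat.Coprime k (Nat.card T) := gq_coprime_sub T k hk
  have hχT : Cfsg.IsCharacter T (fun t : T => χ t) := isCharacter_restrict hχc T
  have hχT' : Cfsg.IsCharacter T (fun t : T => χ ((t : G) ^ k)) := by
    have := gq_char_pow k hkT hχT
    simpa [Subgroup.coe_pow] using this
  have htriv := bg_trivial_irr G
  have h1 : Cfsg.classInner (fun g => χ g * conj (χ g)) (fun _ => (1 : ℂ)) ≠ 0 := by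
    rw [gq_inner_triv, h7_irr_norm hχ]; exact one_ne_zero
  have h3 : Cfsg.classInner (fun g => χ (g ^ k) * conj (χ (g ^ k))) (fun _ => (1 : ℂ)) ≠ 0 := by
    have := gq_inner_pow k hk (fun g => χ g * conj (χ g)) (fun _ => (1 : ℂ))
    rw [this]
    exact h1
  have h2 : Cfsg.classInner (fun g => χ g * conj (χ g)) (Cfsg.indFun T (νc : T → ℂ)) ≠ 0 := by
    rw [classInner_conj_symm, h7_frobenius_irr T _ (isCharacter_isClassFunction hψ), Complex.conj_conj]
    have := gq_inner_fix (fun t : T => χ t) (νc : T → ℂ) (fun t => by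
      rw [mul_comm]; exact gq_fix hχ x t (hST t t.2))
    rw [this]
    apply gq_norm_ne hχT
    simpa using hχ1
  have h4 : Cfsg.classInner (fun g => χ (g ^ k) * conj (χ (g ^ k)))
      (Cfsg.indFun T (νc : T → ℂ)) ≠ 0 := by
    rw [classInner_conj_symm, h7_frobenius_irr T _ (isCharacter_isClassFunction hψ'),
      Complex.conj_conj]
    have := gq_inner_fix (fun t : T => χ ((t : G) ^ k)) (νc : T → ℂ) (fun t =>
      gq_fix_pow hχ x T hST k hkT t)
    rw [this]
    apply gq_norm_ne hχT'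
    simpa using hχ1
  have hne : (fun _ : G => (1 : ℂ)) ≠ Cfsg.indFun T (νc : T → ℂ) := by
    intro heq
    have e1 := h7_frobenius_irr T (fun _ : G => (1 : ℂ)) (fun _ _ => rfl) (νc : T → ℂ)
    have hneT : (fun _ : T => (1 : ℂ)) ≠ (νc : T → ℂ) := by
      intro h
      apply hf
      have := congrFun h ⟨(f : G), hHT f.2⟩
      have h2 := congrFun hres f
      rw [← h2, ← this]
    rw [h7_irr_inner_ne (bg_trivial_irr T) νc.2 hneT, map_zero, ← heq, h7_irr_norm htriv] at e1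
    exact one_ne_zero e1
  obtain ⟨n, hn⟩ := gq_two_common hψ hψ' htriv hφ hne h1 h2 h3 h4
  rw [gq_norm_prod, h7_irr_norm hirr] at hn
  have : (1 : ℕ) = 2 + n := by exact_mod_cast hn
  omega

theorem gq_nilpotent_central {G : Type*} [Group G] [Fintype G] (χ : G → ℂ)
    (hχ : Cfsg.IsIrrCharacter G χ) (hfaith : ∀ g : G, χ g = χ 1 → g = 1)
    (k : ℕ) (hk : Nat.Coprime k (Nat.card G))
    (hirr : Cfsg.IsIrrCharacter G (fun g => χ g * χ (g ^ k))) :
    ∀ n : ℕ, ∀ N : Subgroup G, N.Normal → Group.IsNilpotent N → Nat.card N ≤ n →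
      N ≤ Subgroup.center G := by
  intro n
  induction n with
  | zero =>
    intro N _ _ h
    have := Nat.card_pos (α := N)
    omega
  | succ n ih =>
    intro N hN hnil hcard
    by_cases hbot : N = ⊥
    · rw [hbot]; exact bot_le
    haveI := hN
    haveI := hnil
    haveI : Nontrivial N := (Subgroup.nontrivial_iff_ne_bot N).mpr hbot
    have hlt : ⁅N, N⁆ < N := by
      have h1 := Group.IsSolvable.commutator_lt_top_of_nontrivial N
      have h2 := (Subgroup.map_subtype_lt_map_subtype (G' := N)).mpr h1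
      rw [Subgroup.map_subtype_commutator, ← MonoidHom.range_eq_map, Subgroup.range_subtype] at h2
      exact h2
    have hCn : (⁅N, N⁆).Normal := inferInstance
    have hCnil : Group.IsNilpotent (⁅N, N⁆ : Subgroup G) := by
      have e := Subgroup.subgroupOfEquivOfLe hlt.le
      exact Group.nilpotent_of_mulEquiv e
    have hCcard : Nat.card (⁅N, N⁆ : Subgroup G) ≤ n := by
      have hle := Subgroup.card_le_of_le hlt.le
      have hne : Nat.card (⁅N, N⁆ : Subgroup G) ≠ Nat.card N := fun h =>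
        hlt.ne (Subgroup.eq_of_le_of_card_ge hlt.le h.ge)
      omega
    have hC := ih _ hCn hCnil hCcard
    apply gq_class2_central χ hχ hfaith k hk hirr N
    intro a ha b hb
    apply hC
    have := Subgroup.commutator_mem_commutator (N.inv_mem ha) hb
    rwa [commutatorElement_def, inv_inv] at this

end Cfsg.Agent.Lib.helper2
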