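import Mathlib
import Cfsg.Prelude.Def_Solvable
import Cfsg.Agent.S4461
import Cfsg.Agent.Lib.Helper1.Fitting
import Cfsg.Agent.Lib.Helper25.ExtraspecialUnique
import Cfsg.Agent.Lib.helper2.GlaubS1

set_option autoImplicit false
set_option linter.deprecated false

namespace Cfsg.Agent.Lib.helper2
open Cfsg.Agent.Lib.helper7 Cfsg.Agent.Lib.Helper25

/-- nilpotency of a section passes to the preimage section -/
theorem gk_quot_nil {G Q : Type*} [Group G] [Group Q] (f : G →* Q) (A B : Subgroup Q)
    [h1 : (B.subgroupOf A).Normal] [h2 : ((B.comap f).subgroupOf (A.comap f)).Normal]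
    (hnil : Group.IsNilpotent (↥A ⧸ B.subgroupOf A)) :
    Group.IsNilpotent (↥(A.comap f) ⧸ (B.comap f).subgroupOf (A.comap f)) := by
  let g : ↥(A.comap f) →* ↥A := (f.comp (A.comap f).subtype).codRestrict A (fun x => x.2)
  have hg : ∀ x : ↥(A.comap f), ((g x : ↥A) : Q) = f (x : G) := fun x => rfl
  let φ : ↥(A.comap f) →* ↥A ⧸ B.subgroupOf A := (QuotientGroup.mk' (B.subgroupOf A)).comp g
  have hker : ∀ x : ↥(A.comap f), φ x = 1 ↔ x ∈ (B.comap f).subgroupOf (A.comap f) := by
    intro x
    show (QuotientGroup.mk' (B.subgroupOf A)) (g x) = 1 ↔ _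
    rw [QuotientGroup.mk'_apply, QuotientGroup.eq_one_iff, Subgroup.mem_subgroupOf,
      Subgroup.mem_subgroupOf, Subgroup.mem_comap, hg]
  let ψ : (↥(A.comap f) ⧸ (B.comap f).subgroupOf (A.comap f)) →* ↥A ⧸ B.subgroupOf A :=
    QuotientGroup.lift _ φ (fun x hx => (hker x).2 hx)
  have hinj : Function.Injective ψ := by
    rw [injective_iff_map_eq_one]
    intro y
    induction y using QuotientGroup.induction_on with
    | H x =>
      intro hx
      have : φ x = 1 := hx
      rw [hker] at this
      exact (QuotientGroup.eq_one_iff x).2 this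
  haveI := hnil
  apply isNilpotent_of_ker_le_center ψ
  rw [(MonoidHom.ker_eq_bot_iff ψ).2 hinj]
  exact bot_le

/-- the set of irreducible character degrees -/
def gkCd (G : Type*) [Group G] : Set ℕ :=
  {d | ∃ χ : Cfsg.IrrCharacter G, Cfsg.charDegree (χ : G → ℂ) = d}

theorem gk_cd_finite (G : Type*) [Group G] [Finite G] : (gkCd G).Finite := by
  have : gkCd G = Set.range (fun χ : Cfsg.IrrCharacter G => Cfsg.charDegree (χ : G → ℂ)) := by
    ext d; rfl
  rw [this]
  exact Set.finite_range _

/-- passing to the quotient by the Fitting subgroup loses a degree -/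
theorem gk_cd_lt {G : Type*} [Group G] [Finite G] (hsolv : Group.IsSolvable G)
    (hF : Cfsg.fittingSubgroup G ≠ ⊤) [hFn : (Cfsg.fittingSubgroup G).Normal] :
    (gkCd (G ⧸ Cfsg.fittingSubgroup G)).ncard < (gkCd G).ncard := by
  classical
  set F := Cfsg.fittingSubgroup G with hFdef
  apply Set.ncard_lt_ncard _ (gk_cd_finite G)
  have hsurj := QuotientGroup.mk'_surjective F
  have hsub : gkCd (G ⧸ F) ⊆ gkCd G := by
    rintro d ⟨χb, rfl⟩
    refine ⟨xs_infl (QuotientGroup.mk' F) hsurj χb, ?_⟩
    apply xs_charDegree_eq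
    rw [xs_infl_apply, map_one]
  -- a character of maximal degree
  haveI : Finite (Cfsg.IrrCharacter (G ⧸ F)) := inferInstance
  obtain ⟨χb, -, hmax⟩ := Set.exists_max_image (Set.univ : Set (Cfsg.IrrCharacter (G ⧸ F)))
    (fun χ => Cfsg.charDegree (χ : G ⧸ F → ℂ)) Set.finite_univ ⟨trivIrr _, Set.mem_univ _⟩
  set χ := xs_infl (QuotientGroup.mk' F) hsurj χb with hχ
  have hdeg : Cfsg.charDegree (χ : G → ℂ) = Cfsg.charDegree (χb : G ⧸ F → ℂ) := by
    apply xs_charDegree_eq
    rw [hχ, xs_infl_apply, map_one]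
  obtain ⟨K, hKn, n, σ, hσ, hK, -, -⟩ := quotient_setup χ
  haveI := hKn
  have hFK : F ≤ K := by
    intro g hg
    rw [hK, hχ, xs_infl_apply, xs_infl_apply, map_one]
    have : (QuotientGroup.mk' F) g = 1 := (QuotientGroup.eq_one_iff g).2 hg
    rw [this]
  have hS : ¬ K ≤ Cfsg.fittingSubgroup G ∨
      (K = Cfsg.fittingSubgroup G ∧ Group.IsSolvable (G ⧸ K) ∧ K ≠ ⊤) := by
    by_cases hKF : K ≤ F
    · right
      have hEq : K = F := le_antisymm hKF hFK
      refine ⟨hEq, inferInstance, ?_⟩
      rw [hEq]; exact hF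
    · left; exact hKF
  obtain ⟨ψ, hψ, -⟩ := Cfsg.Agent.S4461.result χ K hK hS
  refine ⟨hsub, ?_⟩
  intro hcon
  have h1 : Cfsg.charDegree (ψ : G → ℂ) ∈ gkCd (G ⧸ F) := hcon ⟨ψ, rfl⟩
  obtain ⟨χ', hχ'⟩ := h1
  have h2 := hmax χ' (Set.mem_univ _)
  have h3 : Cfsg.charDegree (χ' : G ⧸ F → ℂ) ≤ Cfsg.charDegree (χb : G ⧸ F → ℂ) := h2
  omega

/-- chains with nilpotent quotients -/
def gkChain (G : Type*) [Group G] (n : ℕ) : Prop :=
  ∃ N : ℕ → Subgroup G, N 0 = ⊥ ∧ N n = ⊤ ∧ Monotone N ∧ (∀ i, (N i).Normal) ∧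
    ∀ i : ℕ, ∀ _h : ((N i).subgroupOf (N (i + 1))).Normal,
      Group.IsNilpotent (↥(N (i + 1)) ⧸ (N i).subgroupOf (N (i + 1)))

theorem gk_chain_exists.{u} : ∀ (k : ℕ) (G : Type u) [Group G] [Finite G], Nat.card G = k →
    Group.IsSolvable G → ∀ n : ℕ, (Subsingleton G ∨ (gkCd G).ncard ≤ n) → gkChain G n := by
  intro k
  induction k using Nat.strong_induction_on with
  | _ k ih =>
    intro G _ _ hcard hsolv n hn
    by_cases hsub : Subsingleton G
    · refine ⟨fun _ => ⊥, rfl, Subsingleton.elim _ _, monotone_const, fun _ => inferInstance, ?_⟩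
      intro i h
      haveI := h
      haveI : Group.IsNilpotent ↥(⊥ : Subgroup G) := inferInstance
      exact nilpotent_of_surjective (QuotientGroup.mk' _) (QuotientGroup.mk'_surjective _)
    · have hn' : (gkCd G).ncard ≤ n := hn.resolve_left hsub
      rw [not_subsingleton_iff_nontrivial] at hsub
      have hpos : 0 < (gkCd G).ncard := by
        rw [Set.ncard_pos (gk_cd_finite G)]
        exact ⟨_, ⟨trivIrr G, rfl⟩⟩
      obtain ⟨n', rfl⟩ : ∃ n', n = n' + 1 := ⟨n - 1, by omega⟩
      set F := Cfsg.fittingSubgroup G with hFdef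
      haveI hFn : F.Normal := Cfsg.Agent.Lib.Helper1.fittingSubgroup_normal
      have hFnil : Group.IsNilpotent F := Cfsg.Agent.Lib.Helper1.fittingSubgroup_nilpotent
      have hFbot : F ≠ ⊥ := by
        obtain ⟨q, hq, N, hNn, hNne, hNq⟩ := gs_normal_pgroup G
        intro h
        apply hNne
        rw [eq_bot_iff, ← h]
        apply le_sSup
        haveI : Fact q.Prime := ⟨hq⟩
        exact ⟨hNn, hNq.isNilpotent⟩
      have hlt : Nat.card (G ⧸ F) < k := by
        rw [← hcard, ← Subgroup.index_eq_card, ← F.card_mul_index]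
        have h1 : 1 < Nat.card F := by
          rw [Subgroup.one_lt_card_iff_ne_bot]; exact hFbot
        have h2 : 0 < F.index := Nat.pos_of_ne_zero Subgroup.index_ne_zero_of_finite
        nlinarith
      have hcond : Subsingleton (G ⧸ F) ∨ (gkCd (G ⧸ F)).ncard ≤ n' := by
        by_cases hFtop : F = ⊤
        · left
          rw [hFtop]
          exact QuotientGroup.subsingleton_quotient_top
        · right
          have h3 : (gkCd (G ⧸ F)).ncard < (gkCd G).ncard := gk_cd_lt hsolv hFtop
          omega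
      obtain ⟨Nb, hNb0, hNbn, hNbmono, hNbnorm, hNbq⟩ :=
        ih (Nat.card (G ⧸ F)) hlt (G ⧸ F) rfl inferInstance n' hcond
      refine ⟨fun i => Nat.casesOn i ⊥ (fun j => (Nb j).comap (QuotientGroup.mk' F)),
        rfl, ?_, ?_, ?_, ?_⟩
      · show (Nb n').comap _ = ⊤
        rw [hNbn, Subgroup.comap_top]
      · apply monotone_nat_of_le_succ
        intro i
        cases i with
        | zero => exact bot_le
        | succ j => exact Subgroup.comap_mono (hNbmono (Nat.le_succ j))
      · intro i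
        cases i with
        | zero => exact Subgroup.normal_bot
        | succ j =>
          haveI := hNbnorm j
          show ((Nb j).comap (QuotientGroup.mk' F)).Normal
          infer_instance
      · intro i h
        cases i with
        | zero =>
          haveI := h
          have hN1 : (Nb 0).comap (QuotientGroup.mk' F) = F := by
            rw [hNb0, MonoidHom.comap_bot, QuotientGroup.ker_mk']
          haveI : Group.IsNilpotent ↥((Nb 0).comap (QuotientGroup.mk' F)) := by
            rw [hN1]; exact hFnil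
          exact nilpotent_of_surjective (QuotientGroup.mk' _) (QuotientGroup.mk'_surjective _)
        | succ j =>
          haveI := hNbnorm j
          haveI : ((Nb j).subgroupOf (Nb (j+1))).Normal := inferInstance
          haveI := h
          exact gk_quot_nil (QuotientGroup.mk' F) (Nb (j+1)) (Nb j) (hNbq j inferInstance)

end Cfsg.Agent.Lib.helper2
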