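import Mathlib
import Cfsg.Prelude.Def_Characters
import Cfsg.Prelude.Def_CharExt
import Cfsg.Agent.Lib.helper2.GlaubCyc6
import Cfsg.Agent.Lib.helper2.BergerLib
import Cfsg.Agent.Lib.helper7.CliffordSub

set_option autoImplicit false
open Cfsg
open scoped ComplexConjugate

namespace Cfsg.Agent.Lib.helper2

open Cfsg.Agent.Lib.helper7 Cfsg.Agent.Lib.Helper11 Cfsg.Agent.Lib.Helper25

/-- the determinantal order of an irreducible restriction divides the determinantal order -/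
theorem gf_detOrder_restrict {Γ : Type*} [Group Γ] [Fintype Γ] (J : Subgroup Γ) [Fintype J]
    (ψ : Γ → ℂ) (hψ : Cfsg.IsIrrCharacter Γ ψ)
    (hres : Cfsg.IsIrrCharacter J (fun x : J => ψ x)) :
    Cfsg.detOrder (fun x : J => ψ x) ∣ Cfsg.detOrder ψ := by
  classical
  unfold Cfsg.detOrder
  apply orderOf_dvd_of_pow_eq_one
  obtain ⟨n, ρ, hρ, hψρ⟩ := hψ
  obtain ⟨m, σ, hσ, hψσ⟩ := hres
  haveI := hρ
  haveI := hσ
  have hpow : Cfsg.detChar ψ ^ orderOf (Cfsg.detChar ψ) = 1 := pow_orderOf_eq_one _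
  funext x
  rw [Pi.pow_apply, Pi.one_apply]
  have h1 : Cfsg.detChar (fun x : J => ψ x) x = LinearMap.det (σ x) := by
    rw [← hψσ]
    exact h7_detChar_eq σ x
  have h2 : Cfsg.detChar ψ (x : Γ) = LinearMap.det (ρ (x : Γ)) := by
    rw [← hψρ]
    exact h7_detChar_eq ρ (x : Γ)
  have h3 : LinearMap.det ((ρ.comp J.subtype) x) = LinearMap.det (σ x) := by
    apply h7_det_eq_of_char_eq σ (ρ.comp J.subtype)
    rw [hψσ]
    funext y
    have := congrFun hψρ (y : Γ)
    rw [← this]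
    rfl
  have h4 : (ρ.comp J.subtype) x = ρ (x : Γ) := rfl
  rw [h1, ← h3, h4, ← h2]
  have := congrFun hpow (x : Γ)
  rw [Pi.pow_apply, Pi.one_apply] at this
  exact this

/-- values of a canonical extension on the cosets of generators of a cyclic subgroup of
operators that need not generate the whole group together with `G` -/
theorem gf_value {Γ : Type*} [Group Γ] [Fintype Γ] (G R : Subgroup Γ) [Fintype G]
    [hG : G.Normal] (hcop : (Nat.card G).Coprime (Nat.card R)) (hcyc : IsCyclic R)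
    (C : Subgroup Γ) [Fintype C] (hC : C = G ⊓ Subgroup.centralizer (R : Set Γ))
    (ψ : Γ → ℂ) (hψ : Cfsg.IsIrrCharacter Γ ψ) (hres : Cfsg.IsIrrCharacter G (fun g : G => ψ g))
    (hdet : (Cfsg.detOrder ψ).Coprime (Nat.card R)) :
    ∃ β : Cfsg.IrrCharacter C, ∃ ε : ℤ, (ε = 1 ∨ ε = -1) ∧
      ∀ c : C, ∀ y : Γ, Subgroup.zpowers y = R →
        ψ ((c : Γ) * y) = (ε : ℂ) * (β : C → ℂ) c := by
  classical
  obtain ⟨J, hJ⟩ : ∃ J : Subgroup Γ, J = G ⊔ R := ⟨_, rfl⟩
  have hGJ : G ≤ J := hJ ▸ le_sup_left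
  have hRJ : R ≤ J := hJ ▸ le_sup_right
  have hCG : C ≤ G := hC ▸ inf_le_left
  have hCJ : C ≤ J := le_trans hCG hGJ
  let eG : (G.subgroupOf J) ≃* G := Subgroup.subgroupOfEquivOfLe hGJ
  let eR : (R.subgroupOf J) ≃* R := Subgroup.subgroupOfEquivOfLe hRJ
  haveI : Fintype J := Fintype.ofFinite _
  haveI : Fintype (G.subgroupOf J) := Fintype.ofFinite _
  have htop' : G.subgroupOf J ⊔ R.subgroupOf J = ⊤ := by
    rw [← Subgroup.subgroupOf_sup hGJ hRJ, ← hJ, Subgroup.subgroupOf_self]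
  haveI hG' : (G.subgroupOf J).Normal := hG.subgroupOf J
  have hcop' : (Nat.card (G.subgroupOf J)).Coprime (Nat.card (R.subgroupOf J)) := by
    rw [Nat.card_congr eG.toEquiv, Nat.card_congr eR.toEquiv]
    exact hcop
  have hcyc' : IsCyclic (R.subgroupOf J) :=
    isCyclic_of_surjective eR.symm.toMonoidHom eR.symm.surjective
  have hmemC : ∀ x : J, x ∈ G.subgroupOf J ⊓
      Subgroup.centralizer ((R.subgroupOf J : Subgroup J) : Set J) ↔ (x : Γ) ∈ C := by
    intro x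
    rw [hC, Subgroup.mem_inf, Subgroup.mem_inf, Subgroup.mem_subgroupOf,
      Subgroup.mem_centralizer_iff, Subgroup.mem_centralizer_iff]
    constructor
    · rintro ⟨h1, h2⟩
      refine ⟨h1, ?_⟩
      intro r hr
      have := h2 ⟨r, hRJ hr⟩ (Subgroup.mem_subgroupOf.mpr hr)
      exact congrArg Subtype.val this
    · rintro ⟨h1, h2⟩
      refine ⟨h1, ?_⟩
      intro r hr
      apply Subtype.ext
      exact h2 (r : Γ) (Subgroup.mem_subgroupOf.mp hr)
  haveI : Fintype ↥(G.subgroupOf J ⊓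
      Subgroup.centralizer ((R.subgroupOf J : Subgroup J) : Set J)) := Fintype.ofFinite _
  let eC : ↥(G.subgroupOf J ⊓ Subgroup.centralizer ((R.subgroupOf J : Subgroup J) : Set J)) ≃* C :=
    { toFun := fun x => ⟨((x : J) : Γ), (hmemC x).mp x.2⟩
      invFun := fun c => ⟨⟨(c : Γ), hCJ c.2⟩, (hmemC _).mpr c.2⟩
      left_inv := fun x => rfl
      right_inv := fun c => rfl
      map_mul' := fun x y => rfl }
  -- the restricted character
  have hψJ : Cfsg.IsCharacter J (fun x : J => ψ x) :=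
    isCharacter_comp_hom (h7_irr_isCharacter hψ) J.subtype
  have hres' : Cfsg.IsIrrCharacter (G.subgroupOf J) (fun g : G.subgroupOf J => ψ ((g : J) : Γ)) :=
    h7_isIrr_comp_equiv eG (fun g : G => ψ g) hres
  have hirrJ : Cfsg.IsIrrCharacter J (fun x : J => ψ x) :=
    irr_of_restrict_irr (G.subgroupOf J) _ hψJ hres'
  have hdet' : (Cfsg.detOrder (fun x : J => ψ x)).Coprime (Nat.card (R.subgroupOf J)) := by
    rw [Nat.card_congr eR.toEquiv]
    exact Nat.Coprime.coprime_dvd_left (gf_detOrder_restrict J ψ hψ hirrJ) hdet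
  obtain ⟨β', ε, hε, hval⟩ := gc_exists (G.subgroupOf J) (R.subgroupOf J) hcop' htop' hcyc'
    (fun x : J => ψ x) hirrJ hres' hdet'
  refine ⟨⟨fun c => (β' : _ → ℂ) (eC.symm c), h7_isIrr_comp_equiv eC.symm _ β'.2⟩, ε, hε, ?_⟩
  intro c y hy
  have hyR : y ∈ R := hy ▸ Subgroup.mem_zpowers y
  have hgen : Subgroup.zpowers (⟨y, hRJ hyR⟩ : J) = R.subgroupOf J := by
    ext z
    rw [Subgroup.mem_subgroupOf, ← hy, Subgroup.mem_zpowers_iff, Subgroup.mem_zpowers_iff]
    constructor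
    · rintro ⟨k, hk⟩
      exact ⟨k, by rw [← hk]; simp⟩
    · rintro ⟨k, hk⟩
      exact ⟨k, Subtype.ext (by simpa using hk)⟩
  have := hval (eC.symm c) ⟨y, hRJ hyR⟩ hgen
  exact this

end Cfsg.Agent.Lib.helper2
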