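import Mathlib
import Cfsg.Prelude.Def_Characters
import Cfsg.Prelude.Def_CharExt
import Cfsg.Agent.Lib.helper2.GlaubCyc6
import Cfsg.Agent.Lib.helper2.GlaubF3

set_option autoImplicit false
open Cfsg
open scoped ComplexConjugate

namespace Cfsg.Agent.Lib.helper2

open Cfsg.Agent.Lib.helper7 Cfsg.Agent.Lib.Helper11 Cfsg.Agent.Lib.Helper25

/-- a character of an abelian group whose values off the identity are signs is a multiple of the
regular character plus or minus a linear character with real values -/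
theorem gf_structure {T : Type*} [Group T] [Fintype T] (hab : ∀ a b : T, a * b = b * a)
    [Fintype ↥(annih (⊥ : Subgroup T))] (hn2 : 2 ≤ Nat.card T)
    (a : ↥(annih (⊥ : Subgroup T)) → ℕ) (e : T → ℤ) (he : ∀ x : T, x ≠ 1 → e x = 1 ∨ e x = -1)
    (hf : ∀ x : T, x ≠ 1 →
      ∑ l : ↥(annih (⊥ : Subgroup T)), (a l : ℂ) * (((l : T →* ℂˣ) x : ℂˣ) : ℂ) = (e x : ℂ)) :
    ∃ ε : ℤ, (ε = 1 ∨ ε = -1) ∧ ∃ l₀ : ↥(annih (⊥ : Subgroup T)), ∃ q : ℕ,
      (∀ l, (a l : ℤ) = q + if l = l₀ then ε else 0) ∧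
      (∀ x : T, x ≠ 1 → (((l₀ : T →* ℂˣ) x : ℂˣ) : ℂ) = (ε : ℂ) * (e x : ℂ)) := by
  classical
  have hab' : ∀ x y : T, x * y * x⁻¹ * y⁻¹ ∈ (⊥ : Subgroup T) := by
    intro x y
    rw [Subgroup.mem_bot, hab x y]
    group
  set n := Nat.card T with hn
  have hcardL : Fintype.card ↥(annih (⊥ : Subgroup T)) = n := by
    have h1 := gc_card_annih (⊥ : Subgroup T) hab'
    rw [Subgroup.index_bot] at h1
    exact_mod_cast h1
  have hnC : (n : ℂ) ≠ 0 := by
    have : 0 < n := by omega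
    exact_mod_cast this.ne'
  -- orthogonality of linear characters
  have horth : ∀ l l' : ↥(annih (⊥ : Subgroup T)),
      ∑ x : T, (((l : T →* ℂˣ) x : ℂˣ) : ℂ) * conj ((((l' : T →* ℂˣ) x : ℂˣ) : ℂ)) =
        if l = l' then (n : ℂ) else 0 := by
    intro l l'
    have h1 := classInner_linFun (l : T →* ℂˣ) (l' : T →* ℂˣ)
    unfold Cfsg.classInner at h1
    have h2 : ∑ x : T, linFun (l : T →* ℂˣ) x * conj (linFun (l' : T →* ℂˣ) x) =
        (n : ℂ) * (if (l : T →* ℂˣ) = (l' : T →* ℂˣ) then 1 else 0) := by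
      rw [← h1, ← mul_assoc, mul_inv_cancel₀ hnC, one_mul]
    have h3 : ((l : T →* ℂˣ) = (l' : T →* ℂˣ)) ↔ l = l' := Subtype.ext_iff.symm
    simp only [linFun_apply] at h2
    rw [h2]
    by_cases h : l = l'
    · rw [if_pos h, if_pos (h3.mpr h), mul_one]
    · rw [if_neg h, if_neg (fun h' => h (h3.mp h')), mul_zero]
  set f : T → ℂ := fun x => ∑ l : ↥(annih (⊥ : Subgroup T)),
    (a l : ℂ) * (((l : T →* ℂˣ) x : ℂˣ) : ℂ) with hfdef
  set m : ℕ := ∑ l, a l with hm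
  have hf1 : f 1 = (m : ℂ) := by
    simp only [hfdef, map_one, Units.val_one, mul_one, hm]
    push_cast
    rfl
  -- Parseval
  have hpars : ∑ x : T, f x * conj (f x) = (n : ℂ) * ∑ l, ((a l : ℂ)) ^ 2 := by
    have h1 : ∀ x : T, f x * conj (f x) = ∑ l, ∑ l', ((a l : ℂ) * (a l' : ℂ)) *
        ((((l : T →* ℂˣ) x : ℂˣ) : ℂ) * conj ((((l' : T →* ℂˣ) x : ℂˣ) : ℂ))) := by
      intro x
      simp only [hfdef, map_sum, map_mul, Complex.conj_natCast]
      rw [Finset.sum_mul_sum]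
      refine Finset.sum_congr rfl fun l _ => Finset.sum_congr rfl fun l' _ => ?_
      ring
    rw [Finset.sum_congr rfl (fun x _ => h1 x), Finset.sum_comm]
    rw [Finset.mul_sum]
    refine Finset.sum_congr rfl fun l _ => ?_
    rw [Finset.sum_comm]
    have h2 : ∀ l', ∑ x : T, ((a l : ℂ) * (a l' : ℂ)) *
        ((((l : T →* ℂˣ) x : ℂˣ) : ℂ) * conj ((((l' : T →* ℂˣ) x : ℂˣ) : ℂ))) =
        ((a l : ℂ) * (a l' : ℂ)) * (if l = l' then (n : ℂ) else 0) := by
      intro l'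
      rw [← Finset.mul_sum, horth]
    rw [Finset.sum_congr rfl (fun l' _ => h2 l')]
    simp only [mul_ite, mul_zero, Finset.sum_ite_eq, Finset.mem_univ, if_true]
    ring
  have hsigns : ∀ x : T, x ≠ 1 → f x * conj (f x) = 1 := by
    intro x hx
    have : f x = (e x : ℂ) := hf x hx
    rw [this]
    rcases he x hx with h | h <;> rw [h] <;> simp
  have hsum2 : ∑ x : T, f x * conj (f x) = (m : ℂ) ^ 2 + ((n : ℂ) - 1) := by
    rw [← Finset.add_sum_erase _ _ (Finset.mem_univ (1 : T)), hf1]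
    rw [Finset.sum_congr rfl (fun x hx => hsigns x (Finset.mem_erase.mp hx).1)]
    simp only [Complex.conj_natCast, Finset.sum_const, nsmul_eq_mul, mul_one]
    rw [Finset.card_erase_of_mem (Finset.mem_univ _), Finset.card_univ, ← Nat.card_eq_fintype_card,
      ← hn]
    have : 1 ≤ n := by omega
    push_cast [Nat.cast_sub this]
    ring
  have hsq : n * ∑ l, (a l) ^ 2 + 1 = m ^ 2 + n := by
    have h1 : (n : ℂ) * ∑ l, ((a l : ℂ)) ^ 2 + 1 = (m : ℂ) ^ 2 + n := by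
      rw [← hpars, hsum2]; ring
    exact_mod_cast h1
  obtain ⟨ε, hε, l₀, q, hq⟩ := gf_arith a n m hcardL hn2 rfl hsq
  refine ⟨ε, hε, l₀, q, hq, ?_⟩
  intro x hx
  -- Σ_l l x = 0
  have hzero : ∑ l : ↥(annih (⊥ : Subgroup T)), (((l : T →* ℂˣ) x : ℂˣ) : ℂ) = 0 := by
    rw [sum_annih_of_normal (⊥ : Subgroup T) hab' x, if_neg]
    rwa [Subgroup.mem_bot]
  have h1 := hf x hx
  have h2 : ∀ l : ↥(annih (⊥ : Subgroup T)), (a l : ℂ) = (q : ℂ) + if l = l₀ then (ε : ℂ) else 0 := by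
    intro l
    have := hq l
    have h3 : ((a l : ℤ) : ℂ) = ((q + if l = l₀ then ε else 0 : ℤ) : ℂ) := by rw [this]
    push_cast at h3
    rw [h3]
  simp only [h2, add_mul, Finset.sum_add_distrib, ← Finset.mul_sum, hzero, mul_zero, zero_add,
    ite_mul, zero_mul, Finset.sum_ite_eq', Finset.mem_univ, if_true] at h1
  have hεsq : (ε : ℂ) * (ε : ℂ) = 1 := by
    rcases hε with h | h <;> rw [h] <;> simp
  calc (((l₀ : T →* ℂˣ) x : ℂˣ) : ℂ) = (ε : ℂ) * ((ε : ℂ) * (((l₀ : T →* ℂˣ) x : ℂˣ) : ℂ)) := by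
        rw [← mul_assoc, hεsq, one_mul]
    _ = (ε : ℂ) * (e x : ℂ) := by rw [h1]

end Cfsg.Agent.Lib.helper2
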