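import Mathlib

set_option autoImplicit false

namespace Cfsg.Agent.Lib.helper2

/-- induction on exponents: every exponent not divisible by `n` is linked to one coprime to `n`
by steps changing it by a multiple of the `p'`-part of `n` -/
theorem gf_exp_induction (n : ℕ) (hn : 0 < n) (P : ℕ → Prop)
    (base : ∀ i, Nat.Coprime i n → P i)
    (step : ∀ (i j p k : ℕ), p.Prime → ¬ n ∣ i → ¬ n ∣ j →
      (n : ℤ) ∣ ((i : ℤ) - j) * (p : ℤ) ^ k → P j → P i) :
    ∀ i, ¬ n ∣ i → P i := by
  classical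
  suffices H : ∀ (t : ℕ) (i : ℕ), ((n.primeFactors).filter (· ∣ i)).card = t → ¬ n ∣ i → P i from
    fun i hi => H _ i rfl hi
  intro t
  induction t using Nat.strong_induction_on with
  | _ t ih =>
  intro i hcard hni
  by_cases hempty : (n.primeFactors).filter (· ∣ i) = ∅
  · apply base
    rw [Nat.coprime_comm]
    apply Nat.Coprime.symm
    rw [Nat.coprime_comm]
    apply Nat.coprime_of_dvd
    intro q hq hqn hqi
    have : q ∈ (n.primeFactors).filter (· ∣ i) := by
      rw [Finset.mem_filter, Nat.mem_primeFactors]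
      exact ⟨⟨hq, hqn, hn.ne'⟩, hqi⟩
    rw [hempty] at this
    exact absurd this (Finset.notMem_empty _)
  · obtain ⟨p, hp⟩ := Finset.nonempty_iff_ne_empty.mpr hempty
    rw [Finset.mem_filter, Nat.mem_primeFactors] at hp
    obtain ⟨⟨hpp, hpn, -⟩, hpi⟩ := hp
    obtain ⟨a, m', hpm', hnm'⟩ := Nat.exists_eq_pow_mul_and_not_dvd hn.ne' p hpp.one_lt.ne'
    have ha : a ≠ 0 := by
      rintro rfl
      rw [pow_zero, one_mul] at hnm'
      exact hpm' (hnm' ▸ hpn)
    have hco : Nat.Coprime m' (p ^ a) := by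
      apply Nat.Coprime.pow_right
      exact (Nat.Coprime.symm ((Nat.Prime.coprime_iff_not_dvd hpp).mpr hpm'))
    obtain ⟨j, hj1, hj2⟩ := Nat.chineseRemainder hco i 1
    have hpj : ¬ p ∣ j := by
      intro hd
      have h1 : j ≡ 1 [MOD p] := hj2.of_dvd (dvd_pow_self p ha)
      have h2 : j ≡ 0 [MOD p] := (Nat.modEq_zero_iff_dvd).mpr hd
      have h3 : (1 : ℕ) ≡ 0 [MOD p] := h1.symm.trans h2
      have h4 : p ∣ 1 := (Nat.modEq_zero_iff_dvd).mp h3
      exact hpp.one_lt.ne' (Nat.dvd_one.mp h4)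
    have hnj : ¬ n ∣ j := fun h => hpj (hpn.trans h)
    have hsub : (n.primeFactors).filter (· ∣ j) ⊂ (n.primeFactors).filter (· ∣ i) := by
      rw [Finset.ssubset_iff_of_subset]
      · refine ⟨p, ?_, ?_⟩
        · rw [Finset.mem_filter, Nat.mem_primeFactors]
          exact ⟨⟨hpp, hpn, hn.ne'⟩, hpi⟩
        · rw [Finset.mem_filter]
          exact fun h => hpj h.2
      · intro q hq
        rw [Finset.mem_filter, Nat.mem_primeFactors] at hq ⊢
        obtain ⟨⟨hqp, hqn, h0⟩, hqj⟩ := hq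
        refine ⟨⟨hqp, hqn, h0⟩, ?_⟩
        have hqne : q ≠ p := fun h => hpj (h ▸ hqj)
        have hqm' : q ∣ m' := by
          rw [hnm'] at hqn
          rcases (Nat.Prime.dvd_mul hqp).mp hqn with h | h
          · exact absurd ((Nat.prime_dvd_prime_iff_eq hqp hpp).mp (hqp.dvd_of_dvd_pow h)) hqne
          · exact h
        have h1 : j ≡ i [MOD q] := hj1.of_dvd hqm'
        have h2 : j ≡ 0 [MOD q] := (Nat.modEq_zero_iff_dvd).mpr hqj
        exact (Nat.modEq_zero_iff_dvd).mp (h1.symm.trans h2)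
    have hlt : ((n.primeFactors).filter (· ∣ j)).card < t := by
      rw [← hcard]
      exact Finset.card_lt_card hsub
    have hPj : P j := ih _ hlt j rfl hnj
    refine step i j p a hpp hni hnj ?_ hPj
    have h1 : (m' : ℤ) ∣ (i : ℤ) - j := by
      have := (Nat.modEq_iff_dvd.mp hj1)
      exact this
    obtain ⟨c, hc⟩ := h1
    refine ⟨c, ?_⟩
    rw [hc, hnm']
    push_cast
    ring

end Cfsg.Agent.Lib.helper2
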