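import Mathlib
import Cfsg.Prelude.Def_Characters
import Cfsg.Prelude.Def_CharExt
import Cfsg.Agent.Lib.helper2.GlaubF1
import Cfsg.Agent.Lib.helper2.GlaubF2
import Cfsg.Agent.Lib.helper2.GlaubF4
import Cfsg.Agent.Lib.helper2.GlaubF5

set_option autoImplicit false
open Cfsg
open scoped ComplexConjugate

namespace Cfsg.Agent.Lib.helper2

open Cfsg.Agent.Lib.helper7 Cfsg.Agent.Lib.Helper11 Cfsg.Agent.Lib.Helper25

/-- good elements: the extension is `±β` on the coset `C x` -/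
def gfGood {Γ : Type*} [Group Γ] (C : Subgroup Γ) (ψ : Γ → ℂ) (β : C → ℂ) (x : Γ) : Prop :=
  ∃ ε : ℤ, (ε = 1 ∨ ε = -1) ∧ ∀ c : C, ψ ((c : Γ) * x) = (ε : ℂ) * β c

theorem gf_centralizer_zpowers {Γ : Type*} [Group Γ] (u : Γ) :
    Subgroup.centralizer ((Subgroup.zpowers u : Subgroup Γ) : Set Γ) =
      Subgroup.centralizer ({u} : Set Γ) := by
  ext x
  rw [Subgroup.mem_centralizer_iff, Subgroup.mem_centralizer_singleton_iff]
  constructor
  · intro h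
    exact (h u (Subgroup.mem_zpowers u)).symm
  · intro h y hy
    obtain ⟨k, rfl⟩ := Subgroup.mem_zpowers_iff.mp hy
    have hc : Commute x u := h
    exact (hc.zpow_right k).eq.symm

theorem gf_good_step {Γ : Type*} [Group Γ] [Fintype Γ] (G S C : Subgroup Γ) [Fintype G]
    [Fintype C] [hG : G.Normal] (hcop : (Nat.card G).Coprime (Nat.card S))
    (hSab : ∀ a b : S, a * b = b * a) (hcomm : ∀ c ∈ C, ∀ t ∈ S, c * t = t * c)
    (hfpf : ∀ x ∈ S, x ≠ 1 → G ⊓ Subgroup.centralizer ({x} : Set Γ) = C)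
    (ψ : Γ → ℂ) (hψ : Cfsg.IsIrrCharacter Γ ψ) (hres : Cfsg.IsIrrCharacter G (fun g : G => ψ g))
    (hdet : (Cfsg.detOrder ψ).Coprime (Nat.card S)) (β : Cfsg.IrrCharacter C)
    (u v : Γ) (hu : u ∈ S) (hv : v ∈ S) (hu1 : u ≠ 1) (p k : ℕ) (hp : p.Prime)
    (huv : (u * v⁻¹) ^ (p ^ k) = 1) (hgood : gfGood C ψ (β : C → ℂ) v) :
    gfGood C ψ (β : C → ℂ) u := by
  classical
  haveI : Fact p.Prime := ⟨hp⟩
  haveI : Fintype S := Fintype.ofFinite _
  haveI : Fintype ↥(annih (⊥ : Subgroup S)) := Fintype.ofFinite _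
  have hRS : Subgroup.zpowers u ≤ S := (Subgroup.zpowers_le).mpr hu
  have hcopR : (Nat.card G).Coprime (Nat.card (Subgroup.zpowers u)) :=
    Nat.Coprime.coprime_dvd_right (Subgroup.card_dvd_of_le hRS) hcop
  have hdetR : (Cfsg.detOrder ψ).Coprime (Nat.card (Subgroup.zpowers u)) :=
    Nat.Coprime.coprime_dvd_right (Subgroup.card_dvd_of_le hRS) hdet
  have hCR : C = G ⊓ Subgroup.centralizer ((Subgroup.zpowers u : Subgroup Γ) : Set Γ) := by
    rw [gf_centralizer_zpowers, hfpf u hu hu1]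
  obtain ⟨βu, εu, hεu, hvalu⟩ := gf_value G (Subgroup.zpowers u) hcopR inferInstance C hCR ψ hψ
    hres hdetR
  have hu_val : ∀ c : C, ψ ((c : Γ) * u) = (εu : ℂ) * (βu : C → ℂ) c := fun c => hvalu c u rfl
  obtain ⟨εv, hεv, hvalv⟩ := hgood
  obtain ⟨a, ha⟩ := gc_mult_expansion C S hcomm hSab ψ (h7_irr_isCharacter hψ) (βu : C → ℂ)
    (Cfsg.Agent.Lib.helper2.isCharacter_of_irr βu)
  have hIu : (Nat.card C : ℂ)⁻¹ * ∑ c : C, ψ (c * (⟨u, hu⟩ : S)) * conj ((βu : C → ℂ) c) =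
      (εu : ℂ) := by
    have h1 : ∀ c : C, ψ (c * (⟨u, hu⟩ : S)) * conj ((βu : C → ℂ) c) =
        (εu : ℂ) * ((βu : C → ℂ) c * conj ((βu : C → ℂ) c)) := by
      intro c
      rw [hu_val c]; ring
    rw [Finset.sum_congr rfl (fun c _ => h1 c), ← Finset.mul_sum, mul_left_comm]
    have := irr_classInner βu βu
    unfold Cfsg.classInner at this
    rw [this, if_pos rfl, mul_one]
  have hIv : (Nat.card C : ℂ)⁻¹ * ∑ c : C, ψ (c * (⟨v, hv⟩ : S)) * conj ((βu : C → ℂ) c) =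
      (εv : ℂ) * (if β = βu then 1 else 0) := by
    have h1 : ∀ c : C, ψ (c * (⟨v, hv⟩ : S)) * conj ((βu : C → ℂ) c) =
        (εv : ℂ) * ((β : C → ℂ) c * conj ((βu : C → ℂ) c)) := by
      intro c
      rw [hvalv c]; ring
    rw [Finset.sum_congr rfl (fun c _ => h1 c), ← Finset.mul_sum, mul_left_comm]
    have := irr_classInner β βu
    unfold Cfsg.classInner at this
    rw [this]
  have hau := ha ⟨u, hu⟩
  have hav := ha ⟨v, hv⟩
  rw [hIu] at hau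
  rw [hIv] at hav
  -- the congruence
  set J : ℤ := εu - εv * (if β = βu then 1 else 0) with hJ
  have hJsum : ∑ l : ↥(annih (⊥ : Subgroup S)),
      ((a l : ℂ) * (((l : S →* ℂˣ) ⟨v, hv⟩ : ℂˣ) : ℂ)) *
        ((((l : S →* ℂˣ) (⟨u, hu⟩ * ⟨v, hv⟩⁻¹) : ℂˣ) : ℂ) - 1) = (J : ℤ) := by
    have h1 : ∀ l : ↥(annih (⊥ : Subgroup S)),
        ((a l : ℂ) * (((l : S →* ℂˣ) ⟨v, hv⟩ : ℂˣ) : ℂ)) *
          ((((l : S →* ℂˣ) (⟨u, hu⟩ * ⟨v, hv⟩⁻¹) : ℂˣ) : ℂ) - 1) =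
        (a l : ℂ) * (((l : S →* ℂˣ) ⟨u, hu⟩ : ℂˣ) : ℂ) -
          (a l : ℂ) * (((l : S →* ℂˣ) ⟨v, hv⟩ : ℂˣ) : ℂ) := by
      intro l
      rw [map_mul, map_inv, Units.val_mul]
      have hne : ((((l : S →* ℂˣ) ⟨v, hv⟩ : ℂˣ)) : ℂ) ≠ 0 := Units.ne_zero _
      rw [Units.val_inv_eq_inv_val]
      field_simp
    rw [Finset.sum_congr rfl (fun l _ => h1 l), Finset.sum_sub_distrib, ← hau, ← hav, hJ]
    push_cast
    split_ifs <;> simp
  have hdvd : (p : ℤ) ∣ J := by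
    apply gf_cong_mixed p k _ _ _ _ J hJsum
    · intro l
      apply IsIntegral.mul (isIntegral_algebraMap (R := ℤ) (x := (a l : ℤ)) |> fun h => by simpa using h)
      have hfin : (((l : S →* ℂˣ) ⟨v, hv⟩ : ℂˣ) : ℂ) ^ (Fintype.card S) = 1 := by
        rw [← Units.val_pow_eq_pow_val, ← map_pow, pow_card_eq_one, map_one, Units.val_one]
      exact IsIntegral.of_pow Fintype.card_pos (by rw [hfin]; exact isIntegral_one)
    · intro l
      rw [← Units.val_pow_eq_pow_val, ← map_pow]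
      have : ((⟨u, hu⟩ : S) * (⟨v, hv⟩ : S)⁻¹) ^ (p ^ k) = 1 := by
        apply Subtype.ext
        simpa using huv
      rw [this, map_one, Units.val_one]
  by_cases hβ : β = βu
  · subst hβ
    exact ⟨εu, hεu, hu_val⟩
  · exfalso
    rw [hJ, if_neg hβ, mul_zero, sub_zero] at hdvd
    have h2 : (p : ℤ) ∣ 1 := by
      rcases hεu with h | h
      · rwa [h] at hdvd
      · rw [h] at hdvd
        simpa using hdvd
    have h3 : p ∣ 1 := by exact_mod_cast h2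
    exact hp.one_lt.ne' (Nat.dvd_one.mp h3)

theorem gf_all_good {Γ : Type*} [Group Γ] [Fintype Γ] (G S C : Subgroup Γ) [Fintype G]
    [Fintype C] [hG : G.Normal] (hcop : (Nat.card G).Coprime (Nat.card S))
    (hSab : ∀ a b : S, a * b = b * a) (hcomm : ∀ c ∈ C, ∀ t ∈ S, c * t = t * c)
    (hfpf : ∀ x ∈ S, x ≠ 1 → G ⊓ Subgroup.centralizer ({x} : Set Γ) = C)
    (ψ : Γ → ℂ) (hψ : Cfsg.IsIrrCharacter Γ ψ) (hres : Cfsg.IsIrrCharacter G (fun g : G => ψ g))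
    (hdet : (Cfsg.detOrder ψ).Coprime (Nat.card S)) (β : Cfsg.IrrCharacter C)
    (s₀ : Γ) (hs₀ : Subgroup.zpowers s₀ = S) (ε₀ : ℤ) (hε₀ : ε₀ = 1 ∨ ε₀ = -1)
    (hβ : ∀ c : C, ∀ s : Γ, Subgroup.zpowers s = S → ψ ((c : Γ) * s) = (ε₀ : ℂ) * (β : C → ℂ) c) :
    ∀ x ∈ S, x ≠ 1 → gfGood C ψ (β : C → ℂ) x := by
  classical
  have hn : 0 < orderOf s₀ := orderOf_pos s₀
  have hmemS : ∀ i : ℕ, s₀ ^ i ∈ S := fun i => hs₀ ▸ Subgroup.pow_mem _ (Subgroup.mem_zpowers s₀) i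
  have hall : ∀ i, ¬ orderOf s₀ ∣ i → gfGood C ψ (β : C → ℂ) (s₀ ^ i) := by
    apply gf_exp_induction (orderOf s₀) hn (fun i => gfGood C ψ (β : C → ℂ) (s₀ ^ i))
    · intro i hi
      have hord : orderOf (s₀ ^ i) = orderOf s₀ := Nat.Coprime.orderOf_pow hi.symm
      have hgen : Subgroup.zpowers (s₀ ^ i) = S := by
        rw [← hs₀]
        apply Subgroup.eq_of_le_of_card_ge
        · exact (Subgroup.zpowers_le).mpr (Subgroup.pow_mem _ (Subgroup.mem_zpowers s₀) i)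
        · rw [Nat.card_zpowers, Nat.card_zpowers, hord]
      exact ⟨ε₀, hε₀, fun c => hβ c _ hgen⟩
    · intro i j p k hp hni hnj hdvd hPj
      apply gf_good_step G S C hcop hSab hcomm hfpf ψ hψ hres hdet β (s₀ ^ i) (s₀ ^ j)
        (hmemS i) (hmemS j) _ p k hp _ hPj
      · intro h1
        exact hni (orderOf_dvd_iff_pow_eq_one.mpr h1)
      · have e1 : (s₀ ^ i * (s₀ ^ j)⁻¹) ^ (p ^ k) = s₀ ^ (((i : ℤ) - j) * (p : ℤ) ^ k) := by
          rw [zpow_mul, zpow_sub, zpow_natCast, zpow_natCast]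
          norm_cast
        rw [e1]
        exact orderOf_dvd_iff_zpow_eq_one.mp hdvd
  intro x hx hx1
  rw [← hs₀, ← mem_powers_iff_mem_zpowers] at hx
  obtain ⟨i, rfl⟩ := hx
  apply hall
  intro hd
  exact hx1 (orderOf_dvd_iff_pow_eq_one.mp hd)

end Cfsg.Agent.Lib.helper2
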