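import Mathlib
import Cfsg.Prelude.Def_Characters
import Cfsg.Prelude.Def_CharExt
import Cfsg.Prelude.Def_Blocks
import Cfsg.Agent.Lib.helper2.GlaubF6
import Cfsg.Agent.Lib.Helper25.CharAbelian

set_option autoImplicit false
open Cfsg
open scoped ComplexConjugate

namespace Cfsg.Agent.Lib.helper2

open Cfsg.Agent.Lib.helper7 Cfsg.Agent.Lib.Helper11 Cfsg.Agent.Lib.Helper25

theorem gf_card_annih_bot {T : Type*} [Group T] [Fintype T] (hab : ∀ a b : T, a * b = b * a)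
    [Fintype ↥(annih (⊥ : Subgroup T))] :
    Fintype.card ↥(annih (⊥ : Subgroup T)) = Nat.card T := by
  have hab' : ∀ x y : T, x * y * x⁻¹ * y⁻¹ ∈ (⊥ : Subgroup T) := by
    intro x y
    rw [Subgroup.mem_bot, hab x y]
    group
  have h1 := gc_card_annih (⊥ : Subgroup T) hab'
  rw [Subgroup.index_bot] at h1
  exact_mod_cast h1

/-- a character of an abelian group vanishing off the identity is a multiple of the regular
character -/
theorem gf_const {T : Type*} [Group T] [Fintype T]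
    [Fintype ↥(annih (⊥ : Subgroup T))]
    (a : ↥(annih (⊥ : Subgroup T)) → ℕ)
    (hf : ∀ x : T, x ≠ 1 →
      ∑ l : ↥(annih (⊥ : Subgroup T)), (a l : ℂ) * (((l : T →* ℂˣ) x : ℂˣ) : ℂ) = 0) :
    ∃ q : ℕ, ∀ l, a l = q := by
  classical
  set n := Nat.card T with hn
  have hnpos : 0 < n := Nat.card_pos
  have hnC : (n : ℂ) ≠ 0 := by exact_mod_cast hnpos.ne'
  have horth : ∀ l l' : ↥(annih (⊥ : Subgroup T)),
      ∑ x : T, (((l : T →* ℂˣ) x : ℂˣ) : ℂ) * conj ((((l' : T →* ℂˣ) x : ℂˣ) : ℂ)) =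
        if l = l' then (n : ℂ) else 0 := by
    intro l l'
    have h1 := classInner_linFun (l : T →* ℂˣ) (l' : T →* ℂˣ)
    unfold Cfsg.classInner at h1
    have h2 : ∑ x : T, linFun (l : T →* ℂˣ) x * conj (linFun (l' : T →* ℂˣ) x) =
        (n : ℂ) * (if (l : T →* ℂˣ) = (l' : T →* ℂˣ) then 1 else 0) := by
      rw [← h1, ← mul_assoc, mul_inv_cancel₀ hnC, one_mul]
    have h3 : ((l : T →* ℂˣ) = (l' : T →* ℂˣ)) ↔ l = l' := Subtype.ext_iff.symm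
    simp only [linFun_apply] at h2
    rw [h2]
    by_cases h : l = l'
    · rw [if_pos h, if_pos (h3.mpr h), mul_one]
    · rw [if_neg h, if_neg (fun h' => h (h3.mp h')), mul_zero]
  set f : T → ℂ := fun x => ∑ l : ↥(annih (⊥ : Subgroup T)),
    (a l : ℂ) * (((l : T →* ℂˣ) x : ℂˣ) : ℂ) with hfdef
  have key : ∀ l' : ↥(annih (⊥ : Subgroup T)), (n : ℂ) * (a l' : ℂ) = ∑ l, (a l : ℂ) := by
    intro l'
    have h1 : ∑ x : T, f x * conj ((((l' : T →* ℂˣ) x : ℂˣ) : ℂ)) = (n : ℂ) * (a l' : ℂ) := by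
      have h2 : ∀ x : T, f x * conj ((((l' : T →* ℂˣ) x : ℂˣ) : ℂ)) =
          ∑ l, (a l : ℂ) * ((((l : T →* ℂˣ) x : ℂˣ) : ℂ) *
            conj ((((l' : T →* ℂˣ) x : ℂˣ) : ℂ))) := by
        intro x
        simp only [hfdef, Finset.sum_mul]
        refine Finset.sum_congr rfl fun l _ => ?_
        ring
      rw [Finset.sum_congr rfl (fun x _ => h2 x), Finset.sum_comm]
      have h3 : ∀ l, ∑ x : T, (a l : ℂ) * ((((l : T →* ℂˣ) x : ℂˣ) : ℂ) *
            conj ((((l' : T →* ℂˣ) x : ℂˣ) : ℂ))) = (a l : ℂ) * (if l = l' then (n : ℂ) else 0) := by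
        intro l
        rw [← Finset.mul_sum, horth]
      rw [Finset.sum_congr rfl (fun l _ => h3 l)]
      simp only [mul_ite, mul_zero, Finset.sum_ite_eq', Finset.mem_univ, if_true]
      ring
    have h4 : ∑ x : T, f x * conj ((((l' : T →* ℂˣ) x : ℂˣ) : ℂ)) = ∑ l, (a l : ℂ) := by
      rw [← Finset.add_sum_erase _ _ (Finset.mem_univ (1 : T))]
      have h5 : ∀ x ∈ (Finset.univ : Finset T).erase 1,
          f x * conj ((((l' : T →* ℂˣ) x : ℂˣ) : ℂ)) = 0 := by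
        intro x hx
        have : f x = 0 := hf x (Finset.mem_erase.mp hx).1
        rw [this, zero_mul]
      rw [Finset.sum_eq_zero h5, add_zero]
      simp only [hfdef, map_one, Units.val_one, mul_one]
    rw [← h1, h4]
  have h1ann : (1 : T →* ℂˣ) ∈ annih (⊥ : Subgroup T) := one_mem _
  refine ⟨a ⟨1, h1ann⟩, fun l => ?_⟩
  have e1 := key l
  have e2 := key ⟨1, h1ann⟩
  have e3 : (n : ℂ) * (a l : ℂ) = (n : ℂ) * (a ⟨1, h1ann⟩ : ℂ) := by rw [e1, e2]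
  have e4 := mul_left_cancel₀ hnC e3
  exact_mod_cast e4

theorem gf_main_big {Γ : Type*} [Group Γ] [Fintype Γ] (G S : Subgroup Γ) [Fintype G]
    [hG : G.Normal]
    (hcop : (Nat.card G).Coprime (Nat.card S)) (hn2 : 2 ≤ Nat.card S)
    (s₀ : Γ) (hs₀ : Subgroup.zpowers s₀ = S)
    (C : Subgroup Γ) [Fintype C] (hC : C = G ⊓ Subgroup.centralizer (S : Set Γ)) (hCG : C ≤ G)
    (hfpf : ∀ x ∈ S, x ≠ 1 → G ⊓ Subgroup.centralizer ({x} : Set Γ) = C)
    (χ : Cfsg.IrrCharacter G) (χh : Cfsg.IrrCharacter Γ)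
    (hext : (∀ g : G, (χh : Γ → ℂ) g = (χ : G → ℂ) g))
    (hdet : (Cfsg.detOrder (χh : Γ → ℂ)).Coprime (Nat.card S)) (β : Cfsg.IrrCharacter C) (ε₀ : ℤ)
    (hε₀ : ε₀ = 1 ∨ ε₀ = -1)
    (hβ : ∀ c : C, ∀ s : Γ, Subgroup.zpowers s = S →
      (χh : Γ → ℂ) ((c : Γ) * s) = (ε₀ : ℂ) * (β : C → ℂ) c) :
    ∃ ε : ℤ, (ε = 1 ∨ ε = -1) ∧ (∃ μ : S → ℂ, Cfsg.IsCharacter S μ ∧ μ 1 = 1 ∧
      (∀ x : S, μ x * μ x = 1) ∧ ∀ c : C, ∀ x : S, x ≠ 1 →
        (χh : Γ → ℂ) ((c : Γ) * x) = (ε : ℂ) * (β : C → ℂ) c * μ x) ∧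
      (∃ ϑ : C → ℂ, Cfsg.IsCharacter C ϑ ∧ (fun c : C => (χ : G → ℂ) ⟨c, hCG c.2⟩) =
        fun c => (Nat.card S : ℂ) * ϑ c + (ε : ℂ) * (β : C → ℂ) c) ∧
      (Nat.card S : ℤ) ∣ (Cfsg.charDegree (χ : G → ℂ) : ℤ) -
        ε * (Cfsg.charDegree (β : C → ℂ) : ℤ) := by
  classical
  haveI : Fintype S := Fintype.ofFinite _
  haveI : Fintype ↥(annih (⊥ : Subgroup S)) := Fintype.ofFinite _
  haveI : Fintype (Cfsg.IrrCharacter C) := Fintype.ofFinite _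
  have hSab : ∀ a b : S, a * b = b * a := by
    intro a b
    apply Subtype.ext
    exact gc_zpowers_comm s₀ a b (hs₀ ▸ a.2) (hs₀ ▸ b.2)
  have hcomm : ∀ c ∈ C, ∀ t ∈ S, c * t = t * c := by
    intro c hc t ht
    rw [hC] at hc
    exact (Subgroup.mem_centralizer_iff.mp hc.2 t ht).symm
  have hres : Cfsg.IsIrrCharacter G (fun g : G => (χh : Γ → ℂ) g) := by
    have : (fun g : G => (χh : Γ → ℂ) g) = (χ : G → ℂ) := funext hext
    rw [this]; exact χ.2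
  have hgood := gf_all_good G S C hcop hSab hcomm hfpf (χh : Γ → ℂ) χh.2 hres hdet β s₀ hs₀ ε₀
    hε₀ hβ
  have hgood' : ∀ x : S, ∃ ε : ℤ, x ≠ 1 → (ε = 1 ∨ ε = -1) ∧
      ∀ c : C, (χh : Γ → ℂ) ((c : Γ) * x) = (ε : ℂ) * (β : C → ℂ) c := by
    intro x
    by_cases hx : x = 1
    · exact ⟨1, fun h => absurd hx h⟩
    · obtain ⟨ε, hε, h⟩ := hgood x x.2 (fun h => hx (Subtype.ext h))
      exact ⟨ε, fun _ => ⟨hε, h⟩⟩
  choose e he using hgood'
  have hmult : ∀ β' : Cfsg.IrrCharacter C, ∃ a : ↥(annih (⊥ : Subgroup S)) → ℕ, ∀ t : S,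
      (Nat.card C : ℂ)⁻¹ * ∑ c : C, (χh : Γ → ℂ) (c * t) * conj ((β' : C → ℂ) c) =
        ∑ l : ↥(annih (⊥ : Subgroup S)), (a l : ℂ) * (((l : S →* ℂˣ) t : ℂˣ) : ℂ) :=
    fun β' => gc_mult_expansion C S hcomm hSab (χh : Γ → ℂ) (h7_irr_isCharacter χh.2)
      (β' : C → ℂ) (Cfsg.Agent.Lib.helper2.isCharacter_of_irr β')
  choose A hA using hmult
  have hinner : ∀ β' : Cfsg.IrrCharacter C, ∀ x : S, x ≠ 1 →
      (Nat.card C : ℂ)⁻¹ * ∑ c : C, (χh : Γ → ℂ) (c * x) * conj ((β' : C → ℂ) c) =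
        (e x : ℂ) * (if β = β' then 1 else 0) := by
    intro β' x hx
    have h1 : ∀ c : C, (χh : Γ → ℂ) (c * x) * conj ((β' : C → ℂ) c) =
        (e x : ℂ) * ((β : C → ℂ) c * conj ((β' : C → ℂ) c)) := by
      intro c
      rw [(he x hx).2 c]; ring
    rw [Finset.sum_congr rfl (fun c _ => h1 c), ← Finset.mul_sum, mul_left_comm]
    have := irr_classInner β β'
    unfold Cfsg.classInner at this
    rw [this]
  have hfβ : ∀ x : S, x ≠ 1 →
      ∑ l, (A β l : ℂ) * (((l : S →* ℂˣ) x : ℂˣ) : ℂ) = (e x : ℂ) := by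
    intro x hx
    rw [← hA β x, hinner β x hx, if_pos rfl, mul_one]
  obtain ⟨ε, hε, l₀, q, hq, hl₀⟩ := gf_structure hSab hn2 (A β) e (fun x hx => (he x hx).1) hfβ
  have hεsq : (ε : ℂ) * (ε : ℂ) = 1 := by
    rcases hε with h | h <;> rw [h] <;> simp
  have hesq : ∀ x : S, x ≠ 1 → (e x : ℂ) * (e x : ℂ) = 1 := by
    intro x hx
    rcases (he x hx).1 with h | h <;> rw [h] <;> simp
  have hconst : ∀ β' : Cfsg.IrrCharacter C, β' ≠ β → ∃ q' : ℕ, ∀ l, A β' l = q' := by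
    intro β' hne
    apply gf_const (A β')
    intro x hx
    rw [← hA β' x, hinner β' x hx, if_neg (Ne.symm hne), mul_zero]
  set ψC : C → ℂ := fun c => (χ : G → ℂ) ⟨c, hCG c.2⟩ with hψC
  have hψC' : ∀ c : C, ψC c = (χh : Γ → ℂ) (c * (1 : S)) := by
    intro c
    simp only [hψC, OneMemClass.coe_one, mul_one]
    exact (hext ⟨c, hCG c.2⟩).symm
  have hψchar : Cfsg.IsCharacter C ψC :=
    isCharacter_comp_hom (Cfsg.Agent.Lib.helper2.isCharacter_of_irr χ) (Subgroup.inclusion hCG)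
  have hin1 : ∀ β' : Cfsg.IrrCharacter C,
      Cfsg.classInner ψC (β' : C → ℂ) = ∑ l, (A β' l : ℂ) := by
    intro β'
    have := hA β' 1
    simp only [map_one, Units.val_one, mul_one] at this
    rw [← this]
    unfold Cfsg.classInner
    congr 1
    refine Finset.sum_congr rfl fun c _ => ?_
    rw [hψC' c]
  have hcardL := gf_card_annih_bot hSab
  have hmβ : Cfsg.classInner ψC (β : C → ℂ) = (Nat.card S : ℂ) * q + ε := by
    rw [hin1 β]
    have h2 : ∀ l : ↥(annih (⊥ : Subgroup S)),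
        (A β l : ℂ) = (q : ℂ) + if l = l₀ then (ε : ℂ) else 0 := by
      intro l
      have := hq l
      have h3 : ((A β l : ℤ) : ℂ) = ((q + if l = l₀ then ε else 0 : ℤ) : ℂ) := by rw [this]
      push_cast at h3
      rw [h3]
    simp only [h2, Finset.sum_add_distrib, Finset.sum_const, Finset.card_univ, hcardL,
      Finset.sum_ite_eq', Finset.mem_univ, if_true, nsmul_eq_mul]
  have hk : ∀ β' : Cfsg.IrrCharacter C, ∃ k : ℕ, Cfsg.classInner ψC (β' : C → ℂ) =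
      (Nat.card S : ℂ) * k + if β' = β then (ε : ℂ) else 0 := by
    intro β'
    by_cases h : β' = β
    · subst h; exact ⟨q, by rw [hmβ, if_pos rfl]⟩
    · obtain ⟨q', hq'⟩ := hconst β' h
      refine ⟨q', ?_⟩
      rw [hin1 β', if_neg h, add_zero]
      simp only [hq', Finset.sum_const, Finset.card_univ, hcardL, nsmul_eq_mul]
  choose k hk using hk
  obtain ⟨m, hm, hsum⟩ := isCharacter_expansion hψchar
  set ϑ : C → ℂ := ∑ β' : Cfsg.IrrCharacter C, (k β' : ℂ) • (β' : C → ℂ) with hϑ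
  have hϑchar : Cfsg.IsCharacter C ϑ :=
    isCharacter_sum _ _ (fun β' _ =>
      isCharacter_natCast_smul (Cfsg.Agent.Lib.helper2.isCharacter_of_irr β') (k β'))
  have hb : ∀ c : C, ψC c = (Nat.card S : ℂ) * ϑ c + (ε : ℂ) * (β : C → ℂ) c := by
    intro c
    have h1 : ψC c = ∑ β' : Cfsg.IrrCharacter C, (m β' : ℂ) * (β' : C → ℂ) c := by
      conv_lhs => rw [hsum]
      simp only [Finset.sum_apply, Pi.smul_apply, smul_eq_mul]
    rw [h1]
    have h2 : ∀ β' : Cfsg.IrrCharacter C, (m β' : ℂ) * (β' : C → ℂ) c =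
        (Nat.card S : ℂ) * ((k β' : ℂ) * (β' : C → ℂ) c) +
          (if β' = β then (ε : ℂ) * (β' : C → ℂ) c else 0) := by
      intro β'
      rw [← hm β', hk β']
      split_ifs <;> ring
    rw [Finset.sum_congr rfl (fun β' _ => h2 β'), Finset.sum_add_distrib, ← Finset.mul_sum]
    simp only [Finset.sum_ite_eq', Finset.mem_univ, if_true, hϑ, Finset.sum_apply, Pi.smul_apply,
      smul_eq_mul]
  refine ⟨ε, hε, ⟨fun x => (((l₀ : S →* ℂˣ) x : ℂˣ) : ℂ), ?_, ?_, ?_, ?_⟩, ⟨ϑ, hϑchar, ?_⟩, ?_⟩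
  · exact Cfsg.Agent.Lib.helper2.isCharacter_of_irr (linIrr (l₀ : S →* ℂˣ))
  · simp only [map_one, Units.val_one]
  · intro x
    by_cases hx : x = 1
    · subst hx; simp only [map_one, Units.val_one, mul_one]
    · simp only []
      rw [hl₀ x hx]
      calc (ε : ℂ) * (e x : ℂ) * ((ε : ℂ) * (e x : ℂ)) =
            ((ε : ℂ) * (ε : ℂ)) * ((e x : ℂ) * (e x : ℂ)) := by ring
        _ = 1 := by rw [hεsq, hesq x hx, mul_one]
  · intro c x hx
    simp only []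
    rw [hl₀ x hx, (he x hx).2 c]
    calc (e x : ℂ) * (β : C → ℂ) c = ((ε : ℂ) * (ε : ℂ)) * ((e x : ℂ) * (β : C → ℂ) c) := by
          rw [hεsq, one_mul]
      _ = (ε : ℂ) * (β : C → ℂ) c * ((ε : ℂ) * (e x : ℂ)) := by ring
  · funext c
    exact hb c
  · have h1 := hb 1
    obtain ⟨t, ht⟩ := isCharacter_one_eq_nat hϑchar
    have h2 : ψC 1 = (χ : G → ℂ) 1 := rfl
    rw [h2, ht, ← (charDegree_irr χ).1, ← (charDegree_irr β).1] at h1
    have h3 : (Cfsg.charDegree (χ : G → ℂ) : ℤ) =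
        (Nat.card S : ℤ) * t + ε * (Cfsg.charDegree (β : C → ℂ) : ℤ) := by
      exact_mod_cast h1
    exact ⟨t, by rw [h3]; ring⟩

theorem gf_main {Γ : Type*} [Group Γ] [Fintype Γ] (G S : Subgroup Γ) [Fintype G]
    (hnorm : ∀ s ∈ S, ∀ g ∈ G, s * g * s⁻¹ ∈ G) (hcop : (Nat.card G).Coprime (Nat.card S))
    (htop : G ⊔ S = ⊤) (hcyc : IsCyclic S) (C : Subgroup Γ) [Fintype C]
    (hC : C = G ⊓ Subgroup.centralizer (S : Set Γ)) (hCG : C ≤ G)
    (hfpf : ∀ x ∈ S, x ≠ 1 → G ⊓ Subgroup.centralizer ({x} : Set Γ) = C)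
    (χ : Cfsg.IrrCharacter G) (χh : Cfsg.IrrCharacter Γ)
    (hext : (∀ g : G, (χh : Γ → ℂ) g = (χ : G → ℂ) g))
    (hdet : (Cfsg.detOrder (χh : Γ → ℂ)).Coprime (Nat.card S)) (β : Cfsg.IrrCharacter C) (ε₀ : ℤ)
    (hε₀ : ε₀ = 1 ∨ ε₀ = -1)
    (hβ : ∀ c : C, ∀ s : Γ, Subgroup.zpowers s = S →
      (χh : Γ → ℂ) ((c : Γ) * s) = (ε₀ : ℂ) * (β : C → ℂ) c) :
    ∃ ε : ℤ, (ε = 1 ∨ ε = -1) ∧ (∃ μ : S → ℂ, Cfsg.IsCharacter S μ ∧ μ 1 = 1 ∧
      (∀ x : S, μ x * μ x = 1) ∧ ∀ c : C, ∀ x : S, x ≠ 1 →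
        (χh : Γ → ℂ) ((c : Γ) * x) = (ε : ℂ) * (β : C → ℂ) c * μ x) ∧
      (∃ ϑ : C → ℂ, Cfsg.IsCharacter C ϑ ∧ (fun c : C => (χ : G → ℂ) ⟨c, hCG c.2⟩) =
        fun c => (Nat.card S : ℂ) * ϑ c + (ε : ℂ) * (β : C → ℂ) c) ∧
      (Nat.card S : ℤ) ∣ (Cfsg.charDegree (χ : G → ℂ) : ℤ) -
        ε * (Cfsg.charDegree (β : C → ℂ) : ℤ) := by
  classical
  haveI hGn : G.Normal := gc_normal G S hnorm htop
  obtain ⟨s₀, hs₀⟩ := gc_exists_gen S hcyc
  by_cases hn2 : 2 ≤ Nat.card S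
  · exact gf_main_big G S hcop hn2 s₀ hs₀ C hC hCG hfpf χ χh hext hdet β ε₀ hε₀ hβ
  · have hpos : 0 < Nat.card S := Nat.card_pos
    have hn1 : Nat.card S = 1 := by omega
    have hSbot : S = ⊥ := Subgroup.eq_bot_of_card_eq S hn1
    have hone : Subgroup.zpowers (1 : Γ) = S := by rw [hSbot, Subgroup.zpowers_one_eq_bot]
    have hval : ∀ c : C, (χ : G → ℂ) ⟨c, hCG c.2⟩ = (ε₀ : ℂ) * (β : C → ℂ) c := by
      intro c
      have h1 := hβ c 1 hone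
      rw [mul_one] at h1
      rw [← h1]
      exact (hext ⟨c, hCG c.2⟩).symm
    refine ⟨ε₀, hε₀, ⟨fun _ => 1, ?_, rfl, fun _ => mul_one 1, ?_⟩, ⟨0, isCharacter_zero C, ?_⟩, ?_⟩
    · have h := Cfsg.Agent.Lib.helper2.isCharacter_of_irr (linIrr (1 : S →* ℂˣ))
      have h2 : ((linIrr (1 : S →* ℂˣ) : Cfsg.IrrCharacter S) : S → ℂ) = fun _ => 1 := by
        funext x
        rw [linIrr_apply]
        simp
      rwa [h2] at h
    · intro c x hx
      exfalso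
      apply hx
      have hx2 : ∀ y : Γ, y ∈ S → y = 1 := by
        intro y hy
        rw [hSbot, Subgroup.mem_bot] at hy
        exact hy
      exact Subtype.ext (hx2 x x.2)
    · funext c
      rw [hval c]
      simp
    · rw [hn1]
      simp

end Cfsg.Agent.Lib.helper2
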