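import Mathlib
import Cfsg.Prelude.Def_Characters
import Cfsg.Prelude.Def_CharExt
import Cfsg.Agent.Lib.helper2.GlaubS4
import Cfsg.Agent.Lib.Helper25.CharReal

set_option autoImplicit false
open Cfsg
open scoped ComplexConjugate

namespace Cfsg.Agent.Lib.helper2

open Cfsg.Agent.Lib.helper7 Cfsg.Agent.Lib.Helper11 Cfsg.Agent.Lib.Helper25

theorem gr_inner_conj {G : Type*} [Group G] [Fintype G] (f g : G → ℂ) :
    Cfsg.classInner (fun x => conj (f x)) (fun x => conj (g x)) = conj (Cfsg.classInner f g) := by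
  unfold Cfsg.classInner
  simp only [map_mul, map_sum, map_inv₀, map_natCast, Complex.conj_conj]

/-- the `p`-group correspondence preserves real-valuedness -/
theorem gr_char_real_bij {Γ : Type*} [Group Γ] [Finite Γ] (G S C : Subgroup Γ) [Fintype G]
    [Fintype C] (hCG : C ≤ G) (p : ℕ) (hp : p.Prime) (hcorr : gpCorr G S C hCG p) :
    Nat.card {θ : Cfsg.IrrCharacter G // (∀ k : G, ((θ : G → ℂ) k).im = 0) ∧
      gpInv G S (θ : G → ℂ)} =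
    Nat.card {β : Cfsg.IrrCharacter C // ∀ c : C, ((β : C → ℂ) c).im = 0} := by
  classical
  obtain ⟨CA, CB, CC⟩ := hcorr
  -- conjugate inner products
  have hconjinner : ∀ (θ : Cfsg.IrrCharacter G) (β : Cfsg.IrrCharacter C) (m : ℕ),
      Cfsg.classInner (fun c : C => (θ : G → ℂ) ⟨c, hCG c.2⟩) (β : C → ℂ) = m →
      Cfsg.classInner (fun c : C => ((irrConj θ : Cfsg.IrrCharacter G) : G → ℂ) ⟨c, hCG c.2⟩)
        ((irrConj β : Cfsg.IrrCharacter C) : C → ℂ) = m := by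
    intro θ β m hm
    have := gr_inner_conj (fun c : C => (θ : G → ℂ) ⟨c, hCG c.2⟩) (β : C → ℂ)
    rw [hm, Complex.conj_natCast] at this
    rw [← this]
    rfl
  have hconjinv : ∀ θ : Cfsg.IrrCharacter G, gpInv G S (θ : G → ℂ) →
      gpInv G S ((irrConj θ : Cfsg.IrrCharacter G) : G → ℂ) := by
    intro θ h s hs g g' hgg'
    rw [irrConj_apply, irrConj_apply, h s hs g g' hgg']
  have hself : ∀ {H : Type _} [Group H] [Finite H] (θ : Cfsg.IrrCharacter H),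
      (∀ k, ((θ : H → ℂ) k).im = 0) → irrConj θ = θ := by
    intro H _ _ θ h
    apply Subtype.ext
    funext k
    rw [irrConj_apply]
    exact Complex.conj_eq_iff_im.mpr (h k)
  have hself' : ∀ {H : Type _} [Group H] [Finite H] (θ : Cfsg.IrrCharacter H),
      irrConj θ = θ → (∀ k, ((θ : H → ℂ) k).im = 0) := by
    intro H _ _ θ h k
    have := congrArg (fun f : Cfsg.IrrCharacter H => (f : H → ℂ) k) h
    simp only [irrConj_apply] at this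
    exact Complex.conj_eq_iff_im.mp this
  have key : ∀ θ : {θ : Cfsg.IrrCharacter G // (∀ k : G, ((θ : G → ℂ) k).im = 0) ∧
      gpInv G S (θ : G → ℂ)},
      ∃ β : {β : Cfsg.IrrCharacter C // ∀ c : C, ((β : C → ℂ) c).im = 0}, ∃ m : ℕ,
        Cfsg.classInner (fun c : C => ((θ : Cfsg.IrrCharacter G) : G → ℂ) ⟨c, hCG c.2⟩)
          ((β : Cfsg.IrrCharacter C) : C → ℂ) = m ∧ ¬ p ∣ m := by
    rintro ⟨θ, hθr, hθ⟩
    obtain ⟨β, ε, hε, h1⟩ := CA θ hθ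
    obtain ⟨m, hm, hm'⟩ := h1 β
    rw [if_pos rfl] at hm'
    have hpm := gp_not_dvd p hp m ε hε hm'
    have h2 := hconjinner θ β m hm
    rw [hself θ hθr] at h2
    obtain ⟨m₂, hm₂, hm₂'⟩ := h1 (irrConj β)
    have hmm : m₂ = m := by
      have : (m₂ : ℂ) = m := by rw [← hm₂, ← h2]
      exact_mod_cast this
    have hβ : irrConj β = β := gp_eq_of_not_dvd p m₂ ε _ β hm₂' (hmm ▸ hpm)
    exact ⟨⟨β, hself' β hβ⟩, m, hm, hpm⟩
  choose F hF using key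
  refine Nat.card_congr (Equiv.ofBijective F ⟨?_, ?_⟩)
  · intro θ₁ θ₂ h12
    obtain ⟨m₁, hm₁, hpm₁⟩ := hF θ₁
    obtain ⟨m₂, hm₂, hpm₂⟩ := hF θ₂
    rw [← h12] at hm₂
    apply Subtype.ext
    exact CB θ₁ θ₂ θ₁.2.2 θ₂.2.2 (F θ₁) m₁ m₂ hm₁ hpm₁ hm₂ hpm₂
  · rintro ⟨β, hβr⟩
    obtain ⟨θ, hθ, m, hm, hpm⟩ := CC β
    have h2 := hconjinner θ β m hm
    rw [hself β hβr] at h2
    have hθθ : irrConj θ = θ := CB (irrConj θ) θ (hconjinv θ hθ) hθ β m m h2 hpm hm hpm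
    have hθr := hself' θ hθθ
    refine ⟨⟨θ, hθr, hθ⟩, ?_⟩
    obtain ⟨m', hm', hpm'⟩ := hF ⟨θ, hθr, hθ⟩
    obtain ⟨β₀, ε, hε, h1⟩ := CA θ hθ
    obtain ⟨k, hk, hk'⟩ := h1 β
    obtain ⟨k₂, hk₂, hk₂'⟩ := h1 (F ⟨θ, hθr, hθ⟩)
    have e1 : k = m := by
      have : (k : ℂ) = m := by rw [← hk, ← hm]
      exact_mod_cast this
    have e2 : k₂ = m' := by
      have : (k₂ : ℂ) = m' := by rw [← hk₂, ← hm']
      exact_mod_cast this
    have hb1 : β = β₀ := gp_eq_of_not_dvd p k ε β β₀ hk' (e1 ▸ hpm)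
    have hb2 : ((F ⟨θ, hθr, hθ⟩ : {β : Cfsg.IrrCharacter C // ∀ c : C, ((β : C → ℂ) c).im = 0}) :
        Cfsg.IrrCharacter C) = β₀ := gp_eq_of_not_dvd p k₂ ε _ β₀ hk₂' (e2 ▸ hpm')
    apply Subtype.ext
    exact hb2.trans hb1.symm

theorem gr_real_mk {Γ : Type*} [Group Γ] (G : Subgroup Γ) (g : G) :
    (∀ k : G, ConjClasses.mk k = ConjClasses.mk g → IsConj k k⁻¹) ↔
      ∃ x ∈ G, x * (g : Γ) * x⁻¹ = (g : Γ)⁻¹ := by
  constructor
  · intro h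
    have h1 := h g rfl
    rw [← ConjClasses.mk_eq_mk_iff_isConj, gs_mk_eq_iff] at h1
    obtain ⟨x, hx, he⟩ := h1
    exact ⟨x, hx, by simpa using he⟩
  · rintro ⟨x, hx, he⟩ k hk
    rw [gs_mk_eq_iff] at hk
    obtain ⟨y, hy, hye⟩ := hk
    rw [← ConjClasses.mk_eq_mk_iff_isConj, gs_mk_eq_iff]
    refine ⟨y⁻¹ * x * y, G.mul_mem (G.mul_mem (G.inv_mem hy) hx) hy, ?_⟩
    have hk' : (k : Γ) = y⁻¹ * (g : Γ) * y := by rw [← hye]; group
    simp only [Subgroup.coe_inv]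
    rw [hk']
    calc y⁻¹ * x * y * (y⁻¹ * (g : Γ) * y) * (y⁻¹ * x * y)⁻¹
        = y⁻¹ * (x * (g : Γ) * x⁻¹) * y := by group
      _ = y⁻¹ * (g : Γ)⁻¹ * y := by rw [he]
      _ = (y⁻¹ * (g : Γ) * y)⁻¹ := by group

/-- the invariant real classes of `G` correspond to the real classes of `C = C_G(Q)` -/
theorem gr_class_real_bij {Γ : Type*} [Group Γ] [Finite Γ] (G Q C : Subgroup Γ) (q : ℕ)
    [Fact q.Prime] (hQ : IsPGroup q Q) (hqG : ¬ q ∣ Nat.card G)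
    (hnorm : ∀ u ∈ Q, ∀ g ∈ G, u * g * u⁻¹ ∈ G)
    (hC : C = G ⊓ Subgroup.centralizer (Q : Set Γ)) (hCG : C ≤ G) :
    Nat.card {c : ConjClasses G // (∀ k : G, ConjClasses.mk k = c → IsConj k k⁻¹) ∧
      ∀ k : G, ConjClasses.mk k = c → ∀ x ∈ Q, ∀ k' : G, (k' : Γ) = x * (k : Γ) * x⁻¹ →
        ConjClasses.mk k' = c} =
    Nat.card {L : ConjClasses C // ∀ k : C, ConjClasses.mk k = L → IsConj k k⁻¹} := by
  classical
  have hCmem : ∀ x, x ∈ C ↔ x ∈ G ∧ ∀ u ∈ Q, u * x * u⁻¹ = x := by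
    intro x
    rw [hC, Subgroup.mem_inf, Subgroup.mem_centralizer_iff]
    constructor
    · rintro ⟨h1, h2⟩
      refine ⟨h1, fun u hu => ?_⟩
      rw [h2 u hu]
      group
    · rintro ⟨h1, h2⟩
      refine ⟨h1, fun u hu => ?_⟩
      have := h2 u hu
      calc u * x = (u * x * u⁻¹) * u := by group
        _ = x * u := by rw [this]
  have hfus : ∀ b₁ b₂ : Γ, b₁ ∈ C → b₂ ∈ C → (∃ x ∈ G, x * b₁ * x⁻¹ = b₂) →
      ∃ y ∈ C, y * b₁ * y⁻¹ = b₂ := by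
    rintro b₁ b₂ hb₁ hb₂ ⟨x, hx, he⟩
    obtain ⟨y, hy1, hy2, hy3⟩ := gs_fusion G Q q hQ hqG hnorm b₁ b₂
      ((hCmem _).mp hb₁).2 ((hCmem _).mp hb₂).2 x hx he
    exact ⟨y, (hCmem y).mpr ⟨hy1, hy2⟩, hy3⟩
  have hinvmk : ∀ g : G, (∀ k : G, ConjClasses.mk k = ConjClasses.mk g → ∀ x ∈ Q, ∀ k' : G,
      (k' : Γ) = x * (k : Γ) * x⁻¹ → ConjClasses.mk k' = ConjClasses.mk g) ↔
      gsElInv G Q (g : Γ) := by
    intro g
    rw [← gsClsInv_mk G Q hnorm]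
    constructor
    · intro h s hs a a' haa' ha
      exact h a ha s hs a' haa'
    · intro h k hk x hx k' hk'
      exact h x hx k k' hk' hk
  symm
  let Φ : {L : ConjClasses C // ∀ k : C, ConjClasses.mk k = L → IsConj k k⁻¹} →
      {c : ConjClasses G // (∀ k : G, ConjClasses.mk k = c → IsConj k k⁻¹) ∧
        ∀ k : G, ConjClasses.mk k = c → ∀ x ∈ Q, ∀ k' : G, (k' : Γ) = x * (k : Γ) * x⁻¹ →
          ConjClasses.mk k' = c} :=
    fun L => ⟨ConjClasses.map (Subgroup.inclusion hCG) L.1, by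
      obtain ⟨L, hL⟩ := L
      obtain ⟨b, rfl⟩ := ConjClasses.exists_rep L
      change (∀ k : G, ConjClasses.mk k = ConjClasses.mk (Subgroup.inclusion hCG b) →
        IsConj k k⁻¹) ∧ ∀ k : G, ConjClasses.mk k = ConjClasses.mk (Subgroup.inclusion hCG b) →
        ∀ x ∈ Q, ∀ k' : G, (k' : Γ) = x * (k : Γ) * x⁻¹ →
          ConjClasses.mk k' = ConjClasses.mk (Subgroup.inclusion hCG b)
      rw [gr_real_mk, hinvmk]
      rw [gr_real_mk] at hL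
      obtain ⟨x, hx, he⟩ := hL
      refine ⟨⟨x, hCG hx, he⟩, ?_⟩
      intro s hs
      refine ⟨1, G.one_mem, ?_⟩
      have := ((hCmem _).mp b.2).2 s hs
      change s * (b : Γ) * s⁻¹ = 1 * (b : Γ) * 1⁻¹
      rw [this]
      group⟩
  refine Nat.card_congr (Equiv.ofBijective Φ ⟨?_, ?_⟩)
  · rintro ⟨L₁, hL₁⟩ ⟨L₂, hL₂⟩ h12
    obtain ⟨b₁, rfl⟩ := ConjClasses.exists_rep L₁
    obtain ⟨b₂, rfl⟩ := ConjClasses.exists_rep L₂
    apply Subtype.ext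
    have h := congrArg Subtype.val h12
    change ConjClasses.mk (Subgroup.inclusion hCG b₁) = ConjClasses.mk (Subgroup.inclusion hCG b₂)
      at h
    rw [gs_mk_eq_iff] at h
    change ConjClasses.mk b₁ = ConjClasses.mk b₂
    rw [gs_mk_eq_iff]
    exact hfus _ _ b₁.2 b₂.2 h
  · rintro ⟨c, hc1, hc2⟩
    obtain ⟨g, rfl⟩ := ConjClasses.exists_rep c
    rw [gr_real_mk] at hc1
    rw [hinvmk] at hc2
    obtain ⟨x, hx, hfix⟩ := gs_class_meets G Q q hQ hqG hnorm (g : Γ) hc2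
    have hbG : x * (g : Γ) * x⁻¹ ∈ G := G.mul_mem (G.mul_mem hx g.2) (G.inv_mem hx)
    have hbC : x * (g : Γ) * x⁻¹ ∈ C := (hCmem _).mpr ⟨hbG, hfix⟩
    set b : C := ⟨x * (g : Γ) * x⁻¹, hbC⟩ with hb
    have hbreal : ∀ k : C, ConjClasses.mk k = ConjClasses.mk b → IsConj k k⁻¹ := by
      rw [gr_real_mk]
      obtain ⟨y, hy, hye⟩ := hc1
      apply hfus _ _ b.2 (C.inv_mem b.2)
      refine ⟨x * y * x⁻¹, G.mul_mem (G.mul_mem hx hy) (G.inv_mem hx), ?_⟩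
      change x * y * x⁻¹ * (x * (g : Γ) * x⁻¹) * (x * y * x⁻¹)⁻¹ = (x * (g : Γ) * x⁻¹)⁻¹
      calc x * y * x⁻¹ * (x * (g : Γ) * x⁻¹) * (x * y * x⁻¹)⁻¹
          = x * (y * (g : Γ) * y⁻¹) * x⁻¹ := by group
        _ = x * (g : Γ)⁻¹ * x⁻¹ := by rw [hye]
        _ = (x * (g : Γ) * x⁻¹)⁻¹ := by group
    refine ⟨⟨ConjClasses.mk b, hbreal⟩, ?_⟩
    apply Subtype.ext
    change ConjClasses.mk (Subgroup.inclusion hCG b) = ConjClasses.mk g
    rw [gs_mk_eq_iff]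
    refine ⟨x⁻¹, G.inv_mem hx, ?_⟩
    change x⁻¹ * (x * (g : Γ) * x⁻¹) * x⁻¹⁻¹ = (g : Γ)
    group

end Cfsg.Agent.Lib.helper2
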