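import Mathlib
import Cfsg.Agent.Lib.Helper28.CD3.Defs

/-!
# Project IP (S4463): a group whose irreducible character degrees are at most `b` has an abelian
subgroup of index at most `(b!)^2` (Isaacs, Theorem 12.26).
Definitions shared by all pieces.  See IP_PLAN.md and IPSkel.lean.txt in this folder.
-/

set_option autoImplicit false
open scoped commutatorElement

namespace Cfsg.Agent.Lib.helper2.IP

universe u

/-- All irreducible character degrees of `G` are at most `b`. -/
def Bd (G : Type u) [Group G] (b : ℕ) : Prop :=
  ∀ χ : Cfsg.IrrCharacter G, Cfsg.charDegree (χ : G → ℂ) ≤ b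

/-- `G` has an abelian subgroup of index at most `n`. -/
def HasAb (G : Type u) [Group G] (n : ℕ) : Prop :=
  ∃ A : Subgroup G, (∀ x ∈ A, ∀ y ∈ A, x * y = y * x) ∧ A.index ≤ n

/-- The two possible outcomes of the reduction step: a subgroup of index at most `b^2` whose
degrees are at most `b - 1`. -/
def Good (G : Type u) [Group G] (b : ℕ) : Prop :=
  ∃ H : Subgroup G, H.index ≤ b ^ 2 ∧ Bd H (b - 1)

end Cfsg.Agent.Lib.helper2.IP
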