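import Mathlib

/-!
# Involutions in symmetric groups: lifting along embeddings, peeling and gluing

Auxiliary material for S3265 (the odd-product graph on a class of involutions of `Sym(n)`
has diameter 2).
-/

set_option autoImplicit false

namespace Cfsg.Agent.Lib.helper2

open Equiv Equiv.Perm

variable {α : Type*} [Fintype α] [DecidableEq α]

/-- Lift of a permutation of `Fin m` along an embedding `Fin m ↪ α`. -/
noncomputable def ivLift {m : ℕ} (f : Fin m ↪ α) (σ : Perm (Fin m)) : Perm α :=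
  σ.viaFintypeEmbedding f

theorem ivLift_apply_image {m : ℕ} (f : Fin m ↪ α) (σ : Perm (Fin m)) (i : Fin m) :
    ivLift f σ (f i) = f (σ i) :=
  Equiv.Perm.viaFintypeEmbedding_apply_image σ f i

theorem ivLift_apply_of_notMem {m : ℕ} (f : Fin m ↪ α) (σ : Perm (Fin m)) {p : α}
    (hp : p ∉ Set.range f) : ivLift f σ p = p :=
  Equiv.Perm.viaFintypeEmbedding_apply_notMem_range σ f hp

theorem ivLift_mul {m : ℕ} (f : Fin m ↪ α) (σ τ : Perm (Fin m)) :
    ivLift f (σ * τ) = ivLift f σ * ivLift f τ := by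
  unfold ivLift Equiv.Perm.viaFintypeEmbedding
  exact (Equiv.Perm.extendDomain_mul _ σ τ).symm

theorem ivLift_one {m : ℕ} (f : Fin m ↪ α) : ivLift f (1 : Perm (Fin m)) = 1 := by
  unfold ivLift Equiv.Perm.viaFintypeEmbedding
  exact Equiv.Perm.extendDomain_one _

theorem ivLift_pow {m : ℕ} (f : Fin m ↪ α) (σ : Perm (Fin m)) (n : ℕ) :
    ivLift f (σ ^ n) = (ivLift f σ) ^ n := by
  induction n with
  | zero => simp [ivLift_one]
  | succ n ih => rw [pow_succ, pow_succ, ivLift_mul, ih]

theorem ivLift_card_support {m : ℕ} (f : Fin m ↪ α) (σ : Perm (Fin m)) :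
    (ivLift f σ).support.card = σ.support.card := by
  unfold ivLift Equiv.Perm.viaFintypeEmbedding
  exact Equiv.Perm.card_support_extend_domain _

theorem ivLift_support_subset {m : ℕ} (f : Fin m ↪ α) (σ : Perm (Fin m)) :
    (ivLift f σ).support ⊆ Finset.univ.map f := by
  intro p hp
  rw [Equiv.Perm.mem_support] at hp
  by_contra h
  apply hp
  apply ivLift_apply_of_notMem
  intro ⟨i, hi⟩
  exact h (by simp [← hi])

theorem ivLift_swap {m : ℕ} (f : Fin m ↪ α) (i j : Fin m) :
    ivLift f (swap i j) = swap (f i) (f j) := by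
  ext p
  by_cases hp : p ∈ Set.range f
  · obtain ⟨k, rfl⟩ := hp
    rw [ivLift_apply_image]
    by_cases hki : k = i
    · subst hki; simp
    · by_cases hkj : k = j
      · subst hkj; simp
      · rw [swap_apply_of_ne_of_ne hki hkj,
          swap_apply_of_ne_of_ne (fun h => hki (f.injective h)) (fun h => hkj (f.injective h))]
  · rw [ivLift_apply_of_notMem f _ hp]
    rw [swap_apply_of_ne_of_ne]
    · rintro rfl; exact hp ⟨i, rfl⟩
    · rintro rfl; exact hp ⟨j, rfl⟩

/-- If a power of the lift is trivial because the power is trivial. -/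
theorem ivLift_orderOf_dvd {m : ℕ} (f : Fin m ↪ α) (σ : Perm (Fin m)) (N : ℕ)
    (h : σ ^ N = 1) : orderOf (ivLift f σ) ∣ N := by
  apply orderOf_dvd_of_pow_eq_one
  rw [← ivLift_pow, h, ivLift_one]

/-- Two permutations, one supported in a finset `U`, the other fixing `U` pointwise,
are disjoint. -/
theorem ivDisjoint_of_support {σ τ : Perm α} (U : Finset α) (hσ : σ.support ⊆ U)
    (hτ : ∀ p ∈ U, τ p = p) : Equiv.Perm.Disjoint σ τ := by
  intro p
  by_cases hp : p ∈ U
  · right; exact hτ p hp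
  · left
    by_contra h
    exact hp (hσ (Equiv.Perm.mem_support.mpr h))

/-- Odd order of a product of two disjoint permutations of odd order. -/
theorem ivOdd_orderOf_mul_of_disjoint {σ τ : Perm α} (h : Equiv.Perm.Disjoint σ τ)
    (hσ : Odd (orderOf σ)) (hτ : Odd (orderOf τ)) : Odd (orderOf (σ * τ)) := by
  rw [h.orderOf]
  rcases hσ with ⟨a, ha⟩
  rcases hτ with ⟨b, hb⟩
  rw [← Nat.not_even_iff_odd]
  intro he
  have h2 : 2 ∣ Nat.lcm (orderOf σ) (orderOf τ) := even_iff_two_dvd.mp he
  have hdvd : Nat.lcm (orderOf σ) (orderOf τ) ∣ orderOf σ * orderOf τ :=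
    Nat.lcm_dvd (Dvd.intro _ rfl) (Dvd.intro_left _ rfl)
  have h3 : 2 ∣ orderOf σ * orderOf τ := dvd_trans h2 hdvd
  rcases (Nat.Prime.dvd_mul Nat.prime_two).mp h3 with h4 | h4
  · omega
  · omega

/-- The hypotheses on a pair of involutions supported in a finset. -/
structure IvHyp (S : Finset α) (x y : Perm α) : Prop where
  xx : x * x = 1
  yy : y * y = 1
  xS : x.support ⊆ S
  yS : y.support ⊆ S
  card : x.support.card = y.support.card

/-- A solution: an involution `z` of the same type with `x z` and `z y` of odd order. -/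
def IvSol (S : Finset α) (x y : Perm α) : Prop :=
  ∃ z : Perm α, z * z = 1 ∧ z.support ⊆ S ∧ z.support.card = x.support.card ∧
    Odd (orderOf (x * z)) ∧ Odd (orderOf (z * y))

/-- The forbidden configuration: a single alternating 4-cycle. -/
def IvForb (S : Finset α) (x y : Perm α) : Prop :=
  S.card = 4 ∧ ∀ p ∈ S, x p ≠ p ∧ y p ≠ p ∧ x p ≠ y p

theorem IvHyp.symm {S : Finset α} {x y : Perm α} (H : IvHyp S x y) : IvHyp S y x :=
  ⟨H.yy, H.xx, H.yS, H.xS, H.card.symm⟩

theorem ivInv_apply_apply {x : Perm α} (hx : x * x = 1) (p : α) : x (x p) = p := by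
  have := congrArg (fun σ : Perm α => σ p) hx
  simpa using this

theorem ivOrderOf_comm (σ τ : Perm α) : orderOf (σ * τ) = orderOf (τ * σ) := by
  have h2 : τ * σ = (MulAut.conj σ⁻¹).toMonoidHom (σ * τ) := by
    simp [MulAut.conj_apply]
  rw [h2, orderOf_injective (MulAut.conj σ⁻¹).toMonoidHom (MulAut.conj σ⁻¹).injective]

theorem IvSol.symm {S : Finset α} {x y : Perm α} (H : IvHyp S x y) (h : IvSol S x y) :
    IvSol S y x := by
  obtain ⟨z, hzz, hzS, hzc, h1, h2⟩ := h
  refine ⟨z, hzz, hzS, hzc.trans H.card, ?_, ?_⟩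
  · rw [ivOrderOf_comm]; exact h2
  · rw [ivOrderOf_comm]; exact h1

theorem IvForb.symm {S : Finset α} {x y : Perm α} (h : IvForb S x y) : IvForb S y x :=
  ⟨h.1, fun p hp => ⟨(h.2 p hp).2.1, (h.2 p hp).1, (h.2 p hp).2.2.symm⟩⟩

theorem ivSol_one (S : Finset α) : IvSol S (1 : Perm α) 1 :=
  ⟨1, by simp, by simp, by simp, by simp, by simp⟩

/-- Peeling: if the involution `x` agrees on the range of `f` with the lift of an involution
`x0` of `Fin m`, then `X * x` (with `X` the lift) is an involution fixing the range. -/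
theorem ivPeel {m : ℕ} (f : Fin m ↪ α) (x0 : Perm (Fin m)) (hx0 : x0 * x0 = 1)
    {S : Finset α} {x : Perm α} (hxx : x * x = 1) (hxS : x.support ⊆ S)
    (hx : ∀ i, x (f i) = f (x0 i)) :
    (ivLift f x0 * x) * (ivLift f x0 * x) = 1 ∧
    (∀ i, (ivLift f x0 * x) (f i) = f i) ∧
    (∀ p, p ∉ Set.range f → (ivLift f x0 * x) p = x p) ∧
    (ivLift f x0 * x).support ⊆ S \ Finset.univ.map f ∧
    x = ivLift f x0 * (ivLift f x0 * x) ∧
    x.support.card = x0.support.card + (ivLift f x0 * x).support.card := by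
  set X := ivLift f x0 with hX
  have hXX : X * X = 1 := by rw [hX, ← ivLift_mul, hx0, ivLift_one]
  have hx0i : ∀ i, x0 (x0 i) = i := fun i => ivInv_apply_apply hx0 i
  have hnr : ∀ p, p ∉ Set.range f → x p ∉ Set.range f := by
    intro p hp ⟨j, hj⟩
    apply hp
    refine ⟨x0 j, ?_⟩
    rw [← hx j, hj, ivInv_apply_apply hxx]
  have hfix : ∀ i, (X * x) (f i) = f i := by
    intro i
    rw [Equiv.Perm.mul_apply, hx, hX, ivLift_apply_image, hx0i]
  have hout : ∀ p, p ∉ Set.range f → (X * x) p = x p := by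
    intro p hp
    rw [Equiv.Perm.mul_apply, hX, ivLift_apply_of_notMem f _ (hnr p hp)]
  have hcomm : X * x = x * X := by
    ext p
    by_cases hp : p ∈ Set.range f
    · obtain ⟨i, rfl⟩ := hp
      rw [hfix i, Equiv.Perm.mul_apply, hX, ivLift_apply_image, hx, hx0i]
    · rw [hout p hp, Equiv.Perm.mul_apply, hX, ivLift_apply_of_notMem f _ hp]
  have hinv : (X * x) * (X * x) = 1 := by
    calc (X * x) * (X * x) = X * (x * X) * x := by group
      _ = X * (X * x) * x := by rw [hcomm]
      _ = (X * X) * (x * x) := by group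
      _ = 1 := by rw [hXX, hxx, one_mul]
  have hsupp : (X * x).support ⊆ S \ Finset.univ.map f := by
    intro p hp
    rw [Equiv.Perm.mem_support] at hp
    have hpr : p ∉ Set.range f := by
      rintro ⟨i, rfl⟩
      exact hp (hfix i)
    rw [Finset.mem_sdiff]
    refine ⟨hxS ?_, ?_⟩
    · rw [Equiv.Perm.mem_support]
      rw [hout p hpr] at hp
      exact hp
    · intro hmem
      rw [Finset.mem_map] at hmem
      obtain ⟨i, _, hi⟩ := hmem
      exact hpr ⟨i, hi⟩
  have hdecomp : x = X * (X * x) := by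
    calc x = (X * X) * x := by rw [hXX, one_mul]
      _ = X * (X * x) := by group
  refine ⟨hinv, hfix, hout, hsupp, hdecomp, ?_⟩
  have hdisj : Equiv.Perm.Disjoint X (X * x) := by
    apply ivDisjoint_of_support (Finset.univ.map f) (ivLift_support_subset f x0)
    intro p hp
    rw [Finset.mem_map] at hp
    obtain ⟨i, _, rfl⟩ := hp
    exact hfix i
  calc x.support.card = (X * (X * x)).support.card := by rw [← hdecomp]
    _ = X.support.card + (X * x).support.card := hdisj.card_support_mul
    _ = x0.support.card + (X * x).support.card := by rw [hX, ivLift_card_support]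

/-- A local configuration on `Fin m` together with a local solution. -/
structure IvAtom (m : ℕ) where
  x0 : Perm (Fin m)
  y0 : Perm (Fin m)
  z0 : Perm (Fin m)
  xx : x0 * x0 = 1
  yy : y0 * y0 = 1
  zz : z0 * z0 = 1
  cxy : x0.support.card = y0.support.card
  czx : z0.support.card = x0.support.card
  N1 : ℕ
  N2 : ℕ
  oddN1 : Odd N1
  oddN2 : Odd N2
  h1 : (x0 * z0) ^ N1 = 1
  h2 : (z0 * y0) ^ N2 = 1

/-- Gluing a local solution to a solution of the rest. -/
theorem ivGlue {m : ℕ} (A : IvAtom m) (f : Fin m ↪ α) {S : Finset α} {x y : Perm α}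
    (hfS : ∀ i, f i ∈ S) (H : IvHyp S x y)
    (hx : ∀ i, x (f i) = f (A.x0 i)) (hy : ∀ i, y (f i) = f (A.y0 i)) :
    IvHyp (S \ Finset.univ.map f) (ivLift f A.x0 * x) (ivLift f A.y0 * y) ∧
    (IvSol (S \ Finset.univ.map f) (ivLift f A.x0 * x) (ivLift f A.y0 * y) → IvSol S x y) := by
  obtain ⟨px1, px2, px3, px4, px5, px6⟩ := ivPeel f A.x0 A.xx H.xx H.xS hx
  obtain ⟨py1, py2, py3, py4, py5, py6⟩ := ivPeel f A.y0 A.yy H.yy H.yS hy
  set X := ivLift f A.x0 with hX
  set Y := ivLift f A.y0 with hY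
  set x' := X * x with hx'
  set y' := Y * y with hy'
  have hcard' : x'.support.card = y'.support.card := by
    have := H.card
    rw [px6, py6, A.cxy] at this
    omega
  refine ⟨⟨px1, py1, px4, py4, hcard'⟩, ?_⟩
  rintro ⟨z', hz1, hz2, hz3, hz4, hz5⟩
  set Z := ivLift f A.z0 with hZ
  have hZZ : Z * Z = 1 := by rw [hZ, ← ivLift_mul, A.zz, ivLift_one]
  have hz'fix : ∀ p ∈ Finset.univ.map f, z' p = p := by
    intro p hp
    by_contra h
    have := hz2 (Equiv.Perm.mem_support.mpr h)
    rw [Finset.mem_sdiff] at this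
    exact this.2 hp
  have hx'fix : ∀ p ∈ Finset.univ.map f, x' p = p := by
    intro p hp
    rw [Finset.mem_map] at hp
    obtain ⟨i, _, rfl⟩ := hp
    exact px2 i
  have hy'fix : ∀ p ∈ Finset.univ.map f, y' p = p := by
    intro p hp
    rw [Finset.mem_map] at hp
    obtain ⟨i, _, rfl⟩ := hp
    exact py2 i
  have dZz' : Equiv.Perm.Disjoint Z z' :=
    ivDisjoint_of_support _ (ivLift_support_subset f A.z0) hz'fix
  have dZx' : Equiv.Perm.Disjoint Z x' :=
    ivDisjoint_of_support _ (ivLift_support_subset f A.z0) hx'fix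
  have dYz' : Equiv.Perm.Disjoint Y z' :=
    ivDisjoint_of_support _ (ivLift_support_subset f A.y0) hz'fix
  refine ⟨Z * z', ?_, ?_, ?_, ?_, ?_⟩
  · calc Z * z' * (Z * z') = Z * (z' * Z) * z' := by group
      _ = Z * (Z * z') * z' := by rw [dZz'.commute.eq]
      _ = (Z * Z) * (z' * z') := by group
      _ = 1 := by rw [hZZ, hz1, one_mul]
  · intro p hp
    rw [dZz'.support_mul, Finset.mem_union] at hp
    rcases hp with hp | hp
    · have := ivLift_support_subset f A.z0 hp
      rw [Finset.mem_map] at this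
      obtain ⟨i, _, rfl⟩ := this
      exact hfS i
    · exact (Finset.mem_sdiff.mp (hz2 hp)).1
  · rw [dZz'.card_support_mul, hZ, ivLift_card_support, hz3, A.czx, px6]
  · -- x * (Z * z') = (X * Z) * (x' * z')
    have e1 : x * (Z * z') = (X * Z) * (x' * z') := by
      calc x * (Z * z') = X * x' * (Z * z') := by rw [← px5]
        _ = X * (x' * Z) * z' := by group
        _ = X * (Z * x') * z' := by rw [dZx'.commute.eq]
        _ = (X * Z) * (x' * z') := by group
    rw [e1]
    apply ivOdd_orderOf_mul_of_disjoint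
    · apply ivDisjoint_of_support (Finset.univ.map f)
      · rw [hX, hZ, ← ivLift_mul]; exact ivLift_support_subset f _
      · intro p hp
        rw [Equiv.Perm.mul_apply, hz'fix p hp, hx'fix p hp]
    · rw [hX, hZ, ← ivLift_mul]
      exact Odd.of_dvd_nat A.oddN1 (ivLift_orderOf_dvd f _ _ A.h1)
    · exact hz4
  · have e2 : (Z * z') * y = (Z * Y) * (z' * y') := by
      calc (Z * z') * y = Z * z' * (Y * y') := by rw [← py5]
        _ = Z * (z' * Y) * y' := by group
        _ = Z * (Y * z') * y' := by rw [dYz'.commute.eq]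
        _ = (Z * Y) * (z' * y') := by group
    rw [e2]
    apply ivOdd_orderOf_mul_of_disjoint
    · apply ivDisjoint_of_support (Finset.univ.map f)
      · rw [hZ, hY, ← ivLift_mul]; exact ivLift_support_subset f _
      · intro p hp
        rw [Equiv.Perm.mul_apply, hy'fix p hp, hz'fix p hp]
    · rw [hZ, hY, ← ivLift_mul]
      exact Odd.of_dvd_nat A.oddN2 (ivLift_orderOf_dvd f _ _ A.h2)
    · exact hz5

end Cfsg.Agent.Lib.helper2
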