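import Cfsg.Agent.Lib.helper2.Inv1

/-!
# Inserting two points into a cycle of a permutation of odd order
-/

set_option autoImplicit false

namespace Cfsg.Agent.Lib.helper2

open Equiv Equiv.Perm

variable {α : Type*} [Fintype α] [DecidableEq α]

/-- A permutation all of whose points are fixed by an odd power has odd order. -/
theorem ivOdd_of_pointwise (π : Perm α) (h : ∀ p, ∃ n, Odd n ∧ (π ^ n) p = p) :
    Odd (orderOf π) := by
  choose n hn using h
  have hN : Odd (∏ p, n p) := by
    apply Finset.prod_induction _ Odd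
    · intro a b ha hb; exact ha.mul hb
    · exact odd_one
    · intro p _; exact (hn p).1
  apply Odd.of_dvd_nat hN
  apply orderOf_dvd_of_pow_eq_one
  ext p
  obtain ⟨M, hM⟩ := Finset.dvd_prod_of_mem n (Finset.mem_univ p)
  rw [hM, pow_mul]
  simp only [Equiv.Perm.coe_one, id_eq]
  exact Equiv.Perm.pow_apply_eq_self_of_apply_eq_self (hn p).2 M

/-- Insertion lemma: if `π'` has odd order and fixes two points `u ≠ v`, then inserting
`u, v` into the cycle of a third point `a` keeps the order odd. -/
theorem ivInsert {π' : Perm α} {a u v : α} (hau : a ≠ u) (hav : a ≠ v) (huv : u ≠ v)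
    (hu : π' u = u) (hv : π' v = v) (hodd : Odd (orderOf π')) :
    Odd (orderOf (swap a u * swap u v * π')) := by
  set π := swap a u * swap u v * π' with hπ
  have hπapp : ∀ q, π q = swap a u (swap u v (π' q)) := fun q => rfl
  -- basic facts
  have F1 : ∀ q, π' q ≠ a → q ≠ u → q ≠ v → π q = π' q := by
    intro q h1 h2 h3
    have h4 : π' q ≠ u := fun h => h2 (π'.injective (h.trans hu.symm))
    have h5 : π' q ≠ v := fun h => h3 (π'.injective (h.trans hv.symm))
    rw [hπapp, swap_apply_of_ne_of_ne h4 h5, swap_apply_of_ne_of_ne h1 h4]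
  have F2a : ∀ q, π' q = a → π q = u := by
    intro q hq
    rw [hπapp, hq, swap_apply_of_ne_of_ne hau hav, swap_apply_left]
  have F2u : π u = v := by
    rw [hπapp, hu, swap_apply_left, swap_apply_of_ne_of_ne hav.symm huv.symm]
  have F2v : π v = a := by
    rw [hπapp, hv, swap_apply_right, swap_apply_right]
  have hpowu : ∀ i : ℕ, (π' ^ i) u = u := fun i =>
    Equiv.Perm.pow_apply_eq_self_of_apply_eq_self hu i
  have hpowv : ∀ i : ℕ, (π' ^ i) v = v := fun i =>
    Equiv.Perm.pow_apply_eq_self_of_apply_eq_self hv i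
  have hneu : ∀ i : ℕ, (π' ^ i) a ≠ u := by
    intro i h
    exact hau ((π' ^ i).injective (h.trans (hpowu i).symm))
  have hnev : ∀ i : ℕ, (π' ^ i) a ≠ v := by
    intro i h
    exact hav ((π' ^ i).injective (h.trans (hpowv i).symm))
  -- the period of `a`
  set L := Function.minimalPeriod π' a with hL
  have hLpos : 0 < L := by
    apply Function.minimalPeriod_pos_of_mem_periodicPts
    exact Function.mem_periodicPts.mpr ⟨orderOf π', orderOf_pos π', by
      rw [Function.IsPeriodicPt, Function.IsFixedPt, ← Equiv.Perm.coe_pow, pow_orderOf_eq_one]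
      rfl⟩
  have hLa : (π' ^ L) a = a := by
    have := Function.isPeriodicPt_minimalPeriod π' a
    rw [Function.IsPeriodicPt, Function.IsFixedPt, ← Equiv.Perm.coe_pow] at this
    exact this
  have hLdvd : L ∣ orderOf π' := by
    apply Function.IsPeriodicPt.minimalPeriod_dvd
    rw [Function.IsPeriodicPt, Function.IsFixedPt, ← Equiv.Perm.coe_pow, pow_orderOf_eq_one]
    rfl
  have hLodd : Odd L := Odd.of_dvd_nat hodd hLdvd
  have hlt : ∀ i : ℕ, 0 < i → i < L → (π' ^ i) a ≠ a := by
    intro i hi0 hiL h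
    have : Function.IsPeriodicPt π' i a := by
      rw [Function.IsPeriodicPt, Function.IsFixedPt, ← Equiv.Perm.coe_pow]
      exact h
    exact Function.not_isPeriodicPt_of_pos_of_lt_minimalPeriod (Nat.pos_iff_ne_zero.mp hi0)
      hiL this
  have F3 : ∀ i : ℕ, i < L → (π ^ i) a = (π' ^ i) a := by
    intro i
    induction i with
    | zero => intro _; simp
    | succ i ih =>
      intro hi
      rw [pow_succ', Equiv.Perm.mul_apply, ih (by omega), pow_succ', Equiv.Perm.mul_apply]
      apply F1 _ _ (hneu i) (hnev i)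
      rw [← Equiv.Perm.mul_apply, ← pow_succ']
      exact hlt (i + 1) (by omega) hi
  have F4u : (π ^ L) a = u := by
    obtain ⟨k, hk⟩ : ∃ k, L = k + 1 := ⟨L - 1, by omega⟩
    rw [hk, pow_succ', Equiv.Perm.mul_apply, F3 k (by omega)]
    apply F2a
    rw [← Equiv.Perm.mul_apply, ← pow_succ', ← hk]
    exact hLa
  have F4v : (π ^ (L + 1)) a = v := by
    rw [pow_succ', Equiv.Perm.mul_apply, F4u, F2u]
  have F4a : (π ^ (L + 2)) a = a := by
    rw [pow_succ', Equiv.Perm.mul_apply, F4v, F2v]
  apply ivOdd_of_pointwise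
  intro p
  by_cases hp : SameCycle π a p
  · refine ⟨L + 2, by
      obtain ⟨k, hk⟩ := hLodd
      exact ⟨k + 1, by omega⟩, ?_⟩
    obtain ⟨j, rfl⟩ := hp
    rw [← Equiv.Perm.mul_apply, ← zpow_natCast, ← zpow_add, add_comm, zpow_add,
      Equiv.Perm.mul_apply, zpow_natCast, F4a]
  · refine ⟨orderOf π', hodd, ?_⟩
    have hq : ∀ q, ¬ SameCycle π a q → π q = π' q := by
      intro q hq
      apply F1
      · intro h
        apply hq
        -- q = π'^(L-1) a = π^(L-1) a
        obtain ⟨k, hk⟩ : ∃ k, L = k + 1 := ⟨L - 1, by omega⟩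
        have h1 : (π' ^ k) a = q := by
          apply π'.injective
          rw [← Equiv.Perm.mul_apply, ← pow_succ', ← hk, hLa, h]
        rw [← h1, ← F3 k (by omega)]
        exact ⟨(k : ℤ), by rw [zpow_natCast]⟩
      · rintro rfl
        exact hq ⟨(L : ℤ), by rw [zpow_natCast]; exact F4u⟩
      · rintro rfl
        exact hq ⟨((L + 1 : ℕ) : ℤ), by rw [zpow_natCast]; exact F4v⟩
    have hind : ∀ i : ℕ, (π ^ i) p = (π' ^ i) p := by
      intro i
      induction i with
      | zero => simp
      | succ i ih =>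
        have e1 : (π ^ (i + 1)) p = π ((π ^ i) p) := by
          rw [pow_succ']; rfl
        have e2 : (π' ^ (i + 1)) p = π' ((π' ^ i) p) := by
          rw [pow_succ']; rfl
        rw [e1, e2, ← ih]
        apply hq
        intro h
        exact hp (Equiv.Perm.sameCycle_pow_right.mp h)
    rw [hind, pow_orderOf_eq_one]
    rfl

end Cfsg.Agent.Lib.helper2
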