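import Cfsg.Agent.Lib.helper2.Inv1

/-!
# Explicit local configurations (atoms) for the involution lemma

Each atom is a pair of involutions on `Fin m` together with a third one of the same type
whose products with the first two have odd order; everything is checked by `decide`.
-/

set_option autoImplicit false

namespace Cfsg.Agent.Lib.helper2

open Equiv Equiv.Perm

/-- Build an involutive permutation of `Fin m` from a vector. -/
def ivP {m : ℕ} (v : Fin m → Fin m) (h : ∀ i, v (v i) = i) : Perm (Fin m) :=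
  Function.Involutive.toPerm v h

theorem ivP_apply {m : ℕ} (v : Fin m → Fin m) (h : ∀ i, v (v i) = i) (i : Fin m) :
    ivP v h i = v i := rfl

theorem ivP_mul_self {m : ℕ} (v : Fin m → Fin m) (h : ∀ i, v (v i) = i) :
    ivP v h * ivP v h = 1 := by
  ext i
  simp [ivP_apply, h i]

/-- A unit: an atom together with its extension by an alternating 4-cycle. -/
structure IvUnitData (m : ℕ) where
  A : IvAtom m
  AT : IvAtom (m + 4)
  hTx : ∀ i : Fin m, AT.x0 (Fin.castAdd 4 i) = Fin.castAdd 4 (A.x0 i)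
  hTy : ∀ i : Fin m, AT.y0 (Fin.castAdd 4 i) = Fin.castAdd 4 (A.y0 i)
  hTx' : ∀ j : Fin 4, AT.x0 (Fin.natAdd m j) = Fin.natAdd m (![1, 0, 3, 2] j)
  hTy' : ∀ j : Fin 4, AT.y0 (Fin.natAdd m j) = Fin.natAdd m (![3, 2, 1, 0] j)

/-- The atom `fp` on `Fin 1`. -/
def ivAtom_fp : IvAtom 1 where
  x0 := ivP ![0] (by decide)
  y0 := ivP ![0] (by decide)
  z0 := ivP ![0] (by decide)
  xx := ivP_mul_self _ _
  yy := ivP_mul_self _ _
  zz := ivP_mul_self _ _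
  cxy := by decide
  czx := by decide
  N1 := 1
  N2 := 1
  oddN1 := by decide
  oddN2 := by decide
  h1 := by decide
  h2 := by decide

theorem ivAtom_fp_x0 (i : Fin 1) : ((ivAtom_fp).x0 : Fin 1 → Fin 1) i = (![0] : Fin 1 → Fin 1) i := rfl

theorem ivAtom_fp_y0 (i : Fin 1) : ((ivAtom_fp).y0 : Fin 1 → Fin 1) i = (![0] : Fin 1 → Fin 1) i := rfl

/-- The atom `fpT` on `Fin 5`. -/
def ivAtom_fpT : IvAtom 5 where
  x0 := ivP ![0,2,1,4,3] (by decide)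
  y0 := ivP ![0,4,3,2,1] (by decide)
  z0 := ivP ![1,0,2,4,3] (by decide)
  xx := ivP_mul_self _ _
  yy := ivP_mul_self _ _
  zz := ivP_mul_self _ _
  cxy := by decide
  czx := by decide
  N1 := 3
  N2 := 5
  oddN1 := by decide
  oddN2 := by decide
  h1 := by decide
  h2 := by decide

theorem ivAtom_fpT_x0 (i : Fin 5) : ((ivAtom_fpT).x0 : Fin 5 → Fin 5) i = (![0,2,1,4,3] : Fin 5 → Fin 5) i := rfl

theorem ivAtom_fpT_y0 (i : Fin 5) : ((ivAtom_fpT).y0 : Fin 5 → Fin 5) i = (![0,4,3,2,1] : Fin 5 → Fin 5) i := rfl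

/-- The atom `dig` on `Fin 2`. -/
def ivAtom_dig : IvAtom 2 where
  x0 := ivP ![1,0] (by decide)
  y0 := ivP ![1,0] (by decide)
  z0 := ivP ![1,0] (by decide)
  xx := ivP_mul_self _ _
  yy := ivP_mul_self _ _
  zz := ivP_mul_self _ _
  cxy := by decide
  czx := by decide
  N1 := 1
  N2 := 1
  oddN1 := by decide
  oddN2 := by decide
  h1 := by decide
  h2 := by decide

theorem ivAtom_dig_x0 (i : Fin 2) : ((ivAtom_dig).x0 : Fin 2 → Fin 2) i = (![1,0] : Fin 2 → Fin 2) i := rfl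

theorem ivAtom_dig_y0 (i : Fin 2) : ((ivAtom_dig).y0 : Fin 2 → Fin 2) i = (![1,0] : Fin 2 → Fin 2) i := rfl

/-- The atom `digT` on `Fin 6`. -/
def ivAtom_digT : IvAtom 6 where
  x0 := ivP ![1,0,3,2,5,4] (by decide)
  y0 := ivP ![1,0,5,4,3,2] (by decide)
  z0 := ivP ![2,4,0,5,1,3] (by decide)
  xx := ivP_mul_self _ _
  yy := ivP_mul_self _ _
  zz := ivP_mul_self _ _
  cxy := by decide
  czx := by decide
  N1 := 3
  N2 := 3
  oddN1 := by decide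
  oddN2 := by decide
  h1 := by decide
  h2 := by decide

theorem ivAtom_digT_x0 (i : Fin 6) : ((ivAtom_digT).x0 : Fin 6 → Fin 6) i = (![1,0,3,2,5,4] : Fin 6 → Fin 6) i := rfl

theorem ivAtom_digT_y0 (i : Fin 6) : ((ivAtom_digT).y0 : Fin 6 → Fin 6) i = (![1,0,5,4,3,2] : Fin 6 → Fin 6) i := rfl

/-- The atom `p2` on `Fin 3`. -/
def ivAtom_p2 : IvAtom 3 where
  x0 := ivP ![1,0,2] (by decide)
  y0 := ivP ![0,2,1] (by decide)
  z0 := ivP ![1,0,2] (by decide)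
  xx := ivP_mul_self _ _
  yy := ivP_mul_self _ _
  zz := ivP_mul_self _ _
  cxy := by decide
  czx := by decide
  N1 := 1
  N2 := 3
  oddN1 := by decide
  oddN2 := by decide
  h1 := by decide
  h2 := by decide

theorem ivAtom_p2_x0 (i : Fin 3) : ((ivAtom_p2).x0 : Fin 3 → Fin 3) i = (![1,0,2] : Fin 3 → Fin 3) i := rfl

theorem ivAtom_p2_y0 (i : Fin 3) : ((ivAtom_p2).y0 : Fin 3 → Fin 3) i = (![0,2,1] : Fin 3 → Fin 3) i := rfl

/-- The atom `p2T` on `Fin 7`. -/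
def ivAtom_p2T : IvAtom 7 where
  x0 := ivP ![1,0,2,4,3,6,5] (by decide)
  y0 := ivP ![0,2,1,6,5,4,3] (by decide)
  z0 := ivP ![0,3,4,1,2,6,5] (by decide)
  xx := ivP_mul_self _ _
  yy := ivP_mul_self _ _
  zz := ivP_mul_self _ _
  cxy := by decide
  czx := by decide
  N1 := 5
  N2 := 3
  oddN1 := by decide
  oddN2 := by decide
  h1 := by decide
  h2 := by decide

theorem ivAtom_p2T_x0 (i : Fin 7) : ((ivAtom_p2T).x0 : Fin 7 → Fin 7) i = (![1,0,2,4,3,6,5] : Fin 7 → Fin 7) i := rfl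

theorem ivAtom_p2T_y0 (i : Fin 7) : ((ivAtom_p2T).y0 : Fin 7 → Fin 7) i = (![0,2,1,6,5,4,3] : Fin 7 → Fin 7) i := rfl

/-- The atom `p4` on `Fin 5`. -/
def ivAtom_p4 : IvAtom 5 where
  x0 := ivP ![1,0,3,2,4] (by decide)
  y0 := ivP ![0,2,1,4,3] (by decide)
  z0 := ivP ![1,0,3,2,4] (by decide)
  xx := ivP_mul_self _ _
  yy := ivP_mul_self _ _
  zz := ivP_mul_self _ _
  cxy := by decide
  czx := by decide
  N1 := 1
  N2 := 5
  oddN1 := by decide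
  oddN2 := by decide
  h1 := by decide
  h2 := by decide

theorem ivAtom_p4_x0 (i : Fin 5) : ((ivAtom_p4).x0 : Fin 5 → Fin 5) i = (![1,0,3,2,4] : Fin 5 → Fin 5) i := rfl

theorem ivAtom_p4_y0 (i : Fin 5) : ((ivAtom_p4).y0 : Fin 5 → Fin 5) i = (![0,2,1,4,3] : Fin 5 → Fin 5) i := rfl

/-- The atom `p4T` on `Fin 9`. -/
def ivAtom_p4T : IvAtom 9 where
  x0 := ivP ![1,0,3,2,4,6,5,8,7] (by decide)
  y0 := ivP ![0,2,1,4,3,8,7,6,5] (by decide)
  z0 := ivP ![0,4,5,8,1,2,7,6,3] (by decide)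
  xx := ivP_mul_self _ _
  yy := ivP_mul_self _ _
  zz := ivP_mul_self _ _
  cxy := by decide
  czx := by decide
  N1 := 3
  N2 := 3
  oddN1 := by decide
  oddN2 := by decide
  h1 := by decide
  h2 := by decide

theorem ivAtom_p4T_x0 (i : Fin 9) : ((ivAtom_p4T).x0 : Fin 9 → Fin 9) i = (![1,0,3,2,4,6,5,8,7] : Fin 9 → Fin 9) i := rfl

theorem ivAtom_p4T_y0 (i : Fin 9) : ((ivAtom_p4T).y0 : Fin 9 → Fin 9) i = (![0,2,1,4,3,8,7,6,5] : Fin 9 → Fin 9) i := rfl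

/-- The atom `P1Q1` on `Fin 4`. -/
def ivAtom_P1Q1 : IvAtom 4 where
  x0 := ivP ![1,0,2,3] (by decide)
  y0 := ivP ![0,1,3,2] (by decide)
  z0 := ivP ![0,3,2,1] (by decide)
  xx := ivP_mul_self _ _
  yy := ivP_mul_self _ _
  zz := ivP_mul_self _ _
  cxy := by decide
  czx := by decide
  N1 := 3
  N2 := 3
  oddN1 := by decide
  oddN2 := by decide
  h1 := by decide
  h2 := by decide

theorem ivAtom_P1Q1_x0 (i : Fin 4) : ((ivAtom_P1Q1).x0 : Fin 4 → Fin 4) i = (![1,0,2,3] : Fin 4 → Fin 4) i := rfl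

theorem ivAtom_P1Q1_y0 (i : Fin 4) : ((ivAtom_P1Q1).y0 : Fin 4 → Fin 4) i = (![0,1,3,2] : Fin 4 → Fin 4) i := rfl

/-- The atom `P1Q1T` on `Fin 8`. -/
def ivAtom_P1Q1T : IvAtom 8 where
  x0 := ivP ![1,0,2,3,5,4,7,6] (by decide)
  y0 := ivP ![0,1,3,2,7,6,5,4] (by decide)
  z0 := ivP ![0,2,1,4,3,5,7,6] (by decide)
  xx := ivP_mul_self _ _
  yy := ivP_mul_self _ _
  zz := ivP_mul_self _ _
  cxy := by decide
  czx := by decide
  N1 := 3
  N2 := 7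
  oddN1 := by decide
  oddN2 := by decide
  h1 := by decide
  h2 := by decide

theorem ivAtom_P1Q1T_x0 (i : Fin 8) : ((ivAtom_P1Q1T).x0 : Fin 8 → Fin 8) i = (![1,0,2,3,5,4,7,6] : Fin 8 → Fin 8) i := rfl

theorem ivAtom_P1Q1T_y0 (i : Fin 8) : ((ivAtom_P1Q1T).y0 : Fin 8 → Fin 8) i = (![0,1,3,2,7,6,5,4] : Fin 8 → Fin 8) i := rfl

/-- The atom `P1Q3` on `Fin 6`. -/
def ivAtom_P1Q3 : IvAtom 6 where
  x0 := ivP ![1,0,2,4,3,5] (by decide)
  y0 := ivP ![0,1,3,2,5,4] (by decide)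
  z0 := ivP ![0,3,2,1,5,4] (by decide)
  xx := ivP_mul_self _ _
  yy := ivP_mul_self _ _
  zz := ivP_mul_self _ _
  cxy := by decide
  czx := by decide
  N1 := 5
  N2 := 3
  oddN1 := by decide
  oddN2 := by decide
  h1 := by decide
  h2 := by decide

theorem ivAtom_P1Q3_x0 (i : Fin 6) : ((ivAtom_P1Q3).x0 : Fin 6 → Fin 6) i = (![1,0,2,4,3,5] : Fin 6 → Fin 6) i := rfl

theorem ivAtom_P1Q3_y0 (i : Fin 6) : ((ivAtom_P1Q3).y0 : Fin 6 → Fin 6) i = (![0,1,3,2,5,4] : Fin 6 → Fin 6) i := rfl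

/-- The atom `P1Q3T` on `Fin 10`. -/
def ivAtom_P1Q3T : IvAtom 10 where
  x0 := ivP ![1,0,2,4,3,5,7,6,9,8] (by decide)
  y0 := ivP ![0,1,3,2,5,4,9,8,7,6] (by decide)
  z0 := ivP ![0,6,4,8,2,7,1,5,3,9] (by decide)
  xx := ivP_mul_self _ _
  yy := ivP_mul_self _ _
  zz := ivP_mul_self _ _
  cxy := by decide
  czx := by decide
  N1 := 5
  N2 := 3
  oddN1 := by decide
  oddN2 := by decide
  h1 := by decide
  h2 := by decide

theorem ivAtom_P1Q3T_x0 (i : Fin 10) : ((ivAtom_P1Q3T).x0 : Fin 10 → Fin 10) i = (![1,0,2,4,3,5,7,6,9,8] : Fin 10 → Fin 10) i := rfl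

theorem ivAtom_P1Q3T_y0 (i : Fin 10) : ((ivAtom_P1Q3T).y0 : Fin 10 → Fin 10) i = (![0,1,3,2,5,4,9,8,7,6] : Fin 10 → Fin 10) i := rfl

/-- The atom `P3Q1` on `Fin 6`. -/
def ivAtom_P3Q1 : IvAtom 6 where
  x0 := ivP ![1,0,3,2,4,5] (by decide)
  y0 := ivP ![0,2,1,3,5,4] (by decide)
  z0 := ivP ![0,2,1,5,4,3] (by decide)
  xx := ivP_mul_self _ _
  yy := ivP_mul_self _ _
  zz := ivP_mul_self _ _
  cxy := by decide
  czx := by decide
  N1 := 5
  N2 := 3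
  oddN1 := by decide
  oddN2 := by decide
  h1 := by decide
  h2 := by decide

theorem ivAtom_P3Q1_x0 (i : Fin 6) : ((ivAtom_P3Q1).x0 : Fin 6 → Fin 6) i = (![1,0,3,2,4,5] : Fin 6 → Fin 6) i := rfl

theorem ivAtom_P3Q1_y0 (i : Fin 6) : ((ivAtom_P3Q1).y0 : Fin 6 → Fin 6) i = (![0,2,1,3,5,4] : Fin 6 → Fin 6) i := rfl

/-- The atom `P3Q1T` on `Fin 10`. -/
def ivAtom_P3Q1T : IvAtom 10 where
  x0 := ivP ![1,0,3,2,4,5,7,6,9,8] (by decide)
  y0 := ivP ![0,2,1,3,5,4,9,8,7,6] (by decide)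
  z0 := ivP ![2,6,0,7,4,8,1,3,5,9] (by decide)
  xx := ivP_mul_self _ _
  yy := ivP_mul_self _ _
  zz := ivP_mul_self _ _
  cxy := by decide
  czx := by decide
  N1 := 3
  N2 := 5
  oddN1 := by decide
  oddN2 := by decide
  h1 := by decide
  h2 := by decide

theorem ivAtom_P3Q1T_x0 (i : Fin 10) : ((ivAtom_P3Q1T).x0 : Fin 10 → Fin 10) i = (![1,0,3,2,4,5,7,6,9,8] : Fin 10 → Fin 10) i := rfl

theorem ivAtom_P3Q1T_y0 (i : Fin 10) : ((ivAtom_P3Q1T).y0 : Fin 10 → Fin 10) i = (![0,2,1,3,5,4,9,8,7,6] : Fin 10 → Fin 10) i := rfl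

/-- The atom `P3Q3` on `Fin 8`. -/
def ivAtom_P3Q3 : IvAtom 8 where
  x0 := ivP ![1,0,3,2,4,6,5,7] (by decide)
  y0 := ivP ![0,2,1,3,5,4,7,6] (by decide)
  z0 := ivP ![0,2,1,5,4,3,7,6] (by decide)
  xx := ivP_mul_self _ _
  yy := ivP_mul_self _ _
  zz := ivP_mul_self _ _
  cxy := by decide
  czx := by decide
  N1 := 7
  N2 := 3
  oddN1 := by decide
  oddN2 := by decide
  h1 := by decide
  h2 := by decide

theorem ivAtom_P3Q3_x0 (i : Fin 8) : ((ivAtom_P3Q3).x0 : Fin 8 → Fin 8) i = (![1,0,3,2,4,6,5,7] : Fin 8 → Fin 8) i := rfl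

theorem ivAtom_P3Q3_y0 (i : Fin 8) : ((ivAtom_P3Q3).y0 : Fin 8 → Fin 8) i = (![0,2,1,3,5,4,7,6] : Fin 8 → Fin 8) i := rfl

/-- The atom `P3Q3T` on `Fin 12`. -/
def ivAtom_P3Q3T : IvAtom 12 where
  x0 := ivP ![1,0,3,2,4,6,5,7,9,8,11,10] (by decide)
  y0 := ivP ![0,2,1,3,5,4,7,6,11,10,9,8] (by decide)
  z0 := ivP ![0,2,1,4,3,5,8,9,6,7,11,10] (by decide)
  xx := ivP_mul_self _ _
  yy := ivP_mul_self _ _
  zz := ivP_mul_self _ _
  cxy := by decide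
  czx := by decide
  N1 := 5
  N2 := 3
  oddN1 := by decide
  oddN2 := by decide
  h1 := by decide
  h2 := by decide

theorem ivAtom_P3Q3T_x0 (i : Fin 12) : ((ivAtom_P3Q3T).x0 : Fin 12 → Fin 12) i = (![1,0,3,2,4,6,5,7,9,8,11,10] : Fin 12 → Fin 12) i := rfl

theorem ivAtom_P3Q3T_y0 (i : Fin 12) : ((ivAtom_P3Q3T).y0 : Fin 12 → Fin 12) i = (![0,2,1,3,5,4,7,6,11,10,9,8] : Fin 12 → Fin 12) i := rfl

/-- The atom `BB` on `Fin 8`. -/
def ivAtom_BB : IvAtom 8 where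
  x0 := ivP ![1,0,3,2,5,4,7,6] (by decide)
  y0 := ivP ![3,2,1,0,7,6,5,4] (by decide)
  z0 := ivP ![7,2,1,6,5,4,3,0] (by decide)
  xx := ivP_mul_self _ _
  yy := ivP_mul_self _ _
  zz := ivP_mul_self _ _
  cxy := by decide
  czx := by decide
  N1 := 3
  N2 := 3
  oddN1 := by decide
  oddN2 := by decide
  h1 := by decide
  h2 := by decide

theorem ivAtom_BB_x0 (i : Fin 8) : ((ivAtom_BB).x0 : Fin 8 → Fin 8) i = (![1,0,3,2,5,4,7,6] : Fin 8 → Fin 8) i := rfl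

theorem ivAtom_BB_y0 (i : Fin 8) : ((ivAtom_BB).y0 : Fin 8 → Fin 8) i = (![3,2,1,0,7,6,5,4] : Fin 8 → Fin 8) i := rfl

/-- The atom `BBT` on `Fin 12`. -/
def ivAtom_BBT : IvAtom 12 where
  x0 := ivP ![1,0,3,2,5,4,7,6,9,8,11,10] (by decide)
  y0 := ivP ![3,2,1,0,7,6,5,4,11,10,9,8] (by decide)
  z0 := ivP ![1,0,4,7,2,8,10,3,5,11,6,9] (by decide)
  xx := ivP_mul_self _ _
  yy := ivP_mul_self _ _
  zz := ivP_mul_self _ _
  cxy := by decide
  czx := by decide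
  N1 := 5
  N2 := 3
  oddN1 := by decide
  oddN2 := by decide
  h1 := by decide
  h2 := by decide

theorem ivAtom_BBT_x0 (i : Fin 12) : ((ivAtom_BBT).x0 : Fin 12 → Fin 12) i = (![1,0,3,2,5,4,7,6,9,8,11,10] : Fin 12 → Fin 12) i := rfl

theorem ivAtom_BBT_y0 (i : Fin 12) : ((ivAtom_BBT).y0 : Fin 12 → Fin 12) i = (![3,2,1,0,7,6,5,4,11,10,9,8] : Fin 12 → Fin 12) i := rfl

/-- The atom `oct` on `Fin 8`. -/
def ivAtom_oct : IvAtom 8 where
  x0 := ivP ![1,0,3,2,5,4,7,6] (by decide)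
  y0 := ivP ![7,2,1,4,3,6,5,0] (by decide)
  z0 := ivP ![7,3,6,1,5,4,2,0] (by decide)
  xx := ivP_mul_self _ _
  yy := ivP_mul_self _ _
  zz := ivP_mul_self _ _
  cxy := by decide
  czx := by decide
  N1 := 3
  N2 := 3
  oddN1 := by decide
  oddN2 := by decide
  h1 := by decide
  h2 := by decide

theorem ivAtom_oct_x0 (i : Fin 8) : ((ivAtom_oct).x0 : Fin 8 → Fin 8) i = (![1,0,3,2,5,4,7,6] : Fin 8 → Fin 8) i := rfl

theorem ivAtom_oct_y0 (i : Fin 8) : ((ivAtom_oct).y0 : Fin 8 → Fin 8) i = (![7,2,1,4,3,6,5,0] : Fin 8 → Fin 8) i := rfl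

/-- The unit `fp`. -/
def ivUnitData_fp : IvUnitData 1 where
  A := ivAtom_fp
  AT := ivAtom_fpT
  hTx := by decide
  hTy := by decide
  hTx' := by decide
  hTy' := by decide

/-- The unit `dig`. -/
def ivUnitData_dig : IvUnitData 2 where
  A := ivAtom_dig
  AT := ivAtom_digT
  hTx := by decide
  hTy := by decide
  hTx' := by decide
  hTy' := by decide

/-- The unit `p2`. -/
def ivUnitData_p2 : IvUnitData 3 where
  A := ivAtom_p2
  AT := ivAtom_p2T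
  hTx := by decide
  hTy := by decide
  hTx' := by decide
  hTy' := by decide

/-- The unit `p4`. -/
def ivUnitData_p4 : IvUnitData 5 where
  A := ivAtom_p4
  AT := ivAtom_p4T
  hTx := by decide
  hTy := by decide
  hTx' := by decide
  hTy' := by decide

/-- The unit `P1Q1`. -/
def ivUnitData_P1Q1 : IvUnitData 4 where
  A := ivAtom_P1Q1
  AT := ivAtom_P1Q1T
  hTx := by decide
  hTy := by decide
  hTx' := by decide
  hTy' := by decide

/-- The unit `P1Q3`. -/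
def ivUnitData_P1Q3 : IvUnitData 6 where
  A := ivAtom_P1Q3
  AT := ivAtom_P1Q3T
  hTx := by decide
  hTy := by decide
  hTx' := by decide
  hTy' := by decide

/-- The unit `P3Q1`. -/
def ivUnitData_P3Q1 : IvUnitData 6 where
  A := ivAtom_P3Q1
  AT := ivAtom_P3Q1T
  hTx := by decide
  hTy := by decide
  hTx' := by decide
  hTy' := by decide

/-- The unit `P3Q3`. -/
def ivUnitData_P3Q3 : IvUnitData 8 where
  A := ivAtom_P3Q3
  AT := ivAtom_P3Q3T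
  hTx := by decide
  hTy := by decide
  hTx' := by decide
  hTy' := by decide

/-- The unit `BB`. -/
def ivUnitData_BB : IvUnitData 8 where
  A := ivAtom_BB
  AT := ivAtom_BBT
  hTx := by decide
  hTy := by decide
  hTx' := by decide
  hTy' := by decide

end Cfsg.Agent.Lib.helper2
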