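import Cfsg.Agent.Lib.helper2.Inv2
import Cfsg.Agent.Lib.helper2.Inv3

/-!
# The involution lemma: units, contraction and the main induction
-/

set_option autoImplicit false

namespace Cfsg.Agent.Lib.helper2

open Equiv Equiv.Perm

variable {α : Type*} [Fintype α] [DecidableEq α]

/-- Embedding of `Fin m` given by an injective vector. -/
def ivEmb {m : ℕ} (v : Fin m → α) (h : (List.ofFn v).Nodup) : Fin m ↪ α :=
  ⟨v, List.nodup_ofFn.mp h⟩

theorem ivEmb_apply {m : ℕ} (v : Fin m → α) (h : (List.ofFn v).Nodup) (i : Fin m) :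
    ivEmb v h i = v i := rfl

theorem ivHyp_closed {S : Finset α} {x y : Perm α} (H : IvHyp S x y) :
    (∀ p, x (x p) = p) ∧ (∀ p, y (y p) = p) ∧ (∀ p, x p ≠ p → p ∈ S) ∧ (∀ p, y p ≠ p → p ∈ S) ∧
    (∀ p ∈ S, x p ∈ S) ∧ (∀ p ∈ S, y p ∈ S) := by
  have hx := ivInv_apply_apply H.xx
  have hy := ivInv_apply_apply H.yy
  have h3 : ∀ p, x p ≠ p → p ∈ S := fun p hp => H.xS (Equiv.Perm.mem_support.mpr hp)
  have h4 : ∀ p, y p ≠ p → p ∈ S := fun p hp => H.yS (Equiv.Perm.mem_support.mpr hp)
  refine ⟨hx, hy, h3, h4, ?_, ?_⟩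
  · intro p hp
    by_cases h : x p = p
    · rw [h]; exact hp
    · apply h3
      rw [hx]
      exact fun h' => h h'.symm
  · intro p hp
    by_cases h : y p = p
    · rw [h]; exact hp
    · apply h4
      rw [hy]
      exact fun h' => h h'.symm

/-- Structure of the forbidden configuration. -/
theorem ivForb_struct {S : Finset α} {x y : Perm α} (H : IvHyp S x y) (F : IvForb S x y)
    {a : α} (ha : a ∈ S) :
    [a, x a, y (x a), x (y (x a))].Nodup ∧ S = {a, x a, y (x a), x (y (x a))} ∧
      y (x (y (x a))) = a := by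
  obtain ⟨hx, hy, -, -, hxS, hyS⟩ := ivHyp_closed H
  have hb := hxS a ha
  have hc := hyS _ hb
  have hd := hxS _ hc
  have Fa := F.2 a ha
  have Fb := F.2 _ hb
  have Fc := F.2 _ hc
  have Fd := F.2 _ hd
  have hnd : [a, x a, y (x a), x (y (x a))].Nodup := by
    simp only [List.nodup_cons, List.mem_cons, List.not_mem_nil, not_or, List.nodup_nil]
    grind
  have hS : S = {a, x a, y (x a), x (y (x a))} := by
    symm
    apply Finset.eq_of_subset_of_card_le
    · intro p hp
      simp only [Finset.mem_insert, Finset.mem_singleton] at hp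
      rcases hp with rfl | rfl | rfl | rfl <;> assumption
    · rw [F.1]
      have := List.toFinset_card_of_nodup hnd
      simp only [List.toFinset_cons, List.toFinset_nil, insert_empty_eq, List.length_cons,
        List.length_nil] at this
      omega
  refine ⟨hnd, hS, ?_⟩
  have he := hyS _ hd
  rw [hS] at he
  simp only [Finset.mem_insert, Finset.mem_singleton] at he
  grind

omit [Fintype α] [DecidableEq α] in
theorem ivForall4 {P : α → Prop} {a b c d : α} (ha : P a) (hb : P b) (hc : P c) (hd : P d)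
    (j : Fin 4) : P (![a, b, c, d] j) := by
  fin_cases j
  exacts [ha, hb, hc, hd]

omit [Fintype α] [DecidableEq α] in
theorem ivForall4' {x : α → α} {a b c d : α} (w : Fin 4 → Fin 4) {a' b' c' d' : α}
    (ha : x a = a') (hb : x b = b') (hc : x c = c') (hd : x d = d')
    (hw : ![a, b, c, d] ∘ w = ![a', b', c', d'])
    (j : Fin 4) : x (![a, b, c, d] j) = ![a, b, c, d] (w j) := by
  have := congrFun hw j
  simp only [Function.comp_apply] at this
  rw [this]
  fin_cases j
  exacts [ha, hb, hc, hd]

/-- If nothing of `S` is left, the rest is trivially solvable. -/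
theorem ivSol_of_sdiff_empty {S : Finset α} {x y : Perm α} (hS : S = ∅) (H : IvHyp S x y) :
    IvSol S x y := by
  have hx : x = 1 := by
    rw [← Equiv.Perm.support_eq_empty_iff, ← Finset.subset_empty, ← hS]; exact H.xS
  have hy : y = 1 := by
    rw [← Equiv.Perm.support_eq_empty_iff, ← Finset.subset_empty, ← hS]; exact H.yS
  rw [hx, hy]
  exact ivSol_one S

/-- The induction hypothesis in the form used throughout. -/
def IvIH (S : Finset α) : Prop :=
  ∀ (S' : Finset α) (x' y' : Perm α), S'.card < S.card → IvHyp S' x' y' →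
    IvSol S' x' y' ∨ IvForb S' x' y'

/-- Peeling a unit: the rest is solvable, or forbidden and then the extended atom applies. -/
theorem ivUnit {m : ℕ} (U : IvUnitData m) (hm : 0 < m) {S : Finset α} {x y : Perm α}
    (IH : IvIH S) (H : IvHyp S x y) (f : Fin m ↪ α) (hfS : ∀ i, f i ∈ S)
    (hx : ∀ i, x (f i) = f (U.A.x0 i)) (hy : ∀ i, y (f i) = f (U.A.y0 i)) : IvSol S x y := by
  obtain ⟨H', hsol⟩ := ivGlue U.A f hfS H hx hy
  have hcard : (S \ Finset.univ.map f).card < S.card := by
    apply Finset.card_lt_card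
    refine ⟨Finset.sdiff_subset, ?_⟩
    intro hsub
    have h0 := hsub (hfS ⟨0, hm⟩)
    rw [Finset.mem_sdiff] at h0
    exact h0.2 (Finset.mem_map_of_mem _ (Finset.mem_univ _))
  rcases IH _ _ _ hcard H' with h | F
  · exact hsol h
  · obtain ⟨-, -, px3, -, -, -⟩ := ivPeel f U.A.x0 U.A.xx H.xx H.xS hx
    obtain ⟨-, -, py3, -, -, -⟩ := ivPeel f U.A.y0 U.A.yy H.yy H.yS hy
    obtain ⟨hxi, hyi, -, -, -, -⟩ := ivHyp_closed H
    have hne : (S \ Finset.univ.map f).Nonempty := by
      rw [← Finset.card_pos, F.1]; norm_num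
    obtain ⟨a, ha⟩ := hne
    obtain ⟨hnd, hS', hya⟩ := ivForb_struct H' F ha
    have hnr : ∀ p, p ∈ S \ Finset.univ.map f → p ∉ Set.range f := by
      intro p hp ⟨i, hi⟩
      rw [Finset.mem_sdiff] at hp
      exact hp.2 (by rw [← hi]; exact Finset.mem_map_of_mem _ (Finset.mem_univ _))
    obtain ⟨-, -, -, -, hxS', hyS'⟩ := ivHyp_closed H'
    have hb' := hxS' a ha
    have hc' := hyS' _ hb'
    have hd' := hxS' _ hc'
    have eb : (ivLift f U.A.x0 * x) a = x a := px3 a (hnr a ha)
    rw [eb] at hb' hc' hd' hnd hS' hya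
    have ec : (ivLift f U.A.y0 * y) (x a) = y (x a) := py3 _ (hnr _ hb')
    rw [ec] at hc' hd' hnd hS' hya
    have ed : (ivLift f U.A.x0 * x) (y (x a)) = x (y (x a)) := px3 _ (hnr _ hc')
    rw [ed] at hd' hnd hS' hya
    have ee : (ivLift f U.A.y0 * y) (x (y (x a))) = y (x (y (x a))) := py3 _ (hnr _ hd')
    rw [ee] at hya
    set b := x a with hb
    set c := y b with hc
    set d := x c with hd
    -- the extended embedding
    have hginj : Function.Injective (Fin.append (f : Fin m → α) ![a, b, c, d]) := by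
      rw [Fin.append_injective_iff]
      refine ⟨f.injective, ?_, ?_⟩
      · rw [← List.nodup_ofFn]
        simpa using hnd
      · intro i j h
        have hmem : (![a, b, c, d] j) ∈ S \ Finset.univ.map f :=
          ivForall4 (P := fun p => p ∈ S \ Finset.univ.map f) ha hb' hc' hd' j
        exact hnr _ hmem ⟨i, h⟩
    let g : Fin (m + 4) ↪ α := ⟨Fin.append (f : Fin m → α) ![a, b, c, d], hginj⟩
    have hgl : ∀ i : Fin m, g (Fin.castAdd 4 i) = f i := fun i => Fin.append_left _ _ i
    have hgr : ∀ j : Fin 4, g (Fin.natAdd m j) = ![a, b, c, d] j := fun j => Fin.append_right _ _ j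
    have hgS : ∀ i, g i ∈ S := by
      intro i
      refine Fin.addCases (fun i => ?_) (fun j => ?_) i
      · rw [hgl]; exact hfS i
      · rw [hgr]
        have : ∀ p, p ∈ S \ Finset.univ.map f → p ∈ S := fun p hp => (Finset.mem_sdiff.mp hp).1
        exact ivForall4 (P := fun p => p ∈ S) (this _ ha) (this _ hb') (this _ hc') (this _ hd') j
    have hxb : x b = a := by rw [hb, hxi]
    have hxd : x d = c := by rw [hd, hxi]
    have hyc : y c = b := by rw [hc, hyi]
    have hyd : y a = d := by rw [← hya, hyi]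
    have hgx : ∀ i, x (g i) = g (U.AT.x0 i) := by
      intro i
      refine Fin.addCases (fun i => ?_) (fun j => ?_) i
      · rw [hgl, U.hTx, hgl, hx]
      · rw [hgr, U.hTx', hgr]
        exact ivForall4' (x := x) ![1, 0, 3, 2] hb.symm hxb hd.symm hxd (by ext j; fin_cases j <;> rfl) j
    have hgy : ∀ i, y (g i) = g (U.AT.y0 i) := by
      intro i
      refine Fin.addCases (fun i => ?_) (fun j => ?_) i
      · rw [hgl, U.hTy, hgl, hy]
      · rw [hgr, U.hTy', hgr]
        exact ivForall4' (x := y) ![3, 2, 1, 0] hyd hc.symm hyc hya (by ext j; fin_cases j <;> rfl) j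
    obtain ⟨H'', hsol''⟩ := ivGlue U.AT g hgS H hgx hgy
    apply hsol''
    apply ivSol_of_sdiff_empty _ H''
    rw [Finset.sdiff_eq_empty_iff_subset]
    intro p hp
    by_cases hpf : p ∈ Finset.univ.map f
    · rw [Finset.mem_map] at hpf
      obtain ⟨i, -, rfl⟩ := hpf
      rw [← hgl]
      exact Finset.mem_map_of_mem _ (Finset.mem_univ _)
    · have hp' : p ∈ S \ Finset.univ.map f := Finset.mem_sdiff.mpr ⟨hp, hpf⟩
      rw [hS'] at hp'
      simp only [Finset.mem_insert, Finset.mem_singleton] at hp'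
      rcases hp' with rfl | rfl | rfl | rfl
      · have := hgr 0; simp at this; rw [← this]
        exact Finset.mem_map_of_mem _ (Finset.mem_univ _)
      · have := hgr 1; simp at this; rw [← this]
        exact Finset.mem_map_of_mem _ (Finset.mem_univ _)
      · have := hgr 2; simp at this; rw [← this]
        exact Finset.mem_map_of_mem _ (Finset.mem_univ _)
      · have := hgr 3; simp at this; rw [← this]
        exact Finset.mem_map_of_mem _ (Finset.mem_univ _)

end Cfsg.Agent.Lib.helper2
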