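import Cfsg.Agent.Lib.helper2.Inv4

/-!
# The contraction lemma
-/

set_option autoImplicit false

namespace Cfsg.Agent.Lib.helper2

open Equiv Equiv.Perm

variable {α : Type*} [Fintype α] [DecidableEq α]

theorem ivRho {a b c d e f : α} (hnd : [a, b, c, d, e, f].Nodup) :
    (swap a b * swap c d * swap e f) * swap a f * (swap b c * swap d e) =
      (swap a e * swap e c) * (swap f b * swap b d) := by
  have key : (swap (0 : Fin 6) 1 * swap 2 3 * swap 4 5) * swap 0 5 * (swap 1 2 * swap 3 4) =
      (swap 0 4 * swap 4 2) * (swap 5 1 * swap 1 3) := by decide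
  have h := congrArg (ivLift (ivEmb ![a, b, c, d, e, f] (by simpa using hnd))) key
  simp only [ivLift_mul, ivLift_swap] at h
  exact h

theorem ivP6 : ivP ![1, 0, 3, 2, 5, 4] (by decide) = swap (0 : Fin 6) 1 * swap 2 3 * swap 4 5 := by
  decide

theorem ivP4 : ivP ![1, 0, 3, 2] (by decide) = swap (0 : Fin 4) 1 * swap 2 3 := by
  decide

/-- An atom whose image is all of `S` solves the problem. -/
theorem ivAtomFull {m : ℕ} (A : IvAtom m) {S : Finset α} {x y : Perm α} (H : IvHyp S x y)
    (f : Fin m ↪ α) (hfS : ∀ i, f i ∈ S) (hSf : ∀ p ∈ S, ∃ i, f i = p)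
    (hx : ∀ i, x (f i) = f (A.x0 i)) (hy : ∀ i, y (f i) = f (A.y0 i)) : IvSol S x y := by
  obtain ⟨H'', hsol''⟩ := ivGlue A f hfS H hx hy
  apply hsol''
  apply ivSol_of_sdiff_empty _ H''
  rw [Finset.sdiff_eq_empty_iff_subset]
  intro p hp
  obtain ⟨i, rfl⟩ := hSf p hp
  exact Finset.mem_map_of_mem _ (Finset.mem_univ _)

/-- Contraction lemma: a stretch of six distinct points `a -x- b -y- c -x- d -y- e -x- f`
can be contracted to `a -x- f`. -/
theorem ivContract {S : Finset α} {x y : Perm α} (IH : IvIH S) (H : IvHyp S x y)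
    {a b c d e f : α} (hnd : [a, b, c, d, e, f].Nodup) (ha : a ∈ S)
    (hab : x a = b) (hbc : y b = c) (hcd : x c = d) (hde : y d = e) (hef : x e = f) :
    IvSol S x y := by
  obtain ⟨hxi, hyi, -, -, hxS, hyS⟩ := ivHyp_closed H
  have hb : b ∈ S := hab ▸ hxS a ha
  have hc : c ∈ S := hbc ▸ hyS b hb
  have hd : d ∈ S := hcd ▸ hxS c hc
  have he : e ∈ S := hde ▸ hyS d hd
  have hf : f ∈ S := hef ▸ hxS e he
  have hba : x b = a := by rw [← hab, hxi]
  have hdc : x d = c := by rw [← hcd, hxi]
  have hfe : x f = e := by rw [← hef, hxi]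
  have hcb : y c = b := by rw [← hbc, hyi]
  have hed : y e = d := by rw [← hde, hyi]
  -- distinctness facts
  have hnd' := hnd
  simp only [List.nodup_cons, List.mem_cons, List.not_mem_nil, not_or, List.nodup_nil] at hnd'
  obtain ⟨⟨nab, nac, nad, nae, naf, -⟩, ⟨nbc, nbd, nbe, nbf, -⟩, ⟨ncd, nce, ncf, -⟩,
    ⟨nde, ndf, -⟩, ⟨nef, -⟩, -⟩ := hnd'
  -- the two embeddings
  let g6 : Fin 6 ↪ α := ivEmb ![a, b, c, d, e, f] (by simpa using hnd)
  have hnd4 : [b, c, d, e].Nodup := by
    simp only [List.nodup_cons, List.mem_cons, List.not_mem_nil, not_or, List.nodup_nil]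
    exact ⟨⟨nbc, nbd, nbe, not_false⟩, ⟨ncd, nce, not_false⟩, ⟨nde, not_false⟩, not_false, trivial⟩
  let g4 : Fin 4 ↪ α := ivEmb ![b, c, d, e] (by simpa using hnd4)
  set X0 : Perm (Fin 6) := ivP ![1, 0, 3, 2, 5, 4] (by decide) with hX0
  set Y0 : Perm (Fin 4) := ivP ![1, 0, 3, 2] (by decide) with hY0
  have hx6 : ∀ i, x (g6 i) = g6 (X0 i) := by
    intro i; fin_cases i
    exacts [hab, hba, hcd, hdc, hef, hfe]
  have hy4 : ∀ i, y (g4 i) = g4 (Y0 i) := by
    intro i; fin_cases i
    exacts [hbc, hcb, hde, hed]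
  obtain ⟨px1, px2, px3, px4, px5, px6⟩ :=
    ivPeel g6 X0 (ivP_mul_self _ _) H.xx H.xS hx6
  obtain ⟨py1, py2, py3, py4, py5, py6⟩ :=
    ivPeel g4 Y0 (ivP_mul_self _ _) H.yy H.yS hy4
  have hLX : ivLift g6 X0 = swap a b * swap c d * swap e f := by
    rw [hX0, ivP6, ivLift_mul, ivLift_mul, ivLift_swap, ivLift_swap, ivLift_swap]; rfl
  have hLY : ivLift g4 Y0 = swap b c * swap d e := by
    rw [hY0, ivP4, ivLift_mul, ivLift_swap, ivLift_swap]; rfl
  have hX0c : X0.support.card = 6 := by rw [hX0]; decide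
  have hY0c : Y0.support.card = 4 := by rw [hY0]; decide
  set x'' := ivLift g6 X0 * x with hx''
  set y' := ivLift g4 Y0 * y with hy'
  set Z := ivLift g4 Y0 with hZ
  -- range facts
  have hr4 : ∀ p, p ∈ Finset.univ.map g4 ↔ p = b ∨ p = c ∨ p = d ∨ p = e := by
    intro p
    rw [Finset.mem_map]
    constructor
    · rintro ⟨i, -, rfl⟩
      fin_cases i
      · left; rfl
      · right; left; rfl
      · right; right; left; rfl
      · right; right; right; rfl
    · rintro (rfl | rfl | rfl | rfl)
      · exact ⟨0, Finset.mem_univ _, rfl⟩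
      · exact ⟨1, Finset.mem_univ _, rfl⟩
      · exact ⟨2, Finset.mem_univ _, rfl⟩
      · exact ⟨3, Finset.mem_univ _, rfl⟩
  have hr6 : ∀ p, p ∈ Finset.univ.map g6 ↔ p = a ∨ p = b ∨ p = c ∨ p = d ∨ p = e ∨ p = f := by
    intro p
    rw [Finset.mem_map]
    constructor
    · rintro ⟨i, -, rfl⟩
      fin_cases i
      · left; rfl
      · right; left; rfl
      · right; right; left; rfl
      · right; right; right; left; rfl
      · right; right; right; right; left; rfl
      · right; right; right; right; right; rfl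
    · rintro (rfl | rfl | rfl | rfl | rfl | rfl)
      · exact ⟨0, Finset.mem_univ _, rfl⟩
      · exact ⟨1, Finset.mem_univ _, rfl⟩
      · exact ⟨2, Finset.mem_univ _, rfl⟩
      · exact ⟨3, Finset.mem_univ _, rfl⟩
      · exact ⟨4, Finset.mem_univ _, rfl⟩
      · exact ⟨5, Finset.mem_univ _, rfl⟩
  set S' := S \ Finset.univ.map g4 with hS'
  have hS'mem : ∀ p, p ∈ S' ↔ p ∈ S ∧ p ≠ b ∧ p ≠ c ∧ p ≠ d ∧ p ≠ e := by
    intro p
    rw [hS', Finset.mem_sdiff, hr4]
    tauto
  have haS' : a ∈ S' := (hS'mem a).mpr ⟨ha, nab, nac, nad, nae⟩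
  have hfS' : f ∈ S' := (hS'mem f).mpr ⟨hf, Ne.symm nbf, Ne.symm ncf, Ne.symm ndf, Ne.symm nef⟩
  -- x'' fixes a .. f
  have x''a : x'' a = a := px2 0
  have x''b : x'' b = b := px2 1
  have x''c : x'' c = c := px2 2
  have x''d : x'' d = d := px2 3
  have x''e : x'' e = e := px2 4
  have x''f : x'' f = f := px2 5
  have hdisj : Equiv.Perm.Disjoint (swap a f) x'' := by
    apply ivDisjoint_of_support {a, f}
    · rw [Equiv.Perm.support_swap naf]
    · intro p hp
      simp only [Finset.mem_insert, Finset.mem_singleton] at hp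
      rcases hp with rfl | rfl
      · exact x''a
      · exact x''f
  set x' := swap a f * x'' with hx'
  have hx'x' : x' * x' = 1 := by
    calc x' * x' = swap a f * (x'' * swap a f) * x'' := by rw [hx']; group
      _ = swap a f * (swap a f * x'') * x'' := by rw [hdisj.commute.eq]
      _ = (swap a f * swap a f) * (x'' * x'') := by group
      _ = 1 := by rw [swap_mul_self, px1, one_mul]
  have hx'S : x'.support ⊆ S' := by
    intro p hp
    rw [hx', hdisj.support_mul, Finset.mem_union] at hp
    rcases hp with hp | hp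
    · rw [Equiv.Perm.support_swap naf] at hp
      simp only [Finset.mem_insert, Finset.mem_singleton] at hp
      rcases hp with rfl | rfl
      · exact haS'
      · exact hfS'
    · have := px4 hp
      rw [Finset.mem_sdiff, hr6] at this
      rw [hS'mem]
      refine ⟨this.1, ?_, ?_, ?_, ?_⟩ <;> intro h <;> apply this.2 <;> simp [h]
  have hx'c : x'.support.card = 2 + x''.support.card := by
    rw [hx', hdisj.card_support_mul, Equiv.Perm.card_support_swap naf]
  have H' : IvHyp S' x' y' := by
    refine ⟨hx'x', py1, hx'S, py4, ?_⟩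
    have := H.card
    rw [px6, py6, hX0c, hY0c] at this
    rw [hx'c]; omega
  have hcard : S'.card < S.card := by
    apply Finset.card_lt_card
    refine ⟨Finset.sdiff_subset, ?_⟩
    intro hsub
    have h0 := hsub hb
    rw [hS'mem] at h0
    exact h0.2.1 rfl
  -- behaviour of x' and y'
  have x'a : x' a = f := by
    rw [hx', Equiv.Perm.mul_apply, x''a, swap_apply_left]
  have x'fix : ∀ p, p = b ∨ p = c ∨ p = d ∨ p = e → x' p = p := by
    intro p hp
    rw [hx', Equiv.Perm.mul_apply]
    rcases hp with rfl | rfl | rfl | rfl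
    · rw [x''b, swap_apply_of_ne_of_ne (Ne.symm nab) nbf]
    · rw [x''c, swap_apply_of_ne_of_ne (Ne.symm nac) ncf]
    · rw [x''d, swap_apply_of_ne_of_ne (Ne.symm nad) ndf]
    · rw [x''e, swap_apply_of_ne_of_ne (Ne.symm nae) nef]
  rcases IH S' x' y' hcard H' with hsol | F
  · -- solvable rest
    obtain ⟨z', hz1, hz2, hz3, hz4, hz5⟩ := hsol
    have z'fix : ∀ p, p = b ∨ p = c ∨ p = d ∨ p = e → z' p = p := by
      intro p hp
      by_contra h
      have := hz2 (Equiv.Perm.mem_support.mpr h)
      rw [hS'mem] at this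
      rcases hp with rfl | rfl | rfl | rfl
      · exact this.2.1 rfl
      · exact this.2.2.1 rfl
      · exact this.2.2.2.1 rfl
      · exact this.2.2.2.2 rfl
    have hfix4 : ∀ {σ : Perm α}, (∀ p, p = b ∨ p = c ∨ p = d ∨ p = e → σ p = p) →
        Equiv.Perm.Disjoint Z σ := by
      intro σ hσ
      apply ivDisjoint_of_support (Finset.univ.map g4) (ivLift_support_subset g4 Y0)
      intro p hp
      exact hσ p ((hr4 p).mp hp)
    have dZz' := hfix4 z'fix
    have dZx' := hfix4 x'fix
    have hZZ : Z * Z = 1 := by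
      rw [hZ, ← ivLift_mul, hY0, ivP_mul_self, ivLift_one]
    refine ⟨Z * z', ?_, ?_, ?_, ?_, ?_⟩
    · calc Z * z' * (Z * z') = Z * (z' * Z) * z' := by group
        _ = Z * (Z * z') * z' := by rw [dZz'.commute.eq]
        _ = (Z * Z) * (z' * z') := by group
        _ = 1 := by rw [hZZ, hz1, one_mul]
    · intro p hp
      rw [dZz'.support_mul, Finset.mem_union] at hp
      rcases hp with hp | hp
      · have := ivLift_support_subset g4 Y0 hp
        rw [hr4] at this
        rcases this with rfl | rfl | rfl | rfl <;> assumption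
      · exact ((hS'mem p).mp (hz2 hp)).1
    · rw [dZz'.card_support_mul, hZ, ivLift_card_support, hz3, hx'c, px6, hX0c, hY0c]
      omega
    · -- x * (Z * z') = ρ * (x' * z')
      have hx''eq : x'' = swap a f * x' := by
        rw [hx', ← mul_assoc, swap_mul_self, one_mul]
      have e1 : x * (Z * z') =
          (swap a e * swap e c) * ((swap f b * swap b d) * (x' * z')) := by
        calc x * (Z * z') = ivLift g6 X0 * x'' * (Z * z') := by rw [← px5]
          _ = ivLift g6 X0 * (swap a f * x') * (Z * z') := by rw [← hx''eq]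
          _ = ivLift g6 X0 * swap a f * (x' * Z) * z' := by group
          _ = ivLift g6 X0 * swap a f * (Z * x') * z' := by rw [dZx'.commute.eq]
          _ = (ivLift g6 X0 * swap a f * Z) * (x' * z') := by group
          _ = ((swap a e * swap e c) * (swap f b * swap b d)) * (x' * z') := by
              rw [hLX, hLY, ivRho hnd]
          _ = _ := by group
      rw [e1]
      have π'fix : ∀ p, p = b ∨ p = c ∨ p = d ∨ p = e → (x' * z') p = p := by
        intro p hp
        rw [Equiv.Perm.mul_apply, z'fix p hp, x'fix p hp]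
      have o1 : Odd (orderOf (swap f b * swap b d * (x' * z'))) :=
        ivInsert (Ne.symm nbf) (Ne.symm ndf) nbd (π'fix b (Or.inl rfl))
          (π'fix d (Or.inr (Or.inr (Or.inl rfl)))) hz4
      have o2 := ivInsert (π' := swap f b * swap b d * (x' * z')) nae nac (Ne.symm nce) ?_ ?_ o1
      · rw [mul_assoc (swap f b)] at o2
        exact o2
      · rw [Equiv.Perm.mul_apply, Equiv.Perm.mul_apply, π'fix e (Or.inr (Or.inr (Or.inr rfl))),
          swap_apply_of_ne_of_ne (Ne.symm nbe) (Ne.symm nde),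
          swap_apply_of_ne_of_ne nef (Ne.symm nbe)]
      · rw [Equiv.Perm.mul_apply, Equiv.Perm.mul_apply, π'fix c (Or.inr (Or.inl rfl)),
          swap_apply_of_ne_of_ne (Ne.symm nbc) ncd,
          swap_apply_of_ne_of_ne ncf (Ne.symm nbc)]
    · have e2 : (Z * z') * y = z' * y' := by
        calc (Z * z') * y = Z * z' * (Z * y') := by rw [← py5]
          _ = Z * (z' * Z) * y' := by group
          _ = Z * (Z * z') * y' := by rw [dZz'.commute.eq]
          _ = (Z * Z) * (z' * y') := by group
          _ = z' * y' := by rw [hZZ, one_mul]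
      rw [e2]
      exact hz5
  · -- forbidden rest: the octagon
    obtain ⟨hnd', hS'eq, hya⟩ := ivForb_struct H' F haS'
    rw [x'a] at hnd' hS'eq hya
    have hnr4 : ∀ p, p ∈ S' → p ∉ Set.range g4 := by
      intro p hp ⟨i, hi⟩
      rw [hS', Finset.mem_sdiff] at hp
      exact hp.2 (by rw [← hi]; exact Finset.mem_map_of_mem _ (Finset.mem_univ _))
    have y'f : y' f = y f := py3 f (hnr4 f hfS')
    rw [y'f] at hnd' hS'eq hya
    have hgS' : y f ∈ S' := by rw [hS'eq]; simp
    have hgm := (hS'mem _).mp hgS'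
    have hnd'' := hnd'
    simp only [List.nodup_cons, List.mem_cons, List.not_mem_nil, not_or, List.nodup_nil] at hnd''
    have hgnr6 : y f ∉ Set.range g6 := by
      rintro ⟨i, hi⟩
      have : y f ∈ Finset.univ.map g6 := by
        rw [← hi]; exact Finset.mem_map_of_mem _ (Finset.mem_univ _)
      rw [hr6] at this
      grind
    have x'g : x' (y f) = x (y f) := by
      rw [hx', Equiv.Perm.mul_apply, px3 _ hgnr6]
      apply swap_apply_of_ne_of_ne
      · intro h
        have h2 := hxi (y f)
        rw [h, hab] at h2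
        exact hgm.2.1 h2.symm
      · intro h
        have h2 := hxi (y f)
        rw [h, hfe] at h2
        exact hgm.2.2.2.2 h2.symm
    rw [x'g] at hnd' hS'eq hya
    have hhS' : x (y f) ∈ S' := by rw [hS'eq]; simp
    have hhm := (hS'mem _).mp hhS'
    have y'h : y' (x (y f)) = y (x (y f)) := py3 _ (hnr4 _ hhS')
    rw [y'h] at hya
    clear hnd''
    simp only [List.nodup_cons, List.mem_cons, List.not_mem_nil, not_or, List.nodup_nil] at hnd'
    have hnd8 : [a, b, c, d, e, f, y f, x (y f)].Nodup := by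
      simp only [List.nodup_cons, List.mem_cons, List.not_mem_nil, not_or, List.nodup_nil]
      grind
    let g8 : Fin 8 ↪ α := ivEmb ![a, b, c, d, e, f, y f, x (y f)] (by simpa using hnd8)
    apply ivAtomFull ivAtom_oct H g8
    · intro i; fin_cases i
      exacts [ha, hb, hc, hd, he, hf, hgm.1, hhm.1]
    · intro p hp
      by_cases hp4 : p ∈ Finset.univ.map g4
      · rw [hr4] at hp4
        rcases hp4 with rfl | rfl | rfl | rfl
        · exact ⟨1, rfl⟩
        · exact ⟨2, rfl⟩
        · exact ⟨3, rfl⟩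
        · exact ⟨4, rfl⟩
      · have hp' : p ∈ S' := by rw [hS', Finset.mem_sdiff]; exact ⟨hp, hp4⟩
        rw [hS'eq] at hp'
        simp only [Finset.mem_insert, Finset.mem_singleton] at hp'
        rcases hp' with rfl | rfl | rfl | rfl
        · exact ⟨0, rfl⟩
        · exact ⟨5, rfl⟩
        · exact ⟨6, rfl⟩
        · exact ⟨7, rfl⟩
    · intro i; fin_cases i
      exacts [hab, hba, hcd, hdc, hef, hfe, rfl, hxi _]
    · have hyah : y a = x (y f) := by rw [← hya, hyi]
      intro i; fin_cases i
      exacts [hyah, hbc, hcb, hde, hed, rfl, hyi _, hya]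

end Cfsg.Agent.Lib.helper2
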