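import Cfsg.Agent.Lib.helper2.Inv5

/-!
# The involution lemma: walks and the main induction
-/

set_option autoImplicit false

namespace Cfsg.Agent.Lib.helper2

open Equiv Equiv.Perm

variable {α : Type*} [Fintype α] [DecidableEq α]

/-- Applying a unit given by an explicit vector of points. -/
theorem ivUnitApply {m : ℕ} (U : IvUnitData m) (hm : 0 < m) {S : Finset α} {x y : Perm α}
    (IH : IvIH S) (H : IvHyp S x y) (v : Fin m → α) (hnd : (List.ofFn v).Nodup)
    (hvS : ∀ i, v i ∈ S) (hx : ∀ i, x (v i) = v (U.A.x0 i)) (hy : ∀ i, y (v i) = v (U.A.y0 i)) :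
    IvSol S x y :=
  ivUnit U hm IH H (ivEmb v hnd) hvS hx hy

/-- Walking from a point fixed by `y` and moved by `x`. -/
theorem ivWalk {S : Finset α} {x y : Perm α} (IH : IvIH S) (H : IvHyp S x y) {a : α}
    (ha : a ∈ S) (hya : y a = a) (hxa : x a ≠ a) :
    IvSol S x y ∨ y (x a) = x a ∨
      (y (x a) ≠ x a ∧ x (y (x a)) ≠ y (x a) ∧ y (x (y (x a))) = x (y (x a))) := by
  obtain ⟨hxi, hyi, -, -, hxS, hyS⟩ := ivHyp_closed H
  by_cases h1 : y (x a) = x a
  · right; left; exact h1
  by_cases h2 : x (y (x a)) = y (x a)
  · left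
    have hb := hxS a ha
    have hc := hyS _ hb
    have hnd : [a, x a, y (x a)].Nodup := by
      simp only [List.nodup_cons, List.mem_cons, List.not_mem_nil, not_or, List.nodup_nil]
      and_intros <;> grind
    apply ivUnitApply ivUnitData_p2 (by norm_num) IH H ![a, x a, y (x a)] (by simpa using hnd)
    · intro i; fin_cases i
      exacts [ha, hb, hc]
    · intro i; fin_cases i
      exacts [rfl, hxi a, h2]
    · intro i; fin_cases i
      exacts [hya, rfl, hyi _]
  by_cases h3 : y (x (y (x a))) = x (y (x a))
  · right; right; exact ⟨h1, h2, h3⟩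
  by_cases h4 : x (y (x (y (x a)))) = y (x (y (x a)))
  · left
    have hb := hxS a ha
    have hc := hyS _ hb
    have hd := hxS _ hc
    have he := hyS _ hd
    have hnd : [a, x a, y (x a), x (y (x a)), y (x (y (x a)))].Nodup := by
      simp only [List.nodup_cons, List.mem_cons, List.not_mem_nil, not_or, List.nodup_nil]
      and_intros <;> grind
    apply ivUnitApply ivUnitData_p4 (by norm_num) IH H
      ![a, x a, y (x a), x (y (x a)), y (x (y (x a)))] (by simpa using hnd)
    · intro i; fin_cases i
      exacts [ha, hb, hc, hd, he]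
    · intro i; fin_cases i
      exacts [rfl, hxi a, rfl, hxi _, h4]
    · intro i; fin_cases i
      exacts [hya, rfl, hyi _, rfl, hyi _]
  · left
    have hnd : [a, x a, y (x a), x (y (x a)), y (x (y (x a))), x (y (x (y (x a))))].Nodup := by
      simp only [List.nodup_cons, List.mem_cons, List.not_mem_nil, not_or, List.nodup_nil]
      and_intros <;> grind
    exact ivContract IH H hnd ha rfl rfl rfl rfl rfl

/-- A heavy `x`-path and a heavy `y`-path together form a unit. -/
theorem ivPair {S : Finset α} {x y : Perm α} (IH : IvIH S) (H : IvHyp S x y) {a a' : α}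
    (ha : a ∈ S) (ha' : a' ∈ S) (hya : y a = a) (hxa : x a ≠ a) (hxa' : x a' = a')
    (hya' : y a' ≠ a') : IvSol S x y := by
  obtain ⟨hxi, hyi, -, -, hxS, hyS⟩ := ivHyp_closed H
  have hb := hxS a ha
  have hc := hyS _ hb
  have hd := hxS _ hc
  have hb' := hyS a' ha'
  have hc' := hxS _ hb'
  have hd' := hyS _ hc'
  rcases ivWalk IH H ha hya hxa with h | P1 | ⟨P3a, P3b, P3c⟩
  · exact h
  · rcases ivWalk IH H.symm ha' hxa' hya' with h | Q1 | ⟨Q3a, Q3b, Q3c⟩
    · exact IvSol.symm H.symm h
    · -- P1 Q1
      have hnd : [a, x a, a', y a'].Nodup := by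
        simp only [List.nodup_cons, List.mem_cons, List.not_mem_nil, not_or, List.nodup_nil]
        and_intros <;> grind
      apply ivUnitApply ivUnitData_P1Q1 (by norm_num) IH H ![a, x a, a', y a']
        (by simpa using hnd)
      · intro i; fin_cases i
        exacts [ha, hb, ha', hb']
      · intro i; fin_cases i
        exacts [rfl, hxi a, hxa', Q1]
      · intro i; fin_cases i
        exacts [hya, P1, rfl, hyi a']
    · -- P1 Q3
      have hnd : [a, x a, a', y a', x (y a'), y (x (y a'))].Nodup := by
        simp only [List.nodup_cons, List.mem_cons, List.not_mem_nil, not_or, List.nodup_nil]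
        and_intros <;> grind
      apply ivUnitApply ivUnitData_P1Q3 (by norm_num) IH H
        ![a, x a, a', y a', x (y a'), y (x (y a'))] (by simpa using hnd)
      · intro i; fin_cases i
        exacts [ha, hb, ha', hb', hc', hd']
      · intro i; fin_cases i
        exacts [rfl, hxi a, hxa', rfl, hxi _, Q3c]
      · intro i; fin_cases i
        exacts [hya, P1, rfl, hyi a', rfl, hyi _]
  · rcases ivWalk IH H.symm ha' hxa' hya' with h | Q1 | ⟨Q3a, Q3b, Q3c⟩
    · exact IvSol.symm H.symm h
    · -- P3 Q1
      have hnd : [a, x a, y (x a), x (y (x a)), a', y a'].Nodup := by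
        simp only [List.nodup_cons, List.mem_cons, List.not_mem_nil, not_or, List.nodup_nil]
        and_intros <;> grind
      apply ivUnitApply ivUnitData_P3Q1 (by norm_num) IH H
        ![a, x a, y (x a), x (y (x a)), a', y a'] (by simpa using hnd)
      · intro i; fin_cases i
        exacts [ha, hb, hc, hd, ha', hb']
      · intro i; fin_cases i
        exacts [rfl, hxi a, rfl, hxi _, hxa', Q1]
      · intro i; fin_cases i
        exacts [hya, rfl, hyi _, P3c, rfl, hyi a']
    · -- P3 Q3
      have hnd : [a, x a, y (x a), x (y (x a)), a', y a', x (y a'), y (x (y a'))].Nodup := by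
        simp only [List.nodup_cons, List.mem_cons, List.not_mem_nil, not_or, List.nodup_nil]
        and_intros <;> grind
      apply ivUnitApply ivUnitData_P3Q3 (by norm_num) IH H
        ![a, x a, y (x a), x (y (x a)), a', y a', x (y a'), y (x (y a'))] (by simpa using hnd)
      · intro i; fin_cases i
        exacts [ha, hb, hc, hd, ha', hb', hc', hd']
      · intro i; fin_cases i
        exacts [rfl, hxi a, rfl, hxi _, hxa', rfl, hxi _, Q3c]
      · intro i; fin_cases i
        exacts [hya, rfl, hyi _, P3c, rfl, hyi a', rfl, hyi _]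

/-- The case of a point of `S` fixed by `y`, when no point of `S` is fixed by both. -/
theorem ivCase3 {S : Finset α} {x y : Perm α} (IH : IvIH S) (H : IvHyp S x y)
    (hnf : ∀ p ∈ S, ¬ (x p = p ∧ y p = p)) {a : α} (ha : a ∈ S) (hya : y a = a) :
    IvSol S x y := by
  have hxa : x a ≠ a := fun h => hnf a ha ⟨h, hya⟩
  -- a point moved by `y` and fixed by `x`
  have hex : ∃ a', a' ∈ y.support ∧ a' ∉ x.support := by
    by_contra hcon
    push Not at hcon
    have hsub : y.support ⊆ x.support := hcon
    have heq : y.support = x.support :=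
      Finset.eq_of_subset_of_card_le hsub (le_of_eq H.card)
    have h1 : a ∈ x.support := Equiv.Perm.mem_support.mpr hxa
    rw [← heq, Equiv.Perm.mem_support] at h1
    exact h1 hya
  obtain ⟨a', h1, h2⟩ := hex
  have ha' : a' ∈ S := H.yS h1
  rw [Equiv.Perm.mem_support] at h1
  rw [Equiv.Perm.mem_support, not_not] at h2
  exact ivPair IH H ha ha' hya hxa h2 h1

/-- One step in the case where every point is moved by both involutions, to distinct points. -/
theorem ivCycleStep {S : Finset α} {x y : Perm α} (IH : IvIH S) (H : IvHyp S x y)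
    (hall : ∀ p ∈ S, x p ≠ p ∧ y p ≠ p ∧ x p ≠ y p) {a : α} (ha : a ∈ S) :
    IvSol S x y ∨ ([a, x a, y (x a), x (y (x a))].Nodup ∧ y (x (y (x a))) = a) := by
  obtain ⟨hxi, hyi, -, -, hxS, hyS⟩ := ivHyp_closed H
  have hb := hxS a ha
  have hc := hyS _ hb
  have hd := hxS _ hc
  have he := hyS _ hd
  have hf := hxS _ he
  have Fa := hall a ha
  have Fb := hall _ hb
  have Fc := hall _ hc
  have Fd := hall _ hd
  have Fe := hall _ he
  have Ff := hall _ hf
  by_cases h : y (x (y (x a))) = a
  · right
    refine ⟨?_, h⟩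
    simp only [List.nodup_cons, List.mem_cons, List.not_mem_nil, not_or, List.nodup_nil]
    and_intros <;> grind
  · left
    have hnd : [a, x a, y (x a), x (y (x a)), y (x (y (x a))), x (y (x (y (x a))))].Nodup := by
      simp only [List.nodup_cons, List.mem_cons, List.not_mem_nil, not_or, List.nodup_nil]
      and_intros <;> grind
    exact ivContract IH H hnd ha rfl rfl rfl rfl rfl

/-- The case where every point of `S` is moved by both involutions, to distinct points. -/
theorem ivCycle {S : Finset α} {x y : Perm α} (IH : IvIH S) (H : IvHyp S x y)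
    (hall : ∀ p ∈ S, x p ≠ p ∧ y p ≠ p ∧ x p ≠ y p) (hne : S.Nonempty) :
    IvSol S x y ∨ IvForb S x y := by
  obtain ⟨hxi, hyi, -, -, hxS, hyS⟩ := ivHyp_closed H
  obtain ⟨a, ha⟩ := hne
  have hb := hxS a ha
  have hc := hyS _ hb
  have hd := hxS _ hc
  rcases ivCycleStep IH H hall ha with h | ⟨hnd, hcyc⟩
  · left; exact h
  by_cases hS : ∀ p ∈ S, p = a ∨ p = x a ∨ p = y (x a) ∨ p = x (y (x a))
  · right
    refine ⟨?_, hall⟩
    have hSeq : S = [a, x a, y (x a), x (y (x a))].toFinset := by
      ext p
      simp only [List.toFinset_cons, List.toFinset_nil, insert_empty_eq, Finset.mem_insert,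
        Finset.mem_singleton]
      constructor
      · exact hS p
      · rintro (rfl | rfl | rfl | rfl) <;> assumption
    rw [hSeq, List.toFinset_card_of_nodup hnd]
    rfl
  · left
    push Not at hS
    obtain ⟨a2, ha2, n1, n2, n3, n4⟩ := hS
    have hb2 := hxS a2 ha2
    have hc2 := hyS _ hb2
    have hd2 := hxS _ hc2
    rcases ivCycleStep IH H hall ha2 with h | ⟨hnd2, hcyc2⟩
    · exact h
    have hnd8 : [a, x a, y (x a), x (y (x a)), a2, x a2, y (x a2), x (y (x a2))].Nodup := by
      simp only [List.nodup_cons, List.mem_cons, List.not_mem_nil, not_or, List.nodup_nil]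
        at hnd hnd2 ⊢
      and_intros <;> grind
    apply ivUnitApply ivUnitData_BB (by norm_num) IH H
      ![a, x a, y (x a), x (y (x a)), a2, x a2, y (x a2), x (y (x a2))] (by simpa using hnd8)
    · intro i; fin_cases i
      exacts [ha, hb, hc, hd, ha2, hb2, hc2, hd2]
    · intro i; fin_cases i
      exacts [rfl, hxi a, rfl, hxi _, rfl, hxi a2, rfl, hxi _]
    · have e1 : y a = x (y (x a)) := by rw [← hcyc, hyi, hcyc]
      have e2 : y a2 = x (y (x a2)) := by rw [← hcyc2, hyi, hcyc2]
      intro i; fin_cases i
      exacts [e1, rfl, hyi _, hcyc, e2, rfl, hyi _, hcyc2]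

/-- **The involution lemma.** Two involutions `x`, `y` of the same type supported in `S`
are linked by a third one of the same type, unless they form a single alternating 4-cycle. -/
theorem ivMain : ∀ (n : ℕ) (S : Finset α) (x y : Perm α), S.card = n → IvHyp S x y →
    IvSol S x y ∨ IvForb S x y := by
  intro n
  induction n using Nat.strong_induction_on with
  | _ n ih =>
    intro S x y hS H
    have IH : IvIH S := fun S' x' y' hlt H' => ih S'.card (hS ▸ hlt) S' x' y' rfl H'
    obtain ⟨hxi, hyi, hxS0, hyS0, hxS, hyS⟩ := ivHyp_closed H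
    by_cases h1 : ∃ p ∈ S, x p = p ∧ y p = p
    · left
      obtain ⟨p, hp, hxp, hyp⟩ := h1
      apply ivUnitApply ivUnitData_fp (by norm_num) IH H ![p] (by simp)
      · intro i; fin_cases i
        exact hp
      · intro i; fin_cases i
        exact hxp
      · intro i; fin_cases i
        exact hyp
    by_cases h2 : ∃ p, x p ≠ p ∧ y p = x p
    · left
      obtain ⟨p, hxp, hyp⟩ := h2
      have hp : p ∈ S := hxS0 p hxp
      have hnd : [p, x p].Nodup := by
        simp only [List.nodup_cons, List.mem_cons, List.not_mem_nil, not_or, List.nodup_nil]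
        exact ⟨⟨fun h => hxp h.symm, not_false⟩, not_false, trivial⟩
      apply ivUnitApply ivUnitData_dig (by norm_num) IH H ![p, x p] (by simpa using hnd)
      · intro i; fin_cases i
        exacts [hp, hxS p hp]
      · intro i; fin_cases i
        exacts [rfl, hxi p]
      · have e : y (x p) = p := by rw [← hyp, hyi]
        intro i; fin_cases i
        exacts [hyp, e]
    push Not at h1
    by_cases h3 : ∃ a ∈ S, y a = a
    · left
      obtain ⟨a, ha, hya⟩ := h3
      exact ivCase3 IH H (fun p hp h => h1 p hp h.1 h.2) ha hya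
    by_cases h4 : ∃ a ∈ S, x a = a
    · left
      obtain ⟨a, ha, hxa⟩ := h4
      exact IvSol.symm H.symm (ivCase3 IH H.symm (fun p hp h => h1 p hp h.2 h.1) ha hxa)
    by_cases h5 : S.Nonempty
    · push Not at h2 h3 h4
      apply ivCycle IH H _ h5
      intro p hp
      refine ⟨h4 p hp, h3 p hp, ?_⟩
      intro h
      exact h2 p (h4 p hp) h.symm
    · left
      rw [Finset.not_nonempty_iff_eq_empty] at h5
      exact ivSol_of_sdiff_empty h5 H

end Cfsg.Agent.Lib.helper2
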