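import Mathlib
import Cfsg.Agent.Lib.helper2.Dihedral

set_option autoImplicit false
set_option linter.unusedVariables false

namespace Cfsg.Agent.Lib.helper2.Dih

variable {G : Type*} [Group G]

theorem conj_mem_smul_sylow {p : ℕ} (g : G) (P : Sylow p G) (y : G) (hy : y ∈ P) :
    g * y * g⁻¹ ∈ ((g • P : Sylow p G) : Subgroup G) := by
  rw [Sylow.coe_subgroup_smul, Subgroup.mem_pointwise_smul_iff_inv_smul_mem]
  have h1 : ((MulAut.conj g)⁻¹ • (g * y * g⁻¹) : G) = y := by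
    simp [MulAut.smul_def, mul_assoc]
  rw [h1]
  exact hy

/-- An isolated involution `u` of a Sylow 2-subgroup equals any of its conjugates that lies
together with `u` in a common 2-subgroup. -/
theorem isolated_eq_of_two_group [Finite G] (P : Sylow 2 G) (u : G)
    (hiso : ∀ g : G, g * u * g⁻¹ ∈ P → g * u * g⁻¹ = u) (T : Subgroup G) (hT : IsPGroup 2 T)
    (huT : u ∈ T) (c : G) (hc : c * u * c⁻¹ ∈ T) : c * u * c⁻¹ = u := by
  obtain ⟨Q, hQ⟩ := hT.exists_le_sylow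
  obtain ⟨h, hh⟩ := MulAction.exists_smul_eq G Q P
  have h1 : h * u * h⁻¹ ∈ P := by
    have := conj_mem_smul_sylow h Q u (hQ huT)
    rwa [hh] at this
  have h2 : h * (c * u * c⁻¹) * h⁻¹ ∈ P := by
    have := conj_mem_smul_sylow h Q _ (hQ hc)
    rwa [hh] at this
  have e1 := hiso h h1
  have h2' : (h * c) * u * (h * c)⁻¹ ∈ P := by
    have : (h * c) * u * (h * c)⁻¹ = h * (c * u * c⁻¹) * h⁻¹ := by group
    rw [this]; exact h2
  have e2 := hiso (h * c) h2'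
  have e3 : h * (c * u * c⁻¹) * h⁻¹ = h * u * h⁻¹ := by
    calc h * (c * u * c⁻¹) * h⁻¹ = (h * c) * u * (h * c)⁻¹ := by group
      _ = u := e2
      _ = h * u * h⁻¹ := e1.symm
  exact mul_left_cancel (mul_right_cancel e3)

/-- If `u` is an isolated involution of a Sylow 2-subgroup, then `u * v` has odd order for
every conjugate `v` of `u`. -/
theorem isolated_odd [Finite G] (P : Sylow 2 G) (u : G) (hu : orderOf u = 2)
    (hiso : ∀ g : G, g * u * g⁻¹ ∈ P → g * u * g⁻¹ = u) (g : G) :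
    Odd (orderOf (u * (g * u * g⁻¹))) := by
  obtain ⟨v, hv⟩ : ∃ v, v = g * u * g⁻¹ := ⟨_, rfl⟩
  rw [← hv]
  have hx := mul_self_of_orderOf hu
  have hy : v * v = 1 := by
    rw [hv]
    calc g * u * g⁻¹ * (g * u * g⁻¹) = g * (u * u) * g⁻¹ := by group
      _ = 1 := by rw [hx]; group
  have hn0 : orderOf (u * v) ≠ 0 := (orderOf_pos _).ne'
  obtain ⟨a, m, hm, hn⟩ := Nat.exists_eq_two_pow_mul_odd hn0
  rcases Nat.eq_zero_or_pos a with rfl | ha
  · rw [hn, pow_zero, one_mul]; exact hm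
  exfalso
  obtain ⟨k, hk⟩ := hm
  obtain ⟨v', hv'⟩ : ∃ v', v' = (u * v) ^ (m : ℤ) * u := ⟨_, rfl⟩
  obtain ⟨c, hc⟩ : ∃ c, c = (u * v) ^ ((k : ℤ) + 1) * g := ⟨_, rfl⟩
  have hv'conj : v' = c * u * c⁻¹ := by
    have h1 : c * u * c⁻¹ = (u * v) ^ ((k : ℤ) + 1) * v * ((u * v) ^ ((k : ℤ) + 1))⁻¹ := by
      rw [hc, hv]; group
    rw [h1]
    have h2 : v = (u * v) ^ (-1 : ℤ) * u := y_eq' hx hy
    have h3 : u * ((u * v) ^ ((k : ℤ) + 1))⁻¹ = (u * v) ^ ((k : ℤ) + 1) * u := by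
      rw [← zpow_neg, x_mul_zpow hx hy, neg_neg]
    calc v' = (u * v) ^ (m : ℤ) * u := hv'
      _ = (u * v) ^ ((k : ℤ) + 1) * (u * v) ^ (-1 : ℤ) * ((u * v) ^ ((k : ℤ) + 1) * u) := by
          rw [← mul_assoc, ← zpow_add, ← zpow_add, hk]
          congr 2
          push_cast
          ring
      _ = (u * v) ^ ((k : ℤ) + 1) * (u * v) ^ (-1 : ℤ) * (u * ((u * v) ^ ((k : ℤ) + 1))⁻¹) := by
          rw [h3]
      _ = (u * v) ^ ((k : ℤ) + 1) * ((u * v) ^ (-1 : ℤ) * u) * ((u * v) ^ ((k : ℤ) + 1))⁻¹ := by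
          simp only [mul_assoc]
      _ = (u * v) ^ ((k : ℤ) + 1) * v * ((u * v) ^ ((k : ℤ) + 1))⁻¹ := by rw [← h2]
  have hv'2 : v' * v' = 1 := by
    rw [hv']; exact refl_mul_self hx hy (m : ℤ)
  have huv' : u * v' = ((u * v) ^ m)⁻¹ := by
    rw [hv', ← mul_assoc, x_mul_zpow hx hy, mul_assoc, hx, mul_one, zpow_neg, zpow_natCast]
  have hmn0 : m ≠ 0 := by omega
  have hord : orderOf (u * v') = 2 ^ a := by
    rw [huv', orderOf_inv, orderOf_pow_of_dvd hmn0 ⟨2 ^ a, by rw [hn]; ring⟩, hn,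
      Nat.mul_div_cancel _ (Nat.pos_of_ne_zero hmn0)]
  have hT : IsPGroup 2 (Subgroup.closure ({u, v'} : Set G)) := by
    rintro ⟨d, hd⟩
    obtain ⟨j, hj | hj⟩ := mem_closure_form hx hv'2 d hd
    · refine ⟨a, Subtype.ext ?_⟩
      show d ^ (2 ^ a) = 1
      rw [hj, ← zpow_natCast, ← zpow_mul, mul_comm, zpow_mul, zpow_natCast, ← hord,
        pow_orderOf_eq_one, one_zpow]
    · refine ⟨1, Subtype.ext ?_⟩
      show d ^ (2 ^ 1) = 1
      rw [pow_one, sq, hj]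
      exact refl_mul_self hx hv'2 j
  have hmem : c * u * c⁻¹ ∈ Subgroup.closure ({u, v'} : Set G) := by
    rw [← hv'conj]; exact y_mem_closure u v'
  have heq := isolated_eq_of_two_group P u hiso _ hT (x_mem_closure u v') _ hmem
  rw [← hv'conj] at heq
  have h1 : orderOf (u * v') = 1 := by
    rw [heq, hx, orderOf_one]
  rw [hord] at h1
  have h2a : 2 ≤ 2 ^ a := by
    calc 2 = 2 ^ 1 := by norm_num
      _ ≤ 2 ^ a := Nat.pow_le_pow_right (by norm_num) ha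
  omega

end Cfsg.Agent.Lib.helper2.Dih
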