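import Mathlib
import Cfsg.Prelude.Def_Characters

set_option autoImplicit false

namespace Cfsg.Agent.Lib.helper2

open Representation

universe u v v' w

section generic

variable {k : Type w} [Field k] {G : Type u} [Group G]

theorem sf_exists_intertwiner [Fintype G] [NeZero (Nat.card G : k)]
    {U T : Type*} [AddCommGroup U] [Module k U] [FiniteDimensional k U]
    [AddCommGroup T] [Module k T] [FiniteDimensional k T]
    (τ : Representation k G T) (π : Representation k G U)
    (h : ∑ g : G, π.character g * τ.character g⁻¹ ≠ 0) : ∃ f : IntertwiningMap τ π, f ≠ 0 := by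
  by_contra hcon
  push Not at hcon
  haveI : Subsingleton (IntertwiningMap τ π) := ⟨fun a b => by rw [hcon a, hcon b]⟩
  haveI : Invertible (Nat.card G : k) := invertibleOfNonzero (NeZero.ne _)
  have h2 := card_inv_mul_sum_char_mul_char_eq_finrank τ π
  rw [Module.finrank_zero_of_subsingleton, Nat.cast_zero] at h2
  rcases mul_eq_zero.mp h2 with h3 | h3
  · exact (NeZero.ne (Nat.card G : k)) (inv_eq_zero.mp h3)
  · exact h h3

/-- trace additivity over complementary subrepresentations -/
theorem sf_char_isCompl {V : Type*} [AddCommGroup V] [Module k V] [FiniteDimensional k V]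
    (ρ : Representation k G V) (p q : Subrepresentation ρ) (h : IsCompl p q) (g : G) :
    ρ.character g = p.toRepresentation.character g + q.toRepresentation.character g := by
  have hcompl : IsCompl p.toSubmodule q.toSubmodule := by
    apply IsCompl.of_eq
    · exact congrArg Subrepresentation.toSubmodule h.inf_eq_bot
    · exact congrArg Subrepresentation.toSubmodule h.sup_eq_top
  let e : (p.toSubmodule × q.toSubmodule) ≃ₗ[k] V := Submodule.prodEquivOfIsCompl _ _ hcompl
  have h1 : ρ g = e.conj ((p.toRepresentation g).prodMap (q.toRepresentation g)) := by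
    apply LinearMap.ext
    intro v
    obtain ⟨⟨a, b⟩, rfl⟩ := e.surjective v
    rw [LinearEquiv.conj_apply_apply, LinearEquiv.symm_apply_apply]
    simp only [e, Submodule.coe_prodEquivOfIsCompl', LinearMap.prodMap_apply, map_add]
    rfl
  unfold Representation.character
  rw [h1, LinearMap.trace_conj', LinearMap.trace_prodMap']

theorem sf_char_ker_range [Finite G] [NeZero (Nat.card G : k)]
    {V W : Type*} [AddCommGroup V] [Module k V] [FiniteDimensional k V]
    [AddCommGroup W] [Module k W] [FiniteDimensional k W]
    (ρ : Representation k G V) (σ : Representation k G W) (f : IntertwiningMap ρ σ) (g : G) :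
    ρ.character g = f.ker.toRepresentation.character g + f.range.toRepresentation.character g := by
  obtain ⟨C, hC⟩ := exists_isCompl f.ker
  rw [sf_char_isCompl ρ f.ker C hC g]
  congr 1
  have hdisj : ∀ c : V, c ∈ C → f c = 0 → c = 0 := by
    intro c hc hfc
    have h1 : c ∈ (f.ker ⊓ C : Subrepresentation ρ) := ⟨hfc, hc⟩
    rw [hC.inf_eq_bot] at h1
    exact h1
  have hsup : ∀ v : V, ∃ a ∈ f.ker, ∃ c ∈ C, a + c = v := by
    intro v
    have h1 : v ∈ (f.ker ⊔ C : Subrepresentation ρ) := by rw [hC.sup_eq_top]; trivial
    exact Submodule.mem_sup.mp h1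
  let e0 : C.toSubmodule →ₗ[k] f.range.toSubmodule :=
    (f.toLinearMap.comp C.toSubmodule.subtype).codRestrict f.range.toSubmodule
      (fun c => ⟨(c : V), rfl⟩)
  have he0 : ∀ c : C.toSubmodule, ((e0 c : f.range.toSubmodule) : W) = f (c : V) := fun c => rfl
  have hbij : Function.Bijective e0 := by
    constructor
    · intro c1 c2 h12
      have h1 : f ((c1 : V) - (c2 : V)) = 0 := by
        rw [map_sub, ← he0, ← he0, h12, sub_self]
      have h2 := hdisj _ (C.toSubmodule.sub_mem c1.2 c2.2) h1
      exact Subtype.ext (sub_eq_zero.mp h2)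
    · rintro ⟨w, v, rfl⟩
      obtain ⟨a, ha, c, hc, rfl⟩ := hsup v
      refine ⟨⟨c, hc⟩, Subtype.ext ?_⟩
      rw [he0]
      show f c = f.toLinearMap (a + c)
      rw [map_add]
      have : f.toLinearMap a = 0 := ha
      rw [this, zero_add]
      rfl
  let e : C.toSubmodule ≃ₗ[k] f.range.toSubmodule := LinearEquiv.ofBijective e0 hbij
  have heq : C.toRepresentation.Equiv f.range.toRepresentation := by
    refine Representation.Equiv.mk e ?_
    intro g
    apply LinearMap.ext
    intro c
    apply Subtype.ext
    show f (ρ g (c : V)) = σ g (f (c : V))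
    exact f.isIntertwining _ _ g c
  exact congrFun (char_iso heq) g

/-- `χ` is the character of a representation over `k` on a coordinate space. -/
def SfReal (k : Type w) [Field k] (G : Type u) [Group G] (χ : G → k) : Prop :=
  ∃ (d : ℕ) (ρ : Representation k G (Fin d → k)), ∀ g, ρ.character g = χ g

theorem sfReal_of_rep {V : Type v} [AddCommGroup V] [Module k V] [FiniteDimensional k V]
    (ρ : Representation k G V) : SfReal k G ρ.character := by
  let b := Module.finBasis k V
  let e : V ≃ₗ[k] (Fin (Module.finrank k V) → k) := b.equivFun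
  let σ : Representation k G (Fin (Module.finrank k V) → k) :=
    ((e.conjAlgEquiv k : Module.End k V ≃ₐ[k] _) : Module.End k V →* _).comp ρ
  refine ⟨Module.finrank k V, σ, ?_⟩
  intro g
  unfold Representation.character
  have : σ g = e.conj (ρ g) := rfl
  rw [this, LinearMap.trace_conj']

theorem sf_cancel [Fintype G] [NeZero (Nat.card G : k)] (χ : G → k)
    (H : ∀ (V : Type v) [AddCommGroup V] [Module k V] [FiniteDimensional k V]
      (ρ : Representation k G V), Module.finrank k V ≠ 0 →
      ∑ g : G, (ρ.character g + χ g) * ρ.character g⁻¹ ≠ 0) (n : ℕ) :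
    ∀ (V₂ : Type v) [AddCommGroup V₂] [Module k V₂] [FiniteDimensional k V₂]
      (ρ₂ : Representation k G V₂), Module.finrank k V₂ ≤ n →
    ∀ (V₁ : Type v') [AddCommGroup V₁] [Module k V₁] [FiniteDimensional k V₁]
      (ρ₁ : Representation k G V₁), (∀ g, ρ₁.character g = ρ₂.character g + χ g) →
      SfReal k G χ := by
  induction n with
  | zero =>
    intro V₂ _ _ _ ρ₂ hn V₁ _ _ _ ρ₁ h
    have hV : Module.finrank k V₂ = 0 := Nat.le_zero.mp hn
    haveI : Subsingleton V₂ := Module.finrank_zero_iff.mp hV
    have h0 : ∀ g, ρ₂.character g = 0 := by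
      intro g
      unfold Representation.character
      have : ρ₂ g = 0 := Subsingleton.elim _ _
      rw [this, map_zero]
    have h1 : ρ₁.character = χ := by
      funext g
      rw [h g, h0 g, zero_add]
    rw [← h1]
    exact sfReal_of_rep ρ₁
  | succ n ih =>
    intro V₂ _ _ _ ρ₂ hn V₁ _ _ _ ρ₁ h
    by_cases hV : Module.finrank k V₂ = 0
    · exact ih V₂ ρ₂ (by omega) V₁ ρ₁ h
    have h1 : ∑ g : G, ρ₁.character g * ρ₂.character g⁻¹ ≠ 0 := by
      have := H V₂ ρ₂ hV
      simpa only [h] using this
    obtain ⟨f, hf⟩ := sf_exists_intertwiner ρ₂ ρ₁ h1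
    obtain ⟨C, hC⟩ := exists_isCompl f.range
    have hdim : Module.finrank k f.ker.toSubmodule ≤ n := by
      have h2 : Module.finrank k (LinearMap.range f.toLinearMap) +
          Module.finrank k (LinearMap.ker f.toLinearMap) = Module.finrank k V₂ :=
        LinearMap.finrank_range_add_finrank_ker f.toLinearMap
      have h3 : Module.finrank k (LinearMap.range f.toLinearMap) ≠ 0 := by
        intro h0
        apply hf
        have : LinearMap.range f.toLinearMap = ⊥ := Submodule.finrank_eq_zero.mp h0
        rw [LinearMap.range_eq_bot] at this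
        exact IntertwiningMap.ext this
      have h4 : f.ker.toSubmodule = LinearMap.ker f.toLinearMap := rfl
      rw [h4]
      omega
    refine ih f.ker.toSubmodule f.ker.toRepresentation hdim C.toSubmodule C.toRepresentation ?_
    intro g
    have e1 := sf_char_ker_range ρ₂ ρ₁ f g
    have e2 := sf_char_isCompl ρ₁ f.range C hC g
    have e3 := h g
    rw [e1, e2] at e3
    have : f.range.toRepresentation.character g + C.toRepresentation.character g
        = f.range.toRepresentation.character g + (f.ker.toRepresentation.character g + χ g) := by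
      rw [e3]; ring
    exact add_left_cancel this

end generic

end Cfsg.Agent.Lib.helper2
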