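import Mathlib
import Cfsg.Prelude.Def_Characters
import Cfsg.Agent.Lib.helper2.SF1
import Cfsg.Agent.Lib.helper2.CharNat
import Cfsg.Agent.Lib.helper2.CharInd
import Cfsg.Agent.Lib.helper7.CharTools
import Cfsg.Agent.Lib.helper7.Induction

/-! Primitive linear groups of degree 2 (S4473): representation-theoretic basics. -/

set_option autoImplicit false

namespace Cfsg.Agent.Lib.helper2

open Representation
open Cfsg.Agent.Lib.helper7

section kl1

variable {G : Type*} [Group G] {V : Type*} [AddCommGroup V] [Module ℂ V]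

/-- Schur: central elements act as scalars in an irreducible representation. -/
theorem kl_scalar_of_central [FiniteDimensional ℂ V] (ρ : Representation ℂ G V) [ρ.IsIrreducible]
    (z : G) (hz : z ∈ Subgroup.center G) : ∃ c : ℂ, ρ z = c • LinearMap.id := by
  have hcomm : ∀ g : G, ∀ v : V, ρ z (ρ g v) = ρ g (ρ z v) := by
    intro g v
    have : z * g = g * z := (Subgroup.mem_center_iff.mp hz g).symm
    have h2 := congrArg (fun t => ρ t v) this
    simpa [map_mul] using h2
  let f : IntertwiningMap ρ ρ := LinearMap.intertwiningMap_of_isIntertwiningMap ρ ρ (ρ z) hcomm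
  obtain ⟨c, hc⟩ := (IsIrreducible.algebraMap_intertwiningMap_bijective_of_isAlgClosed (ρ := ρ)).2 f
  refine ⟨c, ?_⟩
  have h3 : (algebraMap ℂ (IntertwiningMap ρ ρ) c).toLinearMap = f.toLinearMap := by rw [hc]
  rw [show f.toLinearMap = ρ z from rfl] at h3
  rw [← h3]
  ext v
  simp [Algebra.algebraMap_eq_smul_one]


theorem kl_inj (ρ : Representation ℂ G V)
    (hf : ∀ g : G, ρ.character g = ρ.character 1 → g = 1) (a b : G) (h : ρ a = ρ b) : a = b := by
  have h1 : ρ (b⁻¹ * a) = ρ 1 := by
    rw [map_mul, h, ← map_mul, inv_mul_cancel]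
  have h2 : b⁻¹ * a = 1 := by
    apply hf
    unfold Representation.character
    rw [h1]
  calc a = b * (b⁻¹ * a) := by group
    _ = b := by rw [h2, mul_one]

theorem kl_central_of_scalar (ρ : Representation ℂ G V)
    (hf : ∀ g : G, ρ.character g = ρ.character 1 → g = 1) (x : G) (c : ℂ)
    (hx : ρ x = c • LinearMap.id) : x ∈ Subgroup.center G := by
  rw [Subgroup.mem_center_iff]
  intro g
  apply kl_inj ρ hf
  rw [map_mul, map_mul, hx]
  ext v
  simp


/-- the line spanned by a common eigenvector, as a subrepresentation of the restriction -/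
def klLineSub (ρ : Representation ℂ G V) (H : Subgroup G) (v : V)
    (hH : ∀ h ∈ H, ∃ c : ℂ, ρ h v = c • v) : Subrepresentation (ρ.comp H.subtype) where
  toSubmodule := Submodule.span ℂ {v}
  apply_mem_toSubmodule := by
    intro h u hu
    obtain ⟨a, rfl⟩ := Submodule.mem_span_singleton.mp hu
    obtain ⟨c, hc⟩ := hH h h.2
    change ρ (h : G) (a • v) ∈ _
    rw [map_smul, hc]
    exact Submodule.smul_mem _ _ (Submodule.smul_mem _ _ (Submodule.mem_span_singleton_self v))

theorem kl_compl_line [Finite G] [FiniteDimensional ℂ V] (ρ : Representation ℂ G V)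
    (hV : Module.finrank ℂ V = 2)
    (H : Subgroup G) (v : V) (hv : v ≠ 0) (hH : ∀ h ∈ H, ∃ c : ℂ, ρ h v = c • v) :
    ∃ w : V, w ≠ 0 ∧ (∀ h ∈ H, ∃ c : ℂ, ρ h w = c • w) ∧ (∀ u : V, ∃ a b : ℂ, u = a • v + b • w) ∧
      (∀ a b : ℂ, a • v + b • w = 0 → a = 0 ∧ b = 0) := by
  haveI : NeZero (Nat.card H : ℂ) := ⟨by exact_mod_cast Nat.card_pos.ne'⟩
  set L := klLineSub ρ H v hH with hL
  obtain ⟨C, hC⟩ := exists_isCompl L
  have hcompl : IsCompl L.toSubmodule C.toSubmodule := by
    apply IsCompl.of_eq
    · exact congrArg Subrepresentation.toSubmodule hC.inf_eq_bot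
    · exact congrArg Subrepresentation.toSubmodule hC.sup_eq_top
  have hL1 : Module.finrank ℂ L.toSubmodule = 1 := finrank_span_singleton hv
  have hC1 : Module.finrank ℂ C.toSubmodule = 1 := by
    have := Submodule.finrank_add_eq_of_isCompl hcompl
    omega
  obtain ⟨⟨w, hwC⟩, hw0, hwall⟩ := finrank_eq_one_iff'.mp hC1
  have hw0' : w ≠ 0 := fun h => hw0 (Subtype.ext h)
  have hCw : ∀ u ∈ C.toSubmodule, ∃ c : ℂ, u = c • w := by
    intro u hu
    obtain ⟨c, hc⟩ := hwall ⟨u, hu⟩
    exact ⟨c, (congrArg Subtype.val hc).symm⟩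
  refine ⟨w, hw0', ?_, ?_, ?_⟩
  · intro h hh
    have := C.apply_mem_toSubmodule (⟨h, hh⟩ : H) hwC
    obtain ⟨c, hc⟩ := hCw _ this
    exact ⟨c, hc⟩
  · intro u
    have hu : u ∈ L.toSubmodule ⊔ C.toSubmodule := by rw [hcompl.sup_eq_top]; trivial
    obtain ⟨y, hy, z, hz, rfl⟩ := Submodule.mem_sup.mp hu
    obtain ⟨a, rfl⟩ := Submodule.mem_span_singleton.mp hy
    obtain ⟨b, rfl⟩ := hCw z hz
    exact ⟨a, b, rfl⟩
  · intro a b hab
    have h1 : a • v ∈ L.toSubmodule ⊓ C.toSubmodule := by
      refine ⟨Submodule.smul_mem _ _ (Submodule.mem_span_singleton_self v), ?_⟩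
      have : a • v = -(b • w) := eq_neg_of_add_eq_zero_left hab
      rw [this]
      exact Submodule.neg_mem _ (Submodule.smul_mem _ _ hwC)
    rw [hcompl.inf_eq_bot, Submodule.mem_bot] at h1
    have ha : a = 0 := by
      rcases smul_eq_zero.mp h1 with h | h
      · exact h
      · exact absurd h hv
    rw [ha, zero_smul, zero_add] at hab
    rcases smul_eq_zero.mp hab with h | h
    · exact ⟨ha, h⟩
    · exact absurd h hw0'


theorem kl_no_fixed_line [FiniteDimensional ℂ V] (ρ : Representation ℂ G V) [ρ.IsIrreducible]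
    (hV : Module.finrank ℂ V = 2) (v : V) (hv : v ≠ 0) :
    ¬ ∀ g : G, ∃ c : ℂ, ρ g v = c • v := by
  intro hall
  let L : Subrepresentation ρ :=
    { toSubmodule := Submodule.span ℂ {v}
      apply_mem_toSubmodule := by
        intro g u hu
        obtain ⟨a, rfl⟩ := Submodule.mem_span_singleton.mp hu
        obtain ⟨c, hc⟩ := hall g
        rw [map_smul, hc]
        exact Submodule.smul_mem _ _ (Submodule.smul_mem _ _ (Submodule.mem_span_singleton_self v)) }
  rcases eq_bot_or_eq_top L with h | h
  · have h1 : L.toSubmodule = ⊥ := congrArg Subrepresentation.toSubmodule h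
    have h2 : v ∈ L.toSubmodule := Submodule.mem_span_singleton_self v
    rw [h1, Submodule.mem_bot] at h2
    exact hv h2
  · have h1 : L.toSubmodule = ⊤ := congrArg Subrepresentation.toSubmodule h
    have h2 : Module.finrank ℂ L.toSubmodule = 1 := finrank_span_singleton hv
    rw [h1, finrank_top, hV] at h2
    omega


theorem kl_isCharacter_eq_zero_of_one {K : Type*} [Group K] {Δ : K → ℂ} (hΔ : Cfsg.IsCharacter K Δ)
    (h1 : Δ 1 = 0) : Δ = 0 := by
  obtain ⟨n, ρ, rfl⟩ := hΔ
  rw [Representation.char_one] at h1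
  have hn : n = 0 := by
    have : Module.finrank ℂ (Fin n → ℂ) = 0 := by exact_mod_cast h1
    simpa using this
  subst hn
  funext g
  unfold Representation.character
  have : ρ g = 0 := by
    apply LinearMap.ext
    intro v
    exact Subsingleton.elim _ _
  rw [this, map_zero]
  rfl

theorem kl_index_ne_two [Fintype G] [FiniteDimensional ℂ V] (ρ : Representation ℂ G V)
    (hirr : Cfsg.IsIrrCharacter G ρ.character) (hV : Module.finrank ℂ V = 2)
    (hprim : ∀ H : Subgroup G, H ≠ ⊤ → ∀ θ : H → ℂ, Cfsg.IsCharacter H θ →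
      ρ.character ≠ Cfsg.indFun H θ)
    (H : Subgroup G) (v : V) (hv : v ≠ 0) (hH : ∀ h ∈ H, ∃ c : ℂ, ρ h v = c • v) :
    H.index ≠ 2 := by
  classical
  intro hidx
  haveI : Fintype H := Fintype.ofFinite H
  set σ : Representation ℂ H V := ρ.comp H.subtype with hσ
  set L := klLineSub ρ H v hH with hL
  set lam := L.toRepresentation.character with hlam
  have hlamchar : Cfsg.IsCharacter H lam := isCharacter_of_rep _
  have hlam1 : lam 1 = 1 := by
    rw [hlam, Representation.char_one]
    have : Module.finrank ℂ L.toSubmodule = 1 := finrank_span_singleton hv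
    rw [this]; simp
  have hinner : Cfsg.classInner σ.character lam ≠ 0 := by
    rw [hlam, classInner_rep_eq_finrank L.toRepresentation σ]
    have hpos : 0 < Module.finrank ℂ (IntertwiningMap L.toRepresentation σ) := by
      rw [Module.finrank_pos_iff_exists_ne_zero]
      let f : IntertwiningMap L.toRepresentation σ :=
        LinearMap.intertwiningMap_of_isIntertwiningMap _ _ L.toSubmodule.subtype (by
          intro g u; rfl)
      refine ⟨f, ?_⟩
      intro hf0
      have h2 : f ⟨v, Submodule.mem_span_singleton_self v⟩ = 0 := by rw [hf0]; rfl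
      exact hv h2
    exact_mod_cast hpos.ne'
  have hσchar : σ.character = fun h : H => ρ.character h := rfl
  have hcl := isCharacter_isClassFunction (h7_irr_isCharacter hirr)
  have hfrob := h7_frobenius_reciprocity H lam ρ.character hcl
  obtain ⟨m, hm⟩ := classInner_character_nat (isCharacter_of_rep σ) hlamchar
  have hm0 : m ≠ 0 := by
    intro h0; rw [h0] at hm; exact hinner (by simpa using hm)
  have hinner2 : Cfsg.classInner (Cfsg.indFun H lam) ρ.character ≠ 0 := by
    rw [hfrob, ← hσchar, classInner_symm_of_nat _ _ m hm]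
    exact_mod_cast hm0
  obtain ⟨Δ, hΔ, hsplit⟩ := h7_char_split (isCharacter_indFun H lam hlamchar) ρ.character hirr hinner2
  have h1 := congrFun hsplit 1
  rw [h7_indFun_one, hidx, hlam1, Pi.add_apply, Representation.char_one, hV] at h1
  have hΔ1 : Δ 1 = 0 := by
    have : ((2:ℕ):ℂ) * 1 = ((2:ℕ):ℂ) + Δ 1 := h1
    linear_combination -this
  have hΔ0 := kl_isCharacter_eq_zero_of_one hΔ hΔ1
  rw [hΔ0, add_zero] at hsplit
  have hne : H ≠ ⊤ := by
    intro h
    rw [h, Subgroup.index_top] at hidx
    omega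
  exact hprim H hne lam hlamchar hsplit.symm

end kl1

end Cfsg.Agent.Lib.helper2
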