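import Mathlib
import Cfsg.Agent.Lib.helper2.Kl1

set_option autoImplicit false

namespace Cfsg.Agent.Lib.helper2

open Representation
open scoped LinearAlgebra.Projectivization

section kl2

universe u v

variable {G : Type u} [Group G] {V : Type v} [AddCommGroup V] [Module ℂ V]

/-- the projective space of `V`, with `G` acting through `ρ` -/
def KlP (_ρ : Representation ℂ G V) : Type _ := ℙ ℂ V

noncomputable instance klAct (ρ : Representation ℂ G V) : MulAction G (KlP ρ) :=
  MulAction.compHom (ℙ ℂ V) (MonoidHom.toHomUnits ρ)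

theorem kl_apply_ne_zero (ρ : Representation ℂ G V) (g : G) (v : V) (hv : v ≠ 0) : ρ g v ≠ 0 := by
  intro h
  apply hv
  have : ρ g⁻¹ (ρ g v) = v := by
    rw [← Module.End.mul_apply, ← map_mul, inv_mul_cancel, map_one]; rfl
  rw [← this, h, map_zero]

noncomputable def klMk (ρ : Representation ℂ G V) (v : V) (hv : v ≠ 0) : KlP ρ := Projectivization.mk ℂ v hv

theorem kl_smul_mk (ρ : Representation ℂ G V) (g : G) (v : V) (hv : v ≠ 0) :
    g • klMk ρ v hv = klMk ρ (ρ g v) (kl_apply_ne_zero ρ g v hv) := rfl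

theorem kl_mk_eq_iff (ρ : Representation ℂ G V) (v w : V) (hv : v ≠ 0) (hw : w ≠ 0) :
    klMk ρ v hv = klMk ρ w hw ↔ ∃ a : ℂ, a • w = v :=
  Projectivization.mk_eq_mk_iff' ℂ v w hv hw

theorem kl_ind (ρ : Representation ℂ G V) {P : KlP ρ → Prop}
    (h : ∀ (v : V) (hv : v ≠ 0), P (klMk ρ v hv)) (x : KlP ρ) : P x :=
  Projectivization.ind h x

theorem kl_fixed_iff (ρ : Representation ℂ G V) (g : G) (v : V) (hv : v ≠ 0) :
    g • klMk ρ v hv = klMk ρ v hv ↔ ∃ c : ℂ, ρ g v = c • v := by
  rw [kl_smul_mk, kl_mk_eq_iff]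
  constructor
  · rintro ⟨a, ha⟩; exact ⟨a, ha.symm⟩
  · rintro ⟨a, ha⟩; exact ⟨a, ha.symm⟩

theorem kl_central_smul [FiniteDimensional ℂ V] (ρ : Representation ℂ G V) [ρ.IsIrreducible]
    (z : G) (hz : z ∈ Subgroup.center G) (y : KlP ρ) : z • y = y := by
  obtain ⟨c, hc⟩ := kl_scalar_of_central ρ z hz
  induction y using kl_ind with
  | h v hv =>
    rw [kl_fixed_iff]
    exact ⟨c, by rw [hc]; simp⟩

theorem kl_fixed_noncentral [Finite G] [FiniteDimensional ℂ V] (ρ : Representation ℂ G V)
    (hV : Module.finrank ℂ V = 2)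
    (hf : ∀ g : G, ρ.character g = ρ.character 1 → g = 1)
    (x : G) (hx : x ∉ Subgroup.center G) :
    ∃ p q : KlP ρ, p ≠ q ∧ ∀ y : KlP ρ, x • y = y ↔ y = p ∨ y = q := by
  haveI : Nontrivial V := Module.nontrivial_of_finrank_pos (R := ℂ) (by omega)
  obtain ⟨μ, hμ⟩ := Module.End.exists_eigenvalue (ρ x)
  obtain ⟨v, hv⟩ := hμ.exists_hasEigenvector
  have hv0 : v ≠ 0 := hv.2
  have hxv : ρ x v = μ • v := hv.apply_eq_smul
  set H := MulAction.stabilizer G (klMk ρ v hv0) with hH
  have hHfix : ∀ h ∈ H, ∃ c : ℂ, ρ h v = c • v := by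
    intro h hh
    exact (kl_fixed_iff ρ h v hv0).mp (MulAction.mem_stabilizer_iff.mp hh)
  have hxH : x ∈ H := MulAction.mem_stabilizer_iff.mpr ((kl_fixed_iff ρ x v hv0).mpr ⟨μ, hxv⟩)
  obtain ⟨w, hw0, hwfix, hspan, hind⟩ := kl_compl_line ρ hV H v hv0 hHfix
  obtain ⟨ν, hxw⟩ := hwfix x hxH
  have hne : μ ≠ ν := by
    intro h
    apply hx
    apply kl_central_of_scalar ρ hf x μ
    ext u
    obtain ⟨a, b, rfl⟩ := hspan u
    simp only [map_add, map_smul, hxv, hxw, h, LinearMap.smul_apply, LinearMap.id_apply]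
  refine ⟨klMk ρ v hv0, klMk ρ w hw0, ?_, ?_⟩
  · intro h
    obtain ⟨a, ha⟩ := (kl_mk_eq_iff ρ v w hv0 hw0).mp h
    have := hind 1 (-a) (by rw [one_smul, neg_smul, ha]; simp)
    exact one_ne_zero this.1
  · intro y
    induction y using kl_ind with
    | h u hu =>
      rw [kl_fixed_iff, kl_mk_eq_iff, kl_mk_eq_iff]
      obtain ⟨a, b, rfl⟩ := hspan u
      constructor
      · rintro ⟨c, hc⟩
        rw [map_add, map_smul, map_smul, hxv, hxw, smul_add] at hc
        have h0 : (a * μ - c * a) • v + (b * ν - c * b) • w = 0 := by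
          rw [sub_smul, sub_smul, mul_smul, mul_smul, mul_smul, mul_smul]
          rw [sub_add_sub_comm, hc, sub_self]
        obtain ⟨h1, h2⟩ := hind _ _ h0
        by_cases ha : a = 0
        · right
          exact ⟨b, by rw [ha, zero_smul, zero_add]⟩
        · by_cases hb : b = 0
          · left
            exact ⟨a, by rw [hb, zero_smul, add_zero]⟩
          · exfalso
            apply hne
            have h1' : μ = c := by
              have : a * (μ - c) = 0 := by linear_combination h1
              rcases mul_eq_zero.mp this with h | h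
              · exact absurd h ha
              · exact sub_eq_zero.mp h
            have h2' : ν = c := by
              have : b * (ν - c) = 0 := by linear_combination h2
              rcases mul_eq_zero.mp this with h | h
              · exact absurd h hb
              · exact sub_eq_zero.mp h
            rw [h1', h2']
      · rintro (⟨c, hc⟩ | ⟨c, hc⟩)
        · rw [← hc]
          exact ⟨μ, by rw [map_smul, hxv, smul_comm]⟩
        · rw [← hc]
          exact ⟨ν, by rw [map_smul, hxw, smul_comm]⟩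


/-- poles: points of the projective line fixed by some noncentral element -/
def klPoles (ρ : Representation ℂ G V) : SubMulAction G (KlP ρ) where
  carrier := {y | ∃ x : G, x ∉ Subgroup.center G ∧ x • y = y}
  smul_mem' := by
    rintro g y ⟨x, hx, hxy⟩
    refine ⟨g * x * g⁻¹, ?_, ?_⟩
    · intro h
      apply hx
      have h2 := (inferInstance : (Subgroup.center G).Normal).conj_mem _ h g⁻¹
      simpa [mul_assoc] using h2
    · rw [mul_smul, mul_smul, inv_smul_smul, hxy]

theorem kl_mem_poles (ρ : Representation ℂ G V) (y : KlP ρ) :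
    y ∈ klPoles ρ ↔ ∃ x : G, x ∉ Subgroup.center G ∧ x • y = y := Iff.rfl

theorem kl_poles_finite [Finite G] [FiniteDimensional ℂ V] (ρ : Representation ℂ G V)
    (hV : Module.finrank ℂ V = 2)
    (hf : ∀ g : G, ρ.character g = ρ.character 1 → g = 1) : Finite (klPoles ρ) := by
  have h1 : (klPoles ρ : Set (KlP ρ)) =
      ⋃ x ∈ {x : G | x ∉ Subgroup.center G}, {y : KlP ρ | x • y = y} := by
    ext y
    simp only [Set.mem_iUnion, Set.mem_ofPred_eq, exists_prop]
    exact kl_mem_poles ρ y
  have h2 : (klPoles ρ : Set (KlP ρ)).Finite := by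
    rw [h1]
    apply Set.Finite.biUnion (Set.toFinite _)
    intro x hx
    obtain ⟨p, q, -, hpq⟩ := kl_fixed_noncentral ρ hV hf x hx
    apply Set.Finite.subset (Set.toFinite {p, q})
    intro y hy
    exact (hpq y).mp hy
  exact h2

end kl2

end Cfsg.Agent.Lib.helper2
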