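import Mathlib
import Cfsg.Agent.Lib.helper2.Kl2

set_option autoImplicit false

namespace Cfsg.Agent.Lib.helper2

open Representation

section kl3

universe u v

variable {G : Type u} [Group G] {V : Type v} [AddCommGroup V] [Module ℂ V]

theorem kl_count [Fintype G] [FiniteDimensional ℂ V] (ρ : Representation ℂ G V) [ρ.IsIrreducible]
    (hV : Module.finrank ℂ V = 2) (hf : ∀ g : G, ρ.character g = ρ.character 1 → g = 1) :
    ∃ (k : ℕ) (S : Fin k → Subgroup G),
      (∀ i, ∃ v : V, v ≠ 0 ∧ (∀ h ∈ S i, ∃ c : ℂ, ρ h v = c • v) ∧ Subgroup.center G ≤ S i ∧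
        ∃ x ∈ S i, x ∉ Subgroup.center G) ∧
      (∑ i, (S i).index) + 2 * (Subgroup.center G).index =
        k * (Subgroup.center G).index + 2 := by
  classical
  haveI : Finite (klPoles ρ) := kl_poles_finite ρ hV hf
  haveI : Fintype (klPoles ρ) := Fintype.ofFinite _
  haveI : Fintype (MulAction.orbitRel.Quotient G (klPoles ρ)) := Fintype.ofFinite _
  haveI : ∀ a : G, Fintype (MulAction.fixedBy (klPoles ρ) a) := fun a => Fintype.ofFinite _
  have hB := MulAction.sum_card_fixedBy_eq_card_orbits_mul_card_group G (klPoles ρ)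
  simp only [Fintype.card_eq_nat_card] at hB
  -- fixed point counts
  have hfixc : ∀ a : G, a ∈ Subgroup.center G →
      Nat.card (MulAction.fixedBy (klPoles ρ) a) = Nat.card (klPoles ρ) := by
    intro a ha
    apply Nat.card_congr
    apply Equiv.subtypeUnivEquiv
    intro y
    rw [MulAction.mem_fixedBy]
    apply Subtype.ext
    rw [SubMulAction.val_smul]
    exact kl_central_smul ρ a ha y.1
  have hfixn : ∀ a : G, a ∉ Subgroup.center G →
      Nat.card (MulAction.fixedBy (klPoles ρ) a) = 2 := by
    intro a ha
    obtain ⟨p, q, hpq, hfix⟩ := kl_fixed_noncentral ρ hV hf a ha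
    have hp : p ∈ klPoles ρ := ⟨a, ha, (hfix p).mpr (Or.inl rfl)⟩
    have hq : q ∈ klPoles ρ := ⟨a, ha, (hfix q).mpr (Or.inr rfl)⟩
    have hset : MulAction.fixedBy (klPoles ρ) a = {⟨p, hp⟩, ⟨q, hq⟩} := by
      ext y
      rw [MulAction.mem_fixedBy, Set.mem_insert_iff, Set.mem_singleton_iff]
      constructor
      · intro h
        have h2 : a • (y : KlP ρ) = y := by
          rw [← SubMulAction.val_smul, h]
        rcases (hfix y.1).mp h2 with h3 | h3
        · left; exact Subtype.ext h3
        · right; exact Subtype.ext h3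
      · intro h
        apply Subtype.ext
        rw [SubMulAction.val_smul]
        apply (hfix y.1).mpr
        rcases h with h | h
        · left; rw [h]
        · right; rw [h]
    rw [hset, Nat.card_coe_set_eq]
    apply Set.ncard_pair
    intro h
    exact hpq (congrArg Subtype.val h)
  -- |P| as a sum over orbits
  have hP : Nat.card (klPoles ρ) = ∑ ω : MulAction.orbitRel.Quotient G (klPoles ρ),
      (MulAction.stabilizer G (ω.out : KlP ρ)).index := by
    rw [Nat.card_congr (MulAction.selfEquivSigmaOrbits G (klPoles ρ)), Nat.card_sigma]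
    apply Finset.sum_congr rfl
    intro ω _
    rw [Nat.card_coe_set_eq, ← MulAction.index_stabilizer, SubMulAction.stabilizer_of_subMul]
  -- reindex
  set k := Fintype.card (MulAction.orbitRel.Quotient G (klPoles ρ)) with hk
  let e : MulAction.orbitRel.Quotient G (klPoles ρ) ≃ Fin k := Fintype.equivFin _
  refine ⟨k, fun i => MulAction.stabilizer G ((e.symm i).out : KlP ρ), ?_, ?_⟩
  · intro i
    set y : klPoles ρ := (e.symm i).out with hy
    obtain ⟨x, hx, hxy⟩ := y.2
    have key : ∀ t : KlP ρ, t = (y : KlP ρ) → ∃ v : V, v ≠ 0 ∧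
        (∀ h ∈ MulAction.stabilizer G (y : KlP ρ), ∃ c : ℂ, ρ h v = c • v) := by
      intro t
      induction t using kl_ind with
      | h v hv =>
        intro ht
        refine ⟨v, hv, ?_⟩
        intro h hh
        rw [← ht] at hh
        exact (kl_fixed_iff ρ h v hv).mp (MulAction.mem_stabilizer_iff.mp hh)
    obtain ⟨v, hv, hvfix⟩ := key _ rfl
    refine ⟨v, hv, hvfix, ?_, x, MulAction.mem_stabilizer_iff.mpr hxy, hx⟩
    intro z hz
    exact MulAction.mem_stabilizer_iff.mpr (kl_central_smul ρ z hz _)
  · have hsum : ∑ i : Fin k, (MulAction.stabilizer G ((e.symm i).out : KlP ρ)).index =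
        Nat.card (klPoles ρ) := by
      rw [hP]
      exact e.symm.sum_comp (fun ω => (MulAction.stabilizer G (ω.out : KlP ρ)).index)
    rw [hsum]
    have hsplit : ∑ a : G, Nat.card (MulAction.fixedBy (klPoles ρ) a) =
        ∑ a : G, (if a ∈ Subgroup.center G then Nat.card (klPoles ρ) else 2) := by
      apply Finset.sum_congr rfl
      intro a _
      split_ifs with h
      · exact hfixc a h
      · exact hfixn a h
    rw [hsplit, Finset.sum_ite, Finset.sum_const, Finset.sum_const, smul_eq_mul, smul_eq_mul] at hB
    have hcz : (Finset.univ.filter (fun a : G => a ∈ Subgroup.center G)).card =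
        Nat.card (Subgroup.center G) := by
      rw [Nat.card_eq_fintype_card, Fintype.card_subtype]
    have hadd := Finset.card_filter_add_card_filter_not (s := (Finset.univ : Finset G))
      (fun a : G => a ∈ Subgroup.center G)
    rw [Finset.card_univ, ← Nat.card_eq_fintype_card] at hadd
    have hidx := Subgroup.card_mul_index (Subgroup.center G)
    rw [hcz] at hB hadd
    have hzpos : 0 < Nat.card (Subgroup.center G) := Nat.card_pos
    have hkk : Nat.card (Quotient (MulAction.orbitRel G (klPoles ρ))) = k := Nat.card_eq_fintype_card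
    rw [hkk] at hB
    set z := Nat.card (Subgroup.center G)
    set g := (Subgroup.center G).index
    set N := Nat.card G
    set X := Nat.card (klPoles ρ)
    set c := (Finset.univ.filter (fun a : G => ¬ a ∈ Subgroup.center G)).card
    have h4 : z * (X + 2 * g) = z * (k * g + 2) := by
      have : z * X + c * 2 = k * (z * g) := by rw [hB, hidx]
      nlinarith
    exact Nat.eq_of_mul_eq_mul_left hzpos h4

end kl3

end Cfsg.Agent.Lib.helper2
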