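import Mathlib

set_option autoImplicit false

namespace Cfsg.Agent.Lib.helper2

theorem kl_arith3_sorted (n1 n2 n3 e1 e2 e3 g : ℕ) (h1 : e1 * n1 = g) (h2 : e2 * n2 = g)
    (h3 : e3 * n3 = g) (he1 : 2 ≤ e1) (h12 : e1 ≤ e2) (h23 : e2 ≤ e3)
    (hn3 : 3 ≤ n3) (hs : n1 + n2 + n3 = g + 2) :
    g = 12 ∨ g = 24 ∨ g = 60 := by
  have he1' : e1 = 2 := by
    by_contra hne
    have h3e1 : 3 ≤ e1 := by omega
    have a1 : 3 * n1 ≤ e1 * n1 := Nat.mul_le_mul_right n1 h3e1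
    have a2 : 3 * n2 ≤ e2 * n2 := Nat.mul_le_mul_right n2 (by omega)
    have a3 : 3 * n3 ≤ e3 * n3 := Nat.mul_le_mul_right n3 (by omega)
    omega
  subst he1'
  have he2 : e2 ≤ 3 := by
    by_contra hne
    have a2 : 4 * n2 ≤ e2 * n2 := Nat.mul_le_mul_right n2 (by omega)
    have a3 : 4 * n3 ≤ e3 * n3 := Nat.mul_le_mul_right n3 (by omega)
    omega
  have he2' : e2 = 3 := by
    by_contra hne
    have : e2 = 2 := by omega
    subst this
    omega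
  subst he2'
  have he3 : e3 ≤ 5 := by
    by_contra hne
    have a3 : 6 * n3 ≤ e3 * n3 := Nat.mul_le_mul_right n3 (by omega)
    omega
  interval_cases e3 <;> omega

theorem kl_arith3 (n1 n2 n3 e1 e2 e3 g : ℕ) (h1 : e1 * n1 = g) (h2 : e2 * n2 = g)
    (h3 : e3 * n3 = g) (he1 : 2 ≤ e1) (he2 : 2 ≤ e2) (he3 : 2 ≤ e3)
    (hn1 : 3 ≤ n1) (hn2 : 3 ≤ n2) (hn3 : 3 ≤ n3) (hs : n1 + n2 + n3 = g + 2) :
    g = 12 ∨ g = 24 ∨ g = 60 := by
  rcases le_total e1 e2 with h12 | h12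
  · rcases le_total e2 e3 with h23 | h23
    · exact kl_arith3_sorted n1 n2 n3 e1 e2 e3 g h1 h2 h3 he1 h12 h23 hn3 hs
    · rcases le_total e1 e3 with h13 | h13
      · exact kl_arith3_sorted n1 n3 n2 e1 e3 e2 g h1 h3 h2 he1 h13 h23 hn2 (by omega)
      · exact kl_arith3_sorted n3 n1 n2 e3 e1 e2 g h3 h1 h2 he3 h13 h12 hn2 (by omega)
  · rcases le_total e1 e3 with h13 | h13
    · exact kl_arith3_sorted n2 n1 n3 e2 e1 e3 g h2 h1 h3 he2 h12 h13 hn3 (by omega)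
    · rcases le_total e2 e3 with h23 | h23
      · exact kl_arith3_sorted n2 n3 n1 e2 e3 e1 g h2 h3 h1 he2 h23 h13 hn1 (by omega)
      · exact kl_arith3_sorted n3 n2 n1 e3 e2 e1 g h3 h2 h1 he3 h23 h12 hn1 (by omega)

theorem kl_arith (k : ℕ) (n e : Fin k → ℕ) (g : ℕ) (h : ∀ i, e i * n i = g)
    (he : ∀ i, 2 ≤ e i) (hn : ∀ i, 3 ≤ n i) (hsum : ∑ i, n i + 2 * g = k * g + 2) (hg : 2 ≤ g) :
    g = 12 ∨ g = 24 ∨ g = 60 := by
  have hle : ∑ i : Fin k, 2 * n i ≤ ∑ _i : Fin k, g := by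
    apply Finset.sum_le_sum
    intro i _
    have := Nat.mul_le_mul_right (n i) (he i)
    rw [h i] at this
    exact this
  rw [← Finset.mul_sum, Finset.sum_const, Finset.card_univ, Fintype.card_fin, smul_eq_mul] at hle
  have hk : k < 4 := by
    by_contra hk
    have : 4 * g ≤ k * g := Nat.mul_le_mul_right g (by omega)
    omega
  interval_cases k
  · simp at hsum; omega
  · simp at hsum
    have := hn 0
    omega
  · rw [Fin.sum_univ_two] at hsum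
    have := hn 0
    have := hn 1
    omega
  · rw [Fin.sum_univ_three] at hsum
    exact kl_arith3 (n 0) (n 1) (n 2) (e 0) (e 1) (e 2) g (h 0) (h 1) (h 2) (he 0) (he 1) (he 2)
      (hn 0) (hn 1) (hn 2) (by omega)

end Cfsg.Agent.Lib.helper2
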