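import Mathlib

/-!
Combinatorial core of the lattice inequality used for the abelian-stabilizer criterion
of the `k(GV)` problem: saturations of supports of integer functions on a finite abelian group.
-/

set_option autoImplicit false

namespace Cfsg.Agent.Lib.helper2

open Classical in
/-- The saturation of the support of `a` under the subgroup `Λ`. -/
noncomputable def kvSat {D : Type*} [CommGroup D] [Fintype D] (Λ : Subgroup D) (a : D → ℤ) :
    Finset D :=
  Finset.univ.filter (fun μ => ∃ l ∈ Λ, a (l * μ) ≠ 0)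

theorem mem_kvSat {D : Type*} [CommGroup D] [Fintype D] (Λ : Subgroup D) (a : D → ℤ) (μ : D) :
    μ ∈ kvSat Λ a ↔ ∃ l ∈ Λ, a (l * μ) ≠ 0 := by
  classical
  simp [kvSat]

/-- The difference operator along `l`. -/
def kvT {D : Type*} [CommGroup D] (l : D) (a : D → ℤ) : D → ℤ := fun μ => a (l⁻¹ * μ) - a μ

theorem kvSat_mono {D : Type*} [CommGroup D] [Fintype D] {Λ Λ' : Subgroup D} (h : Λ ≤ Λ')
    (a : D → ℤ) : kvSat Λ a ⊆ kvSat Λ' a := by
  intro μ hμ
  rw [mem_kvSat] at hμ ⊢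
  obtain ⟨l, hl, h1⟩ := hμ
  exact ⟨l, h hl, h1⟩

open Classical in
/-- The key counting inequality. -/
theorem kv_comb {D : Type*} [CommGroup D] [Fintype D] (Λ₁ Λ' : Subgroup D) (a : D → ℤ) :
    2 * (kvSat (Λ₁ ⊔ Λ') a).card ≤ 2 * (kvSat Λ' a).card +
      ∑ l ∈ Finset.univ.filter (fun l : D => l ∈ Λ₁), (kvSat Λ' (kvT l a)).card := by
  set Y := kvSat Λ' a with hY
  set R := kvSat (Λ₁ ⊔ Λ') a \ Y with hR
  have hsub : Y ⊆ kvSat (Λ₁ ⊔ Λ') a := kvSat_mono le_sup_right a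
  have hcard : (kvSat (Λ₁ ⊔ Λ') a).card = Y.card + R.card := by
    rw [hR, Finset.card_sdiff_of_subset hsub]
    have := Finset.card_le_card hsub
    omega
  -- a choice of translating element
  have hex : ∀ ρ ∈ R, ∃ l ∈ Λ₁, l * ρ ∈ Y := by
    intro ρ hρ
    rw [hR, Finset.mem_sdiff, mem_kvSat] at hρ
    obtain ⟨⟨m, hm, hne⟩, -⟩ := hρ
    rw [Subgroup.mem_sup] at hm
    obtain ⟨l, hl, l', hl', rfl⟩ := hm
    refine ⟨l, hl, ?_⟩
    rw [hY, mem_kvSat]
    refine ⟨l', hl', ?_⟩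
    rwa [← mul_assoc, mul_comm l' l]
  let lc : D → D := fun ρ => if h : ∃ l ∈ Λ₁, l * ρ ∈ Y then h.choose else 1
  have hlc1 : ∀ ρ ∈ R, lc ρ ∈ Λ₁ := by
    intro ρ hρ
    have h := hex ρ hρ
    simp only [lc, dif_pos h]
    exact h.choose_spec.1
  have hlc2 : ∀ ρ ∈ R, lc ρ * ρ ∈ Y := by
    intro ρ hρ
    have h := hex ρ hρ
    simp only [lc, dif_pos h]
    exact h.choose_spec.2
  have hRY : ∀ ρ ∈ R, ρ ∉ Y := fun ρ hρ => (Finset.mem_sdiff.1 hρ).2
  set I := (Finset.univ.filter (fun l : D => l ∈ Λ₁)).sigma (fun l => kvSat Λ' (kvT l a)) with hI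
  have hIcard : I.card = ∑ l ∈ Finset.univ.filter (fun l : D => l ∈ Λ₁),
      (kvSat Λ' (kvT l a)).card := Finset.card_sigma _ _
  let f₁ : D → (Σ _ : D, D) := fun ρ => ⟨(lc ρ)⁻¹, ρ⟩
  let f₂ : D → (Σ _ : D, D) := fun ρ => ⟨lc ρ, lc ρ * ρ⟩
  have h1sub : R.image f₁ ⊆ I := by
    intro z hz
    obtain ⟨ρ, hρ, rfl⟩ := Finset.mem_image.1 hz
    rw [hI, Finset.mem_sigma]
    refine ⟨?_, ?_⟩
    · rw [Finset.mem_filter]
      exact ⟨Finset.mem_univ _, Λ₁.inv_mem (hlc1 ρ hρ)⟩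
    show ρ ∈ kvSat Λ' (kvT (lc ρ)⁻¹ a)
    have h2 := hlc2 ρ hρ
    rw [hY, mem_kvSat] at h2
    obtain ⟨l', hl', hne⟩ := h2
    rw [mem_kvSat]
    refine ⟨l', hl', ?_⟩
    have h0 : a (l' * ρ) = 0 := by
      by_contra hc
      exact hRY ρ hρ (by rw [hY, mem_kvSat]; exact ⟨l', hl', hc⟩)
    simp only [kvT, inv_inv, h0, sub_zero]
    rwa [← mul_assoc, mul_comm (lc ρ) l', mul_assoc]
  have h2sub : R.image f₂ ⊆ I := by
    intro z hz
    obtain ⟨ρ, hρ, rfl⟩ := Finset.mem_image.1 hz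
    rw [hI, Finset.mem_sigma]
    refine ⟨?_, ?_⟩
    · rw [Finset.mem_filter]
      exact ⟨Finset.mem_univ _, hlc1 ρ hρ⟩
    show lc ρ * ρ ∈ kvSat Λ' (kvT (lc ρ) a)
    have h2 := hlc2 ρ hρ
    rw [hY, mem_kvSat] at h2
    obtain ⟨l', hl', hne⟩ := h2
    rw [mem_kvSat]
    refine ⟨l', hl', ?_⟩
    have h0 : a (l' * ρ) = 0 := by
      by_contra hc
      exact hRY ρ hρ (by rw [hY, mem_kvSat]; exact ⟨l', hl', hc⟩)
    have h3 : (lc ρ)⁻¹ * (l' * (lc ρ * ρ)) = l' * ρ := by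
      rw [← mul_assoc l', mul_comm l' (lc ρ), mul_assoc, inv_mul_cancel_left]
    simp only [kvT, h3, h0, zero_sub, ne_eq, neg_eq_zero]
    exact hne
  have hdisj : Disjoint (R.image f₁) (R.image f₂) := by
    rw [Finset.disjoint_left]
    intro z hz1 hz2
    obtain ⟨ρ, hρ, rfl⟩ := Finset.mem_image.1 hz1
    obtain ⟨σ, hσ, h⟩ := Finset.mem_image.1 hz2
    have h2 : lc σ * σ = ρ := by
      have := congrArg (fun z : (Σ _ : D, D) => z.2) h
      simpa [f₁, f₂] using this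
    exact hRY ρ hρ (h2 ▸ hlc2 σ hσ)
  have hinj1 : Set.InjOn f₁ R := by
    intro ρ _ σ _ h
    have := congrArg (fun z : (Σ _ : D, D) => z.2) h
    simpa [f₁] using this
  have hinj2 : Set.InjOn f₂ R := by
    intro ρ _ σ _ h
    have h1 : lc ρ = lc σ := by
      have := congrArg (fun z : (Σ _ : D, D) => z.1) h
      simpa [f₂] using this
    have h2 : lc ρ * ρ = lc σ * σ := by
      have := congrArg (fun z : (Σ _ : D, D) => z.2) h
      simpa [f₂] using this
    rw [h1] at h2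
    exact mul_left_cancel h2
  have hfin : 2 * R.card ≤ I.card := by
    calc 2 * R.card = (R.image f₁).card + (R.image f₂).card := by
          rw [Finset.card_image_of_injOn hinj1, Finset.card_image_of_injOn hinj2]; ring
      _ = (R.image f₁ ∪ R.image f₂).card := (Finset.card_union_of_disjoint hdisj).symm
      _ ≤ I.card := Finset.card_le_card (Finset.union_subset h1sub h2sub)
  rw [hcard, ← hIcard]
  omega

theorem kvSat_bot_card_le {D : Type*} [CommGroup D] [Fintype D] (a : D → ℤ) :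
    ((kvSat ⊥ a).card : ℝ) ≤ ∑ μ : D, ((a μ : ℤ) : ℝ) ^ 2 := by
  classical
  have h1 : kvSat ⊥ a = Finset.univ.filter (fun μ => a μ ≠ 0) := by
    ext μ
    rw [mem_kvSat, Finset.mem_filter]
    constructor
    · rintro ⟨l, hl, h⟩
      rw [Subgroup.mem_bot] at hl
      subst hl
      rw [one_mul] at h
      exact ⟨Finset.mem_univ _, h⟩
    · rintro ⟨-, h⟩
      exact ⟨1, Subgroup.one_mem _, by rwa [one_mul]⟩
  rw [h1, Finset.card_filter]
  push_cast
  apply Finset.sum_le_sum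
  intro μ _
  by_cases h : a μ = 0
  · simp [h]
  · rw [if_pos h]
    have h2 : (1 : ℤ) ≤ (a μ) ^ 2 := by
      have := sq_nonneg (a μ)
      have h3 : (a μ) ^ 2 ≠ 0 := pow_ne_zero 2 h
      omega
    exact_mod_cast h2

theorem kv_two_cosets {D : Type*} [CommGroup D] [Fintype D] (Λ : Subgroup D) (a : D → ℤ)
    (μ μ' : D) (hμ : a μ ≠ 0) (hμ' : a μ' ≠ 0) (hne : μ' * μ⁻¹ ∉ Λ) :
    2 * Nat.card Λ ≤ (kvSat Λ a).card := by
  classical
  set S := Finset.univ.filter (fun l : D => l ∈ Λ) with hS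
  have hScard : S.card = Nat.card Λ := by
    rw [Nat.card_eq_fintype_card, Fintype.card_subtype]
  have hmem : ∀ l, l ∈ S ↔ l ∈ Λ := fun l => by simp [hS]
  have h1 : S.image (fun l => l * μ) ⊆ kvSat Λ a := by
    intro z hz
    obtain ⟨l, hl, rfl⟩ := Finset.mem_image.1 hz
    rw [mem_kvSat]
    exact ⟨l⁻¹, Λ.inv_mem ((hmem l).1 hl), by rwa [inv_mul_cancel_left]⟩
  have h2 : S.image (fun l => l * μ') ⊆ kvSat Λ a := by
    intro z hz
    obtain ⟨l, hl, rfl⟩ := Finset.mem_image.1 hz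
    rw [mem_kvSat]
    exact ⟨l⁻¹, Λ.inv_mem ((hmem l).1 hl), by rwa [inv_mul_cancel_left]⟩
  have hdisj : Disjoint (S.image (fun l => l * μ)) (S.image (fun l => l * μ')) := by
    rw [Finset.disjoint_left]
    intro z hz1 hz2
    obtain ⟨l, hl, rfl⟩ := Finset.mem_image.1 hz1
    obtain ⟨l', hl', h⟩ := Finset.mem_image.1 hz2
    apply hne
    have h3 : μ' * μ⁻¹ = l'⁻¹ * l := by
      have h4 : l' * μ' = l * μ := h
      rw [eq_inv_mul_iff_mul_eq, ← mul_assoc, h4, mul_inv_cancel_right]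
    rw [h3]
    exact Λ.mul_mem (Λ.inv_mem ((hmem l').1 hl')) ((hmem l).1 hl)
  calc 2 * Nat.card Λ = (S.image (fun l => l * μ)).card + (S.image (fun l => l * μ')).card := by
        rw [Finset.card_image_of_injective _ (mul_left_injective μ),
          Finset.card_image_of_injective _ (mul_left_injective μ'), hScard]; ring
    _ = (S.image (fun l => l * μ) ∪ S.image (fun l => l * μ')).card :=
        (Finset.card_union_of_disjoint hdisj).symm
    _ ≤ (kvSat Λ a).card := Finset.card_le_card (Finset.union_subset h1 h2)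

end Cfsg.Agent.Lib.helper2
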