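import Mathlib
import Cfsg.Agent.Lib.helper2.KvA

/-!
Fourier side of the lattice inequality: weighted square sums of integral combinations of the
characters of a finite abelian group, phrased for an abstract pairing.
-/

set_option autoImplicit false

namespace Cfsg.Agent.Lib.helper2

open scoped ComplexConjugate

/-- An abstract character pairing between a finite abelian group `D` and a finite set `P`. -/
structure KvPairing {P D : Type*} [Fintype P] [CommGroup D] [Fintype D] (e : D → P → ℂ) : Prop where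
  mul : ∀ l μ x, e (l * μ) x = e l x * e μ x
  norm : ∀ μ x, ‖e μ x‖ = 1
  orth : ∀ ν, ν ≠ 1 → ∑ x, e ν x = 0

section KvFourier

variable {P D : Type*} [Fintype P] [CommGroup D] [Fintype D] {e : D → P → ℂ}

theorem KvPairing.one (he : KvPairing e) (x : P) : e 1 x = 1 := by
  have h1 := he.mul 1 1 x
  rw [mul_one] at h1
  have h2 : e 1 x ≠ 0 := by
    intro h
    have := he.norm 1 x
    rw [h, norm_zero] at this
    exact zero_ne_one this
  have h3 : e 1 x * (e 1 x - 1) = 0 := by rw [mul_sub, ← h1, mul_one, sub_self]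
  rcases mul_eq_zero.1 h3 with h | h
  · exact absurd h h2
  · exact sub_eq_zero.1 h

theorem KvPairing.inv (he : KvPairing e) (l : D) (x : P) : e l⁻¹ x = conj (e l x) := by
  have h1 := he.mul l⁻¹ l x
  rw [inv_mul_cancel, he.one] at h1
  rw [← Complex.inv_eq_conj (he.norm l x)]
  have h2 : e l x ≠ 0 := by
    intro h
    have := he.norm l x
    rw [h, norm_zero] at this
    exact zero_ne_one this
  field_simp
  exact h1.symm

/-- Fourier synthesis of an integer valued function on `D`. -/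
noncomputable def kvF (e : D → P → ℂ) (a : D → ℤ) (x : P) : ℂ :=
  ∑ μ : D, ((a μ : ℤ) : ℂ) * e μ x

theorem kvF_kvT (he : KvPairing e) (l : D) (a : D → ℤ) (x : P) :
    kvF e (kvT l a) x = (e l x - 1) * kvF e a x := by
  simp only [kvF, kvT]
  have h1 : ∑ μ : D, ((a (l⁻¹ * μ) : ℤ) : ℂ) * e μ x =
      ∑ μ : D, ((a μ : ℤ) : ℂ) * e (l * μ) x := by
    apply Fintype.sum_equiv (Equiv.mulLeft l⁻¹)
    intro μ
    simp only [Equiv.coe_mulLeft, mul_inv_cancel_left]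
  have h2 : ∀ μ : D, ((a (l⁻¹ * μ) - a μ : ℤ) : ℂ) * e μ x =
      ((a (l⁻¹ * μ) : ℤ) : ℂ) * e μ x - ((a μ : ℤ) : ℂ) * e μ x := by
    intro μ
    push_cast
    ring
  simp only [h2, Finset.sum_sub_distrib, h1, he.mul]
  rw [sub_mul, one_mul, Finset.mul_sum]
  congr 1
  apply Finset.sum_congr rfl
  intro μ _
  ring

open Classical in
theorem kv_sum_sub (he : KvPairing e) (Λ₁ : Subgroup D) (x : P) :
    ∑ l ∈ Finset.univ.filter (fun l : D => l ∈ Λ₁), e l x =
      if ∀ l ∈ Λ₁, e l x = 1 then (Nat.card Λ₁ : ℂ) else 0 := by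
  split_ifs with h
  · have h1 : ∀ l ∈ Finset.univ.filter (fun l : D => l ∈ Λ₁), e l x = 1 := by
      intro l hl
      exact h l (Finset.mem_filter.1 hl).2
    rw [Finset.sum_congr rfl h1, Finset.sum_const, nsmul_eq_mul, mul_one,
      Nat.card_eq_fintype_card, Fintype.card_subtype]
  · push Not at h
    obtain ⟨l₀, hl₀, hne⟩ := h
    set S := ∑ l ∈ Finset.univ.filter (fun l : D => l ∈ Λ₁), e l x with hS
    have h1 : e l₀ x * S = S := by
      rw [hS, Finset.mul_sum]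
      apply Finset.sum_equiv (Equiv.mulLeft l₀)
      · intro l
        simp only [Finset.mem_filter, Finset.mem_univ, true_and, Equiv.coe_mulLeft]
        exact ⟨fun hl => Λ₁.mul_mem hl₀ hl, fun hl => by
          have := Λ₁.mul_mem (Λ₁.inv_mem hl₀) hl
          rwa [inv_mul_cancel_left] at this⟩
      · intro l _
        simp only [Equiv.coe_mulLeft, he.mul]
    have h2 : (e l₀ x - 1) * S = 0 := by rw [sub_mul, h1, one_mul, sub_self]
    rcases mul_eq_zero.1 h2 with h3 | h3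
    · exact absurd (sub_eq_zero.1 h3) hne
    · exact h3

theorem kv_normsq_sub_one (z : ℂ) (hz : ‖z‖ = 1) : ‖z - 1‖ ^ 2 = 2 - 2 * z.re := by
  have h1 : z.re * z.re + z.im * z.im = 1 := by
    have := Complex.sq_norm z
    rw [hz, Complex.normSq_apply] at this
    linarith
  rw [Complex.sq_norm, Complex.normSq_apply]
  simp only [Complex.sub_re, Complex.one_re, Complex.sub_im, Complex.one_im, sub_zero]
  nlinarith

open Classical in
theorem kv_sum_normsq (he : KvPairing e) (Λ₁ : Subgroup D) (x : P) :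
    ∑ l ∈ Finset.univ.filter (fun l : D => l ∈ Λ₁), ‖e l x - 1‖ ^ 2 =
      2 * (Nat.card Λ₁ : ℝ) * (if ∀ l ∈ Λ₁, e l x = 1 then 0 else 1) := by
  have h1 : ∀ l ∈ Finset.univ.filter (fun l : D => l ∈ Λ₁),
      ‖e l x - 1‖ ^ 2 = 2 - 2 * (e l x).re := by
    intro l _
    exact kv_normsq_sub_one _ (he.norm l x)
  rw [Finset.sum_congr rfl h1, Finset.sum_sub_distrib, ← Finset.mul_sum, Finset.sum_const,
    nsmul_eq_mul]
  have h2 : ∑ l ∈ Finset.univ.filter (fun l : D => l ∈ Λ₁), (e l x).re =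
      (∑ l ∈ Finset.univ.filter (fun l : D => l ∈ Λ₁), e l x).re := by
    rw [Complex.re_sum]
  have hc : ((Finset.univ.filter (fun l : D => l ∈ Λ₁)).card : ℝ) = (Nat.card Λ₁ : ℝ) := by
    rw [Nat.card_eq_fintype_card, Fintype.card_subtype]
  rw [h2, kv_sum_sub he, hc]
  split_ifs with h
  · simp only [Complex.natCast_re]
    ring
  · simp only [Complex.zero_re]
    ring

open Classical in
/-- The recursion identity. -/
theorem kv_recursion (he : KvPairing e) (Λ₁ : Subgroup D) (w : P → ℝ) (a : D → ℤ) :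
    ∑ x : P, ((1 + (Nat.card Λ₁ : ℝ) * (if ∀ l ∈ Λ₁, e l x = 1 then 0 else 1)) * w x) *
        ‖kvF e a x‖ ^ 2 =
      ∑ x : P, w x * ‖kvF e a x‖ ^ 2 +
        (1 / 2) * ∑ l ∈ Finset.univ.filter (fun l : D => l ∈ Λ₁),
          ∑ x : P, w x * ‖kvF e (kvT l a) x‖ ^ 2 := by
  rw [Finset.sum_comm, Finset.mul_sum, ← Finset.sum_add_distrib]
  apply Finset.sum_congr rfl
  intro x _
  have h1 : ∀ l : D, w x * ‖kvF e (kvT l a) x‖ ^ 2 =
      ‖e l x - 1‖ ^ 2 * (w x * ‖kvF e a x‖ ^ 2) := by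
    intro l
    rw [kvF_kvT he, norm_mul, mul_pow]
    ring
  simp only [h1]
  rw [← Finset.sum_mul, kv_sum_normsq he]
  ring

open Classical in
/-- Parseval. -/
theorem kv_parseval (he : KvPairing e) (a : D → ℤ) :
    ∑ x : P, ‖kvF e a x‖ ^ 2 = (Fintype.card P : ℝ) * ∑ μ : D, ((a μ : ℤ) : ℝ) ^ 2 := by
  have hC : ((∑ x : P, ‖kvF e a x‖ ^ 2 : ℝ) : ℂ) =
      (((Fintype.card P : ℝ) * ∑ μ : D, ((a μ : ℤ) : ℝ) ^ 2 : ℝ) : ℂ) := by
    push_cast
    have h1 : ∀ x : P, ((‖kvF e a x‖ : ℝ) : ℂ) ^ 2 =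
        ∑ μ : D, ∑ μ' : D, ((a μ : ℤ) : ℂ) * ((a μ' : ℤ) : ℂ) * e (μ * μ'⁻¹) x := by
      intro x
      rw [← Complex.mul_conj', kvF, map_sum, Finset.sum_mul_sum]
      apply Finset.sum_congr rfl
      intro μ _
      apply Finset.sum_congr rfl
      intro μ' _
      rw [map_mul, map_intCast, he.mul, he.inv]
      ring
    simp only [h1]
    rw [Finset.sum_comm]
    rw [Finset.mul_sum]
    apply Finset.sum_congr rfl
    intro μ _
    rw [Finset.sum_comm]
    have h3 : ∀ μ' : D, ∑ x : P, ((a μ : ℤ) : ℂ) * ((a μ' : ℤ) : ℂ) * e (μ * μ'⁻¹) x =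
        if μ' = μ then ((a μ : ℤ) : ℂ) * ((a μ' : ℤ) : ℂ) * (Fintype.card P : ℂ) else 0 := by
      intro μ'
      rw [← Finset.mul_sum]
      split_ifs with h
      · subst h
        rw [mul_inv_cancel]
        simp only [he.one, Finset.sum_const, Finset.card_univ, nsmul_eq_mul, mul_one]
      · rw [he.orth, mul_zero]
        rw [Ne, mul_inv_eq_one]
        exact fun hc => h hc.symm
    simp only [h3]
    rw [Finset.sum_ite_eq' Finset.univ μ]
    simp only [Finset.mem_univ, if_true]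
    ring
  exact_mod_cast hC

open Classical in
/-- The weight factor attached to a subgroup of `D`. -/
noncomputable def kvFac (e : D → P → ℂ) (Λ : Subgroup D) (x : P) : ℝ :=
  1 + (Nat.card Λ : ℝ) * (if ∀ l ∈ Λ, e l x = 1 then 0 else 1)

omit [Fintype P] in
theorem kvFac_one_le (e : D → P → ℂ) (Λ : Subgroup D) (x : P) : 1 ≤ kvFac e Λ x := by
  classical
  unfold kvFac
  split_ifs <;> simp

/-- The product weight attached to a list of subgroups of `D`. -/
noncomputable def kvWt (e : D → P → ℂ) (L : List (Subgroup D)) (x : P) : ℝ :=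
  (L.map (fun Λ => kvFac e Λ x)).prod

omit [Fintype P] in
theorem kvWt_nonneg (e : D → P → ℂ) (L : List (Subgroup D)) (x : P) : 0 ≤ kvWt e L x := by
  unfold kvWt
  apply List.prod_nonneg
  intro r hr
  obtain ⟨Λ, -, rfl⟩ := List.mem_map.1 hr
  linarith [kvFac_one_le e Λ x]

/-- The join of a list of subgroups. -/
def kvSup (L : List (Subgroup D)) : Subgroup D := L.foldr (· ⊔ ·) ⊥

theorem kv_list (he : KvPairing e) : ∀ (L : List (Subgroup D)) (a : D → ℤ),
    (Fintype.card P : ℝ) * ((kvSat (kvSup L) a).card : ℝ) ≤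
      ∑ x : P, kvWt e L x * ‖kvF e a x‖ ^ 2 := by
  classical
  intro L
  induction L with
  | nil =>
    intro a
    simp only [kvWt, List.map_nil, List.prod_nil, one_mul, kvSup, List.foldr_nil]
    rw [kv_parseval he]
    exact mul_le_mul_of_nonneg_left (kvSat_bot_card_le a) (Nat.cast_nonneg _)
  | cons Λ₁ L ih =>
    intro a
    have h1 : ∀ x : P, kvWt e (Λ₁ :: L) x = kvFac e Λ₁ x * kvWt e L x := by
      intro x
      simp only [kvWt, List.map_cons, List.prod_cons]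
    have h2 : kvSup (Λ₁ :: L) = Λ₁ ⊔ kvSup L := rfl
    simp only [h1, h2]
    have h3 := kv_recursion he Λ₁ (kvWt e L) a
    simp only [kvFac]
    rw [h3]
    have h4 := ih a
    have h5 : ∀ l ∈ Finset.univ.filter (fun l : D => l ∈ Λ₁),
        (Fintype.card P : ℝ) * ((kvSat (kvSup L) (kvT l a)).card : ℝ) ≤
          ∑ x : P, kvWt e L x * ‖kvF e (kvT l a) x‖ ^ 2 := fun l _ => ih (kvT l a)
    have h6 := Finset.sum_le_sum h5
    rw [← Finset.mul_sum] at h6
    have h7 := kv_comb Λ₁ (kvSup L) a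
    have h8 : (2 : ℝ) * ((kvSat (Λ₁ ⊔ kvSup L) a).card : ℝ) ≤ 2 * ((kvSat (kvSup L) a).card : ℝ) +
        ∑ l ∈ Finset.univ.filter (fun l : D => l ∈ Λ₁), ((kvSat (kvSup L) (kvT l a)).card : ℝ) := by
      exact_mod_cast h7
    have h9 : (0 : ℝ) ≤ (Fintype.card P : ℝ) := Nat.cast_nonneg _
    nlinarith

open Classical in
theorem kv_T (he : KvPairing e) (L : List (Subgroup D)) (Λ₀ : Subgroup D) (a : D → ℤ)
    (W : P → ℝ) (hW : ∀ x, kvWt e L x ≤ W x) :
    (1 / 2) * ((Fintype.card P : ℝ) * ∑ l ∈ Finset.univ.filter (fun l : D => l ∈ Λ₀),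
        ((kvSat (kvSup L) (kvT l a)).card : ℝ)) ≤
      ∑ x : P, W x * ((Nat.card Λ₀ : ℝ) * (if ∀ l ∈ Λ₀, e l x = 1 then 0 else 1)) *
        ‖kvF e a x‖ ^ 2 := by
  have h3 := kv_recursion he Λ₀ (kvWt e L) a
  have h5 : ∀ l ∈ Finset.univ.filter (fun l : D => l ∈ Λ₀),
      (Fintype.card P : ℝ) * ((kvSat (kvSup L) (kvT l a)).card : ℝ) ≤
        ∑ x : P, kvWt e L x * ‖kvF e (kvT l a) x‖ ^ 2 := fun l _ => kv_list he L (kvT l a)
  have h6 := Finset.sum_le_sum h5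
  rw [← Finset.mul_sum] at h6
  have h7 : ∑ x : P, kvWt e L x * ((Nat.card Λ₀ : ℝ) * (if ∀ l ∈ Λ₀, e l x = 1 then 0 else 1)) *
        ‖kvF e a x‖ ^ 2 ≤
      ∑ x : P, W x * ((Nat.card Λ₀ : ℝ) * (if ∀ l ∈ Λ₀, e l x = 1 then 0 else 1)) *
        ‖kvF e a x‖ ^ 2 := by
    apply Finset.sum_le_sum
    intro x _
    apply mul_le_mul_of_nonneg_right _ (sq_nonneg _)
    apply mul_le_mul_of_nonneg_right (hW x)
    split_ifs <;> simp
  have h8 : ∑ x : P, kvWt e L x * ((Nat.card Λ₀ : ℝ) * (if ∀ l ∈ Λ₀, e l x = 1 then 0 else 1)) *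
        ‖kvF e a x‖ ^ 2 =
      ∑ x : P, ((1 + (Nat.card Λ₀ : ℝ) * (if ∀ l ∈ Λ₀, e l x = 1 then 0 else 1)) * kvWt e L x) *
        ‖kvF e a x‖ ^ 2 - ∑ x : P, kvWt e L x * ‖kvF e a x‖ ^ 2 := by
    rw [← Finset.sum_sub_distrib]
    apply Finset.sum_congr rfl
    intro x _
    ring
  rw [h3] at h8
  linarith

theorem kv_sum_kvT (l : D) (a : D → ℤ) : ∑ μ : D, kvT l a μ = 0 := by
  simp only [kvT, Finset.sum_sub_distrib]
  rw [sub_eq_zero]
  apply Fintype.sum_equiv (Equiv.mulLeft l⁻¹)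
  intro μ
  simp only [Equiv.coe_mulLeft]

theorem kv_two (he : KvPairing e) (Λ : Subgroup D) (a : D → ℤ) (l : D) (x₀ : P)
    (hx₀ : ∀ m ∈ Λ, e m x₀ = 1) (hl : e l x₀ ≠ 1) (hne : kvF e a x₀ ≠ 0) :
    2 * Nat.card Λ ≤ (kvSat Λ (kvT l a)).card := by
  by_contra hcon
  have hF : kvF e (kvT l a) x₀ ≠ 0 := by
    rw [kvF_kvT he]
    exact mul_ne_zero (sub_ne_zero.2 hl) hne
  have hall : ∀ μ μ' : D, kvT l a μ ≠ 0 → kvT l a μ' ≠ 0 → μ' * μ⁻¹ ∈ Λ := by
    intro μ μ' h1 h2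
    by_contra h3
    exact hcon (kv_two_cosets Λ (kvT l a) μ μ' h1 h2 h3)
  have hex : ∃ μ₀, kvT l a μ₀ ≠ 0 := by
    by_contra h
    push Not at h
    apply hF
    simp only [kvF, h, Int.cast_zero, zero_mul, Finset.sum_const_zero]
  obtain ⟨μ₀, hμ₀⟩ := hex
  apply hF
  have h1 : ∀ μ : D, ((kvT l a μ : ℤ) : ℂ) * e μ x₀ = ((kvT l a μ : ℤ) : ℂ) * e μ₀ x₀ := by
    intro μ
    by_cases h : kvT l a μ = 0
    · simp [h]
    · have h2 := hall μ₀ μ hμ₀ h
      have h3 : μ = (μ * μ₀⁻¹) * μ₀ := by rw [inv_mul_cancel_right]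
      rw [h3, he.mul, hx₀ _ h2, one_mul, ← h3]
  simp only [kvF, h1]
  rw [← Finset.sum_mul]
  have h4 : ∑ μ : D, ((kvT l a μ : ℤ) : ℂ) = ((∑ μ : D, kvT l a μ : ℤ) : ℂ) := by
    push_cast
    rfl
  rw [h4, kv_sum_kvT, Int.cast_zero, zero_mul]

open Classical in
theorem kv_final (he : KvPairing e) (L : List (Subgroup D)) (Λ₀ : Subgroup D) (a : D → ℤ)
    (W : P → ℝ) (hW : ∀ x, kvWt e L x ≤ W x) (x₀ : P)
    (hx₀ : ∀ m ∈ kvSup L, e m x₀ = 1) (hsep : ∀ l ∈ Λ₀, l ≠ 1 → e l x₀ ≠ 1)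
    (hne : kvF e a x₀ ≠ 0) :
    (Fintype.card P : ℝ) * (((Nat.card Λ₀ : ℝ) - 1) * (Nat.card (kvSup L) : ℝ)) ≤
      ∑ x : P, W x * ((Nat.card Λ₀ : ℝ) * (if ∀ l ∈ Λ₀, e l x = 1 then 0 else 1)) *
        ‖kvF e a x‖ ^ 2 := by
  refine le_trans ?_ (kv_T he L Λ₀ a W hW)
  have h1 : ∀ l ∈ (Finset.univ.filter (fun l : D => l ∈ Λ₀)).erase 1,
      (2 * (Nat.card (kvSup L) : ℝ)) ≤ ((kvSat (kvSup L) (kvT l a)).card : ℝ) := by
    intro l hl
    rw [Finset.mem_erase, Finset.mem_filter] at hl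
    have := kv_two he (kvSup L) a l x₀ hx₀ (hsep l hl.2.2 hl.1) hne
    exact_mod_cast this
  have h2 := Finset.sum_le_sum h1
  rw [Finset.sum_const, nsmul_eq_mul] at h2
  have h3 : ((Finset.univ.filter (fun l : D => l ∈ Λ₀)).erase 1).card = Nat.card Λ₀ - 1 := by
    rw [Finset.card_erase_of_mem (by simp [Λ₀.one_mem]), Nat.card_eq_fintype_card,
      Fintype.card_subtype]
  have h4 : (1 : ℕ) ≤ Nat.card Λ₀ := Nat.card_pos
  have h5 : ∑ l ∈ (Finset.univ.filter (fun l : D => l ∈ Λ₀)).erase 1,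
      ((kvSat (kvSup L) (kvT l a)).card : ℝ) ≤
      ∑ l ∈ Finset.univ.filter (fun l : D => l ∈ Λ₀), ((kvSat (kvSup L) (kvT l a)).card : ℝ) := by
    apply Finset.sum_le_sum_of_subset_of_nonneg (Finset.erase_subset _ _)
    intro _ _ _
    exact Nat.cast_nonneg _
  rw [h3, Nat.cast_sub h4, Nat.cast_one] at h2
  have h9 : (0 : ℝ) ≤ (Fintype.card P : ℝ) := Nat.cast_nonneg _
  have h10 : ((Nat.card Λ₀ : ℝ) - 1) * (2 * (Nat.card (kvSup L) : ℝ)) ≤
      ∑ l ∈ Finset.univ.filter (fun l : D => l ∈ Λ₀), ((kvSat (kvSup L) (kvT l a)).card : ℝ) :=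
    le_trans h2 h5
  have h11 := mul_le_mul_of_nonneg_left h10 h9
  linarith

end KvFourier

end Cfsg.Agent.Lib.helper2
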