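import Mathlib
import Cfsg.Agent.Lib.helper2.KvB

/-!
The lattice inequality for the character group of a finite abelian group.
-/

set_option autoImplicit false

namespace Cfsg.Agent.Lib.helper2

open scoped ComplexConjugate

section KvDual

variable {P : Type*} [CommGroup P] [Fintype P] [Fintype (P →* ℂˣ)]

/-- The evaluation pairing. -/
noncomputable def kvEv : (P →* ℂˣ) → P → ℂ := fun μ x => ((μ x : ℂˣ) : ℂ)

theorem kvEv_pairing : KvPairing (kvEv (P := P)) where
  mul := fun l μ x => rfl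
  norm := fun μ x => by
    have h1 : ((μ x : ℂˣ) : ℂ) ^ Fintype.card P = 1 := by
      rw [← Units.val_pow_eq_pow_val, ← map_pow, pow_card_eq_one, map_one, Units.val_one]
    exact Complex.norm_eq_one_of_pow_eq_one h1 Fintype.card_ne_zero
  orth := fun ν h => by
    have h1 : ((Units.coeHom ℂ).comp ν) ≠ 1 := by
      intro hc
      apply h
      ext x
      have := DFunLike.congr_fun hc x
      simpa using this
    have := sum_hom_units_eq_zero ((Units.coeHom ℂ).comp ν) h1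
    simpa [kvEv] using this

omit [Fintype P] [Fintype (P →* ℂˣ)] in
theorem kvEv_eq_one (l : P →* ℂˣ) (x : P) : kvEv l x = 1 ↔ l x = 1 := by
  unfold kvEv
  constructor
  · intro h
    exact Units.ext (by rw [h, Units.val_one])
  · intro h
    rw [h, Units.val_one]

/-- The annihilator of a subgroup in the character group. -/
noncomputable def kvPerp (K : Subgroup P) : Subgroup (P →* ℂˣ) :=
  (MonoidHom.domRestrictHom K ℂˣ).ker

omit [Fintype P] [Fintype (P →* ℂˣ)] in
theorem mem_kvPerp (K : Subgroup P) (l : P →* ℂˣ) : l ∈ kvPerp K ↔ ∀ x ∈ K, l x = 1 := by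
  unfold kvPerp
  rw [MonoidHom.mem_ker, MonoidHom.domRestrictHom_apply, MonoidHom.domRestrict_eq_one_iff]

omit [Fintype (P →* ℂˣ)] in
theorem kvPerp_card (K : Subgroup P) : Nat.card (kvPerp K) = K.index := by
  unfold kvPerp
  rw [CommGroup.card_domRestrictHom_ker ℂ K, Subgroup.index_eq_card]

omit [Fintype (P →* ℂˣ)] in
theorem kvPerp_sep (K : Subgroup P) (x : P) : (∀ l ∈ kvPerp K, kvEv l x = 1) ↔ x ∈ K := by
  rw [← CommGroup.forall_monoidHom_apply_eq_one_iff ℂ K x]
  constructor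
  · intro h φ hφ
    exact (kvEv_eq_one φ x).1 (h φ ((mem_kvPerp K φ).2 hφ))
  · intro h l hl
    exact (kvEv_eq_one l x).2 (h l ((mem_kvPerp K l).1 hl))

omit [Fintype (P →* ℂˣ)] in
theorem kvPerp_inf (K₁ K₂ : Subgroup P) : kvPerp (K₁ ⊓ K₂) = kvPerp K₁ ⊔ kvPerp K₂ := by
  have h := (CommGroup.subgroupOrderIsoSubgroupMonoidHom P ℂ).map_inf K₁ K₂
  exact congrArg OrderDual.ofDual h

omit [Fintype P] [Fintype (P →* ℂˣ)] in
theorem kvPerp_top : kvPerp (⊤ : Subgroup P) = ⊥ := by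
  rw [eq_bot_iff]
  intro l hl
  rw [mem_kvPerp] at hl
  rw [Subgroup.mem_bot]
  ext x
  rw [hl x (Subgroup.mem_top x)]
  rfl

omit [Fintype (P →* ℂˣ)] in
theorem kvSup_map_kvPerp (L : List (Subgroup P)) :
    kvSup (L.map kvPerp) = kvPerp (L.foldr (· ⊓ ·) ⊤) := by
  induction L with
  | nil => simp [kvSup, kvPerp_top]
  | cons K L ih =>
    have h1 : kvSup ((K :: L).map kvPerp) = kvPerp K ⊔ kvSup (L.map kvPerp) := rfl
    rw [h1, ih, List.foldr_cons, kvPerp_inf]

open Classical in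
theorem kvFac_kvPerp (K : Subgroup P) (x : P) :
    kvFac kvEv (kvPerp K) x = 1 + (K.index : ℝ) * (if x ∈ K then 0 else 1) := by
  unfold kvFac
  rw [kvPerp_card]
  have := kvPerp_sep K x
  by_cases h : x ∈ K
  · rw [if_pos h, if_pos (this.2 h)]
  · rw [if_neg h, if_neg (fun hc => h (this.1 hc))]

open Classical in
/-- The product weight attached to a list of subgroups of `P`. -/
noncomputable def kvW (L : List (Subgroup P)) (x : P) : ℝ :=
  (L.map (fun K : Subgroup P => 1 + (K.index : ℝ) * (if x ∈ K then 0 else 1))).prod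

theorem kvWt_map_kvPerp (L : List (Subgroup P)) (x : P) :
    kvWt kvEv (L.map kvPerp) x = kvW L x := by
  unfold kvWt kvW
  rw [List.map_map]
  congr 1
  apply List.map_congr_left
  intro K _
  exact kvFac_kvPerp K x

open Classical in
/-- The lattice inequality in the form needed for the class number bound. -/
theorem kv_main (L : List (Subgroup P)) (K₀ H : Subgroup P) (hH : L.foldr (· ⊓ ·) ⊤ = H)
    (W : P → ℝ) (hW : ∀ x, kvW L x ≤ W x) (a : (P →* ℂˣ) → ℤ) (x₀ : P) (hx₀ : x₀ ∈ H)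
    (hsep : ∀ l : P →* ℂˣ, (∀ x ∈ K₀, l x = 1) → l x₀ = 1 → l = 1)
    (hne : kvF kvEv a x₀ ≠ 0) :
    (Fintype.card P : ℝ) * (((K₀.index : ℝ) - 1) * (H.index : ℝ)) ≤
      ∑ x : P, W x * ((K₀.index : ℝ) * (if x ∈ K₀ then 0 else 1)) * ‖kvF kvEv a x‖ ^ 2 := by
  have h1 := kv_final kvEv_pairing (L.map kvPerp) (kvPerp K₀) a W
    (fun x => by rw [kvWt_map_kvPerp]; exact hW x) x₀
    (by
      intro m hm
      rw [kvSup_map_kvPerp, hH] at hm
      exact (kvPerp_sep H x₀).2 hx₀ m hm)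
    (by
      intro l hl hne1 hc
      exact hne1 (hsep l ((mem_kvPerp K₀ l).1 hl) ((kvEv_eq_one l x₀).1 hc)))
    hne
  rw [kvSup_map_kvPerp, hH, kvPerp_card, kvPerp_card] at h1
  refine le_trans h1 (le_of_eq ?_)
  apply Finset.sum_congr rfl
  intro x _
  have := kvPerp_sep K₀ x
  by_cases h : x ∈ K₀
  · rw [if_pos h, if_pos (this.2 h)]
  · rw [if_neg h, if_neg (fun hc => h (this.1 hc))]

open Classical in
/-- Orthogonality over the dual group. -/
theorem kv_dual_orth (z : P) :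
    ∑ μ : P →* ℂˣ, kvEv μ z = if z = 1 then (Fintype.card P : ℂ) else 0 := by
  have h1 := kv_sum_sub (kvEv_pairing (P := P)) ⊤ z
  have h2 : Finset.univ.filter (fun l : P →* ℂˣ => l ∈ (⊤ : Subgroup (P →* ℂˣ))) = Finset.univ := by
    ext l
    simp
  rw [h2] at h1
  rw [h1]
  have h3 : (∀ l ∈ (⊤ : Subgroup (P →* ℂˣ)), kvEv l z = 1) ↔ z = 1 := by
    constructor
    · intro h
      by_contra hz
      obtain ⟨φ, hφ⟩ := CommGroup.exists_apply_ne_one_of_hasEnoughRootsOfUnity P ℂ hz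
      exact hφ ((kvEv_eq_one φ z).1 (h φ (Subgroup.mem_top φ)))
    · intro h l _
      rw [h, kvEv_eq_one, map_one]
  have h4 : Nat.card (⊤ : Subgroup (P →* ℂˣ)) = Fintype.card P := by
    rw [Subgroup.card_top, CommGroup.card_monoidHom_of_hasEnoughRootsOfUnity P ℂ,
      Nat.card_eq_fintype_card]
  by_cases hz : z = 1
  · rw [if_pos hz, if_pos (h3.2 hz), h4]
  · rw [if_neg hz, if_neg (fun hc => hz (h3.1 hc))]

/-- Fourier inversion with integral coefficients. -/
theorem kv_inversion (g : P → ℂ)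
    (hint : ∀ μ : P →* ℂˣ, ∃ n : ℤ,
      (Nat.card P : ℂ)⁻¹ * ∑ x : P, g x * conj (kvEv μ x) = (n : ℂ)) :
    ∃ a : (P →* ℂˣ) → ℤ, ∀ x, g x = kvF kvEv a x := by
  classical
  choose a ha using hint
  refine ⟨a, fun x => ?_⟩
  unfold kvF
  simp only [← ha]
  have hP : (Nat.card P : ℂ) ≠ 0 := by
    rw [Nat.card_eq_fintype_card]
    exact_mod_cast Fintype.card_ne_zero
  have h1 : ∀ μ : P →* ℂˣ, ((Nat.card P : ℂ)⁻¹ * ∑ y : P, g y * conj (kvEv μ y)) * kvEv μ x =
      (Nat.card P : ℂ)⁻¹ * ∑ y : P, g y * kvEv μ (x * y⁻¹) := by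
    intro μ
    rw [mul_assoc, Finset.sum_mul]
    congr 1
    apply Finset.sum_congr rfl
    intro y _
    have h2 : kvEv μ (x * y⁻¹) = kvEv μ x * conj (kvEv μ y) := by
      have h3 : conj (kvEv μ y) = kvEv μ y⁻¹ := by
        rw [← Complex.inv_eq_conj (kvEv_pairing.norm μ y)]
        simp [kvEv]
      rw [h3]
      simp [kvEv]
    rw [h2]
    ring
  simp only [h1]
  rw [← Finset.mul_sum, Finset.sum_comm]
  simp only [← Finset.mul_sum, kv_dual_orth]
  have h4 : ∀ y : P, (x * y⁻¹ = 1) ↔ y = x := by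
    intro y
    rw [mul_inv_eq_one]
    exact eq_comm
  simp only [h4]
  rw [Finset.sum_congr rfl (fun y _ => mul_ite _ _ _ _)]
  simp only [mul_zero]
  rw [Finset.sum_ite_eq' Finset.univ x]
  simp only [Finset.mem_univ, if_true]
  rw [Nat.card_eq_fintype_card] at hP ⊢
  field_simp

end KvDual

end Cfsg.Agent.Lib.helper2
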