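import Mathlib
import Cfsg.Agent.Lib.helper23.MaschkeGrp

/-!
Weights of a coprime abelian operator group on an elementary abelian group: the index of the
fixed points of an element dominates a product over the irreducible constituents.
-/

set_option autoImplicit false

namespace Cfsg.Agent.Lib.helper2

section KvModule

variable {A Q : Type*} [CommGroup A] [CommGroup Q]

/-- Fixed points of an operator. -/
def kvFix (φ : A →* MulAut Q) (a : A) : Subgroup Q where
  carrier := {q | φ a q = q}
  one_mem' := map_one _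
  mul_mem' := by
    intro x y hx hy
    simp only [Set.mem_ofPred_eq] at *
    rw [map_mul, hx, hy]
  inv_mem' := by
    intro x hx
    simp only [Set.mem_ofPred_eq] at *
    rw [map_inv, hx]

theorem mem_kvFix (φ : A →* MulAut Q) (a : A) (q : Q) : q ∈ kvFix φ a ↔ φ a q = q := Iff.rfl

/-- Pointwise stabilizer of a subgroup. -/
def kvKer (φ : A →* MulAut Q) (W : Subgroup Q) : Subgroup A where
  carrier := {a | ∀ w ∈ W, φ a w = w}
  one_mem' := by
    intro w _
    simp
  mul_mem' := by
    intro a b ha hb w hw
    rw [map_mul, MulAut.mul_apply, hb w hw, ha w hw]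
  inv_mem' := by
    intro a ha w hw
    have := ha w hw
    rw [map_inv]
    conv_lhs => rw [← this]
    simp

theorem mem_kvKer (φ : A →* MulAut Q) (W : Subgroup Q) (a : A) :
    a ∈ kvKer φ W ↔ ∀ w ∈ W, φ a w = w := Iff.rfl

open Classical in
/-- The product weight attached to a list of subgroups of the operator group. -/
noncomputable def kvWn (L : List (Subgroup A)) (a : A) : ℕ :=
  (L.map (fun K : Subgroup A => 1 + K.index * (if a ∈ K then 0 else 1))).prod

theorem kvFix_inf_invariant (φ : A →* MulAut Q) (W : Subgroup Q)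
    (hW : ∀ a : A, ∀ w ∈ W, φ a w ∈ W) (a b : A) (w : Q) (hw : w ∈ W ⊓ kvFix φ a) :
    φ b w ∈ W ⊓ kvFix φ a := by
  rw [Subgroup.mem_inf] at hw ⊢
  refine ⟨hW b w hw.1, ?_⟩
  rw [mem_kvFix] at hw ⊢
  have h1 : φ a (φ b w) = φ b (φ a w) := by
    rw [← MulAut.mul_apply, ← MulAut.mul_apply, ← map_mul, ← map_mul, mul_comm]
  rw [h1, hw.2]

theorem kv_weights_aux [Finite A] [Finite Q] (φ : A →* MulAut Q) (p : ℕ) [hp : Fact p.Prime]
    (hexp : ∀ v : Q, v ^ p = 1) (hcop : (Nat.card A).Coprime p) :
    ∀ n : ℕ, ∀ U : Subgroup Q, Nat.card U ≤ n → (∀ a : A, ∀ u ∈ U, φ a u ∈ U) →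
      ∃ L : List (Subgroup A), (∀ a : A, (∀ K ∈ L, a ∈ K) → ∀ u ∈ U, φ a u = u) ∧
        ∀ a : A, kvWn L a * Nat.card ↥(U ⊓ kvFix φ a) ≤ Nat.card U := by
  classical
  intro n
  induction n with
  | zero =>
    intro U hU
    have := Nat.card_pos (α := U)
    omega
  | succ n ih =>
    intro U hUn hUinv
    by_cases hUbot : U = ⊥
    · refine ⟨[], ?_, ?_⟩
      · intro a _ u hu
        rw [hUbot, Subgroup.mem_bot] at hu
        rw [hu, map_one]
      · intro a
        simp only [kvWn, List.map_nil, List.prod_nil, one_mul]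
        exact Subgroup.card_le_of_le inf_le_left
    · -- a minimal invariant subgroup
      let S : Set (Subgroup Q) := {W | W ≠ ⊥ ∧ W ≤ U ∧ ∀ a : A, ∀ w ∈ W, φ a w ∈ W}
      have hSne : S.Nonempty := ⟨U, hUbot, le_refl _, hUinv⟩
      obtain ⟨W, hWS, hWmin⟩ := WellFounded.has_min (wellFounded_lt (α := Subgroup Q)) S hSne
      obtain ⟨hWbot, hWU, hWinv⟩ := hWS
      have hmin : ∀ W₂ : Subgroup Q, W₂ ≠ ⊥ → W₂ ≤ W → (∀ a : A, ∀ w ∈ W₂, φ a w ∈ W₂) →
          W₂ = W := by
        intro W₂ h1 h2 h3
        by_contra hne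
        exact hWmin W₂ ⟨h1, le_trans h2 hWU, h3⟩ (lt_of_le_of_ne h2 hne)
      -- the dichotomy for fixed points on `W`
      have hdich : ∀ c : A, W ⊓ kvFix φ c = ⊥ ∨ c ∈ kvKer φ W := by
        intro c
        by_cases h : W ⊓ kvFix φ c = ⊥
        · exact Or.inl h
        · right
          have h2 := hmin (W ⊓ kvFix φ c) h inf_le_left
            (fun b w hw => kvFix_inf_invariant φ W hWinv c b w hw)
          intro w hw
          have : w ∈ W ⊓ kvFix φ c := by rw [h2]; exact hw
          exact (Subgroup.mem_inf.1 this).2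
      -- an invariant complement
      obtain ⟨W', hW'inv, hinf, hsup⟩ :=
        Cfsg.Agent.Lib.helper23.exists_invariant_complement φ p hexp hcop W hWinv
      set U' := U ⊓ W' with hU'
      have hU'inv : ∀ a : A, ∀ u ∈ U', φ a u ∈ U' := by
        intro a u hu
        rw [hU', Subgroup.mem_inf] at hu ⊢
        exact ⟨hUinv a u hu.1, hW'inv a u hu.2⟩
      have hdec : ∀ u ∈ U, ∃ w ∈ W, ∃ u' ∈ U', u = w * u' := by
        intro u hu
        have h1 : u ∈ W ⊔ W' := by rw [hsup]; exact Subgroup.mem_top u
        rw [Subgroup.mem_sup] at h1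
        obtain ⟨w, hw, w', hw', rfl⟩ := h1
        refine ⟨w, hw, w', ?_, rfl⟩
        rw [hU', Subgroup.mem_inf]
        refine ⟨?_, hw'⟩
        have : w' = w⁻¹ * (w * w') := by rw [inv_mul_cancel_left]
        rw [this]
        exact U.mul_mem (U.inv_mem (hWU hw)) hu
      have hint : ∀ w ∈ W, ∀ u' ∈ U', w = u' → w = 1 := by
        intro w hw u' hu' h
        have : w ∈ W ⊓ W' := by
          rw [Subgroup.mem_inf]
          refine ⟨hw, ?_⟩
          rw [h]
          exact (Subgroup.mem_inf.1 hu').2
        rw [hinf, Subgroup.mem_bot] at this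
        exact this
      have huniq : ∀ w₁ ∈ W, ∀ w₂ ∈ W, ∀ u₁ ∈ U', ∀ u₂ ∈ U', w₁ * u₁ = w₂ * u₂ →
          w₁ = w₂ ∧ u₁ = u₂ := by
        intro w₁ hw₁ w₂ hw₂ u₁ hu₁ u₂ hu₂ h
        have h1 : w₂⁻¹ * w₁ = u₂ * u₁⁻¹ := by
          rw [inv_mul_eq_iff_eq_mul, ← mul_assoc, ← h, mul_inv_cancel_right]
        have h2 := hint (w₂⁻¹ * w₁) (W.mul_mem (W.inv_mem hw₂) hw₁) (u₂ * u₁⁻¹)
          (U'.mul_mem hu₂ (U'.inv_mem hu₁)) h1
        have h3 : w₁ = w₂ := by
          rw [inv_mul_eq_one] at h2
          exact h2.symm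
        refine ⟨h3, ?_⟩
        rw [h3] at h
        exact mul_left_cancel h
      -- cardinalities
      have hc1 : Nat.card W * Nat.card U' ≤ Nat.card U := by
        rw [← Nat.card_prod]
        apply Nat.card_le_card_of_injective
          (fun z : W × U' => (⟨(z.1 : Q) * (z.2 : Q), U.mul_mem (hWU z.1.2)
            (Subgroup.mem_inf.1 z.2.2).1⟩ : U))
        intro z₁ z₂ h
        have h1 : (z₁.1 : Q) * (z₁.2 : Q) = (z₂.1 : Q) * (z₂.2 : Q) := congrArg Subtype.val h
        obtain ⟨h2, h3⟩ := huniq _ z₁.1.2 _ z₂.1.2 _ z₁.2.2 _ z₂.2.2 h1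
        exact Prod.ext (Subtype.ext h2) (Subtype.ext h3)
      have hc2 : ∀ a : A, Nat.card ↥(U ⊓ kvFix φ a) ≤
          Nat.card ↥(W ⊓ kvFix φ a) * Nat.card ↥(U' ⊓ kvFix φ a) := by
        intro a
        rw [← Nat.card_prod]
        apply Nat.card_le_card_of_surjective
          (fun z : ↥(W ⊓ kvFix φ a) × ↥(U' ⊓ kvFix φ a) =>
            (⟨(z.1 : Q) * (z.2 : Q), by
              have h1 := Subgroup.mem_inf.1 z.1.2
              have h2 := Subgroup.mem_inf.1 z.2.2
              rw [Subgroup.mem_inf]
              exact ⟨U.mul_mem (hWU h1.1) (Subgroup.mem_inf.1 h2.1).1,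
                (kvFix φ a).mul_mem h1.2 h2.2⟩⟩ : ↥(U ⊓ kvFix φ a)))
        rintro ⟨u, hu⟩
        rw [Subgroup.mem_inf] at hu
        obtain ⟨w, hw, u', hu', rfl⟩ := hdec u hu.1
        have h1 : φ a w * φ a u' = w * u' := by
          rw [← map_mul]
          exact hu.2
        obtain ⟨h2, h3⟩ := huniq _ (hWinv a w hw) _ hw _ (hU'inv a u' hu') _ hu' h1
        exact ⟨(⟨w, Subgroup.mem_inf.2 ⟨hw, h2⟩⟩, ⟨u', Subgroup.mem_inf.2 ⟨hu', h3⟩⟩), rfl⟩
      have hW2 : 2 ≤ Nat.card W := by
        have := (Subgroup.one_lt_card_iff_ne_bot (H := W)).2 hWbot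
        omega
      have hU'pos : 0 < Nat.card U' := Nat.card_pos
      have hU'n : Nat.card U' ≤ n := by
        nlinarith
      obtain ⟨L', hL'1, hL'2⟩ := ih U' hU'n hU'inv
      -- the new factor
      have hc4 : ∀ a : A, (1 + (kvKer φ W).index * (if a ∈ kvKer φ W then 0 else 1)) *
          Nat.card ↥(W ⊓ kvFix φ a) ≤ Nat.card W := by
        intro a
        by_cases ha : a ∈ kvKer φ W
        · rw [if_pos ha, mul_zero, add_zero, one_mul]
          exact Subgroup.card_le_of_le inf_le_left
        · rw [if_neg ha, mul_one]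
          have h1 : W ⊓ kvFix φ a = ⊥ := (hdich a).resolve_right ha
          rw [h1, Subgroup.card_bot, mul_one]
          -- orbit count
          obtain ⟨w₀, hw₀, hw₀1⟩ := (Subgroup.ne_bot_iff_exists_ne_one (H := W)).1 hWbot |>.imp
            (fun w h => h) |> fun ⟨w, h⟩ => (⟨(w : Q), w.2, fun hc => h (Subtype.ext hc)⟩ :
              ∃ w₀ : Q, w₀ ∈ W ∧ w₀ ≠ 1)
          have hstab : ∀ c : A, φ c w₀ = w₀ → c ∈ kvKer φ W := by
            intro c hc
            rcases hdich c with h | h
            · exfalso
              have : w₀ ∈ W ⊓ kvFix φ c := Subgroup.mem_inf.2 ⟨hw₀, hc⟩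
              rw [h, Subgroup.mem_bot] at this
              exact hw₀1 this
            · exact h
          let g : A ⧸ kvKer φ W → W := Quotient.lift
            (fun c : A => (⟨φ c w₀, hWinv c w₀ hw₀⟩ : W)) (by
              intro c d hcd
              have h2 : c⁻¹ * d ∈ kvKer φ W := QuotientGroup.leftRel_apply.1 hcd
              have h3 := h2 w₀ hw₀
              apply Subtype.ext
              show φ c w₀ = φ d w₀
              have h4 : d = c * (c⁻¹ * d) := by rw [mul_inv_cancel_left]
              rw [h4, map_mul, MulAut.mul_apply, h3])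
          have hg : ∀ c : A, g (QuotientGroup.mk c) = ⟨φ c w₀, hWinv c w₀ hw₀⟩ := fun c => rfl
          let g' : Option (A ⧸ kvKer φ W) → W := fun o => match o with
            | none => 1
            | some q => g q
          have hg'inj : Function.Injective g' := by
            intro o₁ o₂ h
            match o₁, o₂, h with
            | none, none, _ => rfl
            | none, some q, h =>
              exfalso
              induction q using QuotientGroup.induction_on with
              | H c =>
                have h5 : (1 : W) = g (QuotientGroup.mk c) := h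
                rw [hg] at h5
                have h6 : (1 : Q) = φ c w₀ := congrArg Subtype.val h5
                have h7 : φ c w₀ = φ c 1 := by rw [map_one, ← h6]
                exact hw₀1 ((φ c).injective h7)
            | some q, none, h =>
              exfalso
              induction q using QuotientGroup.induction_on with
              | H c =>
                have h5 : g (QuotientGroup.mk c) = (1 : W) := h
                rw [hg] at h5
                have h6 : φ c w₀ = (1 : Q) := congrArg Subtype.val h5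
                have h7 : φ c w₀ = φ c 1 := by rw [map_one, h6]
                exact hw₀1 ((φ c).injective h7)
            | some q₁, some q₂, h =>
              congr 1
              induction q₁ using QuotientGroup.induction_on with
              | H c =>
                induction q₂ using QuotientGroup.induction_on with
                | H d =>
                  have h5 : g (QuotientGroup.mk c) = g (QuotientGroup.mk d) := h
                  rw [hg, hg] at h5
                  have h6 : φ c w₀ = φ d w₀ := congrArg Subtype.val h5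
                  apply QuotientGroup.eq.2
                  apply hstab
                  rw [map_mul, MulAut.mul_apply, ← h6, ← MulAut.mul_apply, ← map_mul,
                    inv_mul_cancel, map_one, MulAut.one_apply]
          have h8 := Nat.card_le_card_of_injective g' hg'inj
          rw [Finite.card_option, ← Subgroup.index_eq_card] at h8
          omega
      refine ⟨kvKer φ W :: L', ?_, ?_⟩
      · intro a ha u hu
        obtain ⟨w, hw, u', hu', rfl⟩ := hdec u hu
        have h1 : a ∈ kvKer φ W := ha _ (List.mem_cons_self)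
        have h2 : ∀ K ∈ L', a ∈ K := fun K hK => ha K (List.mem_cons_of_mem _ hK)
        rw [map_mul, h1 w hw, hL'1 a h2 u' hu']
      · intro a
        have h1 : kvWn (kvKer φ W :: L') a =
            (1 + (kvKer φ W).index * (if a ∈ kvKer φ W then 0 else 1)) * kvWn L' a := by
          simp only [kvWn, List.map_cons, List.prod_cons]
        rw [h1]
        calc (1 + (kvKer φ W).index * (if a ∈ kvKer φ W then 0 else 1)) * kvWn L' a *
              Nat.card ↥(U ⊓ kvFix φ a)
            ≤ (1 + (kvKer φ W).index * (if a ∈ kvKer φ W then 0 else 1)) * kvWn L' a *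
              (Nat.card ↥(W ⊓ kvFix φ a) * Nat.card ↥(U' ⊓ kvFix φ a)) :=
              Nat.mul_le_mul_left _ (hc2 a)
          _ = ((1 + (kvKer φ W).index * (if a ∈ kvKer φ W then 0 else 1)) *
              Nat.card ↥(W ⊓ kvFix φ a)) * (kvWn L' a * Nat.card ↥(U' ⊓ kvFix φ a)) := by ring
          _ ≤ Nat.card W * Nat.card U' := Nat.mul_le_mul (hc4 a) (hL'2 a)
          _ ≤ Nat.card U := hc1

/-- The weights of a coprime abelian operator group on an elementary abelian group. -/
theorem kv_weights [Finite A] [Finite Q] (φ : A →* MulAut Q) (p : ℕ) [hp : Fact p.Prime]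
    (hexp : ∀ v : Q, v ^ p = 1) (hcop : (Nat.card A).Coprime p) :
    ∃ L : List (Subgroup A), (∀ a : A, (∀ K ∈ L, a ∈ K) → ∀ u : Q, φ a u = u) ∧
      ∀ a : A, kvWn L a * Nat.card ↥(kvFix φ a) ≤ Nat.card Q := by
  obtain ⟨L, h1, h2⟩ := kv_weights_aux φ p hexp hcop (Nat.card (⊤ : Subgroup Q)) ⊤ le_rfl
    (fun _ _ _ => Subgroup.mem_top _)
  refine ⟨L, fun a ha u => h1 a ha u (Subgroup.mem_top u), fun a => ?_⟩
  have := h2 a
  rwa [top_inf_eq, Subgroup.card_top] at this

end KvModule

end Cfsg.Agent.Lib.helper2
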