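import Mathlib
import Cfsg.Prelude.Def_Characters
import Cfsg.Agent.Lib.helper2.KvC
import Cfsg.Agent.Lib.helper2.KvD
import Cfsg.Agent.Lib.helper2.CharNat
import Cfsg.Agent.Lib.Helper24.AFT1
import Cfsg.Agent.Lib.Helper25.CharAbelian

/-!
The lower bound for the weighted square sum of the values of a character on the elements
`v ^ i * c` with `i ≠ 0`.
-/

set_option autoImplicit false

namespace Cfsg.Agent.Lib.helper2

open scoped ComplexConjugate
open Cfsg.Agent.Lib.Helper24 Cfsg.Agent.Lib.Helper25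

theorem kv_mem_foldr_inf {A : Type*} [Group A] (L : List (Subgroup A)) (a : A) :
    a ∈ L.foldr (· ⊓ ·) ⊤ ↔ ∀ K ∈ L, a ∈ K := by
  induction L with
  | nil => simp
  | cons K L ih =>
    rw [List.foldr_cons, Subgroup.mem_inf, ih]
    simp

theorem kv_char_coeff_int {P : Type*} [CommGroup P] [Fintype P] (g : P → ℂ)
    (hg : Cfsg.IsCharacter P g) (μ : P →* ℂˣ) :
    ∃ n : ℤ, (Nat.card P : ℂ)⁻¹ * ∑ x : P, g x * conj (kvEv μ x) = (n : ℂ) := by
  obtain ⟨d, σ, rfl⟩ := hg
  obtain ⟨m, hm⟩ := classInner_char_irr_nat σ (afLin μ)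
  refine ⟨(m : ℤ), ?_⟩
  rw [Int.cast_natCast, ← hm]
  rfl

theorem kv_T_bound {X : Type*} [Group X] {C₀ : Type*} [CommGroup C₀] [Fintype C₀] (p : ℕ)
    [Fact p.Prime] (ψ : Multiplicative (ZMod p) × C₀ →* X) (χ : X → ℂ)
    (hχ : Cfsg.IsCharacter X χ) (L : List (Subgroup C₀))
    (hL : ∀ a : C₀, (∀ K ∈ L, a ∈ K) → a = 1) (W₀ : C₀ → ℝ)
    (hW : ∀ c : C₀, (kvWn L c : ℝ) ≤ W₀ c)
    (hne : χ (ψ (Multiplicative.ofAdd (1 : ZMod p), 1)) ≠ 0) :
    ((p : ℝ) - 1) * (Fintype.card C₀ : ℝ) ^ 2 ≤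
      ∑ x : Multiplicative (ZMod p) × C₀,
        (if x.1 = 1 then 0 else W₀ x.2 * ‖χ (ψ x)‖ ^ 2) := by
  classical
  set P := Multiplicative (ZMod p) × C₀ with hP
  haveI : Fintype (P →* ℂˣ) := Fintype.ofFinite _
  obtain ⟨b, hb⟩ := kv_inversion (fun x : P => χ (ψ x))
    (fun μ => kv_char_coeff_int _ (isCharacter_comp_hom hχ ψ) μ)
  let fs : P →* C₀ := MonoidHom.snd _ _
  let ff : P →* Multiplicative (ZMod p) := MonoidHom.fst _ _
  have hfs : Function.Surjective fs := fun c => ⟨(1, c), rfl⟩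
  have hff : Function.Surjective ff := fun i => ⟨(i, 1), rfl⟩
  set x₀ : P := (Multiplicative.ofAdd (1 : ZMod p), 1) with hx₀
  have hH : (L.map (Subgroup.comap fs)).foldr (· ⊓ ·) ⊤ = fs.ker := by
    ext x
    rw [kv_mem_foldr_inf, MonoidHom.mem_ker]
    constructor
    · intro h
      apply hL
      intro K hK
      have := h (Subgroup.comap fs K) (List.mem_map.2 ⟨K, hK, rfl⟩)
      exact this
    · intro h K' hK'
      obtain ⟨K, -, rfl⟩ := List.mem_map.1 hK'
      rw [Subgroup.mem_comap, h]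
      exact K.one_mem
  have hWle : ∀ x : P, kvW (L.map (Subgroup.comap fs)) x ≤ W₀ x.2 := by
    intro x
    refine le_trans (le_of_eq ?_) (hW x.2)
    unfold kvW kvWn
    rw [List.map_map, Nat.cast_list_prod, List.map_map]
    congr 1
    apply List.map_congr_left
    intro K _
    simp only [Function.comp_apply]
    rw [Subgroup.index_comap_of_surjective K hfs]
    by_cases h : x.2 ∈ K
    · have h' : x ∈ Subgroup.comap fs K := h
      rw [if_pos h, if_pos h']
      simp
    · have h' : x ∉ Subgroup.comap fs K := h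
      rw [if_neg h, if_neg h']
      simp
  have hsep : ∀ l : P →* ℂˣ, (∀ x ∈ ff.ker, l x = 1) → l x₀ = 1 → l = 1 := by
    intro l h1 h2
    ext x
    obtain ⟨i, c⟩ := x
    have h3 : ((i, c) : P) = x₀ ^ (Multiplicative.toAdd i).val * (1, c) := by
      rw [hx₀, Prod.pow_mk, one_pow, Prod.mk_mul_mk, mul_one, one_mul, ← ofAdd_nsmul]
      congr 1
      rw [nsmul_eq_mul, mul_one, ZMod.natCast_zmod_val]
      rfl
    rw [h3, map_mul, map_pow, h2, one_pow, one_mul, h1 (1, c) (by rw [MonoidHom.mem_ker]; rfl)]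
    rfl
  have hne' : kvF kvEv b x₀ ≠ 0 := by
    rw [← hb x₀]
    exact hne
  have hmain := kv_main (L.map (Subgroup.comap fs)) ff.ker fs.ker hH (fun x => W₀ x.2) hWle b x₀
    (by rw [MonoidHom.mem_ker]; rfl) hsep hne'
  have hi1 : ff.ker.index = p := by
    rw [Subgroup.index_ker, MonoidHom.range_eq_top.2 hff, Subgroup.card_top,
      Nat.card_eq_fintype_card, Fintype.card_multiplicative, ZMod.card]
  have hi2 : fs.ker.index = Fintype.card C₀ := by
    rw [Subgroup.index_ker, MonoidHom.range_eq_top.2 hfs, Subgroup.card_top,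
      Nat.card_eq_fintype_card]
  have hcP : Fintype.card P = p * Fintype.card C₀ := by
    show Fintype.card (Multiplicative (ZMod p) × C₀) = p * Fintype.card C₀
    rw [Fintype.card_prod, Fintype.card_multiplicative, ZMod.card]
  rw [hi1, hi2, hcP] at hmain
  have hp0 : (0 : ℝ) < (p : ℝ) := by
    exact_mod_cast (Fact.out : p.Prime).pos
  have h5 : (p : ℝ) * (((p : ℝ) - 1) * (Fintype.card C₀ : ℝ) ^ 2) ≤
      (p : ℝ) * ∑ x : P, (if x.1 = 1 then 0 else W₀ x.2 * ‖χ (ψ x)‖ ^ 2) := by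
    refine le_trans (le_of_eq ?_) (le_trans hmain (le_of_eq ?_))
    · push_cast
      ring
    · rw [Finset.mul_sum]
      apply Finset.sum_congr rfl
      intro x _
      rw [← hb x]
      by_cases h : x.1 = 1
      · have h' : x ∈ ff.ker := h
        rw [if_pos h, if_pos h']
        ring
      · have h' : x ∉ ff.ker := h
        rw [if_neg h, if_neg h']
        ring
  exact le_of_mul_le_mul_left h5 hp0

end Cfsg.Agent.Lib.helper2
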