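import Mathlib
import Cfsg.Agent.Lib.helper2.KvE
import Cfsg.Agent.Lib.Helper25.KnorrBound
import Cfsg.Agent.S0133

/-!
The abelian-stabilizer criterion for the `k(GV)` problem.
-/

set_option autoImplicit false

namespace Cfsg.Agent.Lib.helper2

open scoped ComplexConjugate
open Cfsg.Agent.Lib.Helper24 Cfsg.Agent.Lib.Helper25

/-- A homomorphism from the cyclic group of order `p` attached to an element of order dividing `p`. -/
theorem kv_zmodHom {X : Type*} [Group X] (p : ℕ) [NeZero p] (v : X) (hv : v ^ p = 1) :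
    ∃ f : Multiplicative (ZMod p) →* X, ∀ i : ZMod p, f (Multiplicative.ofAdd i) = v ^ i.val := by
  refine ⟨MonoidHom.mk' (fun i => v ^ (Multiplicative.toAdd i).val) ?_, fun i => rfl⟩
  intro a b
  show v ^ (Multiplicative.toAdd (a * b)).val = _
  rw [toAdd_mul, ZMod.val_add, ← pow_add, ← pow_eq_pow_mod _ hv]

theorem kv_centralizer_le {X : Type*} [Group X] [Finite X] (p : ℕ) [hp : Fact p.Prime]
    (V : Subgroup X) [V.Normal] (hVab : ∀ a ∈ V, ∀ b ∈ V, a * b = b * a)
    (hidx : ¬ p ∣ V.index) (G : Subgroup X) (hGV : Subgroup.IsComplement' V G) (v : X)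
    (hv : v ∈ V) (hvp : v ^ p = 1)
    (hab : ∀ a ∈ G ⊓ Subgroup.centralizer ({v} : Set X),
      ∀ b ∈ G ⊓ Subgroup.centralizer ({v} : Set X), a * b = b * a)
    (k : ℕ) (hk : ¬ p ∣ k) (c : X) (hc : c ∈ G ⊓ Subgroup.centralizer ({v} : Set X)) :
    Nat.card (Subgroup.centralizer ({v ^ k * c} : Set X)) ≤
      Nat.card {u : V // c * (u : X) * c⁻¹ = u} *
        Nat.card ↥(G ⊓ Subgroup.centralizer ({v} : Set X)) := by
  have hcG : c ∈ G := (Subgroup.mem_inf.1 hc).1
  have hcv : c * v = v * c := Subgroup.mem_centralizer_singleton_iff.1 (Subgroup.mem_inf.1 hc).2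
  have hcomm_vc : Commute v c := hcv.symm
  -- elements commuting with the product commute with both factors
  have hstep1 : ∀ g : X, Commute g (v ^ k * c) → Commute g v ∧ Commute g c := by
    intro g hg
    set m := Nat.card G with hm
    have hcm : c ^ m = 1 := by
      have h1 : (⟨c, hcG⟩ : G) ^ Nat.card G = 1 := pow_card_eq_one'
      have h2 : ((⟨c, hcG⟩ : G) ^ Nat.card G : G).1 = (1 : G).1 := congrArg Subtype.val h1
      rw [Subgroup.coe_pow, Subgroup.coe_one] at h2
      exact h2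
    have hxm : (v ^ k * c) ^ m = v ^ (k * m) := by
      rw [(hcomm_vc.pow_left k).mul_pow, hcm, mul_one, ← pow_mul]
    have hpm : ¬ p ∣ m := by
      rw [hm, ← hGV.symm.index_eq_card]
      exact hidx
    have hcop : (k * m).Coprime (orderOf v) := by
      have h1 : orderOf v ∣ p := orderOf_dvd_of_pow_eq_one hvp
      have h2 : (k * m).Coprime p := by
        rw [Nat.coprime_comm, hp.out.coprime_iff_not_dvd]
        intro h
        rcases hp.out.dvd_mul.1 h with h | h
        · exact hk h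
        · exact hpm h
      exact Nat.Coprime.coprime_dvd_right h1 h2
    obtain ⟨j, hj⟩ := exists_pow_eq_self_of_coprime hcop
    have h3 : Commute g v := by
      have := (hg.pow_right m).pow_right j
      rwa [hxm, hj] at this
    refine ⟨h3, ?_⟩
    have h4 : c = (v ^ k)⁻¹ * (v ^ k * c) := by rw [inv_mul_cancel_left]
    rw [h4]
    exact ((h3.pow_right k).inv_right).mul_right hg
  rw [← Nat.card_prod]
  apply Nat.card_le_card_of_surjective
    (fun z : {u : V // c * (u : X) * c⁻¹ = u} × ↥(G ⊓ Subgroup.centralizer ({v} : Set X)) =>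
      (⟨((z.1 : V) : X) * (z.2 : X), by
        rw [Subgroup.mem_centralizer_singleton_iff]
        have hu : Commute ((z.1 : V) : X) v := hVab _ (z.1 : V).2 _ hv
        have hu2 : Commute ((z.1 : V) : X) c := by
          have := z.1.2
          show ((z.1 : V) : X) * c = c * ((z.1 : V) : X)
          calc ((z.1 : V) : X) * c = (c * ((z.1 : V) : X) * c⁻¹) * c := by rw [this]
            _ = c * ((z.1 : V) : X) := by group
        have hd : Commute (z.2 : X) v :=
          (Subgroup.mem_centralizer_singleton_iff.1 (Subgroup.mem_inf.1 z.2.2).2)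
        have hd2 : Commute (z.2 : X) c := hab _ z.2.2 _ hc
        have h1 : Commute (((z.1 : V) : X) * (z.2 : X)) (v ^ k * c) :=
          ((hu.pow_right k).mul_right hu2).mul_left ((hd.pow_right k).mul_right hd2)
        exact h1.eq⟩ : Subgroup.centralizer ({v ^ k * c} : Set X)))
  rintro ⟨g, hg⟩
  rw [Subgroup.mem_centralizer_singleton_iff] at hg
  obtain ⟨hgv, hgc⟩ := hstep1 g hg
  obtain ⟨⟨u, d⟩, hud⟩ := hGV.2 g
  simp only at hud
  have hu : Commute (u : X) v := hVab _ u.2 _ hv
  have hd : Commute (d : X) v := by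
    have h1 : (d : X) = (u : X)⁻¹ * g := by rw [← hud, inv_mul_cancel_left]
    rw [h1]
    exact hu.inv_left.mul_left hgv
  have hdC : (d : X) ∈ G ⊓ Subgroup.centralizer ({v} : Set X) :=
    Subgroup.mem_inf.2 ⟨d.2, Subgroup.mem_centralizer_singleton_iff.2 hd.eq⟩
  have hd2 : Commute (d : X) c := hab _ hdC _ hc
  have hu2 : Commute (u : X) c := by
    have h1 : (u : X) = g * (d : X)⁻¹ := by rw [← hud, mul_inv_cancel_right]
    rw [h1]
    exact hgc.mul_left hd2.inv_left
  refine ⟨(⟨u, ?_⟩, ⟨d, hdC⟩), Subtype.ext hud⟩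
  rw [← hu2.eq, mul_inv_cancel_right]

set_option maxHeartbeats 1600000 in
/-- The abelian-stabilizer criterion for the `k(GV)` problem. -/
theorem kv_class_number_le {X : Type*} [Group X] [Finite X] (p : ℕ) [Fact p.Prime]
    (V : Subgroup X) [V.Normal] (hVexp : ∀ v ∈ V, v ^ p = 1) (hidx : ¬ p ∣ V.index)
    (hself : Subgroup.centralizer (V : Set X) = V) (G : Subgroup X)
    (hGV : Subgroup.IsComplement' V G) (v : X) (hv : v ∈ V)
    (hab : ∀ a ∈ G ⊓ Subgroup.centralizer ({v} : Set X),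
      ∀ b ∈ G ⊓ Subgroup.centralizer ({v} : Set X), a * b = b * a) :
    Nat.card (ConjClasses X) ≤ Nat.card V := by
  classical
  haveI := Fintype.ofFinite X
  haveI : Fintype (Cfsg.IrrCharacter X) := Fintype.ofFinite _
  have hp := (Fact.out : p.Prime)
  have hVab : ∀ a ∈ V, ∀ b ∈ V, a * b = b * a := by
    intro a ha b hb
    have h1 : a ∈ Subgroup.centralizer (V : Set X) := by rw [hself]; exact ha
    exact (Subgroup.mem_centralizer_iff.1 h1 b hb).symm
  have hVp : IsPGroup p V := by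
    intro u
    refine ⟨1, ?_⟩
    rw [pow_one]
    exact Subtype.ext (by simpa using hVexp u u.2)
  set C := G ⊓ Subgroup.centralizer ({v} : Set X) with hC
  letI instC : CommGroup ↥C := { (inferInstance : Group ↥C) with
    mul_comm := fun a b => Subtype.ext (hab a a.2 b b.2) }
  letI instV : CommGroup ↥V := { (inferInstance : Group ↥V) with
    mul_comm := fun a b => Subtype.ext (hVab a a.2 b b.2) }
  haveI : Fintype ↥C := Fintype.ofFinite _
  let φ : ↥C →* MulAut ↥V := (MulAut.conjNormal (H := V)).comp C.subtype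
  have hφ : ∀ (c : ↥C) (u : ↥V), ((φ c u : ↥V) : X) = (c : X) * (u : X) * (c : X)⁻¹ :=
    fun c u => MulAut.conjNormal_apply (c : X) u
  have hexp : ∀ q : ↥V, q ^ p = 1 := by
    intro q
    exact Subtype.ext (by simpa using hVexp q q.2)
  have hcop : (Nat.card ↥C).Coprime p := by
    rw [Nat.coprime_comm, hp.coprime_iff_not_dvd]
    intro h
    apply hidx
    rw [hGV.symm.index_eq_card]
    exact dvd_trans h (Subgroup.card_dvd_of_le inf_le_left)
  obtain ⟨L, hL1, hL2⟩ := kv_weights φ p hexp hcop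
  have hL : ∀ a : ↥C, (∀ K ∈ L, a ∈ K) → a = 1 := by
    intro a ha
    have h1 := hL1 a ha
    have h2 : (a : X) ∈ Subgroup.centralizer (V : Set X) := by
      rw [Subgroup.mem_centralizer_iff]
      intro u hu
      have h3 := hφ a ⟨u, hu⟩
      rw [h1 ⟨u, hu⟩] at h3
      simp only at h3
      calc u * (a : X) = ((a : X) * u * (a : X)⁻¹) * (a : X) := by rw [← h3]
        _ = (a : X) * u := by group
    rw [hself] at h2
    have h4 : (a : X) ∈ V ⊓ G := Subgroup.mem_inf.2 ⟨h2, (Subgroup.mem_inf.1 a.2).1⟩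
    rw [hGV.disjoint.eq_bot, Subgroup.mem_bot] at h4
    exact Subtype.ext h4
  let W₀ : ↥C → ℝ := fun c => (Nat.card V : ℝ) / (Nat.card ↥(kvFix φ c) : ℝ)
  have hFixpos : ∀ c : ↥C, (0 : ℝ) < (Nat.card ↥(kvFix φ c) : ℝ) := fun c => by
    exact_mod_cast Nat.card_pos
  have hW : ∀ c : ↥C, (kvWn L c : ℝ) ≤ W₀ c := by
    intro c
    rw [le_div_iff₀ (hFixpos c)]
    exact_mod_cast hL2 c
  obtain ⟨f₁, hf₁⟩ := kv_zmodHom p v (hVexp v hv)
  have hcomm : ∀ (i : Multiplicative (ZMod p)) (c : ↥C), Commute (f₁ i) (C.subtype c) := by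
    intro i c
    have h1 : f₁ i = v ^ (Multiplicative.toAdd i).val := hf₁ (Multiplicative.toAdd i)
    rw [h1]
    have h2 : Commute v (c : X) :=
      (Subgroup.mem_centralizer_singleton_iff.1 (Subgroup.mem_inf.1 c.2).2).symm
    exact h2.pow_left _
  let ψ : Multiplicative (ZMod p) × ↥C →* X := MonoidHom.noncommCoprod f₁ C.subtype hcomm
  have hψ : ∀ x : Multiplicative (ZMod p) × ↥C,
      ψ x = v ^ (Multiplicative.toAdd x.1).val * (x.2 : X) := by
    intro x
    show f₁ x.1 * C.subtype x.2 = _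
    rw [show f₁ x.1 = v ^ (Multiplicative.toAdd x.1).val from hf₁ (Multiplicative.toAdd x.1)]
    rfl
  have hψ0 : ψ (Multiplicative.ofAdd (1 : ZMod p), 1) = v := by
    rw [hψ]
    simp only [toAdd_ofAdd, OneMemClass.coe_one, mul_one]
    rw [ZMod.val_one_eq_one_mod, Nat.mod_eq_of_lt hp.one_lt, pow_one]
  -- the lower bound for each irreducible character
  have hlow : ∀ χ : Cfsg.IrrCharacter X, ((p : ℝ) - 1) * (Fintype.card ↥C : ℝ) ^ 2 ≤
      ∑ x : Multiplicative (ZMod p) × ↥C,
        (if x.1 = 1 then 0 else W₀ x.2 * ‖(χ : X → ℂ) (ψ x)‖ ^ 2) := by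
    intro χ
    apply kv_T_bound p ψ (χ : X → ℂ) (isCharacter_of_irr χ) L hL W₀ hW
    rw [hψ0]
    exact knb_irr_ne_zero_on_sylow p V hVp hidx hVab χ v hv
  -- the upper bound for the total
  have hupp : ∀ x : Multiplicative (ZMod p) × ↥C,
      (if x.1 = 1 then 0 else W₀ x.2 * ∑ χ : Cfsg.IrrCharacter X, ‖(χ : X → ℂ) (ψ x)‖ ^ 2) ≤
        (if x.1 = 1 then 0 else (Nat.card V : ℝ) * (Fintype.card ↥C : ℝ)) := by
    intro x
    by_cases hx : x.1 = 1
    · rw [if_pos hx, if_pos hx]
    · rw [if_neg hx, if_neg hx, knb_sum_normsq_all, hψ]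
      have hk : ¬ p ∣ (Multiplicative.toAdd x.1).val := by
        intro hdvd
        apply hx
        have h1 : (Multiplicative.toAdd x.1).val = 0 :=
          Nat.eq_zero_of_dvd_of_lt hdvd (ZMod.val_lt _)
        have h2 : Multiplicative.toAdd x.1 = 0 := (ZMod.val_eq_zero _).1 h1
        exact h2
      have h3 := kv_centralizer_le p V hVab hidx G hGV v hv (hVexp v hv) hab
        (Multiplicative.toAdd x.1).val hk (x.2 : X) x.2.2
      have h4 : Nat.card {u : V // (x.2 : X) * (u : X) * (x.2 : X)⁻¹ = u} =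
          Nat.card ↥(kvFix φ x.2) := by
        apply Nat.card_congr
        apply Equiv.subtypeEquivRight
        intro u
        rw [mem_kvFix, Subtype.ext_iff, hφ]
      rw [h4] at h3
      have h5 : (Nat.card (Subgroup.centralizer ({v ^ (Multiplicative.toAdd x.1).val *
          (x.2 : X)} : Set X)) : ℝ) ≤ (Nat.card ↥(kvFix φ x.2) : ℝ) * (Fintype.card ↥C : ℝ) := by
        rw [← Nat.card_eq_fintype_card]
        exact_mod_cast h3
      have h6 : W₀ x.2 * ((Nat.card ↥(kvFix φ x.2) : ℝ) * (Fintype.card ↥C : ℝ)) =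
          (Nat.card V : ℝ) * (Fintype.card ↥C : ℝ) := by
        show (Nat.card V : ℝ) / (Nat.card ↥(kvFix φ x.2) : ℝ) * _ = _
        have := (hFixpos x.2).ne'
        field_simp
      rw [← h6]
      apply mul_le_mul_of_nonneg_left h5
      exact div_nonneg (Nat.cast_nonneg _) (Nat.cast_nonneg _)
  have hcount : ∑ x : Multiplicative (ZMod p) × ↥C,
      (if x.1 = 1 then 0 else (Nat.card V : ℝ) * (Fintype.card ↥C : ℝ)) =
        ((p : ℝ) - 1) * (Fintype.card ↥C : ℝ) * ((Nat.card V : ℝ) * (Fintype.card ↥C : ℝ)) := by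
    rw [Fintype.sum_prod_type]
    have h1 : ∀ i : Multiplicative (ZMod p), ∑ c : ↥C,
        (if ((i, c) : Multiplicative (ZMod p) × ↥C).1 = 1 then (0 : ℝ)
          else (Nat.card V : ℝ) * (Fintype.card ↥C : ℝ)) =
        if i = 1 then 0 else (Fintype.card ↥C : ℝ) * ((Nat.card V : ℝ) * (Fintype.card ↥C : ℝ)) := by
      intro i
      by_cases hi : i = 1
      · simp [hi]
      · simp [hi]
    rw [Finset.sum_congr rfl (fun i _ => h1 i)]
    rw [Finset.sum_ite, Finset.sum_const_zero, zero_add, Finset.sum_const, nsmul_eq_mul]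
    have h2 : (Finset.univ.filter (fun i : Multiplicative (ZMod p) => ¬ i = 1)).card = p - 1 := by
      rw [Finset.filter_not, Finset.card_sdiff_of_subset (Finset.subset_univ _),
        Finset.card_univ, Fintype.card_multiplicative, ZMod.card]
      have : (Finset.univ.filter (fun i : Multiplicative (ZMod p) => i = 1)) = {1} := by
        ext i
        simp
      rw [this, Finset.card_singleton]
    rw [h2, Nat.cast_sub hp.one_lt.le, Nat.cast_one]
    ring
  have hk : Nat.card (ConjClasses X) = Fintype.card (Cfsg.IrrCharacter X) := by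
    rw [← Cfsg.Agent.S0133.result, Nat.card_eq_fintype_card]
  have htotal : (Fintype.card (Cfsg.IrrCharacter X) : ℝ) *
      (((p : ℝ) - 1) * (Fintype.card ↥C : ℝ) ^ 2) ≤
      ((p : ℝ) - 1) * (Fintype.card ↥C : ℝ) * ((Nat.card V : ℝ) * (Fintype.card ↥C : ℝ)) := by
    have h1 := Finset.sum_le_sum (fun χ (_ : χ ∈ (Finset.univ : Finset (Cfsg.IrrCharacter X))) =>
      hlow χ)
    rw [Finset.sum_const, Finset.card_univ, nsmul_eq_mul, Finset.sum_comm] at h1
    have h2 : ∀ x : Multiplicative (ZMod p) × ↥C, ∑ χ : Cfsg.IrrCharacter X,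
        (if x.1 = 1 then 0 else W₀ x.2 * ‖(χ : X → ℂ) (ψ x)‖ ^ 2) =
        (if x.1 = 1 then 0 else W₀ x.2 * ∑ χ : Cfsg.IrrCharacter X, ‖(χ : X → ℂ) (ψ x)‖ ^ 2) := by
      intro x
      by_cases hx : x.1 = 1
      · simp [hx]
      · simp only [if_neg hx, Finset.mul_sum]
    rw [Finset.sum_congr rfl (fun x _ => h2 x)] at h1
    have h3 := Finset.sum_le_sum (fun x (_ : x ∈ (Finset.univ :
      Finset (Multiplicative (ZMod p) × ↥C))) => hupp x)
    rw [hcount] at h3
    exact le_trans h1 h3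
  have hp1 : (0 : ℝ) < (p : ℝ) - 1 := by
    have : (1 : ℝ) < (p : ℝ) := by exact_mod_cast hp.one_lt
    linarith
  have hCpos : (0 : ℝ) < (Fintype.card ↥C : ℝ) := by exact_mod_cast Fintype.card_pos
  have hfin : (Fintype.card (Cfsg.IrrCharacter X) : ℝ) ≤ (Nat.card V : ℝ) := by
    have h1 : (0 : ℝ) < ((p : ℝ) - 1) * (Fintype.card ↥C : ℝ) ^ 2 := by positivity
    have h2 : (Fintype.card (Cfsg.IrrCharacter X) : ℝ) *
        (((p : ℝ) - 1) * (Fintype.card ↥C : ℝ) ^ 2) ≤
        (Nat.card V : ℝ) * (((p : ℝ) - 1) * (Fintype.card ↥C : ℝ) ^ 2) := by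
      refine le_trans htotal (le_of_eq ?_)
      ring
    exact le_of_mul_le_mul_right h2 h1
  rw [hk]
  exact_mod_cast hfin

end Cfsg.Agent.Lib.helper2
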