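import Mathlib
import Cfsg.Agent.Lib.helper2.MI2.Defs
import Cfsg.Agent.Lib.Helper20.MI2F1
import Cfsg.Agent.Lib.Helper20.MI2F3
import Cfsg.Agent.Lib.Helper1.MI2F4
import Cfsg.Agent.Lib.Helper1.MI2F5

/-!
# MI2 assembly, part F: the rank-3 Fisher inequality (generic).  helper2.
-/

set_option autoImplicit false

namespace Cfsg.Agent.Lib.helper2.MI2

open Matrix

theorem allOne_mul_allOne (Δ : Type*) [Fintype Δ] :
    allOne Δ * allOne Δ = (Fintype.card Δ : ℚ) • allOne Δ := by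
  ext i j
  simp [allOne, Matrix.mul_apply]

/-- Rank-3 Fisher inequality: if `G` has rank 3 on `Δ` with strongly regular orbital graph `R` (eigenvalues
`k, θ₁, θ₂`) and `H` is not transitive on `Δ`, then `|G:H| ≥ 1 + min(mult θ₁, mult θ₂)`. -/
theorem fisher3 {G Δ : Type*} [Group G] [MulAction G Δ] [Fintype Δ] [DecidableEq Δ] [Nonempty Δ]
    (R : Δ → Δ → Prop) [DecidableRel R] (hirr : ∀ x, ¬ R x x)
    (h1 : ∀ x y : Δ, ∃ g : G, g • x = y)
    (h2 : ∀ x x' y y' : Δ, R x x' → R y y' → ∃ g : G, g • x = y ∧ g • x' = y')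
    (h3 : ∀ x x' y y' : Δ, x ≠ x' → ¬ R x x' → y ≠ y' → ¬ R y y' → ∃ g : G, g • x = y ∧ g • x' = y')
    (A : Matrix Δ Δ ℚ) (hA : ∀ x y, A x y = if R x y then 1 else 0)
    (k α β γ θ₁ θ₂ : ℚ)
    (hAJ : A * allOne Δ = k • allOne Δ) (hJA : allOne Δ * A = k • allOne Δ)
    (hAA : A * A = α • (1 : Matrix Δ Δ ℚ) + β • A + γ • allOne Δ)
    (hk : k * k = α + β * k + γ * (Fintype.card Δ : ℚ))
    (htr : A.trace = 0) (h12 : θ₁ ≠ θ₂) (hsum : θ₁ + θ₂ = β) (hprod : θ₁ * θ₂ = -α)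
    (H : Subgroup G) (hfin : H.index ≠ 0) (x₀ y₀ : Δ) (hxy : ∀ h ∈ H, h • x₀ ≠ y₀) :
    min ((θ₁ - θ₂ * (Fintype.card Δ : ℚ) - k) / (θ₁ - θ₂))
        ((θ₂ - θ₁ * (Fintype.card Δ : ℚ) - k) / (θ₂ - θ₁)) ≤ (H.index : ℚ) := by
  classical
  let Γ : Set Δ := {δ | ∃ h ∈ H, h • x₀ = δ}
  have hΓ : ∀ h ∈ H, ∀ δ : Δ, h • δ ∈ Γ ↔ δ ∈ Γ := by
    intro h hh δ
    constructor
    · rintro ⟨h', hh', e⟩
      refine ⟨h⁻¹ * h', H.mul_mem (H.inv_mem hh) hh', ?_⟩
      rw [mul_smul, e, inv_smul_smul]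
    · rintro ⟨h', hh', e⟩
      exact ⟨h * h', H.mul_mem hh hh', by rw [mul_smul, e]⟩
  have hx₀ : x₀ ∈ Γ := ⟨1, H.one_mem, one_smul _ _⟩
  have hy₀ : y₀ ∉ Γ := fun ⟨h, hh, e⟩ => hxy h hh e
  obtain ⟨C, hrank, hinv, hnn, hdiag, hconst⟩ := fisher_gram H hfin Γ hΓ
  obtain ⟨r, a, b, hC⟩ := rank3_decomp R h1 h2 h3 C hinv
  have hCeq : C = (r - b) • (1 : Matrix Δ Δ ℚ) + (a - b) • A + b • allOne Δ := by
    ext δ δ'
    rw [hC]
    simp only [Matrix.add_apply, Matrix.smul_apply, Matrix.one_apply, hA, allOne, Matrix.of_apply,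
      smul_eq_mul]
    by_cases hd : δ = δ'
    · subst hd
      simp [hirr]
    · by_cases hR : R δ δ'
      · simp [hd, hR]
      · simp [hd, hR]
  -- the eigenvalue on the all-one vector is positive
  have hCJ : C * allOne Δ = ((r - b) + (a - b) * k + b * (Fintype.card Δ : ℚ)) • allOne Δ := by
    rw [hCeq]
    simp only [Matrix.add_mul, Matrix.smul_mul, Matrix.one_mul, hAJ, allOne_mul_allOne, smul_smul,
      ← add_smul]
  have hc0 : (r - b) + (a - b) * k + b * (Fintype.card Δ : ℚ) ≠ 0 := by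
    have h := congrFun (congrFun hCJ x₀) x₀
    simp only [Matrix.mul_apply, allOne, Matrix.of_apply, mul_one, Matrix.smul_apply, smul_eq_mul] at h
    have h' : (1 : ℚ) ≤ ∑ j, C x₀ j := by
      calc (1 : ℚ) ≤ C x₀ x₀ := hdiag x₀ hx₀
        _ ≤ ∑ j, C x₀ j := Finset.single_le_sum (fun j _ => hnn x₀ j) (Finset.mem_univ x₀)
    rw [h] at h'
    intro h0
    rw [h0] at h'
    norm_num at h'
  have hrankQ : ((C.rank : ℕ) : ℚ) ≤ (H.index : ℚ) := by exact_mod_cast hrank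
  by_cases hc1 : (r - b) + (a - b) * θ₁ ≠ 0
  · obtain ⟨X, P, hPP, hCX, hPtr⟩ := srg_proj A k α β γ θ₁ θ₂ hAJ hJA hAA hk htr h12 hsum hprod
      (r - b) (a - b) b hc0 hc1
    have hP := rank_eq_trace_of_idem P hPP
    have hle : P.rank ≤ C.rank := by
      rw [← hCX, ← hCeq]
      exact Matrix.rank_mul_le_left C X
    have : ((P.rank : ℕ) : ℚ) ≤ (C.rank : ℚ) := by exact_mod_cast hle
    refine le_trans (min_le_left _ _) ?_
    rw [← hPtr, ← hP]
    exact le_trans this hrankQ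
  · by_cases hc2 : (r - b) + (a - b) * θ₂ ≠ 0
    · obtain ⟨X, P, hPP, hCX, hPtr⟩ := srg_proj A k α β γ θ₂ θ₁ hAJ hJA hAA hk htr h12.symm
        (by rw [add_comm]; exact hsum) (by rw [mul_comm]; exact hprod) (r - b) (a - b) b hc0 hc2
      have hP := rank_eq_trace_of_idem P hPP
      have hle : P.rank ≤ C.rank := by
        rw [← hCX, ← hCeq]
        exact Matrix.rank_mul_le_left C X
      have : ((P.rank : ℕ) : ℚ) ≤ (C.rank : ℚ) := by exact_mod_cast hle
      refine le_trans (min_le_right _ _) ?_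
      rw [← hPtr, ← hP]
      exact le_trans this hrankQ
    · exfalso
      have hc1 := not_not.1 hc1
      have hc2 := not_not.1 hc2
      have hab : a - b = 0 := by
        have : (a - b) * (θ₁ - θ₂) = 0 := by linear_combination hc1 - hc2
        rcases mul_eq_zero.1 this with h | h
        · exact h
        · exact absurd (sub_eq_zero.1 h) h12
      have hrb : r - b = 0 := by rw [hab, zero_mul, add_zero] at hc1; exact hc1
      have hall : ∀ δ δ', C δ δ' = C δ δ := by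
        intro δ δ'
        rw [hC, hC]
        have ha : a = b := sub_eq_zero.1 hab
        have hr : r = b := sub_eq_zero.1 hrb
        simp [ha, hr]
      exact hy₀ (hconst hall x₀ hx₀ y₀)

end Cfsg.Agent.Lib.helper2.MI2
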