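import Mathlib
import Cfsg.Agent.Lib.helper2.MI2.Defs
import Cfsg.Agent.S0766

/-!
# Project MI2 (S2142), row T1: transitivity of `Sp_{2m}(2)` on hyperbolic pairs and on nonzero vectors (from S0766).
-/

set_option autoImplicit false

namespace Cfsg.Agent.Lib.helper2.MI2

open Matrix

variable {m : ℕ}

theorem exists_act_pair {x x' y y' : V m} (h : ff x x' = 1) (h' : ff y y' = 1) :
    ∃ g : G m, act g x = y ∧ act g x' = y' := by
  obtain ⟨A, _, hA, hA'⟩ := Cfsg.Agent.S0766.result (F := ZMod 2) m x x' y y' h h'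
  exact ⟨A, hA, hA'⟩

theorem exists_act_eq {x y : V m} (hx : x ≠ 0) (hy : y ≠ 0) : ∃ g : G m, act g x = y := by
  obtain ⟨x', hx'⟩ := exists_ff_eq_one hx
  obtain ⟨y', hy'⟩ := exists_ff_eq_one hy
  obtain ⟨g, hg, _⟩ := exists_act_pair hx' hy'
  exact ⟨g, hg⟩

end Cfsg.Agent.Lib.helper2.MI2
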