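import Mathlib
import Cfsg.Agent.Lib.helper2.MI2.Defs

/-!
# Project MI2 (S2142), row T2: prescribed values of `ff · z` on three independent vectors.
-/

set_option autoImplicit false

namespace Cfsg.Agent.Lib.helper2.MI2

open Matrix

variable {m : ℕ}

/-- `z` with values `(0, 1)` on two independent vectors. -/
theorem mi2t2_pair {v x : V m} (hv : v ≠ 0) (hx : x ≠ 0) (hxv : x ≠ v) :
    ∃ z : V m, ff v z = 0 ∧ ff x z = 1 := by
  obtain ⟨z₁, hz₁⟩ := exists_ff_eq_one hv
  have hx' : x + ff x z₁ • v ≠ 0 := by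
    intro h0
    rcases z2_cases (ff x z₁) with h | h
    · rw [h, zero_smul, add_zero] at h0; exact hx h0
    · rw [h, one_smul] at h0
      apply hxv
      have : x + v + v = 0 + v := by rw [h0]
      rwa [add_assoc, v_add_self, add_zero, zero_add] at this
  obtain ⟨z, hz⟩ := exists_ff_eq_one hx'
  refine ⟨z + ff v z • z₁, ?_, ?_⟩
  · rw [ff_add_right, ff_smul_right, hz₁, mul_one, z2_add_self]
  · rw [ff_add_left, ff_smul_left] at hz
    rw [ff_add_right, ff_smul_right, mul_comm]
    exact hz

theorem exists_ff_triple {v x y : V m} (hv : v ≠ 0) (hx : x ≠ 0) (hy : y ≠ 0) (hxv : x ≠ v) (hyv : y ≠ v)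
    (hyx : y ≠ x) (hyvx : y ≠ v + x) (a b c : ZMod 2) :
    ∃ z : V m, ff v z = a ∧ ff x z = b ∧ ff y z = c := by
  obtain ⟨z₁, hz₁⟩ := exists_ff_eq_one hv
  obtain ⟨z₂, hz₂v, hz₂x⟩ := mi2t2_pair hv hx hxv
  -- the third vector
  have key : ∀ α β : ZMod 2, y + β • x + α • v ≠ 0 := by
    intro α β h0
    have hy' : y = β • x + α • v := by
      have h1 : y + (β • x + α • v) = 0 := by rw [← add_assoc]; exact h0
      have : y + (β • x + α • v) + (β • x + α • v) = 0 + (β • x + α • v) := by rw [h1]
      rwa [add_assoc, v_add_self, add_zero, zero_add] at this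
    rcases z2_cases α with rfl | rfl <;> rcases z2_cases β with rfl | rfl
    · apply hy; rw [hy']; simp
    · apply hyx; rw [hy']; simp
    · apply hyv; rw [hy']; simp
    · apply hyvx; rw [hy']; simp [add_comm]
  obtain ⟨z, hz⟩ := exists_ff_eq_one
    (key (ff y z₁ + ff x z₁ * ff y z₂) (ff y z₂))
  -- `z₃` has values `(0, 0, 1)`
  obtain ⟨z₃, h3v, h3x, h3y⟩ : ∃ z₃ : V m, ff v z₃ = 0 ∧ ff x z₃ = 0 ∧ ff y z₃ = 1 := by
    refine ⟨z + ff v z • z₁ + (ff x z + ff v z * ff x z₁) • z₂, ?_, ?_, ?_⟩
    · simp only [ff_add_right, ff_smul_right, hz₁, hz₂v, mul_one, mul_zero, add_zero]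
      exact z2_add_self _
    · simp only [ff_add_right, ff_smul_right, hz₂x, mul_one]
      generalize ff x z = p; generalize ff v z = q; generalize ff x z₁ = r
      revert p q r; decide
    · simp only [ff_add_left, ff_smul_left] at hz
      simp only [ff_add_right, ff_smul_right]
      generalize ff y z = p at *; generalize ff v z = q at *; generalize ff x z = r at *
      generalize ff y z₁ = s at *; generalize ff x z₁ = t at *; generalize ff y z₂ = u at *
      revert hz; revert p q r s t u; decide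
  refine ⟨a • z₁ + (b + a * ff x z₁) • z₂ +
    (c + a * ff y z₁ + (b + a * ff x z₁) * ff y z₂) • z₃, ?_, ?_, ?_⟩
  · simp only [ff_add_right, ff_smul_right, hz₁, hz₂v, h3v, mul_one, mul_zero, add_zero]
  · simp only [ff_add_right, ff_smul_right, hz₂x, h3x, mul_one, mul_zero, add_zero]
    generalize ff x z₁ = r
    revert a b r; decide
  · simp only [ff_add_right, ff_smul_right, h3y, mul_one]
    generalize ff y z₁ = s; generalize ff x z₁ = t; generalize ff y z₂ = u
    revert a b c s t u; decide

end Cfsg.Agent.Lib.helper2.MI2
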