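import Mathlib
import Cfsg.Agent.Lib.helper2.MI2.Defs
import Cfsg.Agent.Lib.helper2.MI2AsmF
import Cfsg.Agent.Lib.Helper1.MI2S3
import Cfsg.Agent.Lib.Helper13.MI2S1
import Cfsg.Agent.Lib.helper15.MI2S2
import Cfsg.Agent.Lib.helper2.MI2T1
import Cfsg.Agent.Lib.helper2.MI2T2
import Cfsg.Agent.Lib.Helper25.MI2T3

/-!
# MI2 assembly, part I: a subgroup of `Sp_{2m}(2)` that is not transitive on the nonzero vectors has index `≥ bnd m`.
-/

set_option autoImplicit false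

namespace Cfsg.Agent.Lib.helper2.MI2

open Matrix

variable {m : ℕ}

/-- The action of `G m` on the nonzero vectors. -/
instance nzAction (m : ℕ) : MulAction (G m) (NZ m) where
  smul g x := ⟨act g x.1, fun h => x.2 ((act_eq_zero_iff g x.1).1 h)⟩
  one_smul x := Subtype.ext (act_one x.1)
  mul_smul g h x := Subtype.ext (act_mul g h x.1)

theorem nz_smul_val (g : G m) (x : NZ m) : (g • x).1 = act g x.1 := rfl

/-- T3 with its hypotheses discharged. -/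
theorem exists_stab_act' {v x y : V m} (hv : v ≠ 0) (hx0 : x ≠ 0) (hxv : x ≠ v) (hx : ff v x = 0)
    (hy0 : y ≠ 0) (hyv : y ≠ v) (hy : ff v y = 0) :
    ∃ g : G m, act g v = v ∧ act g x = y := by
  refine exists_stab_act ?_ ?_ hv hx0 hxv hx hy0 hyv hy
  · intro v x y hv hx hy hxv hyv hyx hyvx
    exact exists_ff_triple hv hx hy hxv hyv hyx hyvx 0 1 1
  · intro v x hv hx hxv
    have hc := card_ff_pair hv hx (Ne.symm hxv) 0 1
    have hpos : 0 < Nat.card {z : V m | ff v z = 0 ∧ ff x z = 1} := by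
      rw [hc]; exact Nat.pos_of_ne_zero (by positivity)
    obtain ⟨⟨z, hz⟩⟩ := (Nat.card_pos_iff.1 hpos).1
    exact ⟨z, hz⟩

/-- Transitivity on perpendicular pairs of distinct nonzero vectors. -/
theorem exists_act_perp_pair {x x' y y' : V m} (hx : x ≠ 0) (hx' : x' ≠ 0) (hxx' : x ≠ x')
    (h : ff x x' = 0) (hy : y ≠ 0) (hy' : y' ≠ 0) (hyy' : y ≠ y') (h' : ff y y' = 0) :
    ∃ g : G m, act g x = y ∧ act g x' = y' := by
  obtain ⟨g₁, hg₁⟩ := exists_act_eq hx hy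
  have e1 : act g₁ x' ≠ 0 := fun h0 => hx' ((act_eq_zero_iff g₁ x').1 h0)
  have e2 : act g₁ x' ≠ y := by
    rw [← hg₁]
    exact fun h0 => hxx' (act_injective g₁ h0).symm
  have e3 : ff y (act g₁ x') = 0 := by rw [← hg₁, ff_act]; exact h
  obtain ⟨g₂, hg₂, hg₂'⟩ := exists_stab_act' hy e1 e2 e3 hy' (Ne.symm hyy') h'
  exact ⟨g₂ * g₁, by rw [act_mul, hg₁, hg₂], by rw [act_mul, hg₂']⟩

theorem index_ne_zero' (H : Subgroup (G m)) : H.index ≠ 0 := Subgroup.index_ne_zero_of_finite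

/-- Case (I). -/
theorem caseI (hm : 1 ≤ m) (H : Subgroup (G m)) {x₀ y₀ : V m} (hx : x₀ ≠ 0) (hy : y₀ ≠ 0)
    (hxy : ∀ h ∈ H, act h x₀ ≠ y₀) : bnd m ≤ H.index := by
  classical
  obtain ⟨n, rfl⟩ : ∃ n, m = n + 1 := ⟨m - 1, by omega⟩
  obtain ⟨hsq, hAJ, hJA, htr, hcard⟩ := adjM_identities (m := n + 1) hm
    (fun x hx => card_ff_eq hx 1) (fun x y hx hy hxy => card_ff_pair hx hy hxy 1 1)
  have e1 : 2 * (n + 1) - 1 = 2 * n + 1 := by omega
  have e2 : 2 * (n + 1) - 2 = 2 * n := by omega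
  have e3 : n + 1 - 1 = n := by omega
  rw [e1] at hAJ hJA
  rw [e2] at hsq
  set t : ℚ := (2 : ℚ) ^ n with ht
  have htpos : 0 < t := by positivity
  have p1 : (2 : ℚ) ^ (2 * n + 1) = 2 * t ^ 2 := by rw [ht]; ring
  have p2 : (2 : ℚ) ^ (2 * n) = t ^ 2 := by rw [ht]; ring
  have hN : (Fintype.card (NZ (n + 1)) : ℚ) = 4 * t ^ 2 - 1 := by
    rw [hcard, Nat.cast_sub (Nat.one_le_two_pow), Nat.cast_pow, Nat.cast_ofNat, Nat.cast_one, ht]
    ring
  haveI : Nonempty (NZ (n + 1)) := ⟨⟨x₀, hx⟩⟩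
  have key := fisher3 (G := G (n + 1)) (Δ := NZ (n + 1)) (fun x y => ff x.1 y.1 = 1)
    (fun x h => by rw [ff_self] at h; exact zero_ne_one h)
    (fun x y => by
      obtain ⟨g, hg⟩ := exists_act_eq x.2 y.2
      exact ⟨g, Subtype.ext hg⟩)
    (fun x x' y y' h h' => by
      obtain ⟨g, hg, hg'⟩ := exists_act_pair h h'
      exact ⟨g, Subtype.ext hg, Subtype.ext hg'⟩)
    (fun x x' y y' hxx' h hyy' h' => by
      have h0 : ff x.1 x'.1 = 0 := (z2_ne_one _).1 h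
      have h0' : ff y.1 y'.1 = 0 := (z2_ne_one _).1 h'
      obtain ⟨g, hg, hg'⟩ := exists_act_perp_pair x.2 x'.2 (fun e => hxx' (Subtype.ext e)) h0
        y.2 y'.2 (fun e => hyy' (Subtype.ext e)) h0'
      exact ⟨g, Subtype.ext hg, Subtype.ext hg'⟩)
    (adjM (n + 1)) (fun x y => rfl)
    (2 * t ^ 2) (t ^ 2) 0 (t ^ 2) t (-t)
    (by rw [hAJ, p1]) (by rw [hJA, p1])
    (by rw [hsq, p2, smul_add, zero_smul, add_zero])
    (by rw [hN]; ring) htr (by intro h; linarith) (by ring) (by ring)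
    H (index_ne_zero' H) ⟨x₀, hx⟩ ⟨y₀, hy⟩
    (fun h hh e => hxy h hh (congrArg Subtype.val e))
  rw [hN] at key
  have b1 : (t - -t * (4 * t ^ 2 - 1) - 2 * t ^ 2) / (t - -t) = 2 * t ^ 2 - t := by
    field_simp
    ring
  have b2 : (-t - t * (4 * t ^ 2 - 1) - 2 * t ^ 2) / (-t - t) = 2 * t ^ 2 + t := by
    have : (-t - t) ≠ 0 := by linarith
    field_simp
    ring
  rw [b1, b2, min_eq_left (by linarith)] at key
  have hb : ((bnd (n + 1) : ℕ) : ℚ) = 2 * t ^ 2 - t := by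
    unfold bnd
    rw [e3, Nat.cast_mul, Nat.cast_pow, Nat.cast_ofNat, Nat.cast_sub (Nat.one_le_two_pow),
      Nat.cast_pow, Nat.cast_ofNat, Nat.cast_one, ht]
    ring
  rw [← hb] at key
  exact_mod_cast key

end Cfsg.Agent.Lib.helper2.MI2
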