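import Mathlib
import Cfsg.Agent.Lib.helper2.MI2.Defs
import Cfsg.Agent.Lib.helper2.MI2AsmI
import Cfsg.Agent.Lib.Helper29.MI2I1
import Cfsg.Agent.Lib.Helper29.MI2I2
import Cfsg.Agent.Lib.helper23.MI2I3
import Cfsg.Agent.Lib.Helper18.MI2I4
import Cfsg.Agent.Lib.Helper12.MI2I5
import Cfsg.Agent.Lib.Helper18.MI2I6
import Cfsg.Agent.Lib.helper23.MI2D1
import Cfsg.Agent.Lib.Helper20.MI2D2
import Cfsg.Agent.Lib.Helper18.MI2C1

/-!
# MI2 assembly, part II: a subgroup of `Sp_{2m}(2)` without transvections which is not `Full` has index `≥ 2^(2m-1)`.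
-/

set_option autoImplicit false

namespace Cfsg.Agent.Lib.helper2.MI2

open Matrix

variable {m : ℕ}

/-- The orbit of a set of vectors under the stabiliser of `v`. -/
def orbSet (v : V m) (X : Set (V m)) : Set (Set (V m)) :=
  {B : Set (V m) | ∃ g : G m, act g v = v ∧ B = act g '' X}

/-- The index inequality: `|orbit of X_v(H)| * 2^(2m) ≤ |G:H| * |X_v(H)|`. -/
theorem index_ineq (H : Subgroup (G m)) {v : V m} (hv : v ≠ 0) (htv : tv v ∉ H) :
    Nat.card (orbSet v (XA H v)) * 2 ^ (2 * m) ≤ H.index * Nat.card (XA H v) := by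
  have hm : 1 ≤ m := by
    by_contra h
    have : m = 0 := by omega
    subst this
    exact hv (Subsingleton.elim _ _)
  have hQS : Qv v ≤ stabSet v (XA H v) := fun u hu =>
    ⟨Qv_le_Kv v hu, XA_image_of_mem_Qv H hu⟩
  have hHS : H ⊓ Kv v ≤ stabSet v (XA H v) := fun h hh =>
    ⟨hh.2, XA_image_of_mem H hh.1 hh.2⟩
  have h1 := index_ge_of_chain H (Kv v) (stabSet v (XA H v)) (Qv v) hQS (stabSet_le_Kv v _) hHS
  have h2 : Nat.card (orbSet v (XA H v)) = (stabSet v (XA H v)).relIndex (Kv v) :=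
    card_orbit_set v (XA H v)
  have h3 : Nat.card (Qv v) = 2 ^ (2 * m - 1) := card_Qv hv (card_ff_eq hv 0)
  have h4 : Nat.card (XA H v) = 2 * Nat.card ↥(H ⊓ Qv v) := card_XA H hv htv
  have h5 : H.relIndex (Qv v) * Nat.card ↥(H ⊓ Qv v) = Nat.card (Qv v) := by
    have e : Nat.card ↥(H ⊓ Qv v) = Nat.card ↥(H.subgroupOf (Qv v)) := by
      rw [inf_comm]
      exact Nat.card_congr (Subgroup.subgroupOfEquivOfLe inf_le_left).symm.toEquiv |>.trans (by
        rw [Subgroup.inf_subgroupOf_left])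
    rw [e, Subgroup.relIndex, mul_comm]
    exact Subgroup.card_mul_index _
  have e2 : 2 ^ (2 * m) = 2 ^ (2 * m - 1) * 2 := by
    rw [← pow_succ]; congr 1; omega
  calc Nat.card (orbSet v (XA H v)) * 2 ^ (2 * m)
      = (stabSet v (XA H v)).relIndex (Kv v) * (H.relIndex (Qv v) * Nat.card ↥(H ⊓ Qv v)) * 2 := by
        rw [h2, h5, h3, e2, mul_assoc]
    _ = ((stabSet v (XA H v)).relIndex (Kv v) * H.relIndex (Qv v)) * (2 * Nat.card ↥(H ⊓ Qv v)) := by
        ring
    _ ≤ H.index * (2 * Nat.card ↥(H ⊓ Qv v)) := Nat.mul_le_mul_right _ h1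
    _ = H.index * Nat.card (XA H v) := by rw [h4]

/-- `X_v(H)` as a subspace. -/
def XAsub (H : Subgroup (G m)) (v : V m) : Submodule (ZMod 2) (V m) where
  carrier := XA H v
  add_mem' := fun ha hb => XA_add H ha hb
  zero_mem' := XA_zero H v
  smul_mem' := by
    intro c x hx
    rcases z2_cases c with rfl | rfl
    · rw [zero_smul]; exact XA_zero H v
    · rw [one_smul]; exact hx

theorem coe_XAsub (H : Subgroup (G m)) (v : V m) : ((XAsub H v : Submodule (ZMod 2) (V m)) : Set (V m)) = XA H v :=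
  rfl

/-- The orbit of `perp X` is the image of the orbit of `X`. -/
theorem card_orbSet_perp_le (v : V m) (X : Set (V m)) :
    Nat.card (orbSet v (perp X)) ≤ Nat.card (orbSet v X) := by
  have hfin : Finite (orbSet v X) := Set.toFinite _ |>.to_subtype
  refine Nat.card_le_card_of_surjective
    (fun B : orbSet v X => (⟨perp B.1, by
      obtain ⟨g, hg, hB⟩ := B.2
      exact ⟨g, hg, by rw [hB, perp_image]⟩⟩ : orbSet v (perp X))) ?_
  rintro ⟨B, g, hg, rfl⟩
  exact ⟨⟨act g '' X, g, hg, rfl⟩, Subtype.ext (perp_image g X)⟩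

/-- Case (II). -/
theorem caseII (H : Subgroup (G m)) (hN : NoTv H) (hnF : ¬ Full H) : 2 ^ (2 * m - 1) ≤ H.index := by
  classical
  unfold Full at hnF
  push Not at hnF
  obtain ⟨v, w, hvw, hw⟩ := hnF
  have hv : v ≠ 0 := by
    rintro rfl
    apply hw 0
    unfold qe
    rw [sg_zero_left, tvc_zero, mul_one]
    exact H.one_mem
  have hm : 1 ≤ m := by
    by_contra h
    have : m = 0 := by omega
    subst this
    exact hv (Subsingleton.elim _ _)
  have htv : tv v ∉ H := hN v hv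
  set X : Set (V m) := XA H v with hX
  set Y : Set (V m) := perp X with hY
  have hXY : Nat.card X * Nat.card Y = 2 ^ (2 * m) := card_perp (XAsub H v)
  have hP : Nat.card {y : V m | ff v y = 0} = 2 ^ (2 * m - 1) := card_ff_eq hv 0
  -- `X` is a proper subset of `v^⊥`
  have hXlt : Nat.card X < 2 ^ (2 * m - 1) := by
    rw [← hP]
    have hsub : X ⊂ {y : V m | ff v y = 0} := by
      refine ⟨fun x hx => hx.1, fun hsup => ?_⟩
      obtain ⟨_, c, hc⟩ := hsup (show w ∈ {y : V m | ff v y = 0} from hvw)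
      exact hw c hc
    exact Set.ncard_lt_ncard hsub (Set.toFinite _)
  have hXpos : 0 < Nat.card X := by
    haveI : Nonempty X := ⟨⟨0, XA_zero H v⟩⟩
    exact Nat.card_pos
  have e2 : 2 ^ (2 * m) = 2 ^ (2 * m - 1) * 2 := by
    rw [← pow_succ]; congr 1; omega
  have hYgt : 2 < Nat.card Y := by
    by_contra hle
    have hle : Nat.card Y ≤ 2 := by omega
    have : Nat.card X * Nat.card Y < 2 ^ (2 * m - 1) * 2 :=
      lt_of_le_of_lt (Nat.mul_le_mul_left _ hle) (Nat.mul_lt_mul_of_pos_right hXlt (by norm_num))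
    rw [hXY, e2] at this
    exact lt_irrefl _ this
  have h0Y : (0 : V m) ∈ Y := fun x _ => ff_zero_right x
  have hvY : v ∈ Y := fun x hx => by rw [ff_comm]; exact hx.1
  -- a vector of `Y` outside `{0, v}`
  obtain ⟨y₀, hy₀, hy₀0, hy₀v⟩ : ∃ y₀ ∈ Y, y₀ ≠ 0 ∧ y₀ ≠ v := by
    by_contra hno
    push Not at hno
    have hsub : Y ⊆ ({0, v} : Set (V m)) := by
      intro y hy
      by_cases h0 : y = 0
      · left; exact h0
      · right; exact hno y hy h0
    have : Nat.card Y ≤ 2 := by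
      have h1 : Y.ncard ≤ ({0, v} : Set (V m)).ncard := Set.ncard_le_ncard hsub (Set.toFinite _)
      have h2 : ({0, v} : Set (V m)).ncard ≤ 2 := by
        rw [Set.ncard_pair (Ne.symm hv)]
      exact le_trans h1 h2
    omega
  have hvy₀ : ff v y₀ = 0 := hy₀ v (XA_self H v)
  have hcov := cover_count hv Y h0Y hvY hy₀ hy₀0 hy₀v hP
    (fun y hy0 hyv hy => exists_stab_act' hv hy₀0 hy₀v hvy₀ hy0 hyv hy)
  have hle := card_orbSet_perp_le v X
  have hidx := index_ineq H hv htv
  change 2 ^ (2 * m - 1) - 2 ≤ Nat.card (orbSet v Y) * (Nat.card Y - 2) at hcov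
  have hoY : 0 < Nat.card (orbSet v Y) := by
    haveI : Nonempty (orbSet v Y) := ⟨⟨Y, 1, act_one v, by
      have : act (1 : G m) = id := by funext x; exact act_one x
      rw [this, Set.image_id]⟩⟩
    haveI : Finite (orbSet v Y) := Set.toFinite _ |>.to_subtype
    exact Nat.card_pos
  -- arithmetic
  set x := Nat.card X
  set y := Nat.card Y
  set oX := Nat.card (orbSet v X)
  set oY := Nat.card (orbSet v Y)
  set n := H.index
  have hge2 : 2 ≤ 2 ^ (2 * m - 1) := by
    calc 2 = 2 ^ 1 := by norm_num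
      _ ≤ 2 ^ (2 * m - 1) := Nat.pow_le_pow_right (by norm_num) (by omega)
  -- n * x ≥ oX * x * y ⇒ n ≥ oX * y ≥ oY * y = oY * (y - 2) + 2 * oY ≥ 2^(2m-1)
  have h1 : oX * y * x ≤ n * x := by
    calc oX * y * x = oX * (x * y) := by ring
      _ = oX * 2 ^ (2 * m) := by rw [hXY]
      _ ≤ n * x := hidx
  have h2 : oX * y ≤ n := Nat.le_of_mul_le_mul_right h1 hXpos
  have h3 : oY * y ≤ n := le_trans (Nat.mul_le_mul_right _ hle) h2
  have h4 : oY * y = oY * (y - 2) + 2 * oY := by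
    have : y = (y - 2) + 2 := by omega
    conv_lhs => rw [this]
    ring
  omega

end Cfsg.Agent.Lib.helper2.MI2
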