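import Mathlib
import Cfsg.Agent.Lib.helper2.MI2.Defs

/-!
# Project MI2 (S2142), row P1: for `m ≥ 3` there is a vector perpendicular to `v, w` outside `{0, v, w, v + w}`.
-/

set_option autoImplicit false

namespace Cfsg.Agent.Lib.helper2.MI2

open Matrix

variable {m : ℕ}

theorem mi2p1_card_V (m : ℕ) : Fintype.card (V m) = 2 ^ (2 * m) := by
  rw [Fintype.card_fun, ZMod.card, Fintype.card_sum, Fintype.card_fin, two_mul]

theorem exists_third (hm : 3 ≤ m) (v w : V m) :
    ∃ u : V m, ff u v = 0 ∧ ff u w = 0 ∧ u ≠ 0 ∧ u ≠ v ∧ u ≠ w ∧ u ≠ v + w := by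
  classical
  -- a fibre of `u ↦ (ff u v, ff u w)` with more than four elements
  have hcard : 4 * (Finset.univ : Finset (ZMod 2 × ZMod 2)).card
      < (Finset.univ : Finset (V m)).card := by
    rw [Finset.card_univ, Finset.card_univ, mi2p1_card_V, Fintype.card_prod, ZMod.card]
    calc 4 * (2 * 2) = 2 ^ 4 := by norm_num
      _ < 2 ^ (2 * m) := Nat.pow_lt_pow_right (by norm_num) (by omega)
  obtain ⟨p, _, hp⟩ := Finset.exists_lt_card_fiber_of_mul_lt_card_of_maps_to
    (s := (Finset.univ : Finset (V m))) (t := (Finset.univ : Finset (ZMod 2 × ZMod 2)))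
    (f := fun u => (ff u v, ff u w)) (fun _ _ => Finset.mem_univ _) hcard
  set F : Finset (V m) := Finset.univ.filter (fun u => (ff u v, ff u w) = p) with hF
  have hF4 : 4 < F.card := hp
  have hFne : F.Nonempty := by
    rw [← Finset.card_pos]; omega
  obtain ⟨u₀, hu₀⟩ := hFne
  have hu₀' : (ff u₀ v, ff u₀ w) = p := (Finset.mem_filter.1 hu₀).2
  -- translate the fibre into the kernel
  set K : Finset (V m) := F.image (fun u => u + u₀) with hK
  have hKcard : K.card = F.card := by
    apply Finset.card_image_of_injective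
    intro a b hab
    exact add_right_cancel hab
  have hKker : ∀ u ∈ K, ff u v = 0 ∧ ff u w = 0 := by
    intro u hu
    obtain ⟨u', hu', rfl⟩ := Finset.mem_image.1 hu
    have h' : (ff u' v, ff u' w) = p := (Finset.mem_filter.1 hu').2
    rw [← hu₀'] at h'
    have h1 : ff u' v = ff u₀ v := congrArg Prod.fst h'
    have h2 : ff u' w = ff u₀ w := congrArg Prod.snd h'
    rw [ff_add_left, ff_add_left, h1, h2, z2_add_self, z2_add_self]
    exact ⟨rfl, rfl⟩
  -- `K` is not contained in `{0, v, w, v + w}`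
  have hnot : ¬ K ⊆ ({0, v, w, v + w} : Finset (V m)) := by
    intro hsub
    have h1 := Finset.card_le_card hsub
    have h2 : ({0, v, w, v + w} : Finset (V m)).card ≤ 4 := Finset.card_le_four
    omega
  rw [Finset.not_subset] at hnot
  obtain ⟨u, huK, hu⟩ := hnot
  simp only [Finset.mem_insert, Finset.mem_singleton, not_or] at hu
  exact ⟨u, (hKker u huK).1, (hKker u huK).2, hu.1, hu.2.1, hu.2.2.1, hu.2.2.2⟩

end Cfsg.Agent.Lib.helper2.MI2
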