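import Mathlib
import Cfsg.Prelude.Def_Classical
import Cfsg.Agent.Lib.helper2.MI2.Defs
import Cfsg.Agent.Lib.helper2.MI2AsmII
import Cfsg.Agent.Lib.helper4.MI2Z1
import Cfsg.Agent.Lib.helper2.MI2P1
import Cfsg.Agent.Lib.Helper22.MI2P2
import Cfsg.Agent.Lib.Helper26.MI2P3
import Cfsg.Agent.Lib.helper4.MI2O1
import Cfsg.Agent.Lib.Helper11.MI2O2
import Cfsg.Agent.Lib.Helper11.MI2O3
import Cfsg.Agent.Lib.Helper22.MI2O4
import Cfsg.Agent.Lib.Helper18.MI2B2

/-!
# MI2 assembly, last part: the lower bound, the example, and the transfer to `PSp m F`.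
-/

set_option autoImplicit false

namespace Cfsg.Agent.Lib.helper2.MI2

open Matrix

variable {m : ℕ}

theorem bnd_le (hm : 1 ≤ m) : bnd m ≤ 2 ^ (2 * m - 1) := by
  unfold bnd
  have e : 2 * m - 1 = (m - 1) + m := by omega
  rw [e, pow_add]
  exact Nat.mul_le_mul_left _ (Nat.sub_le _ _)

/-- The lower bound for `Sp_{2m}(ZMod 2)`. -/
theorem lower (hm : 3 ≤ m) (H : Subgroup (G m)) (hH : H ≠ ⊤) : bnd m ≤ H.index := by
  by_cases htr : ∀ x y : V m, x ≠ 0 → y ≠ 0 → ∃ h ∈ H, act h x = y
  · have hN : NoTv H := fun v hv htv => hH (eq_top_of_trans_of_tv H htr hv htv)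
    by_cases hF : Full H
    · exact (plane_false hm (exists_third hm)
        (fun v hv => exists_hyp_in_perp (by omega) (fun x y hx hy => exists_act_eq hx hy) hv)
        H hF hN).elim
    · exact le_trans (bnd_le (by omega)) (caseII H hN hF)
  · push Not at htr
    obtain ⟨x, y, hx, hy, hxy⟩ := htr
    exact caseI (by omega) H hx hy hxy

/-- The bound is attained in `Sp_{2m}(ZMod 2)`. -/
theorem attained (hm : 1 ≤ m) : ∃ H : Subgroup (G m), H.index = bnd m :=
  exists_index_bnd hm (card_Phi0_zero hm (card_Q0_zero hm)) Phi0_act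

/-- The statement for a group isomorphic to `G m`, modulo its centre. -/
theorem main_of_equiv {Γ : Type*} [Group Γ] (e : Γ ≃* G m) (hm : 3 ≤ m) :
    (∀ H : Subgroup (Γ ⧸ Subgroup.center Γ), H ≠ ⊤ → bnd m ≤ H.index) ∧
    (∃ H : Subgroup (Γ ⧸ Subgroup.center Γ), H.index = bnd m) := by
  have hcen : Subgroup.center Γ = ⊥ := by
    rw [eq_bot_iff]
    intro z hz
    rw [Subgroup.mem_bot]
    have : e z ∈ Subgroup.center (G m) := by
      rw [Subgroup.mem_center_iff] at hz ⊢
      intro g
      obtain ⟨g', rfl⟩ := e.surjective g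
      rw [← map_mul, ← map_mul, hz g']
    rw [center_eq_bot, Subgroup.mem_bot] at this
    exact e.injective (by rw [this, map_one])
  constructor
  · intro H hH
    have hsurj : Function.Surjective (QuotientGroup.mk' (Subgroup.center Γ)) :=
      QuotientGroup.mk'_surjective _
    set H₁ : Subgroup Γ := H.comap (QuotientGroup.mk' (Subgroup.center Γ)) with hH₁
    have hidx₁ : H₁.index = H.index := Subgroup.index_comap_of_surjective H hsurj
    have hne₁ : H₁ ≠ ⊤ := by
      intro htop
      apply hH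
      rw [eq_top_iff]
      intro x _
      obtain ⟨y, rfl⟩ := hsurj x
      have : y ∈ H₁ := by rw [htop]; exact Subgroup.mem_top y
      exact this
    set H₂ : Subgroup (G m) := H₁.map e.toMonoidHom with hH₂
    have hidx₂ : H₂.index = H₁.index := by
      rw [hH₂, Subgroup.index_map_of_bijective e.bijective]
    have hne₂ : H₂ ≠ ⊤ := by
      intro htop
      apply hne₁
      rw [eq_top_iff]
      intro x _
      have : e x ∈ H₂ := by rw [htop]; exact Subgroup.mem_top _
      obtain ⟨y, hy, hyx⟩ := this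
      have : y = x := e.injective hyx
      rw [← this]; exact hy
    rw [← hidx₁, ← hidx₂]
    exact lower hm H₂ hne₂
  · obtain ⟨H₀, hH₀⟩ := attained (m := m) (by omega)
    refine ⟨(H₀.comap e.toMonoidHom).map (QuotientGroup.mk' (Subgroup.center Γ)), ?_⟩
    rw [Subgroup.index_map_of_bijective, Subgroup.index_comap_of_surjective _ e.surjective, hH₀]
    constructor
    · rw [← MonoidHom.ker_eq_bot_iff, QuotientGroup.ker_mk', hcen]
    · exact QuotientGroup.mk'_surjective _

/-- S2142. -/
theorem main {F : Type*} [Field F] [Fintype F] (hF : Fintype.card F = 2) (m : ℕ) (hm : 3 ≤ m) :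
    (∀ H : Subgroup (Cfsg.PSp m F), H ≠ ⊤ → 2 ^ (m - 1) * (2 ^ m - 1) ≤ H.index) ∧
    (∃ H : Subgroup (Cfsg.PSp m F), H.index = 2 ^ (m - 1) * (2 ^ m - 1)) := by
  obtain ⟨e⟩ := exists_mulEquiv hF m
  exact main_of_equiv e hm

end Cfsg.Agent.Lib.helper2.MI2
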