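import Mathlib
import Cfsg.Agent.Lib.helper2.MIDefs
import Cfsg.Agent.Lib.Lead.SLn

/-!
# Project MI: glue — generation by transvections, and point transitivity from a Fisher-type lemma
-/

set_option autoImplicit false
set_option linter.unusedSectionVars false
set_option linter.unusedVariables false

namespace Cfsg.Agent.Lib.helper2.MI

open Matrix

variable {n : ℕ} {F : Type*} [Field F]

theorem vecMulVec_single_single (i j : Fin n) (c : F) :
    Matrix.vecMulVec (Pi.single i c) (Pi.single j (1 : F)) = Matrix.single i j c := by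
  ext k l
  simp only [Matrix.vecMulVec_apply, Matrix.single_apply, Pi.single_apply]
  by_cases h1 : k = i <;> by_cases h2 : l = j
  · subst h1; subst h2; simp
  · subst h1; simp [h2, Ne.symm h2]
  · subst h2; simp [h1, Ne.symm h1]
  · simp [h1, h2, Ne.symm h1]

theorem single_dot_single_ne (i j : Fin n) (hij : i ≠ j) (c : F) :
    (Pi.single j (1 : F) : Fin n → F) ⬝ᵥ (Pi.single i c) = 0 := by
  rw [single_dotProduct, one_mul, Pi.single_apply, if_neg (Ne.symm hij)]

theorem transvection_eq_tv (i j : Fin n) (hij : i ≠ j) (c : F) :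
    SpecialLinearGroup.transvection hij c =
      tv (Pi.single i c) (Pi.single j (1 : F)) (single_dot_single_ne i j hij c) := by
  apply Subtype.ext
  change Matrix.transvection i j c = tvM _ _
  unfold tvM Matrix.transvection
  rw [vecMulVec_single_single]

/-- a subgroup of `SL_n` containing all transvections is everything. -/
theorem eq_top_of_all_tv (hn : 2 ≤ n) (H : Subgroup (SpecialLinearGroup (Fin n) F))
    (h : ∀ (v φ : Fin n → F) (hφ : φ ⬝ᵥ v = 0), tv v φ hφ ∈ H) : H = ⊤ := by
  have : Nontrivial (Fin n) := Fin.nontrivial_iff_two_le.mpr hn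
  rw [eq_top_iff, ← Cfsg.Agent.Lib.Lead.SL_closure_transvections, Subgroup.closure_le]
  rintro _ ⟨i, j, hij, c, rfl⟩
  rw [transvection_eq_tv]
  exact h _ _ _

end Cfsg.Agent.Lib.helper2.MI
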