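import Mathlib
import Cfsg.Agent.Lib.helper2.MIDefs

/-!
# Project MI: small linear algebra lemmas (shared)
-/

set_option autoImplicit false
set_option linter.unusedSectionVars false
set_option linter.unusedVariables false

namespace Cfsg.Agent.Lib.helper2.MI

open Matrix

variable {n : ℕ} {F : Type*} [Field F]

/-- the linear functional `φ ↦ φ ⬝ᵥ v`. -/
def dotL (v : Fin n → F) : (Fin n → F) →ₗ[F] F where
  toFun φ := φ ⬝ᵥ v
  map_add' := fun a b => add_dotProduct a b v
  map_smul' := fun c a => by simp [smul_dotProduct]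

@[simp] theorem dotL_apply (v φ : Fin n → F) : dotL v φ = φ ⬝ᵥ v := rfl

theorem dotL_surjective (v : Fin n → F) (hv : v ≠ 0) : Function.Surjective (dotL v) := by
  obtain ⟨i, hi⟩ := Function.ne_iff.mp hv
  intro c
  refine ⟨Pi.single i (c * (v i)⁻¹), ?_⟩
  rw [dotL_apply, single_dotProduct, mul_assoc, inv_mul_cancel₀ hi, mul_one]

/-- the hyperplane `v^⊥` has `q^(n-1)` elements. -/
theorem card_perp_vec [Fintype F] (v : Fin n → F) (hv : v ≠ 0) :
    Nat.card {φ : Fin n → F // φ ⬝ᵥ v = 0} = Fintype.card F ^ (n - 1) := by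
  have h1 : Module.finrank F (LinearMap.ker (dotL v)) = n - 1 := by
    have h2 := LinearMap.finrank_range_add_finrank_ker (dotL v)
    rw [LinearMap.range_eq_top.mpr (dotL_surjective v hv), finrank_top, Module.finrank_self,
      Module.finrank_fin_fun] at h2
    omega
  have h3 : Nat.card (LinearMap.ker (dotL v)) = Fintype.card F ^ (n - 1) := by
    rw [Module.natCard_eq_pow_finrank (K := F), h1, Nat.card_eq_fintype_card]
  rw [← h3]
  apply Nat.card_congr
  exact Equiv.subtypeEquivRight (fun φ => by rw [LinearMap.mem_ker, dotL_apply])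

end Cfsg.Agent.Lib.helper2.MI
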