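import Mathlib
import Cfsg.Agent.Lib.helper2.MIDefs
import Cfsg.Agent.Lib.helper2.MILin
import Cfsg.Agent.Lib.helper2.MIGlue
import Cfsg.Agent.Lib.helper2.MIPsi
import Cfsg.Agent.Lib.Helper29.MIIIb
import Cfsg.Agent.Lib.Helper1.MII
import Cfsg.Agent.Lib.Helper11.MID
import Cfsg.Agent.Lib.Helper21.MIC
import Cfsg.Agent.Lib.Helper16.MIS1
import Cfsg.Agent.Lib.Helper16.MIS1b
import Cfsg.Agent.Lib.Helper16.MIW
import Cfsg.Agent.Lib.Helper10.MIF
import Cfsg.Agent.Lib.Helper1.MIIIa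

set_option autoImplicit false
set_option linter.unusedSectionVars false
set_option linter.unusedVariables false

namespace Cfsg.Agent.Lib.helper2.MI

open Matrix
open scoped LinearAlgebra.Projectivization

variable {n : ℕ} {F : Type*} [Field F]

theorem sl_smul_eq (g : SpecialLinearGroup (Fin n) F) (v : Fin n → F) : g • v = g.1 *ᵥ v := by
  rw [Matrix.SpecialLinearGroup.smul_def]
  rfl

theorem ptTrans_of_index_lt [Fintype F] (H : Subgroup (SpecialLinearGroup (Fin n) F))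
    (hlt : H.index < Npts (Fintype.card F) n) : PtTrans H := by
  have hcard : Nat.card (ℙ F (Fin n → F)) = Npts (Fintype.card F) n := by
    rw [Projectivization.card'', Nat.card_eq_fintype_card, Nat.card_eq_fintype_card]
    simp [Npts]
  have h0 : H.index ≠ 0 := Subgroup.index_ne_zero_of_finite
  have hf := Cfsg.Agent.Lib.Helper10.MI.fisher (G := SpecialLinearGroup (Fin n) F) (Δ := ℙ F (Fin n → F)) inferInstance H h0
    (by rw [hcard]; exact hlt)
  intro v v' hv hv'
  obtain ⟨h, hh, hxy⟩ := hf (Projectivization.mk F v hv) (Projectivization.mk F v' hv')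
  rw [Projectivization.smul_mk, Projectivization.mk_eq_mk_iff] at hxy
  obtain ⟨a, ha⟩ := hxy
  refine ⟨h, hh, (a : F), a.ne_zero, ?_⟩
  rw [← sl_smul_eq, ← ha]
  rfl

/-! ### scaling and transport of transvections -/

theorem tv_congr (v φ v' φ' : Fin n → F) (h : φ ⬝ᵥ v = 0) (h' : φ' ⬝ᵥ v' = 0)
    (hM : Matrix.vecMulVec v φ = Matrix.vecMulVec v' φ') : tv v φ h = tv v' φ' h' := by
  apply Subtype.ext
  change tvM v φ = tvM v' φ'
  unfold tvM
  rw [hM]

theorem tv_smul_left (v φ : Fin n → F) (c : F) (h : φ ⬝ᵥ (c • v) = 0) (h' : (c • φ) ⬝ᵥ v = 0) :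
    tv (c • v) φ h = tv v (c • φ) h' := by
  apply tv_congr
  ext i j
  simp [Matrix.vecMulVec_apply]
  ring

theorem inv_val_mul (g : SpecialLinearGroup (Fin n) F) :
    (g⁻¹ : SpecialLinearGroup (Fin n) F).1 * g.1 = 1 :=
  congrArg Subtype.val (inv_mul_cancel g)

theorem val_mul_inv (g : SpecialLinearGroup (Fin n) F) :
    g.1 * (g⁻¹ : SpecialLinearGroup (Fin n) F).1 = 1 :=
  congrArg Subtype.val (mul_inv_cancel g)

/-- transport of transvections along an element of `H`: if `h v = c v'` then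
`tv v' φ' ∈ H ↔ tv v (c⁻¹ • φ' h) ∈ H`. -/
theorem transport (H : Subgroup (SpecialLinearGroup (Fin n) F)) (h : SpecialLinearGroup (Fin n) F)
    (hh : h ∈ H) (v v' : Fin n → F) (c : F) (hc : c ≠ 0) (hv : h.1 *ᵥ v = c • v')
    (φ' : Fin n → F) (hφ' : φ' ⬝ᵥ v' = 0) :
    ∃ hφ : (c⁻¹ • (φ' ᵥ* h.1)) ⬝ᵥ v = 0,
      (tv v' φ' hφ' ∈ H ↔ tv v (c⁻¹ • (φ' ᵥ* h.1)) hφ ∈ H) := by
  have hφ : (c⁻¹ • (φ' ᵥ* h.1)) ⬝ᵥ v = 0 := by
    rw [smul_dotProduct, ← Matrix.dotProduct_mulVec, hv, dotProduct_smul, hφ']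
    simp
  refine ⟨hφ, ?_⟩
  -- h⁻¹ * tv v' φ' * h = tv v (c⁻¹ • φ' h)
  have hinv : (h⁻¹ : SpecialLinearGroup (Fin n) F).1 *ᵥ v' = c⁻¹ • v := by
    have : (h⁻¹ : SpecialLinearGroup (Fin n) F).1 *ᵥ (h.1 *ᵥ v) = v := by
      rw [Matrix.mulVec_mulVec, inv_val_mul, Matrix.one_mulVec]
    rw [hv, Matrix.mulVec_smul] at this
    rw [← this, smul_smul, inv_mul_cancel₀ hc, one_smul]
  obtain ⟨h1, h2⟩ := conj_tv h⁻¹ v' φ' hφ'
  have h3 : tv ((h⁻¹ : SpecialLinearGroup (Fin n) F).1 *ᵥ v')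
      (φ' ᵥ* ((h⁻¹)⁻¹ : SpecialLinearGroup (Fin n) F).1) h1
      = tv v (c⁻¹ • (φ' ᵥ* h.1)) hφ := by
    apply tv_congr
    rw [hinv, inv_inv]
    ext i j
    simp [Matrix.vecMulVec_apply]
    ring
  have h2 : h⁻¹ * tv v' φ' hφ' * h = tv v (c⁻¹ • (φ' ᵥ* h.1)) hφ := by
    have e : h⁻¹ * tv v' φ' hφ' * h = h⁻¹ * tv v' φ' hφ' * (h⁻¹)⁻¹ := by rw [inv_inv]
    rw [e, h2, h3]
  constructor
  · intro hm
    rw [← h2]
    exact H.mul_mem (H.mul_mem (H.inv_mem hh) hm) hh
  · intro hm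
    have : tv v' φ' hφ' = h * (h⁻¹ * tv v' φ' hφ' * h) * h⁻¹ := by group
    rw [this, h2]
    exact H.mul_mem (H.mul_mem hh hm) (H.inv_mem hh)

end Cfsg.Agent.Lib.helper2.MI

namespace Cfsg.Agent.Lib.helper2.MI

open Matrix

variable {n : ℕ} {F : Type*} [Field F]

theorem tv_zero_left (φ : Fin n → F) (h : φ ⬝ᵥ (0 : Fin n → F) = 0) : tv (0 : Fin n → F) φ h = 1 := by
  apply Subtype.ext
  change tvM 0 φ = 1
  unfold tvM
  have : Matrix.vecMulVec (0 : Fin n → F) φ = 0 := by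
    ext i j
    simp [Matrix.vecMulVec_apply]
  rw [this, add_zero]

/-- if `H` is transitive on points and contains all transvections with centre `v`, it contains all
transvections. -/
theorem all_tv_of_full (H : Subgroup (SpecialLinearGroup (Fin n) F)) (htr : PtTrans H)
    (v : Fin n → F) (hv : v ≠ 0)
    (hfull : ∀ (φ : Fin n → F) (h : φ ⬝ᵥ v = 0), tv v φ h ∈ H) :
    ∀ (v' φ' : Fin n → F) (h' : φ' ⬝ᵥ v' = 0), tv v' φ' h' ∈ H := by
  intro v' φ' h'
  by_cases hv' : v' = 0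
  · subst hv'
    rw [tv_zero_left]
    exact H.one_mem
  · obtain ⟨h, hh, c, hc, hvv⟩ := htr v v' hv hv'
    obtain ⟨hφ, hiff⟩ := transport H h hh v v' c hc hvv φ' h'
    exact hiff.mpr (hfull _ hφ)

/-- if `H` is transitive on points and contains no transvection with centre `v`, it contains no
transvection at all. -/
theorem no_tv_of_none (H : Subgroup (SpecialLinearGroup (Fin n) F)) (htr : PtTrans H)
    (v : Fin n → F) (hv : v ≠ 0)
    (hnone : ∀ (φ : Fin n → F) (h : φ ⬝ᵥ v = 0), tv v φ h ∈ H → φ = 0) :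
    ∀ (v' : Fin n → F), v' ≠ 0 → ∀ (φ' : Fin n → F) (h' : φ' ⬝ᵥ v' = 0), tv v' φ' h' ∈ H → φ' = 0 := by
  intro v' hv' φ' h' hm
  obtain ⟨h, hh, c, hc, hvv⟩ := htr v v' hv hv'
  obtain ⟨hφ, hiff⟩ := transport H h hh v v' c hc hvv φ' h'
  have h0 := hnone _ hφ (hiff.mp hm)
  have h1 : φ' ᵥ* h.1 = 0 := by
    rcases smul_eq_zero.mp h0 with h2 | h2
    · exact absurd h2 (inv_ne_zero hc)
    · exact h2
  have h2 : (φ' ᵥ* h.1) ᵥ* (h⁻¹ : SpecialLinearGroup (Fin n) F).1 = φ' := by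
    rw [Matrix.vecMul_vecMul, val_mul_inv, Matrix.vecMul_one]
  rw [← h2, h1, Matrix.zero_vecMul]

/-- `v^⊥` as an additive subgroup. -/
def vperp (v : Fin n → F) : AddSubgroup (Fin n → F) := (dotL v).toAddMonoidHom.ker

theorem mem_vperp (v φ : Fin n → F) : φ ∈ vperp v ↔ φ ⬝ᵥ v = 0 := by
  unfold vperp
  rw [AddMonoidHom.mem_ker]
  rfl

theorem card_vperp [Fintype F] (v : Fin n → F) (hv : v ≠ 0) :
    Nat.card (vperp v) = Fintype.card F ^ (n - 1) := by
  rw [← card_perp_vec v hv]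
  apply Nat.card_congr
  exact Equiv.subtypeEquivRight (fun φ => mem_vperp v φ)

theorem Asub_le_vperp (H : Subgroup (SpecialLinearGroup (Fin n) F)) (v : Fin n → F) :
    Asub H v ≤ vperp v := by
  intro φ hφ
  obtain ⟨h, _⟩ := hφ
  exact (mem_vperp v φ).mpr h

theorem numeric_core (q Q w m sW c : ℕ) (hq : 2 ≤ q) (hQ : 2 ≤ Q) (hw : q < w) (hc : 1 ≤ c)
    (F1 : sW * w ≤ m * q) (F2 : sW * (w - q) = c * (q * Q - q)) (F3 : m * (q - 1) ≤ q * Q - q) :
    c = 1 ∧ q * q ≤ w := by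
  obtain ⟨d, rfl⟩ : ∃ d, w = q + d := ⟨w - q, by omega⟩
  have hd : 1 ≤ d := by omega
  obtain ⟨q', rfl⟩ : ∃ q', q = q' + 1 := ⟨q - 1, by omega⟩
  obtain ⟨Q', rfl⟩ : ∃ Q', Q = Q' + 1 := ⟨Q - 1, by omega⟩
  have e1 : q' + 1 + d - (q' + 1) = d := by omega
  have e2 : (q' + 1) * (Q' + 1) - (q' + 1) = (q' + 1) * Q' := by
    rw [Nat.mul_add, Nat.mul_one, Nat.add_sub_cancel]
  have e3 : q' + 1 - 1 = q' := by omega
  rw [e1, e2] at F2
  rw [e2, e3] at F3
  have hQ' : 1 ≤ Q' := by omega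
  have hq' : 1 ≤ q' := by omega
  have key : c * (q' + 1 + d) * q' ≤ (q' + 1) * d := by
    have h1 : c * ((q' + 1) * Q') * (q' + 1 + d) ≤ m * (q' + 1) * d := by
      calc c * ((q' + 1) * Q') * (q' + 1 + d) = sW * d * (q' + 1 + d) := by rw [F2]
        _ = sW * (q' + 1 + d) * d := by ring
        _ ≤ m * (q' + 1) * d := Nat.mul_le_mul_right _ F1
    have h2 : c * Q' * (q' + 1 + d) ≤ m * d := by
      have : (q' + 1) * (c * Q' * (q' + 1 + d)) ≤ (q' + 1) * (m * d) := by
        calc (q' + 1) * (c * Q' * (q' + 1 + d)) = c * ((q' + 1) * Q') * (q' + 1 + d) := by ring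
          _ ≤ m * (q' + 1) * d := h1
          _ = (q' + 1) * (m * d) := by ring
      exact Nat.le_of_mul_le_mul_left this (by omega)
    have h3 : c * Q' * (q' + 1 + d) * q' ≤ (q' + 1) * Q' * d := by
      calc c * Q' * (q' + 1 + d) * q' ≤ m * d * q' := Nat.mul_le_mul_right _ h2
        _ = m * q' * d := by ring
        _ ≤ (q' + 1) * Q' * d := Nat.mul_le_mul_right _ F3
    have : Q' * (c * (q' + 1 + d) * q') ≤ Q' * ((q' + 1) * d) := by
      calc Q' * (c * (q' + 1 + d) * q') = c * Q' * (q' + 1 + d) * q' := by ring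
        _ ≤ (q' + 1) * Q' * d := h3
        _ = Q' * ((q' + 1) * d) := by ring
    exact Nat.le_of_mul_le_mul_left this (by omega)
  have hc1 : c = 1 := by
    by_contra hne
    have hc2 : 2 ≤ c := by omega
    have : 2 * (q' + 1 + d) * q' ≤ (q' + 1) * d := le_trans (by gcongr) key
    nlinarith
  refine ⟨hc1, ?_⟩
  subst hc1
  nlinarith

/-- `(N - 1)(q - 1) = q^n - q`, in the form needed. -/
theorem index_bound (q n m : ℕ) (hq : 2 ≤ q) (hn : 1 ≤ n) (hm : m < Npts q n) :
    m * (q - 1) ≤ q * q ^ (n - 1) - q := by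
  have hdvd : (q - 1) ∣ (q ^ n - 1) := Nat.sub_one_dvd_pow_sub_one q n
  have hN : Npts q n * (q - 1) = q ^ n - 1 := by
    unfold Npts
    exact Nat.div_mul_cancel hdvd
  have hqn : q * q ^ (n - 1) = q ^ n := by
    rw [← pow_succ']
    congr 1
    omega
  have h1 : (m + 1) * (q - 1) ≤ q ^ n - 1 := by
    rw [← hN]
    exact Nat.mul_le_mul_right _ hm
  have hpos : q ≤ q ^ n := by
    calc q = q ^ 1 := (pow_one q).symm
      _ ≤ q ^ n := Nat.pow_le_pow_right (by omega) hn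
  rw [hqn]
  have h2 : (m + 1) * (q - 1) = m * (q - 1) + (q - 1) := by ring
  omega

end Cfsg.Agent.Lib.helper2.MI

namespace Cfsg.Agent.Lib.helper2.MI

open Matrix

variable {n : ℕ} {F : Type*} [Field F]

theorem rowAct_inv_rowAct (g : SpecialLinearGroup (Fin n) F) (φ : Fin n → F) :
    rowAct g⁻¹ (rowAct g φ) = φ := by
  rw [rowAct_apply, rowAct_apply, Matrix.vecMul_vecMul, inv_inv, inv_val_mul, Matrix.vecMul_one]

theorem colAct_colAct_inv (g : SpecialLinearGroup (Fin n) F) (y : Fin n → F) :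
    colAct g (colAct g⁻¹ y) = y := by
  rw [colAct_apply, colAct_apply, Matrix.mulVec_mulVec, val_mul_inv, Matrix.one_mulVec]

theorem map_rowAct_inv (g : SpecialLinearGroup (Fin n) F) (A : AddSubgroup (Fin n → F)) :
    (A.map (rowAct g)).map (rowAct g⁻¹) = A := by
  ext φ
  constructor
  · rintro ⟨ψ, ⟨χ, hχ, rfl⟩, rfl⟩
    rw [rowAct_inv_rowAct]
    exact hχ
  · intro hφ
    exact ⟨rowAct g φ, ⟨φ, hφ, rfl⟩, rowAct_inv_rowAct g φ⟩

theorem perp_map (perp : AddSubgroup (Fin n → F) → AddSubgroup (Fin n → F))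
    (hp4 : ∀ (A : AddSubgroup (Fin n → F)) (g : SpecialLinearGroup (Fin n) F) (y : Fin n → F),
        y ∈ perp A ↔ g.1 *ᵥ y ∈ perp (A.map (rowAct g)))
    (A : AddSubgroup (Fin n → F)) (g : SpecialLinearGroup (Fin n) F) :
    perp (A.map (rowAct g)) = (perp A).map (colAct g) := by
  ext z
  constructor
  · intro hz
    have h1 := (hp4 (A.map (rowAct g)) g⁻¹ z).mp hz
    rw [map_rowAct_inv] at h1
    exact ⟨(g⁻¹ : SpecialLinearGroup (Fin n) F).1 *ᵥ z, h1, colAct_colAct_inv g z⟩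
  · rintro ⟨y, hy, rfl⟩
    exact (hp4 A g y).mp hy

end Cfsg.Agent.Lib.helper2.MI

namespace Cfsg.Agent.Lib.helper2.MI

open Matrix

variable {n : ℕ} {F : Type*} [Field F]

theorem card_le_of_span_one [Fintype F] (v : Fin n → F) (W : AddSubgroup (Fin n → F))
    (h : ∀ y ∈ W, ∃ c : F, y = c • v) : Nat.card W ≤ Fintype.card F := by
  classical
  choose f hf using h
  rw [← Nat.card_eq_fintype_card]
  apply Nat.card_le_card_of_injective (fun y : W => f y.1 y.2)
  intro y y' hyy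
  apply Subtype.ext
  rw [hf y.1 y.2, hf y'.1 y'.2]
  simp only at hyy
  rw [hyy]

theorem card_le_of_span_two [Fintype F] (v y₀ : Fin n → F) (W : AddSubgroup (Fin n → F))
    (h : ∀ z ∈ W, ∃ a b : F, z = a • v + b • y₀) : Nat.card W ≤ Fintype.card F * Fintype.card F := by
  classical
  choose f g hfg using h
  have : Nat.card (F × F) = Fintype.card F * Fintype.card F := by
    rw [Nat.card_prod, Nat.card_eq_fintype_card]
  rw [← this]
  apply Nat.card_le_card_of_injective (fun z : W => (f z.1 z.2, g z.1 z.2))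
  intro z z' hzz
  apply Subtype.ext
  rw [hfg z.1 z.2, hfg z'.1 z'.2]
  simp only [Prod.mk.injEq] at hzz
  rw [hzz.1, hzz.2]

theorem span_two_mem_of_card [Fintype F] (v y₀ : Fin n → F) (W : AddSubgroup (Fin n → F))
    (h : ∀ z ∈ W, ∃ a b : F, z = a • v + b • y₀)
    (hcard : Nat.card W = Fintype.card F * Fintype.card F) :
    ∀ a b : F, a • v + b • y₀ ∈ W := by
  classical
  choose f g hfg using h
  have hcard' : Nat.card W = Nat.card (F × F) := by
    rw [hcard, Nat.card_prod, Nat.card_eq_fintype_card]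
  have hinj : Function.Injective (fun z : W => (f z.1 z.2, g z.1 z.2)) := by
    intro z z' hzz
    apply Subtype.ext
    rw [hfg z.1 z.2, hfg z'.1 z'.2]
    simp only [Prod.mk.injEq] at hzz
    rw [hzz.1, hzz.2]
  have hbij : Function.Bijective (fun z : W => (f z.1 z.2, g z.1 z.2)) :=
    (Nat.bijective_iff_injective_and_card _).mpr ⟨hinj, hcard'⟩
  intro a b
  obtain ⟨z, hz⟩ := hbij.2 (a, b)
  simp only [Prod.mk.injEq] at hz
  have := hfg z.1 z.2
  rw [hz.1, hz.2] at this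
  rw [← this]
  exact z.2

theorem card_ge_of_span_two [Fintype F] (v y₀ : Fin n → F) (hv : v ≠ 0)
    (hy : ¬ ∃ c : F, y₀ = c • v) (P : AddSubgroup (Fin n → F))
    (h : ∀ a b : F, a • v + b • y₀ ∈ P) : Fintype.card F * Fintype.card F ≤ Nat.card P := by
  have : Nat.card (F × F) = Fintype.card F * Fintype.card F := by
    rw [Nat.card_prod, Nat.card_eq_fintype_card]
  rw [← this]
  apply Nat.card_le_card_of_injective (fun ab : F × F => (⟨ab.1 • v + ab.2 • y₀, h ab.1 ab.2⟩ : P))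
  rintro ⟨a, b⟩ ⟨a', b'⟩ hab
  simp only [Subtype.mk.injEq] at hab
  have hb : b = b' := by
    by_contra hne
    apply hy
    refine ⟨(a' - a) * (b - b')⁻¹, ?_⟩
    have h1 : (b - b') • y₀ = (a' - a) • v := by
      rw [sub_smul, sub_smul]
      have := hab
      rw [← sub_eq_zero] at this ⊢
      rw [← this]
      abel
    have h2 : (b - b') ≠ 0 := sub_ne_zero.mpr hne
    calc y₀ = (b - b')⁻¹ • ((b - b') • y₀) := by rw [smul_smul, inv_mul_cancel₀ h2, one_smul]
      _ = ((a' - a) * (b - b')⁻¹) • v := by rw [h1, smul_smul, mul_comm]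
  subst hb
  have ha : a • v = a' • v := add_right_cancel hab
  have : (a - a') • v = 0 := by rw [sub_smul, ha, sub_self]
  rcases smul_eq_zero.mp this with h1 | h1
  · rw [sub_eq_zero.mp h1]
  · exact absurd h1 hv

end Cfsg.Agent.Lib.helper2.MI

namespace Cfsg.Agent.Lib.helper2.MI

open Matrix

variable {n : ℕ} {F : Type*} [Field F]

theorem dichotomy_at [Fintype F] (hn : 3 ≤ n) (H : Subgroup (SpecialLinearGroup (Fin n) F))
    (hH : H ≠ ⊤) (hlt : H.index < Npts (Fintype.card F) n) (htr : PtTrans H)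
    (v : Fin n → F) (hv : v ≠ 0) : CaseIAt H v ∨ CaseIIAt H v := by
  classical
  set q := Fintype.card F with hqdef
  have hq : 2 ≤ q := Fintype.one_lt_card
  set Q := q ^ (n - 1) with hQdef
  have hqn : q * Q = q ^ n := by
    rw [hQdef, ← pow_succ']
    congr 1
    omega
  have hQ2 : 2 ≤ Q := by
    calc 2 ≤ q := hq
      _ = q ^ 1 := (pow_one q).symm
      _ ≤ q ^ (n - 1) := Nat.pow_le_pow_right (by omega) (by omega)
  -- the subgroup A
  set A := Asub H v with hAdef
  have hA_le : A ≤ vperp v := Asub_le_vperp H v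
  have hA_ne : A ≠ vperp v := by
    intro hEq
    apply hH
    apply eq_top_of_all_tv (by omega) H
    apply all_tv_of_full H htr v hv
    intro φ h
    have : φ ∈ A := by rw [hEq]; exact (mem_vperp v φ).mpr h
    obtain ⟨_, hm⟩ := this
    exact hm
  have ha_lt : Nat.card A < Q := by
    rw [hQdef, hqdef, ← card_vperp v hv]
    have hlt : A < vperp v := lt_of_le_of_ne hA_le hA_ne
    have h1 : (A : Set (Fin n → F)) ⊂ (vperp v : Set (Fin n → F)) := hlt
    have := Set.ncard_lt_ncard h1 (Set.toFinite _)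
    rw [← _root_.Nat.card_coe_set_eq, ← _root_.Nat.card_coe_set_eq] at this
    exact this
  have ha_pos : 0 < Nat.card A := Nat.card_pos
  -- duality
  obtain ⟨perp, hp1, hp2, hp3, hp4⟩ := Cfsg.Agent.Lib.Helper11.MI.exists_perp (F := F) n
  set W := perp A with hWdef
  have hvW : ∀ c : F, c • v ∈ W := by
    intro c
    apply hp2
    intro φ hφ
    rw [dotProduct_smul, (mem_vperp v φ).mp (hA_le hφ), smul_zero]
  have hAW : Nat.card A * Nat.card W = q ^ n := hp1 A
  have hWq : q < Nat.card W := by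
    by_contra hle
    have hle : Nat.card W ≤ q := not_lt.mp hle
    have : Nat.card A * Nat.card W < q ^ n := by
      calc Nat.card A * Nat.card W ≤ Nat.card A * q := Nat.mul_le_mul_left _ hle
        _ < Q * q := Nat.mul_lt_mul_of_pos_right ha_lt (by omega)
        _ = q ^ n := by rw [mul_comm, hqn]
    omega
  have hy₀ : ∃ y ∈ W, ¬ ∃ c : F, y = c • v := by
    by_contra hno
    push Not at hno
    have := card_le_of_span_one v W hno
    omega
  obtain ⟨y₀, hy₀W, hy₀v⟩ := hy₀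
  -- the index inequality
  have hS1 := Cfsg.Agent.Lib.Helper16.MI.index_mul_card_ge H v hv
  -- the two orbits
  set SA := {B : AddSubgroup (Fin n → F) | ∃ g : SpecialLinearGroup (Fin n) F,
        g.1 *ᵥ v = v ∧ B = (Asub H v).map (rowAct g)} with hSA
  set SW := {W' : AddSubgroup (Fin n → F) | ∃ g : SpecialLinearGroup (Fin n) F,
          g.1 *ᵥ v = v ∧ W' = W.map (colAct g)} with hSW
  have hsurj : Nat.card SW ≤ Nat.card SA := by
    have hf : ∀ B : SA, perp B.1 ∈ SW := by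
      rintro ⟨B, g, hg, rfl⟩
      exact ⟨g, hg, perp_map perp hp4 _ g⟩
    apply Nat.card_le_card_of_surjective (fun B : SA => (⟨perp B.1, hf B⟩ : SW))
    rintro ⟨W', g, hg, rfl⟩
    refine ⟨⟨(Asub H v).map (rowAct g), g, hg, rfl⟩, ?_⟩
    apply Subtype.ext
    exact perp_map perp hp4 _ g
  -- counting
  obtain ⟨c, hc1, hcount, hstab⟩ := Cfsg.Agent.Lib.Helper21.MI.cover_count hn v hv W hvW ⟨y₀, hy₀W, hy₀v⟩
  -- numerics
  have F1 : Nat.card SW * Nat.card W ≤ H.index * q := by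
    have h1 : Nat.card SW * Q * Nat.card W ≤ H.index * Nat.card A * Nat.card W := by
      apply Nat.mul_le_mul_right
      exact le_trans (Nat.mul_le_mul_right _ hsurj) hS1
    have h2 : Q * (Nat.card SW * Nat.card W) ≤ Q * (H.index * q) := by
      calc Q * (Nat.card SW * Nat.card W) = Nat.card SW * Q * Nat.card W := by ring
        _ ≤ H.index * Nat.card A * Nat.card W := h1
        _ = H.index * (Nat.card A * Nat.card W) := by ring
        _ = H.index * (q * Q) := by rw [hAW, hqn]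
        _ = Q * (H.index * q) := by ring
    exact Nat.le_of_mul_le_mul_left h2 (by omega)
  have F2 : Nat.card SW * (Nat.card W - q) = c * (q * Q - q) := by
    rw [hqn]
    exact hcount
  have F3 : H.index * (q - 1) ≤ q * Q - q := index_bound q n H.index hq (by omega) hlt
  obtain ⟨hc, hqq⟩ := numeric_core q Q (Nat.card W) H.index (Nat.card SW) c hq hQ2 hWq hc1 F1 F2 F3
  have hstab' := hstab hc
  -- structure of W
  rcases Cfsg.Agent.Lib.Helper16.MI.W_dichotomy hn v hv W hvW hstab' y₀ hy₀W hy₀v with hW2 | hWtop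
  · -- Case I
    left
    have hle := card_le_of_span_two v y₀ W hW2
    have hcard : Nat.card W = q * q := le_antisymm hle hqq
    have hall := span_two_mem_of_card v y₀ W hW2 hcard
    have hAy : ∀ φ ∈ A, φ ⬝ᵥ y₀ = 0 := by
      apply hp3 A y₀
      intro c
      have := hall 0 c
      rwa [zero_smul, zero_add] at this
    set A₁ := vperp v ⊓ vperp y₀ with hA₁
    have hAA₁ : A ≤ A₁ := by
      intro φ hφ
      exact ⟨hA_le hφ, (mem_vperp y₀ φ).mpr (hAy φ hφ)⟩
    have hA₁card : Nat.card A₁ ≤ Nat.card A := by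
      have h1 : q * q ≤ Nat.card (perp A₁) := by
        apply card_ge_of_span_two v y₀ hv hy₀v
        intro a b
        apply hp2
        intro φ hφ
        rw [dotProduct_add, dotProduct_smul, dotProduct_smul, (mem_vperp v φ).mp hφ.1,
          (mem_vperp y₀ φ).mp hφ.2, smul_zero, smul_zero, add_zero]
      have h2 : Nat.card A₁ * Nat.card (perp A₁) = q ^ n := hp1 A₁
      have h3 : Nat.card A₁ * (q * q) ≤ Nat.card A * (q * q) := by
        calc Nat.card A₁ * (q * q) ≤ Nat.card A₁ * Nat.card (perp A₁) := Nat.mul_le_mul_left _ h1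
          _ = q ^ n := h2
          _ = Nat.card A * (q * q) := by rw [← hAW, hcard]
      exact Nat.le_of_mul_le_mul_right h3 (by positivity)
    have hEq : A = A₁ := AddSubgroup.eq_of_le_of_card_ge hAA₁ hA₁card
    refine ⟨y₀, hy₀v, ?_⟩
    intro φ h
    constructor
    · intro hm
      have : φ ∈ A := ⟨h, hm⟩
      rw [hEq] at this
      exact (mem_vperp y₀ φ).mp this.2
    · intro hy
      have : φ ∈ A₁ := ⟨(mem_vperp v φ).mpr h, (mem_vperp y₀ φ).mpr hy⟩
      rw [← hEq] at this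
      obtain ⟨_, hm⟩ := this
      exact hm
  · -- Case II
    right
    have hWcard : Nat.card W = q ^ n := by
      have : W = ⊤ := by
        ext z
        simp [hWtop z]
      rw [this, Nat.card_congr AddSubgroup.topEquiv.toEquiv, Nat.card_eq_fintype_card,
        Fintype.card_fun, Fintype.card_fin]
    have hA1 : Nat.card A = 1 := by
      have hpos : 0 < q ^ n := by positivity
      have := hAW
      rw [hWcard] at this
      exact Nat.eq_of_mul_eq_mul_right hpos (by rw [this, one_mul])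
    have hAbot : ∀ φ ∈ A, φ = 0 := by
      intro φ hφ
      have := (AddSubgroup.card_eq_one (H := A)).mp hA1
      rw [this] at hφ
      exact (AddSubgroup.mem_bot).mp hφ
    have hclause1 : ∀ (φ : Fin n → F) (h : φ ⬝ᵥ v = 0), tv v φ h ∈ H → φ = 0 :=
      fun φ h hm => hAbot φ ⟨h, hm⟩
    refine ⟨hclause1, ?_⟩
    apply Cfsg.Agent.Lib.Helper16.MI.supplement_of_small (by omega) H htr v hv hclause1
    -- H.index < 2 * q^(n-1)
    have hq1 : 0 < q - 1 := by omega
    by_contra hge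
    have hge : 2 * Q ≤ H.index := not_lt.mp hge
    have : 2 * Q * (q - 1) ≤ q * Q - q := le_trans (Nat.mul_le_mul_right _ hge) F3
    obtain ⟨q', hq'⟩ : ∃ q', q = q' + 1 := ⟨q - 1, by omega⟩
    rw [hq'] at this
    simp only [Nat.add_sub_cancel] at this
    have h6 : 1 ≤ q' := by omega
    have h7 : (q' + 1) * Q - (q' + 1) + (q' + 1) = (q' + 1) * Q :=
      Nat.sub_add_cancel (by nlinarith)
    have h8 : Q * 1 ≤ Q * q' := Nat.mul_le_mul_left Q h6
    nlinarith

end Cfsg.Agent.Lib.helper2.MI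

namespace Cfsg.Agent.Lib.helper2.MI

open Matrix

variable {n : ℕ} {F : Type*} [Field F]

theorem exists_ne_zero_perp_two (hn : 3 ≤ n) (v y : Fin n → F) :
    ∃ φ : Fin n → F, φ ≠ 0 ∧ φ ⬝ᵥ v = 0 ∧ φ ⬝ᵥ y = 0 := by
  have hlt : Module.finrank F (F × F) < Module.finrank F (Fin n → F) := by
    rw [Module.finrank_prod, Module.finrank_self, Module.finrank_fin_fun]
    omega
  have hker := LinearMap.ker_ne_bot_of_finrank_lt (f := (dotL v).prod (dotL y)) hlt
  obtain ⟨φ, hφ, hφ0⟩ := (Submodule.ne_bot_iff _).mp hker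
  refine ⟨φ, hφ0, ?_, ?_⟩
  · have := LinearMap.mem_ker.mp hφ
    have h2 := congrArg Prod.fst this
    exact h2
  · have := LinearMap.mem_ker.mp hφ
    have h2 := congrArg Prod.snd this
    exact h2

theorem dichotomy [Fintype F] (hn : 3 ≤ n) (H : Subgroup (SpecialLinearGroup (Fin n) F))
    (hH : H ≠ ⊤) (hlt : H.index < Npts (Fintype.card F) n) (htr : PtTrans H) :
    CaseI H ∨ CaseII H := by
  by_cases hex : ∃ v : Fin n → F, v ≠ 0 ∧ CaseIIAt H v
  · right
    obtain ⟨v0, hv0, h0⟩ := hex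
    have hnone := no_tv_of_none H htr v0 hv0 h0.1
    intro v hv
    rcases dichotomy_at hn H hH hlt htr v hv with h1 | h2
    · exfalso
      obtain ⟨y, hy, hiff⟩ := h1
      obtain ⟨φ, hφ0, hφv, hφy⟩ := exists_ne_zero_perp_two hn v y
      exact hφ0 (hnone v hv φ hφv ((hiff φ hφv).mpr hφy))
    · exact h2
  · left
    intro v hv
    rcases dichotomy_at hn H hH hlt htr v hv with h1 | h2
    · exact h1
    · exact absurd ⟨v, hv, h2⟩ hex

/-- every proper subgroup of `SL_n(q)`, `n ≥ 3`, `(n,q) ≠ (4,2)`, has index at least `(q^n-1)/(q-1)`. -/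
theorem sl_index_ge [Fintype F] (hn : 3 ≤ n) (hex : ¬ (n = 4 ∧ Fintype.card F = 2))
    (H : Subgroup (SpecialLinearGroup (Fin n) F)) (hH : H ≠ ⊤) :
    Npts (Fintype.card F) n ≤ H.index := by
  by_contra hlt
  have hlt : H.index < Npts (Fintype.card F) n := not_le.mp hlt
  have htr := ptTrans_of_index_lt H hlt
  rcases dichotomy hn H hH hlt htr with h1 | h2
  · exact Cfsg.Agent.Lib.Helper1.MI.caseI_false hn H h1
  · obtain ⟨Ψ, hΨ⟩ := Cfsg.Agent.Lib.Helper1.MI.exists_Psi hn H h2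
    exact Cfsg.Agent.Lib.Helper29.MI.no_Psi hn hex Ψ hΨ

end Cfsg.Agent.Lib.helper2.MI
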