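import Mathlib
import Cfsg.Agent.Lib.helper2.MIDefs
import Cfsg.Agent.Lib.helper14.SLnVec

/-!
# Project MI, piece C: double counting over the orbit of `W` under the stabiliser of `v`
-/

set_option autoImplicit false
set_option linter.unusedSectionVars false
set_option linter.unusedVariables false

namespace Cfsg.Agent.Lib.helper2.MI

open Matrix

variable {n : ℕ} {F : Type*} [Field F]

/-- `y` is not a multiple of `v`. -/
def Off (v y : Fin n → F) : Prop := ¬ ∃ c : F, y = c • v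

theorem off_iff_notMem_span (v y : Fin n → F) :
    Off v y ↔ y ∉ Submodule.span F ({v} : Set (Fin n → F)) := by
  unfold Off
  rw [Submodule.mem_span_singleton]
  constructor
  · rintro h ⟨c, hc⟩
    exact h ⟨c, hc.symm⟩
  · rintro h ⟨c, hc⟩
    exact h ⟨c, hc.symm⟩

theorem off_mulVec (g : SpecialLinearGroup (Fin n) F) (v y : Fin n → F) (hg : g.1 *ᵥ v = v)
    (hy : Off v y) : Off v (g.1 *ᵥ y) := by
  rintro ⟨c, hc⟩
  apply hy
  refine ⟨c, ?_⟩
  have h1 : (g⁻¹ : SpecialLinearGroup (Fin n) F).1 *ᵥ (g.1 *ᵥ y) = y := by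
    rw [Matrix.mulVec_mulVec]
    have : (g⁻¹ : SpecialLinearGroup (Fin n) F).1 * g.1 = 1 := congrArg Subtype.val (inv_mul_cancel g)
    rw [this, Matrix.one_mulVec]
  have h2 : (g⁻¹ : SpecialLinearGroup (Fin n) F).1 *ᵥ v = v := by
    have : (g⁻¹ : SpecialLinearGroup (Fin n) F).1 *ᵥ (g.1 *ᵥ v) = v := by
      rw [Matrix.mulVec_mulVec]
      have : (g⁻¹ : SpecialLinearGroup (Fin n) F).1 * g.1 = 1 := congrArg Subtype.val (inv_mul_cancel g)
      rw [this, Matrix.one_mulVec]
    rwa [hg] at this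
  rw [← h1, hc, Matrix.mulVec_smul, h2]

/-- the orbit of `W` under the stabiliser of `v`. -/
def orbW (v : Fin n → F) (W : AddSubgroup (Fin n → F)) : Set (AddSubgroup (Fin n → F)) :=
  {W' | ∃ g : SpecialLinearGroup (Fin n) F, g.1 *ᵥ v = v ∧ W' = W.map (colAct g)}

theorem colAct_mul (g h : SpecialLinearGroup (Fin n) F) (y : Fin n → F) :
    colAct (g * h) y = colAct g (colAct h y) := by
  rw [colAct_apply, colAct_apply, colAct_apply, Matrix.mulVec_mulVec]
  rfl

theorem colAct_one (y : Fin n → F) : colAct (1 : SpecialLinearGroup (Fin n) F) y = y := by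
  rw [colAct_apply]
  exact Matrix.one_mulVec y

theorem map_colAct_mul (g h : SpecialLinearGroup (Fin n) F) (W : AddSubgroup (Fin n → F)) :
    (W.map (colAct h)).map (colAct g) = W.map (colAct (g * h)) := by
  ext z
  constructor
  · rintro ⟨y, ⟨x, hx, rfl⟩, rfl⟩
    exact ⟨x, hx, colAct_mul g h x⟩
  · rintro ⟨x, hx, rfl⟩
    exact ⟨colAct h x, ⟨x, hx, rfl⟩, (colAct_mul g h x).symm⟩

theorem map_colAct_one (W : AddSubgroup (Fin n → F)) :
    W.map (colAct (1 : SpecialLinearGroup (Fin n) F)) = W := by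
  ext z
  constructor
  · rintro ⟨x, hx, rfl⟩
    rw [colAct_one]
    exact hx
  · intro hz
    exact ⟨z, hz, colAct_one z⟩

theorem map_mem_orbW (v : Fin n → F) (W : AddSubgroup (Fin n → F))
    (g : SpecialLinearGroup (Fin n) F) (hg : g.1 *ᵥ v = v) (W' : AddSubgroup (Fin n → F))
    (hW' : W' ∈ orbW v W) : W'.map (colAct g) ∈ orbW v W := by
  obtain ⟨h, hh, rfl⟩ := hW'
  refine ⟨g * h, ?_, map_colAct_mul g h W⟩
  change (g.1 * h.1) *ᵥ v = v
  rw [← Matrix.mulVec_mulVec, hh, hg]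

theorem inv_fix (g : SpecialLinearGroup (Fin n) F) (v : Fin n → F) (hg : g.1 *ᵥ v = v) :
    (g⁻¹ : SpecialLinearGroup (Fin n) F).1 *ᵥ v = v := by
  have : (g⁻¹ : SpecialLinearGroup (Fin n) F).1 *ᵥ (g.1 *ᵥ v) = v := by
    rw [Matrix.mulVec_mulVec]
    have : (g⁻¹ : SpecialLinearGroup (Fin n) F).1 * g.1 = 1 := congrArg Subtype.val (inv_mul_cancel g)
    rw [this, Matrix.one_mulVec]
  rwa [hg] at this

/-- the permutation of the orbit induced by an element of the stabiliser. -/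
def orbPerm (v : Fin n → F) (W : AddSubgroup (Fin n → F))
    (g : SpecialLinearGroup (Fin n) F) (hg : g.1 *ᵥ v = v) : orbW v W ≃ orbW v W where
  toFun W' := ⟨W'.1.map (colAct g), map_mem_orbW v W g hg W'.1 W'.2⟩
  invFun W' := ⟨W'.1.map (colAct g⁻¹), map_mem_orbW v W g⁻¹ (inv_fix g v hg) W'.1 W'.2⟩
  left_inv W' := by
    apply Subtype.ext
    change (W'.1.map (colAct g)).map (colAct g⁻¹) = W'.1
    rw [map_colAct_mul, inv_mul_cancel, map_colAct_one]
  right_inv W' := by
    apply Subtype.ext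
    change (W'.1.map (colAct g⁻¹)).map (colAct g) = W'.1
    rw [map_colAct_mul, mul_inv_cancel, map_colAct_one]

theorem mem_map_colAct_iff (g : SpecialLinearGroup (Fin n) F) (W' : AddSubgroup (Fin n → F))
    (y : Fin n → F) : g.1 *ᵥ y ∈ W'.map (colAct g) ↔ y ∈ W' := by
  constructor
  · rintro ⟨x, hx, hxy⟩
    rw [colAct_apply] at hxy
    have h1 : (g⁻¹ : SpecialLinearGroup (Fin n) F).1 *ᵥ (g.1 *ᵥ x) = x := by
      rw [Matrix.mulVec_mulVec]
      have : (g⁻¹ : SpecialLinearGroup (Fin n) F).1 * g.1 = 1 := congrArg Subtype.val (inv_mul_cancel g)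
      rw [this, Matrix.one_mulVec]
    have h2 : (g⁻¹ : SpecialLinearGroup (Fin n) F).1 *ᵥ (g.1 *ᵥ y) = y := by
      rw [Matrix.mulVec_mulVec]
      have : (g⁻¹ : SpecialLinearGroup (Fin n) F).1 * g.1 = 1 := congrArg Subtype.val (inv_mul_cancel g)
      rw [this, Matrix.one_mulVec]
    rw [← h2, ← hxy, h1]
    exact hx
  · intro hy
    exact ⟨y, hy, rfl⟩

/-- the number of members of the orbit containing `y`. -/
noncomputable def cnt (v : Fin n → F) (W : AddSubgroup (Fin n → F)) (y : Fin n → F) : ℕ :=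
  Nat.card {W' : orbW v W // y ∈ W'.1}

theorem cnt_mulVec (v : Fin n → F) (W : AddSubgroup (Fin n → F))
    (g : SpecialLinearGroup (Fin n) F) (hg : g.1 *ᵥ v = v) (y : Fin n → F) :
    cnt v W (g.1 *ᵥ y) = cnt v W y := by
  unfold cnt
  symm
  apply Nat.card_congr
  refine (orbPerm v W g hg).subtypeEquiv ?_
  intro W'
  exact (mem_map_colAct_iff g W'.1 y).symm

theorem cnt_const (hn : 3 ≤ n) (v : Fin n → F) (W : AddSubgroup (Fin n → F))
    (y y' : Fin n → F) (hy : Off v y) (hy' : Off v y') : cnt v W y = cnt v W y' := by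
  obtain ⟨g, hg, hgy⟩ := Cfsg.Agent.Lib.helper14.SLnVec.exists_sl_fix hn v y y'
    ((off_iff_notMem_span v y).mp hy) ((off_iff_notMem_span v y').mp hy')
  rw [← hgy, cnt_mulVec v W g hg]

end Cfsg.Agent.Lib.helper2.MI
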