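import Mathlib
import Cfsg.Agent.Lib.Helper18.OCT.Defs

/-!
# Project OCG, row Z1 (helper2): `zornMul` is bilinear.
-/

set_option autoImplicit false

namespace Cfsg.Agent.Lib.Helper18.OCT

open Cfsg.Lie Matrix
open scoped MatrixGroups

section Z

variable {F : Type*} [Field F]

theorem zornMul_bilin (x x' y y' : Oct F) (c : F) :
    zornMul (x + x') y = zornMul x y + zornMul x' y ∧ zornMul x (y + y') = zornMul x y + zornMul x y' ∧
      zornMul (c • x) y = c • zornMul x y ∧ zornMul x (c • y) = c • zornMul x y := by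
  refine ⟨?_, ?_, ?_, ?_⟩ <;>
  · ext i
    fin_cases i <;> simp [zornMul, dot3, cross3, zA, zB] <;> ring

end Z

end Cfsg.Agent.Lib.Helper18.OCT
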