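import Mathlib
import Cfsg.Agent.Lib.Helper1.OMO.Defs
import Cfsg.Agent.Lib.helper14.JTc

set_option autoImplicit false
set_option linter.unusedVariables false
set_option linter.unusedSectionVars false

/-!
# OMO / ALLEVEN (helper2): `omo_all_even`

If all parts of `μ` are even, replace `{e, e}` by `{e + 1, e - 1}`, apply the hypothesis, and move back.
All multiset reasoning is done through `Multiset.count`.
-/

namespace Cfsg.Agent.Lib.Helper1.OMO

open Module Cfsg.Agent.Lib.helper14.JTa Cfsg.Agent.Lib.Helper9.OPH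

/-- ALLEVEN [M-L] -/
theorem omo_all_even (p n m : ℕ) (hp : Odd p) (hn : 0 < n) (hme : Even m)
    (h : ∀ μ : Multiset ℕ, (∀ e ∈ μ, 0 < e ∧ e ≤ p) → (∀ e : ℕ, Even e → Even (μ.count e)) → μ.sum = n → (∃ e ∈ μ, Odd e) →
      ∃ ν : Multiset ℕ, ν ≤ μ ∧ ν.sum = m ∧ ∀ e : ℕ, Even e → Even (ν.count e)) :
    ∀ μ : Multiset ℕ, (∀ e ∈ μ, 0 < e ∧ e ≤ p) → (∀ e : ℕ, Even e → Even (μ.count e)) → μ.sum = n →
      ∃ ν : Multiset ℕ, ν ≤ μ ∧ ν.sum = m ∧ ∀ e : ℕ, Even e → Even (ν.count e) := by
  intro μ hμ0 hμe hμs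
  by_cases hodd : ∃ e ∈ μ, Odd e
  · exact h μ hμ0 hμe hμs hodd
  have hall : ∀ x ∈ μ, Even x := by
    intro x hx
    by_contra hne
    exact hodd ⟨x, hx, Nat.not_even_iff_odd.1 hne⟩
  have hμne : μ ≠ 0 := by
    rintro rfl
    simp at hμs
    omega
  obtain ⟨e, he⟩ := Multiset.exists_mem_of_ne_zero hμne
  have hee : Even e := hall e he
  have he0 : 0 < e := (hμ0 e he).1
  have hep : e ≤ p := (hμ0 e he).2
  obtain ⟨k, hk⟩ := hee
  have hee : Even e := ⟨k, hk⟩
  have he2 : 2 ≤ e := by omega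
  have hep1 : e + 1 ≤ p := by
    obtain ⟨l, hl⟩ := hp
    omega
  have hc2 : 2 ≤ μ.count e := by
    have h1 : 0 < μ.count e := Multiset.count_pos.2 he
    obtain ⟨c, hc⟩ := hμe e hee
    omega
  have hrep : Multiset.replicate 2 e ≤ μ := Multiset.le_count_iff_replicate_le.1 hc2
  -- odd numbers do not occur in `μ`
  have hcodd : ∀ x, Odd x → μ.count x = 0 := by
    intro x hx
    apply Multiset.count_eq_zero_of_notMem
    intro hxm
    exact (Nat.not_even_iff_odd.2 hx) (hall x hxm)
  have ho1 : Odd (e + 1) := ⟨k, by omega⟩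
  have ho2 : Odd (e - 1) := ⟨k - 1, by omega⟩
  set μ' : Multiset ℕ := (μ - Multiset.replicate 2 e) +
    (Multiset.replicate 1 (e + 1) + Multiset.replicate 1 (e - 1)) with hμ'
  have hcnt' : ∀ x, μ'.count x = (μ.count x - (if e = x then 2 else 0)) +
      ((if e + 1 = x then 1 else 0) + (if e - 1 = x then 1 else 0)) := by
    intro x
    simp only [hμ', Multiset.count_add, Multiset.count_sub, Multiset.count_replicate]
  have hmem' : ∀ x ∈ μ', x ∈ μ ∨ x = e + 1 ∨ x = e - 1 := by
    intro x hx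
    rw [hμ', Multiset.mem_add, Multiset.mem_add] at hx
    rcases hx with hx | hx | hx
    · exact Or.inl (Multiset.mem_of_le (Multiset.sub_le_self _ _) hx)
    · exact Or.inr (Or.inl (Multiset.eq_of_mem_replicate hx))
    · exact Or.inr (Or.inr (Multiset.eq_of_mem_replicate hx))
  -- `μ'` is admissible
  have h1 : ∀ x ∈ μ', 0 < x ∧ x ≤ p := by
    intro x hx
    rcases hmem' x hx with hx | rfl | rfl
    · exact hμ0 x hx
    · exact ⟨by omega, hep1⟩
    · exact ⟨by omega, by omega⟩
  have h2 : ∀ x : ℕ, Even x → Even (μ'.count x) := by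
    intro x hx
    rw [hcnt' x]
    have hx1 : e + 1 ≠ x := by
      rintro rfl
      exact (Nat.not_even_iff_odd.2 ho1) hx
    have hx2 : e - 1 ≠ x := by
      rintro rfl
      exact (Nat.not_even_iff_odd.2 ho2) hx
    rw [if_neg hx1, if_neg hx2]
    by_cases hxe : e = x
    · subst hxe
      rw [if_pos rfl]
      obtain ⟨c, hc⟩ := hμe e hee
      exact ⟨c - 1, by omega⟩
    · rw [if_neg hxe]
      simpa using hμe x hx
  have h3 : μ'.sum = n := by
    have hs : (μ - Multiset.replicate 2 e).sum + (Multiset.replicate 2 e).sum = n := by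
      rw [← Multiset.sum_add, tsub_add_cancel_of_le hrep, hμs]
    rw [Multiset.sum_replicate] at hs
    rw [hμ', Multiset.sum_add, Multiset.sum_add, Multiset.sum_replicate, Multiset.sum_replicate]
    simp only [smul_eq_mul] at hs ⊢
    omega
  have h4 : ∃ x ∈ μ', Odd x := by
    refine ⟨e + 1, ?_, ho1⟩
    rw [← Multiset.count_pos, hcnt' (e + 1), if_pos rfl]
    omega
  obtain ⟨ν', hν'le, hν's, hν'e⟩ := h μ' h1 h2 h3 h4
  have hle' : ∀ x, ν'.count x ≤ μ'.count x := Multiset.le_iff_count.1 hν'le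
  -- multiplicities of `e + 1` and `e - 1` in `ν'`
  have hne12 : e + 1 ≠ e - 1 := by omega
  have ha1 : ν'.count (e + 1) ≤ 1 := by
    have := hle' (e + 1)
    rw [hcnt' (e + 1), hcodd _ ho1, if_pos rfl, if_neg hne12.symm, if_neg (by omega)] at this
    simpa using this
  have hb1 : ν'.count (e - 1) ≤ 1 := by
    have := hle' (e - 1)
    rw [hcnt' (e - 1), hcodd _ ho2, if_pos rfl, if_neg hne12, if_neg (by omega)] at this
    simpa using this
  set a := ν'.count (e + 1) with ha
  set b := ν'.count (e - 1) with hb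
  set ρ : Multiset ℕ := ν'.filter (fun x => x ≠ e + 1 ∧ x ≠ e - 1) with hρ
  have hcntρ : ∀ x, ρ.count x = if (x ≠ e + 1 ∧ x ≠ e - 1) then ν'.count x else 0 := by
    intro x
    rw [hρ, Multiset.count_filter]
  have hdecomp : ν' = ρ + (Multiset.replicate a (e + 1) + Multiset.replicate b (e - 1)) := by
    ext x
    rw [Multiset.count_add, Multiset.count_add, Multiset.count_replicate, Multiset.count_replicate,
      hcntρ x]
    by_cases hx1 : x = e + 1
    · subst hx1
      simp [hne12.symm, ha]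
    · by_cases hx2 : x = e - 1
      · subst hx2
        simp [hne12, hb]
      · simp [hx1, hx2, Ne.symm hx1, Ne.symm hx2]
  have hρmem : ∀ x ∈ ρ, x ∈ μ := by
    intro x hx
    rw [hρ, Multiset.mem_filter] at hx
    rcases hmem' x (Multiset.mem_of_le hν'le hx.1) with h5 | h5 | h5
    · exact h5
    · exact absurd h5 hx.2.1
    · exact absurd h5 hx.2.2
  have hρeven : Even ρ.sum := by
    rw [even_iff_two_dvd]
    apply Multiset.dvd_sum
    intro x hx
    exact even_iff_two_dvd.1 (hall x (hρmem x hx))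
  have hsum : m = ρ.sum + (a * (e + 1) + b * (e - 1)) := by
    rw [← hν's]
    conv_lhs => rw [hdecomp]
    rw [Multiset.sum_add, Multiset.sum_add, Multiset.sum_replicate, Multiset.sum_replicate]
    simp only [smul_eq_mul]
  have hab : a = b := by
    obtain ⟨s, hs⟩ := hρeven
    obtain ⟨t, ht⟩ := hme
    have ha' : a = 0 ∨ a = 1 := by omega
    have hb' : b = 0 ∨ b = 1 := by omega
    rcases ha' with ha' | ha' <;> rcases hb' with hb' | hb' <;> rw [ha', hb'] at hsum ⊢ <;>
      first | rfl | (exfalso; omega)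
  refine ⟨ρ + Multiset.replicate (2 * a) e, ?_, ?_, ?_⟩
  · rw [Multiset.le_iff_count]
    intro x
    rw [Multiset.count_add, Multiset.count_replicate, hcntρ x]
    have hx' := hle' x
    rw [hcnt' x] at hx'
    by_cases hxe : e = x
    · subst hxe
      rw [if_pos rfl, if_pos ⟨by omega, by omega⟩]
      rw [if_pos rfl, if_neg (by omega), if_neg (by omega)] at hx'
      omega
    · rw [if_neg hxe]
      rw [if_neg hxe] at hx'
      by_cases hx1 : x = e + 1
      · rw [if_neg (by rintro ⟨h6, -⟩; exact h6 hx1)]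
        omega
      · by_cases hx2 : x = e - 1
        · rw [if_neg (by rintro ⟨-, h6⟩; exact h6 hx2)]
          omega
        · rw [if_pos ⟨hx1, hx2⟩]
          rw [if_neg (Ne.symm hx1), if_neg (Ne.symm hx2)] at hx'
          omega
  · rw [Multiset.sum_add, Multiset.sum_replicate, smul_eq_mul, hsum, ← hab]
    have ha' : a = 0 ∨ a = 1 := by omega
    rcases ha' with ha' | ha' <;> rw [ha'] <;> omega
  · intro x hx
    have hx1 : x ≠ e + 1 := by
      rintro rfl
      exact (Nat.not_even_iff_odd.2 ho1) hx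
    have hx2 : x ≠ e - 1 := by
      rintro rfl
      exact (Nat.not_even_iff_odd.2 ho2) hx
    rw [Multiset.count_add, Multiset.count_replicate, hcntρ x, if_pos ⟨hx1, hx2⟩]
    apply Even.add (hν'e x hx)
    split_ifs
    · exact ⟨a, by omega⟩
    · exact ⟨0, rfl⟩

end Cfsg.Agent.Lib.Helper1.OMO
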