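import Mathlib
import Cfsg.Agent.Lib.Helper18.OPE.Defs
import Cfsg.Agent.Lib.helper2.OPECM2core
import Cfsg.Agent.Lib.helper17.OPEQTYSUM
import Cfsg.Agent.Lib.helper17.OPEQCTXO
import Cfsg.Agent.Lib.helper17.OPEQTYCLASS
import Cfsg.Agent.Lib.Helper24.OPESTDCTX
import Cfsg.Agent.Lib.Helper24.OPEFROZEN
import Cfsg.Agent.Lib.Helper11.OPEAP3

set_option autoImplicit false
set_option linter.unusedVariables false
set_option linter.unusedSectionVars false

/-!
# Project OPE, row CM2 (`ap_count`), VERBATIM: `opecm2_core` + STDFACTS, FROZEN (helper24), QTYSUM, QTYIFF, QTYUNIQ (helper17), AP3 (helper11).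
-/

namespace Cfsg.Agent.Lib.Helper18.OPE

open Polynomial Module Cfsg.Agent.Lib.Helper13.S5955 Cfsg.Agent.Lib.helper15.S5972
open scoped Matrix

/-- CM2 [M-L]: a hyperbolic `(2h-2)`-space `W'` lies in as many elliptic `2h`-spaces as `W'^⊥` has anisotropic planes. -/
theorem ap_count {F : Type*} [Field F] [Fintype F] (d h : ℕ) (hh1 : 1 ≤ h) (hh : h < d)
    (W' : HYP d (2 * h - 2) F) :
    2 * (Fintype.card F + 1) * Nat.card {W : ELL d (2 * h) F // W'.1 ≤ W.1} =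
      Fintype.card F ^ (2 * (d - h)) * (Fintype.card F ^ (d - h + 1) - 1) *
        (Fintype.card F ^ (d - h) - 1) :=
  opecm2_core d h hh1 hh W' (std_facts d) (fun m hme W => frozen_iff d m hme W)
    (fun W₁ W₂ h₁ h₂ ho he₁ he₂ s₁ s₂ hs₁ hs₂ =>
      qty_sum (Cfsg.Agent.Lib.Helper16.qfPlus d F) W₁ W₂ h₁ h₂ ho he₁ he₂ s₁ s₂ hs₁ hs₂)
    (fun W hW hev => (qty_iff (Cfsg.Agent.Lib.Helper16.qfPlus d F) W hW hev).2.2)
    (fun W h1 h2 => qty_uniq (Cfsg.Agent.Lib.Helper16.qfPlus d F) W h1 h2)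
    (fun N a hN ha hdim hty => ap_planes (Cfsg.Agent.Lib.Helper16.qfPlus d F) N hN a ha hdim hty)

end Cfsg.Agent.Lib.Helper18.OPE
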