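import Mathlib
import Cfsg.Agent.Lib.Helper19.ORE.Defs
import Cfsg.Agent.Lib.helper2.OREM1

/-!
# Project ORE (S2444), row G5 (`three_main`): core.

`oreg5_core`: the `q = 3` final step, with the first half of `Q3 (toLin' g)` (the statement of
row G4 `three_all` at `V = Fin n → ZMod 3`, definitions `Q3`, `IsK` unfolded) as a hypothesis.
-/

set_option autoImplicit false

namespace Cfsg.Agent.Lib.Helper19.ORE

open Polynomial Module

/-- `LinearEquiv.det (toLin' g) = 1` for `g ∈ SL_n(F)`. -/
theorem oreg5_det_toLin' {F : Type*} [Field F] (n : ℕ) (g : Matrix.SpecialLinearGroup (Fin n) F) :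
    LinearEquiv.det (Matrix.SpecialLinearGroup.toLin' g) = 1 := by
  apply Units.ext
  rw [LinearEquiv.coe_det, Matrix.SpecialLinearGroup.toLin'_to_linearMap, LinearMap.det_toLin',
    Units.val_one]
  exact g.2

/-- a matrix representation `Rep g M` with `M` of size `k` on `Fin n → F` forces `n = k`. -/
theorem oreg5_rep_dim {F : Type*} [Field F] (n k : ℕ) (g : (Fin n → F) ≃ₗ[F] (Fin n → F))
    (M : Matrix (Fin k) (Fin k) F) (h : Rep g M) : n = k := by
  obtain ⟨e, -⟩ := h
  have := LinearEquiv.finrank_eq e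
  simpa using this

/-- **G5 core**: `three_main` from the first half of `Q3 (toLin' g)` (unfolded). -/
theorem oreg5_core (n : ℕ) (hn : 3 ≤ n) (g : Matrix.SpecialLinearGroup (Fin n) (ZMod 3))
    (hQ : LinearEquiv.det (Matrix.SpecialLinearGroup.toLin' g) = 1 →
      Subsingleton (Fin n → ZMod 3) ∨
        (∃ t : ZMod 3, t ≠ 0 ∧ Rep (Matrix.SpecialLinearGroup.toLin' g) (comp2 t 1)) ∨
        Flex (Matrix.SpecialLinearGroup.toLin' g)) :
    ∃ a b : Matrix.SpecialLinearGroup (Fin n) (ZMod 3), g = a * b * a⁻¹ * b⁻¹ := by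
  rcases hQ (oreg5_det_toLin' n g) with hs | ⟨t, -, hrep⟩ | hflex
  · exfalso
    haveI : Nonempty (Fin n) := ⟨⟨0, by omega⟩⟩
    haveI : Nontrivial (Fin n → ZMod 3) := Function.nontrivial
    exact not_subsingleton _ hs
  · exfalso
    have := oreg5_rep_dim n 2 _ _ hrep
    omega
  · exact bridge n g (hflex 1 1)

end Cfsg.Agent.Lib.Helper19.ORE
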