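import Mathlib
import Cfsg.Agent.Lib.Helper19.ORE.Defs
import Cfsg.Agent.Lib.Helper19.ORE.Defs2
import Cfsg.Agent.Lib.helper2.OREG5core
import Cfsg.Agent.Lib.helper15.OREG4

/-!
# Project ORE (S2444), row G5: `three_main` (verbatim wrapper of `oreg5_core` on G4 `three_all`).
-/

set_option autoImplicit false

namespace Cfsg.Agent.Lib.Helper19.ORE

open Polynomial Module

section Three

/-- **G5**.  `three_all` for `V = Fin n → ZMod 3`, `det = 1`: not subsingleton, not `IsK`
(`finrank = n ≥ 3`), so `Flex`, in particular `SolP _ 1 1 0`; `bridge`. -/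
theorem three_main (n : ℕ) (hn : 3 ≤ n) (g : Matrix.SpecialLinearGroup (Fin n) (ZMod 3)) :
    ∃ a b : Matrix.SpecialLinearGroup (Fin n) (ZMod 3), g = a * b * a⁻¹ * b⁻¹ :=
  oreg5_core n hn g
    (three_all n (Fin n → ZMod 3) (Matrix.SpecialLinearGroup.toLin' g) (by simp)).1

end Three

end Cfsg.Agent.Lib.Helper19.ORE
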