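import Mathlib
import Cfsg.Agent.Lib.Helper13.OTS.Defs
import Cfsg.Agent.Lib.helper15.OTSSTDCTX
import Cfsg.Agent.Lib.Helper24.ODNARITH8

set_option autoImplicit false
set_option linter.unusedVariables false
set_option linter.unusedSectionVars false

/-!
# Project OTS, part R, row TWOSUFFM (`q_two_suff_minus`): the core.  `ε = -1`, sufficiency for `r = 2`.
The unlanded rows TYTOP, INVDET, INVOL, NEGHERM and helper1's ODN rows `odn_sign`, `odn_cnt_one` enter as (specialised) hypotheses;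
STDCTX (helper15) and `odn_arith_eight` (helper24) are cited.
-/

namespace Cfsg.Agent.Lib.Helper13.OTS

open Polynomial Module Cfsg.Agent.Lib.Helper13.S5955 Cfsg.Agent.Lib.helper15.S5972

/-- `x ^ 2 = z • 1` for an isometry of a non-degenerate space in coordinates: `z = 1` or `z = -1`, and `toLin' x (toLin' x v) = z • v` -/
theorem otstwosuffm_z {F : Type*} [Field F] {ι : Type} [Fintype ι] [DecidableEq ι] [Nonempty ι]
    (Qs : QuadraticForm F (ι → F)) (hnd : ∀ u, (∀ v, QuadraticMap.polar Qs u v = 0) → u = 0)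
    (x : GL ι F) (hpres : ∀ v, Qs (Matrix.toLin' (x : Matrix ι ι F) v) = Qs v) (z : F)
    (hz : ((x ^ 2 : GL ι F) : Matrix ι ι F) = z • (1 : Matrix ι ι F)) :
    (∀ v, Matrix.toLin' (x : Matrix ι ι F) (Matrix.toLin' (x : Matrix ι ι F) v) = z • v) ∧ (z = 1 ∨ z = -1) := by
  have hyy : ∀ v, Matrix.toLin' (x : Matrix ι ι F) (Matrix.toLin' (x : Matrix ι ι F) v) = z • v := by
    intro v
    rw [Matrix.toLin'_apply, Matrix.toLin'_apply, Matrix.mulVec_mulVec, ← Units.val_mul, ← pow_two, hz,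
      Matrix.smul_mulVec, Matrix.one_mulVec]
  refine ⟨hyy, ?_⟩
  -- a vector with `Qs v ≠ 0`
  have hv0 : ∃ v0, Qs v0 ≠ 0 := by
    by_contra hcon
    push Not at hcon
    obtain ⟨i⟩ := ‹Nonempty ι›
    have h1 : (fun _ : ι => (1 : F)) = 0 := by
      apply hnd
      intro v
      unfold QuadraticMap.polar
      rw [hcon, hcon, hcon]
      simp
    have := congrFun h1 i
    simp at this
  obtain ⟨v0, hv0⟩ := hv0
  have h1 : Qs (z • v0) = Qs v0 := by rw [← hyy, hpres, hpres]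
  rw [QuadraticMap.map_smul, smul_eq_mul] at h1
  have h2 : (z * z - 1) * Qs v0 = 0 := by rw [sub_mul, h1, one_mul, sub_self]
  rcases mul_eq_zero.mp h2 with h3 | h3
  · exact mul_self_eq_one_iff.mp (sub_eq_zero.mp h3)
  · exact absurd h3 hv0

/-- the core of TWOSUFFM -/
theorem otstwosuffm_core {F : Type*} [Field F] [Fintype F] {p : ℕ} [Fact p.Prime] [CharP F p]
    (hp2 : p ≠ 2) {ι : Type} [Fintype ι] [DecidableEq ι] (Qs : QuadraticForm F (ι → F)) (d : ℕ)
    (hs : QStd Qs d (-1)) (hd : 1 ≤ d) (m : ℕ) (hm : m + 1 ≤ d)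
    (hC : Even d ∨ Even m ∨ Fintype.card F % 8 ≠ 7)
    (x : GL ι F) (hx : x ∈ Cfsg.Geo.omegaGL (⇑Qs))
    (hxr : ∃ z : F, ((x ^ 2 : GL ι F) : Matrix ι ι F) = z • (1 : Matrix ι ι F))
    (hTop : QTy Qs (⊤ : Submodule F (ι → F)) (-1) ∧ finrank F (ι → F) = 2 * d ∧
      (∀ u, (∀ v, QuadraticMap.polar Qs u v = 0) → u = 0))
    (hEven : (2 : F) ≠ 0 → x ^ 2 = 1 → Even (finrank F (cycS 2 (Matrix.toLin' (x : Matrix ι ι F)))))
    (hInvol : QCtx 2 Qs (Matrix.toLin' (x : Matrix ι ι F)) → finrank F (ι → F) = 2 * d →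
      QTy Qs (⊤ : Submodule F (ι → F)) (-1) → Even (finrank F (cycS 2 (Matrix.toLin' (x : Matrix ι ι F)))) →
      ∀ m, m + 1 ≤ d → QTd Qs (Matrix.toLin' (x : Matrix ι ι F)) m)
    (hSign : (2 : F) ≠ 0 → (x : Matrix ι ι F) * (x : Matrix ι ι F) = -1 →
      8 ∣ Nat.card {v : ι → F // Qs v = 1})
    (hCnt : (2 : F) ≠ 0 → (Nat.card {v : ι → F // Qs v = 1} : ℤ) =
      (Fintype.card F : ℤ) ^ (d - 1) * ((Fintype.card F : ℤ) ^ d - (-1)))
    (hHerm : ¬ IsSquare (-1 : F) → (∀ u, (∀ v, QuadraticMap.polar Qs u v = 0) → u = 0) →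
      (∀ v, Qs (Matrix.toLin' (x : Matrix ι ι F) v) = Qs v) →
      (∀ v, Matrix.toLin' (x : Matrix ι ι F) (Matrix.toLin' (x : Matrix ι ι F) v) = -v) →
      finrank F (ι → F) = 2 * d → ∀ j, 2 * j ≤ d → QTd Qs (Matrix.toLin' (x : Matrix ι ι F)) (2 * j)) :
    ∃ W : Submodule F (ι → F), finrank F W = m ∧ (∀ w ∈ W, Qs w = 0) ∧
      W.map (Matrix.toLin' (x : Matrix ι ι F)) ≤ W := by
  have h2 : (2 : F) ≠ 0 := by
    intro h
    have h' : ((2 : ℕ) : F) = 0 := by exact_mod_cast h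
    rw [CharP.cast_eq_zero_iff F p] at h'
    exact hp2 ((Nat.prime_dvd_prime_iff_eq Fact.out Nat.prime_two).mp h')
  have hiso := q_omega_le Qs x hx
  have hpres : ∀ v, Qs (Matrix.toLin' (x : Matrix ι ι F) v) = Qs v := by
    intro v
    rw [Matrix.toLin'_apply]
    exact hiso v v
  have : Nonempty ι := by
    apply Fintype.card_pos_iff.mp
    rw [hs.card]
    omega
  obtain ⟨z, hz⟩ := hxr
  obtain ⟨hyy, hz1⟩ := otstwosuffm_z Qs hTop.2.2 x hpres z hz
  -- conversion of the conclusion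
  have hconv : QTd Qs (Matrix.toLin' (x : Matrix ι ι F)) m →
      ∃ W : Submodule F (ι → F), finrank F W = m ∧ (∀ w ∈ W, Qs w = 0) ∧
        W.map (Matrix.toLin' (x : Matrix ι ι F)) ≤ W := by
    rintro ⟨W, hWinv, hWts, hWdim⟩
    refine ⟨W, hWdim, hWts, ?_⟩
    rw [Submodule.map_le_iff_le_comap]
    intro w hw
    exact hWinv w hw
  rcases hz1 with rfl | rfl
  · -- `x ^ 2 = 1`
    have hx2 : x ^ 2 = 1 := by
      apply Units.ext
      rw [hz, one_smul, Units.val_one]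
    have hctx := q_std_ctx Qs hs.nd 2 x hiso hx2
    exact hconv (hInvol hctx hTop.2.1 hTop.1 (hEven h2 hx2) m hm)
  · -- `x ^ 2 = -1`
    have hxx : (x : Matrix ι ι F) * (x : Matrix ι ι F) = -1 := by
      rw [pow_two, Units.val_mul] at hz
      rw [hz]
      simp
    have h8 := hSign h2 hxx
    have hcnt := hCnt h2
    have h8' : (8 : ℤ) ∣ (Fintype.card F : ℤ) ^ (d - 1) * ((Fintype.card F : ℤ) ^ d - (-1)) := by
      rw [← hcnt]
      exact_mod_cast h8
    have hqodd : Odd (Fintype.card F) := by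
      rw [Nat.odd_iff]
      apply FiniteField.odd_card_of_char_ne_two
      rw [ringChar.eq F p]
      exact hp2
    rcases (Cfsg.Agent.Lib.Helper1.ODN.odn_arith_eight (Fintype.card F) d hqodd hd (-1) (Or.inr rfl)).mp h8' with
      ⟨h, _⟩ | ⟨_, hdodd, hq7⟩
    · norm_num at h
    have hmeven : Even m := by
      rcases hC with h | h | h
      · exact absurd h (Nat.not_even_iff_odd.mpr hdodd)
      · exact h
      · exact absurd hq7 h
    have hnsq : ¬ IsSquare (-1 : F) := by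
      rw [FiniteField.isSquare_neg_one_iff]
      omega
    obtain ⟨j, hj⟩ := hmeven
    have hyy' : ∀ v, Matrix.toLin' (x : Matrix ι ι F) (Matrix.toLin' (x : Matrix ι ι F) v) = -v := by
      intro v
      rw [hyy, neg_one_smul]
    have hherm := hHerm hnsq hTop.2.2 hpres hyy' hTop.2.1 j (by omega)
    apply hconv
    have hmj : m = 2 * j := by omega
    rw [hmj]
    exact hherm

end Cfsg.Agent.Lib.Helper13.OTS
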