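import Mathlib
import Cfsg.Agent.Lib.Helper13.OTS.Defs

set_option autoImplicit false
set_option linter.unusedVariables false
set_option linter.unusedSectionVars false

/-!
# Project OTS, row TYTOP, second write (helper2): `otstytop_h2` has the SAME statement as `q_ty_top` of `Helper13/OTS/Skel.lean.txt`
(copy of helper24's `std_facts`, Helper24/OPESTDCTX.lean).
-/

namespace Cfsg.Agent.Lib.Helper13.OTS

open Polynomial Module Cfsg.Agent.Lib.Helper13.S5955 Cfsg.Agent.Lib.helper15.S5972

/-- TYTOP (second write): the type of a standard space, read on `⊤`. -/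
theorem otstytop_h2 {F : Type*} [Field F] [Fintype F] {ι : Type} [Fintype ι] [DecidableEq ι]
    (Qs : QuadraticForm F (ι → F)) (d : ℕ) (ε : ℤ) (hs : QStd Qs d ε) :
    QTy Qs (⊤ : Submodule F (ι → F)) ε ∧ finrank F (ι → F) = 2 * d ∧
      (∀ u, (∀ v, QuadraticMap.polar Qs u v = 0) → u = 0) := by
  have hfr : finrank F (ι → F) = 2 * d := by
    rw [Module.finrank_fintype_fun_eq_card, hs.card]
  refine ⟨?_, hfr, ?_⟩
  · unfold QTy
    have hd : finrank F ↥(⊤ : Submodule F (ι → F)) / 2 = d := by
      rw [finrank_top, hfr]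
      omega
    rw [hd]
    refine (Cfsg.Agent.Lib.Helper16.OSemi.isType_congr
      (Submodule.topEquiv (R := F) (M := ι → F)).toEquiv (⇑Qs) _ ?_ d ε).mp hs.ty
    intro w
    rfl
  · intro u hu
    apply hs.nd.1
    intro v
    rw [QuadraticMap.polarBilin_apply_apply]
    exact hu v

end Cfsg.Agent.Lib.Helper13.OTS
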