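import Mathlib
import Cfsg.Agent.Lib.Helper13.OTS.Defs
import Cfsg.Agent.Lib.helper2.OTSTWOSUFFMcore
import Cfsg.Agent.Lib.helper2.OTSTYTOPh2
import Cfsg.Agent.Lib.helper15.OTSINVDET
import Cfsg.Agent.Lib.Helper21.OTSINVOL
import Cfsg.Agent.Lib.helper15.OTSNEGHERM
import Cfsg.Agent.Lib.Helper24.ODNSIGN8
import Cfsg.Agent.Lib.Helper25.ODNCNTONE

set_option autoImplicit false
set_option linter.unusedVariables false
set_option linter.unusedSectionVars false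

/-!
# Project OTS, part R, row TWOSUFFM (`q_two_suff_minus`), VERBATIM: `otstwosuffm_core` + TYTOP (`otstytop_h2`, second write of helper2), INVDET, NEGHERM (helper15),
INVOL (helper21), ODN `odn_sign` (helper24), `odn_cnt_one` (helper25).
-/

namespace Cfsg.Agent.Lib.Helper13.OTS

open Polynomial Module Cfsg.Agent.Lib.Helper13.S5955 Cfsg.Agent.Lib.helper15.S5972

/-- TWOSUFFM [M-L]: `ε = -1`, sufficiency for `r = 2`. -/
theorem q_two_suff_minus {F : Type*} [Field F] [Fintype F] {p : ℕ} [Fact p.Prime] [CharP F p]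
    (hp2 : p ≠ 2) {ι : Type} [Fintype ι] [DecidableEq ι] (Qs : QuadraticForm F (ι → F)) (d : ℕ)
    (hs : QStd Qs d (-1)) (hd : 1 ≤ d) (m : ℕ) (hm : m + 1 ≤ d)
    (hC : Even d ∨ Even m ∨ Fintype.card F % 8 ≠ 7)
    (x : GL ι F) (hx : x ∈ Cfsg.Geo.omegaGL (⇑Qs))
    (hxr : ∃ z : F, ((x ^ 2 : GL ι F) : Matrix ι ι F) = z • (1 : Matrix ι ι F))
    (hns : ∀ z : F, (x : Matrix ι ι F) ≠ z • (1 : Matrix ι ι F)) :
    ∃ W : Submodule F (ι → F), finrank F W = m ∧ (∀ w ∈ W, Qs w = 0) ∧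
      W.map (Matrix.toLin' (x : Matrix ι ι F)) ≤ W :=
  otstwosuffm_core hp2 Qs d hs hd m hm hC x hx hxr (otstytop_h2 Qs d (-1) hs)
    (fun h2 hx2 => q_invol_even h2 Qs x hx hx2)
    (fun h hV hty hev => (q_invol hp2 h d hV (-1) (Or.inr rfl) hty hev).2.1 rfl)
    (fun h2 hxx => Cfsg.Agent.Lib.Helper1.ODN.odn_sign h2 (⇑Qs) (map_zero Qs) x hx hxx)
    (fun h2 => Cfsg.Agent.Lib.Helper1.ODN.odn_cnt_one h2 Qs hs.nd d hd hs.card (-1) (Or.inr rfl) hs.ty)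
    (fun hnsq hnd hpres hyy hV => q_neg_herm hnsq Qs hnd _ hpres hyy d hV)

end Cfsg.Agent.Lib.Helper13.OTS
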