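import Mathlib
import Cfsg.Agent.Lib.Helper13.OTS.Defs
import Cfsg.Agent.Lib.helper15.OTSSTDCTX
import Cfsg.Agent.Lib.helper2.OTSTWOSUFFMcore

set_option autoImplicit false
set_option linter.unusedVariables false
set_option linter.unusedSectionVars false

/-!
# Project OTS, part R, row TWOSUFFP (`q_two_suff_plus`): the core.  `ε = 1`, sufficiency for `r = 2`.
The unlanded rows TYTOP, INVDET, INVOL, INVTOP, NEGSPLIT, NEGTY, NEGHERM enter as (specialised) hypotheses; STDCTX (helper15) is cited.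
-/

namespace Cfsg.Agent.Lib.Helper13.OTS

open Polynomial Module Cfsg.Agent.Lib.Helper13.S5955 Cfsg.Agent.Lib.helper15.S5972

/-- `q ≡ 3 (mod 4)`: odd powers of `q` are `≡ 3 (mod 4)` -/
theorem otstwosuffp_pow (q : ℤ) (hq : q % 4 = 3) (k : ℕ) : q ^ (2 * k + 1) % 4 = 3 := by
  induction k with
  | zero => simpa using hq
  | succ k ih =>
    have : q ^ (2 * (k + 1) + 1) = q ^ (2 * k + 1) * q * q := by ring
    rw [this, Int.mul_emod, Int.mul_emod (q ^ (2 * k + 1)) q, ih, hq]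
    rfl

/-- `q ≡ 3 (mod 4)` and `4 ∣ q ^ d - 1` force `d` even -/
theorem otstwosuffp_even (q : ℕ) (hq : q % 4 = 3) (d : ℕ) (h : (4 : ℤ) ∣ (q : ℤ) ^ d - 1) : Even d := by
  rcases Nat.even_or_odd d with he | ⟨k, rfl⟩
  · exact he
  · exfalso
    have h1 := otstwosuffp_pow (q : ℤ) (by omega) k
    omega

/-- the core of TWOSUFFP -/
theorem otstwosuffp_core {F : Type*} [Field F] [Fintype F] {p : ℕ} [Fact p.Prime] [CharP F p]
    (hp2 : p ≠ 2) {ι : Type} [Fintype ι] [DecidableEq ι] (Qs : QuadraticForm F (ι → F)) (d : ℕ)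
    (hs : QStd Qs d 1) (hd : 1 ≤ d) (m : ℕ) (hm : m + 1 ≤ d)
    (hC : Fintype.card F % 4 = 1 ∨
      (Fintype.card F % 4 = 3 ∧ m + 2 ≤ d ∧ (Even m ∨ (2 * d) % 4 = 2)))
    (x : GL ι F) (hx : x ∈ Cfsg.Geo.omegaGL (⇑Qs))
    (hxr : ∃ z : F, ((x ^ 2 : GL ι F) : Matrix ι ι F) = z • (1 : Matrix ι ι F))
    (hTop : QTy Qs (⊤ : Submodule F (ι → F)) 1 ∧ finrank F (ι → F) = 2 * d ∧
      (∀ u, (∀ v, QuadraticMap.polar Qs u v = 0) → u = 0))
    (hEven : (2 : F) ≠ 0 → x ^ 2 = 1 → Even (finrank F (cycS 2 (Matrix.toLin' (x : Matrix ι ι F)))))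
    (hInvol : QCtx 2 Qs (Matrix.toLin' (x : Matrix ι ι F)) → finrank F (ι → F) = 2 * d →
      QTy Qs (⊤ : Submodule F (ι → F)) 1 → Even (finrank F (cycS 2 (Matrix.toLin' (x : Matrix ι ι F)))) →
      (∀ m, m + 2 ≤ d → QTd Qs (Matrix.toLin' (x : Matrix ι ι F)) m) ∧
        (QTy Qs (cycS 2 (Matrix.toLin' (x : Matrix ι ι F))) 1 →
          ∀ m, m ≤ d → QTd Qs (Matrix.toLin' (x : Matrix ι ι F)) m))
    (hInvTop : Fintype.card F % 4 = 1 → x ^ 2 = 1 →
      QTy Qs (cycS 2 (Matrix.toLin' (x : Matrix ι ι F))) 1)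
    (hSplit : (2 : F) ≠ 0 → (∀ u, (∀ v, QuadraticMap.polar Qs u v = 0) → u = 0) →
      (∀ v, Qs (Matrix.toLin' (x : Matrix ι ι F) v) = Qs v) →
      (∀ v, Matrix.toLin' (x : Matrix ι ι F) (Matrix.toLin' (x : Matrix ι ι F) v) = -v) →
      ∀ ι₀ : F, ι₀ * ι₀ = -1 → finrank F (ι → F) = 2 * d →
      ∀ m, m ≤ d → QTd Qs (Matrix.toLin' (x : Matrix ι ι F)) m)
    (hNegTy : (2 : F) ≠ 0 → x ∈ Cfsg.isometryGroup F (⇑Qs) →
      (x : Matrix ι ι F) * (x : Matrix ι ι F) = -1 → (4 : ℤ) ∣ (Fintype.card F : ℤ) ^ d - 1)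
    (hHerm : ¬ IsSquare (-1 : F) → (∀ u, (∀ v, QuadraticMap.polar Qs u v = 0) → u = 0) →
      (∀ v, Qs (Matrix.toLin' (x : Matrix ι ι F) v) = Qs v) →
      (∀ v, Matrix.toLin' (x : Matrix ι ι F) (Matrix.toLin' (x : Matrix ι ι F) v) = -v) →
      finrank F (ι → F) = 2 * d → ∀ j, 2 * j ≤ d → QTd Qs (Matrix.toLin' (x : Matrix ι ι F)) (2 * j)) :
    ∃ W : Submodule F (ι → F), finrank F W = m ∧ (∀ w ∈ W, Qs w = 0) ∧
      W.map (Matrix.toLin' (x : Matrix ι ι F)) ≤ W := by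
  have h2 : (2 : F) ≠ 0 := by
    intro h
    have h' : ((2 : ℕ) : F) = 0 := by exact_mod_cast h
    rw [CharP.cast_eq_zero_iff F p] at h'
    exact hp2 ((Nat.prime_dvd_prime_iff_eq Fact.out Nat.prime_two).mp h')
  have hiso := q_omega_le Qs x hx
  have hpres : ∀ v, Qs (Matrix.toLin' (x : Matrix ι ι F) v) = Qs v := by
    intro v
    rw [Matrix.toLin'_apply]
    exact hiso v v
  have : Nonempty ι := by
    apply Fintype.card_pos_iff.mp
    rw [hs.card]
    omega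
  obtain ⟨z, hz⟩ := hxr
  obtain ⟨hyy, hz1⟩ := otstwosuffm_z Qs hTop.2.2 x hpres z hz
  have hconv : QTd Qs (Matrix.toLin' (x : Matrix ι ι F)) m →
      ∃ W : Submodule F (ι → F), finrank F W = m ∧ (∀ w ∈ W, Qs w = 0) ∧
        W.map (Matrix.toLin' (x : Matrix ι ι F)) ≤ W := by
    rintro ⟨W, hWinv, hWts, hWdim⟩
    refine ⟨W, hWdim, hWts, ?_⟩
    rw [Submodule.map_le_iff_le_comap]
    intro w hw
    exact hWinv w hw
  apply hconv
  rcases hz1 with rfl | rfl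
  · -- `x ^ 2 = 1`
    have hx2 : x ^ 2 = 1 := by
      apply Units.ext
      rw [hz, one_smul, Units.val_one]
    have hctx := q_std_ctx Qs hs.nd 2 x hiso hx2
    obtain ⟨hA, hB⟩ := hInvol hctx hTop.2.1 hTop.1 (hEven h2 hx2)
    by_cases hm2 : m + 2 ≤ d
    · exact hA m hm2
    · rcases hC with hq1 | ⟨_, hm2', _⟩
      · exact hB (hInvTop hq1 hx2) m (by omega)
      · exact absurd hm2' hm2
  · -- `x ^ 2 = -1`
    have hxx : (x : Matrix ι ι F) * (x : Matrix ι ι F) = -1 := by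
      rw [pow_two, Units.val_mul] at hz
      rw [hz]
      simp
    have hyy' : ∀ v, Matrix.toLin' (x : Matrix ι ι F) (Matrix.toLin' (x : Matrix ι ι F) v) = -v := by
      intro v
      rw [hyy, neg_one_smul]
    rcases hC with hq1 | ⟨hq3, hm2, hmd⟩
    · have hsq : IsSquare (-1 : F) := by
        rw [FiniteField.isSquare_neg_one_iff]
        omega
      obtain ⟨ι₀, hι⟩ := hsq
      exact hSplit h2 hTop.2.2 hpres hyy' ι₀ hι.symm hTop.2.1 m (by omega)
    · have hdeven := otstwosuffp_even (Fintype.card F) hq3 d (hNegTy h2 hiso hxx)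
      have hmeven : Even m := by
        rcases hmd with h | h
        · exact h
        · exfalso
          obtain ⟨k, hk⟩ := hdeven
          omega
      have hnsq : ¬ IsSquare (-1 : F) := by
        rw [FiniteField.isSquare_neg_one_iff]
        omega
      obtain ⟨j, hj⟩ := hmeven
      have hherm := hHerm hnsq hTop.2.2 hpres hyy' hTop.2.1 j (by omega)
      have hmj : m = 2 * j := by omega
      rw [hmj]
      exact hherm

end Cfsg.Agent.Lib.Helper13.OTS
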