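import Mathlib
import Cfsg.Agent.Lib.Helper13.OTS.Defs
import Cfsg.Agent.Lib.helper2.OTSTWOSUFFPcore
import Cfsg.Agent.Lib.helper2.OTSTYTOPh2
import Cfsg.Agent.Lib.helper15.OTSINVDET
import Cfsg.Agent.Lib.Helper21.OTSINVOL
import Cfsg.Agent.Lib.helper14.OTSINVTOP
import Cfsg.Agent.Lib.helper15.OTSNEGSPLIT
import Cfsg.Agent.Lib.helper15.OTSNEGTY
import Cfsg.Agent.Lib.helper15.OTSNEGHERM

set_option autoImplicit false
set_option linter.unusedVariables false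
set_option linter.unusedSectionVars false

/-!
# Project OTS, part R, row TWOSUFFP (`q_two_suff_plus`), VERBATIM: `otstwosuffp_core` + TYTOP (`otstytop_h2`, second write of helper2), INVDET, NEGSPLIT, NEGTY,
NEGHERM (helper15), INVOL (helper21), INVTOP (helper14).
-/

namespace Cfsg.Agent.Lib.Helper13.OTS

open Polynomial Module Cfsg.Agent.Lib.Helper13.S5955 Cfsg.Agent.Lib.helper15.S5972

/-- TWOSUFFP [M-L]: `ε = 1`, sufficiency for `r = 2`. -/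
theorem q_two_suff_plus {F : Type*} [Field F] [Fintype F] {p : ℕ} [Fact p.Prime] [CharP F p] (hp2 : p ≠ 2)
    {ι : Type} [Fintype ι] [DecidableEq ι] (Qs : QuadraticForm F (ι → F)) (d : ℕ) (hs : QStd Qs d 1)
    (hd : 1 ≤ d) (m : ℕ) (hm : m + 1 ≤ d)
    (hC : Fintype.card F % 4 = 1 ∨
      (Fintype.card F % 4 = 3 ∧ m + 2 ≤ d ∧ (Even m ∨ (2 * d) % 4 = 2)))
    (x : GL ι F) (hx : x ∈ Cfsg.Geo.omegaGL (⇑Qs))
    (hxr : ∃ z : F, ((x ^ 2 : GL ι F) : Matrix ι ι F) = z • (1 : Matrix ι ι F))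
    (hns : ∀ z : F, (x : Matrix ι ι F) ≠ z • (1 : Matrix ι ι F)) :
    ∃ W : Submodule F (ι → F), finrank F W = m ∧ (∀ w ∈ W, Qs w = 0) ∧
      W.map (Matrix.toLin' (x : Matrix ι ι F)) ≤ W :=
  otstwosuffp_core hp2 Qs d hs hd m hm hC x hx hxr (otstytop_h2 Qs d 1 hs)
    (fun h2 hx2 => q_invol_even h2 Qs x hx hx2)
    (fun h hV hty hev => ⟨(q_invol hp2 h d hV 1 (Or.inl rfl) hty hev).1,
      (q_invol hp2 h d hV 1 (Or.inl rfl) hty hev).2.2 rfl⟩)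
    (fun hq hx2 => q_invol_top hq Qs hs.nd x hx hx2)
    (fun h2 hnd hpres hyy ι₀ hι hV => q_neg_split h2 Qs hnd _ hpres hyy ι₀ hι d hV)
    (fun h2 hiso hxx => q_neg_ty h2 Qs d 1 hs hd x hiso hxx)
    (fun hnsq hnd hpres hyy hV => q_neg_herm hnsq Qs hnd _ hpres hyy d hV)

end Cfsg.Agent.Lib.Helper13.OTS
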