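import Mathlib
import Cfsg.Prelude.Def_GeometricClasses
import Cfsg.Agent.Lib.Helper19.OU.Defs
import Cfsg.Agent.Lib.Helper10.OUEXSS
import Cfsg.Agent.Lib.helper2.OUEXSP

set_option autoImplicit false
set_option linter.unusedVariables false
set_option linter.unusedSectionVars false

/-!
# Project OU / SPU toolbox, EXG : a singular vector with prescribed products against `r` independent vectors, `2 r + 3 ≤ n`.
(`ex_sing_perp` for `S = span (range a)` gives a singular `w ⊥ S` outside `S`; `ex_sing_solve` on `Fin.snoc a w`, `j = last`.)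
-/

namespace Cfsg.Agent.Lib.Helper19.OU

open Matrix Cfsg.Agent.Lib.Helper28.HForm Cfsg.Agent.Lib.Helper28.OGen
  Cfsg.Agent.Lib.Helper28.OMax Cfsg.Agent.Lib.Helper28.OQ Cfsg.Agent.Lib.Helper28.OMax2
  Cfsg.Agent.Lib.Helper28.OIwa Cfsg.Agent.Lib.Helper28.OPair

variable {n : ℕ} {F : Type*} [Field F] {Q : (Fin n → F) → F}
  {f : (Fin n → F) → (Fin n → F) → F} {θ : Matrix (Fin n) (Fin n) F} {t N : F}
  {G M : Subgroup (Matrix.GeneralLinearGroup (Fin n) F)}

/-- EXG : `a₁ … a_r` independent, `c` arbitrary, `2 r + 3 ≤ n` : a singular `x` with `f (a i) x = c i`. -/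
theorem ouexg_ex_sing_gen [Fintype F] (hq : QF Q f) {r : ℕ} (a : Fin r → (Fin n → F))
    (ha : LinearIndependent F a) (c : Fin r → F) (hn : 2 * r + 3 ≤ n) :
    ∃ x, Q x = 0 ∧ ∀ i, f (a i) x = c i := by
  have hf := hq.sym
  have hdim : Module.finrank F (Submodule.span F (Set.range a)) = r := by
    rw [finrank_span_eq_card ha, Fintype.card_fin]
  obtain ⟨w, hw, hperp, hwS⟩ := ex_sing_perp hq (Submodule.span F (Set.range a)) (by rw [hdim]; exact hn)
  have hli : LinearIndependent F (Fin.snoc a w : Fin (r + 1) → (Fin n → F)) :=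
    linearIndependent_finSnoc.2 ⟨ha, hwS⟩
  have haw : ∀ i, f (a i) w = 0 := fun i => hperp (a i) (Submodule.subset_span ⟨i, rfl⟩)
  obtain ⟨x, hx, hxs⟩ := ex_sing_solve hq (Fin.snoc a w : Fin (r + 1) → (Fin n → F)) hli
    (Fin.snoc c 1 : Fin (r + 1) → F) (Fin.last r) (by simp) (by simpa using hw) (by
      intro i
      refine Fin.lastCases ?_ (fun j => ?_) i
      · simp only [Fin.snoc_last]
        exact f_sing hq hw
      · simp only [Fin.snoc_castSucc, Fin.snoc_last]
        exact haw j)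
  refine ⟨x, hx, fun i => ?_⟩
  have := hxs (Fin.castSucc i)
  simpa using this

end Cfsg.Agent.Lib.Helper19.OU
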