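import Mathlib
import Cfsg.Prelude.Def_GeometricClasses
import Cfsg.Agent.Lib.Helper19.OU.Defs

set_option autoImplicit false
set_option linter.unusedVariables false
set_option linter.unusedSectionVars false

/-!
# Project OU, piece USG (core): the unitary Siegel element of a pair `w, w'` as a product of three unitary
transvections.  Pure computation; the existence of the three transvections in `M` (piece TAU) is a hypothesis.
-/

namespace Cfsg.Agent.Lib.Helper19.OU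

open Matrix Cfsg.Agent.Lib.Helper28.HForm Cfsg.Agent.Lib.Helper28.OGen
  Cfsg.Agent.Lib.Helper28.OMax Cfsg.Agent.Lib.Helper28.OQ Cfsg.Agent.Lib.Helper28.OMax2
  Cfsg.Agent.Lib.Helper28.OIwa Cfsg.Agent.Lib.Helper28.OPair

variable {n : ℕ} {F : Type*} [Field F] {Q : (Fin n → F) → F}
  {f : (Fin n → F) → (Fin n → F) → F} {θ : Matrix (Fin n) (Fin n) F} {t N : F}
  {G M : Subgroup (Matrix.GeneralLinearGroup (Fin n) F)}

theorem ouusg_sq_mv (ks : KS Q f θ t N) (x : Fin n → F) :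
    θ *ᵥ (θ *ᵥ x) = t • (θ *ᵥ x) - N • x := by
  rw [Matrix.mulVec_mulVec, ks.sq, Matrix.sub_mulVec, Matrix.smul_mulVec, Matrix.smul_mulVec,
    Matrix.one_mulVec]

theorem ouusg_adj' (ks : KS Q f θ t N) (u v : Fin n → F) :
    f u (θ *ᵥ v) = t * f u v - f (θ *ᵥ u) v := by
  rw [ks.adj u v]; ring

theorem ouusg_ff (ks : KS Q f θ t N) (u v : Fin n → F) : f (θ *ᵥ u) (θ *ᵥ v) = N * f u v := by
  have hf := ks.hq.sym
  rw [ks.adj u (θ *ᵥ v), ouusg_sq_mv ks v, f_sub_right hf, s_smul_right hf, s_smul_right hf]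
  ring

/-- `Q (w + w') = 0` for singular orthogonal `w, w'` -/
theorem ouusg_Q_add (hq : QF Q f) {w w' : Fin n → F} (hw : Q w = 0) (hw' : Q w' = 0)
    (h : f w w' = 0) : Q (w + w') = 0 := by
  rw [hq.polar, hw, hw', h]; ring

/-- the computation: `τ_{w+w'}(1) τ_w(-1) τ_{w'}(-1)` is the unitary Siegel element of `w, w'` -/
theorem usg_core (ks : KS Q f θ t N) {w w' : Fin n → F} (hw : Q w = 0)
    (hw' : Q w' = 0) (ho : HO f θ w w')
    {t1 t2 t3 : Matrix.GeneralLinearGroup (Fin n) F}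
    (h1 : IsSg f t1 (w + w') (θ *ᵥ (w + w')) 1) (h2 : IsSg f t2 w (θ *ᵥ w) (-1))
    (h3 : IsSg f t3 w' (θ *ᵥ w') (-1)) :
    ∀ x, ((t1 * t2 * t3 : Matrix.GeneralLinearGroup (Fin n) F) : Matrix (Fin n) (Fin n) F) *ᵥ x =
      x + f w x • (θ *ᵥ w') + f w' x • (θ *ᵥ w) - f (θ *ᵥ w) x • w' - f (θ *ᵥ w') x • w := by
  have hq := ks.hq
  have hf := hq.sym
  intro x
  -- the zero facts : `K w + K w'` is totally isotropic
  have a1 : f w w = 0 := f_sing hq hw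
  have a2 : f w' w' = 0 := f_sing hq hw'
  have a3 : f w (θ *ᵥ w) = 0 := by rw [ks.fθ, hw, mul_zero]
  have a4 : f w' (θ *ᵥ w') = 0 := by rw [ks.fθ, hw', mul_zero]
  have a5 : f (θ *ᵥ w) w = 0 := by rw [s_symm hf, a3]
  have a6 : f (θ *ᵥ w') w' = 0 := by rw [s_symm hf, a4]
  have a7 : f (θ *ᵥ w) (θ *ᵥ w) = 0 := by rw [ouusg_ff ks, a1, mul_zero]
  have a8 : f (θ *ᵥ w') (θ *ᵥ w') = 0 := by rw [ouusg_ff ks, a2, mul_zero]
  have b1 : f w w' = 0 := ho.1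
  have b2 : f (θ *ᵥ w) w' = 0 := ho.2
  have b3 : f w' w = 0 := by rw [s_symm hf, b1]
  have b4 : f w' (θ *ᵥ w) = 0 := by rw [s_symm hf, b2]
  have b5 : f w (θ *ᵥ w') = 0 := by rw [ouusg_adj' ks, b1, b2]; ring
  have b6 : f (θ *ᵥ w') w = 0 := by rw [s_symm hf, b5]
  have b7 : f (θ *ᵥ w) (θ *ᵥ w') = 0 := by rw [ouusg_ff ks, b1, mul_zero]
  have b8 : f (θ *ᵥ w') (θ *ᵥ w) = 0 := by rw [s_symm hf, b7]
  rw [Cfsg.Agent.S5643.mul_mv, Cfsg.Agent.S5643.mul_mv, h3 x, h2, h1]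
  unfold Tv
  rw [Matrix.mulVec_add]
  simp only [f_add_right hf, f_sub_right hf, s_smul_right hf, hf.add_left,
    a1, a2, a3, a4, a5, a6, a7, a8, b1, b2, b3, b4, b5, b6, b7, b8]
  module

end Cfsg.Agent.Lib.Helper19.OU
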