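import Mathlib
import Cfsg.Agent.Lib.helper23.P4S.DefsC

set_option autoImplicit false

/-!
# Project P4C (S3466), row EVU (`ev_upper`), core: the statement of SL5 (`rho2_ss`, `p = 2`) is a hypothesis.
The unipotent case does not need R3: in characteristic 2, `tr A = 0` and `det A = 1` give `A ^ 2 = 1`.
-/

namespace Cfsg.Agent.Lib.helper23.P4S

open Matrix
open scoped Kronecker

/-- in characteristic 2 a `2 × 2` matrix of determinant 1 and trace 0 is an involution -/
theorem p4cevu_sq {E : Type} [Field E] (h2 : (2 : E) = 0) (A : Matrix (Fin 2) (Fin 2) E) (hdet : A.det = 1)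
    (htr : A.trace = 0) : A * A = 1 := by
  rw [Matrix.det_fin_two] at hdet
  rw [Matrix.trace_fin_two] at htr
  have hdet' : A 0 0 * A 1 1 - A 0 1 * A 1 0 - 1 = 0 := by rw [hdet]; ring
  ext i j
  fin_cases i <;> fin_cases j
  · simp only [Fin.zero_eta, Matrix.mul_apply, Fin.sum_univ_two, Fin.isValue, Matrix.one_apply_eq]
    linear_combination (A 0 0) * htr - hdet' - h2
  · simp only [Fin.zero_eta, Fin.mk_one, Matrix.mul_apply, Fin.sum_univ_two, Fin.isValue]
    rw [Matrix.one_apply_ne (by decide)]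
    linear_combination (A 0 1) * htr
  · simp only [Fin.zero_eta, Fin.mk_one, Matrix.mul_apply, Fin.sum_univ_two, Fin.isValue]
    rw [Matrix.one_apply_ne (by decide)]
    linear_combination (A 1 0) * htr
  · simp only [Fin.mk_one, Matrix.mul_apply, Fin.sum_univ_two, Fin.isValue, Matrix.one_apply_eq]
    linear_combination (A 1 1) * htr - hdet' - h2

/-- `gcd 2 (2 ^ n - 1) = 1` -/
theorem p4cevu_gcd (n : ℕ) (hn : 1 ≤ n) : Nat.gcd 2 (2 ^ n - 1) = 1 := by
  obtain ⟨k, rfl⟩ : ∃ k, n = k + 1 := ⟨n - 1, by omega⟩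
  have hodd : Odd (2 ^ (k + 1) - 1) := by
    refine ⟨2 ^ k - 1, ?_⟩
    have := Nat.one_le_two_pow (n := k)
    rw [pow_succ]
    omega
  exact Nat.coprime_two_left.mpr hodd

/-- EVU, core: `hss` is the statement of SL5 (`rho2_ss`) for `p = 2`. -/
theorem p4cevu_core {E : Type} [Field E] [Fintype E] [CharP E 2] (n : ℕ) (hn : 1 ≤ n)
    (hss : ∀ A : Matrix.SpecialLinearGroup (Fin 2) E, A.1.trace ^ 2 ≠ 4 →
      ∃ r : ℕ, 0 < r ∧ ¬ r ∣ 2 ∧ orderOf A = r ∧ (r ∣ (2 ^ n) ^ 2 - 1 ∨ r ∣ (2 ^ n) ^ 2 + 1) ∧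
      (∀ k : ℕ, (rho2 (frq E 2 n) A) ^ k = 1 ↔ r ∣ Nat.gcd 2 (2 ^ n - 1) * k) ∧
      (gsum ((rho2 (frq E 2 n) A : GL (Fin 2 × Fin 2) E) : Matrix (Fin 2 × Fin 2) (Fin 2 × Fin 2) E)
          (orderOf (rho2 (frq E 2 n) A)) ≠ 0 ↔ (r ∣ 2 ^ n + 1 ∨ r ∣ 2 ^ n - 1)) ∧
      (frq E 2 n A.1.trace = A.1.trace → (r ∣ 2 ^ n - 1 ∨ r ∣ 2 ^ n + 1)))
    (g : GL (Fin 2 × Fin 2) E) (hg : g ∈ H2 (frq E 2 n)) :
    InT4 2 (2 ^ n) (orderOf g) ∧
      (gsum ((g : GL (Fin 2 × Fin 2) E) : Matrix (Fin 2 × Fin 2) (Fin 2 × Fin 2) E) (orderOf g) ≠ 0 →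
        InT4 2 (2 ^ n) (2 * orderOf g)) := by
  obtain ⟨A, rfl⟩ := hg
  have hgcd := p4cevu_gcd n hn
  by_cases htr : A.1.trace ^ 2 = 4
  · -- the unipotent case
    have h2 : (2 : E) = 0 := CharTwo.two_eq_zero
    have h4 : (4 : E) = 0 := by
      have : (4 : E) = 2 * 2 := by norm_num
      rw [this, h2, mul_zero]
    rw [h4] at htr
    have htr0 : A.1.trace = 0 := by
      rcases pow_eq_zero_iff (n := 2) (by norm_num) |>.mp htr with h
      exact h
    have hA2 : A * A = 1 := by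
      apply Subtype.ext
      rw [Matrix.SpecialLinearGroup.coe_mul]
      exact p4cevu_sq h2 A.1 A.2 htr0
    have hg2 : (rho2 (frq E 2 n) A) ^ 2 = 1 := by
      rw [← map_pow, pow_two, hA2, map_one]
    have hord : orderOf (rho2 (frq E 2 n) A) ∣ 2 := orderOf_dvd_of_pow_eq_one hg2
    constructor
    · right; right; left
      exact Dvd.dvd.mul_right hord _
    · intro _
      right; right; right; right; left
      exact ⟨rfl, Nat.mul_dvd_mul_left 2 hord⟩
  · -- the semisimple case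
    obtain ⟨r, hr0, hr2, hrA, hrq, hpow, hsum, -⟩ := hss A htr
    rw [hgcd] at hpow
    simp only [one_mul] at hpow
    have hord : orderOf (rho2 (frq E 2 n) A) = r := by
      apply Nat.dvd_antisymm
      · exact orderOf_dvd_of_pow_eq_one ((hpow r).mpr dvd_rfl)
      · exact (hpow _).mp (pow_orderOf_eq_one _)
    rw [hord] at hsum ⊢
    constructor
    · unfold InT4
      rw [hgcd, Nat.div_one, Nat.div_one]
      rcases hrq with h | h
      · right; left; exact h
      · left; exact h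
    · intro hne
      rcases hsum.mp hne with h | h
      · right; right; left
        exact Nat.mul_dvd_mul_left 2 h
      · right; right; right; left
        exact Nat.mul_dvd_mul_left 2 h

end Cfsg.Agent.Lib.helper23.P4S
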