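import Mathlib
import Cfsg.Agent.Lib.helper23.P4S.DefsC
import Cfsg.Agent.Lib.helper2.P4CEVUcore
import Cfsg.Agent.Lib.helper23.P4CSL5

set_option autoImplicit false

/-!
# Project P4C (S3466), row EVU (`ev_upper`), verbatim from `helper23/P4S/SkelC.lean.txt`.
-/

namespace Cfsg.Agent.Lib.helper23.P4S

open Matrix
open scoped Kronecker

/-- EVU [M-L] ASSEMBLY. -/
theorem ev_upper {E : Type} [Field E] [Fintype E] [CharP E 2] (n : ℕ) (hn : 1 ≤ n)
    (hE : Fintype.card E = 2 ^ (2 * n)) (g : GL (Fin 2 × Fin 2) E) (hg : g ∈ H2 (frq E 2 n)) :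
    InT4 2 (2 ^ n) (orderOf g) ∧
      (gsum ((g : GL (Fin 2 × Fin 2) E) : Matrix (Fin 2 × Fin 2) (Fin 2 × Fin 2) E) (orderOf g) ≠ 0 →
        InT4 2 (2 ^ n) (2 * orderOf g)) :=
  p4cevu_core n hn (fun A htr => rho2_ss 2 n hn hE A htr) g hg

end Cfsg.Agent.Lib.helper23.P4S
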