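import Mathlib
import Cfsg.Agent.Lib.helper23.P4S.Defs
import Cfsg.Agent.Lib.helper2.P4SU4core
import Cfsg.Agent.Lib.Helper5.P4SU4A
import Cfsg.Agent.Lib.Helper5.P4SU4B

set_option autoImplicit false

/-!
# Project P4S (S3466), row U4 (`root_data`), verbatim from `helper23/P4S/SkelS.lean.txt`.
-/

namespace Cfsg.Agent.Lib.helper23.P4S

open Matrix Polynomial

/-- U4 [M] ASSEMBLY. -/
theorem root_data {K : Type*} [Field K] [DecidableEq K] (p : ℕ) [Fact p.Prime] [CharP K p] (f : ℕ) (hf : 1 ≤ f)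
    (a b l1 l2 : K) (hl1 : l1 ≠ 0) (hl2 : l2 ≠ 0) (ha : a ^ p ^ f = a) (hb : b ^ p ^ f = b)
    (h1 : (l1 + l1⁻¹) + (l2 + l2⁻¹) = a) (h2 : (l1 + l1⁻¹) * (l2 + l2⁻¹) = b - 2) :
    ∃ (N e : ℕ) (c : K), 0 < N ∧ (c = 1 ∨ c = -1) ∧
      (∀ ν ∈ ({l1, l1⁻¹, l2, l2⁻¹} : Multiset K), ν ^ N = c) ∧
      (∀ ν : K, ({l1, l1⁻¹, l2, l2⁻¹} : Multiset K).count ν ≤ p ^ e) ∧ InT4 p (p ^ f) (N * p ^ e) :=
  p4su4_core p f hf (fun l1 l2 => data_swap p f hf l1 l2) (fun l1 l2 => data_fix p f hf l1 l2)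
    a b l1 l2 hl1 hl2 ha hb h1 h2

end Cfsg.Agent.Lib.helper23.P4S
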