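import Mathlib
import Cfsg.Prelude.Def_OddOrderChar
import Cfsg.Agent.Lib.Helper11.Dade

set_option autoImplicit false
open scoped ComplexConjugate

namespace Cfsg.Agent.Lib.helper2

open Cfsg Cfsg.Agent.Lib.Helper11

section dade

variable {G : Type*} [Group G] {A : Set G} {L : Subgroup G} {H : G → Subgroup G}

theorem bgp_extend_mem (α : L → ℂ) {y : G} (hy : y ∈ L) :
    extendByZero L α y = α ⟨y, hy⟩ := by
  unfold extendByZero
  exact Subtype.val_injective.extend_apply α 0 (⟨y, hy⟩ : L)

theorem bgp_extend_not_mem (α : L → ℂ) {y : G} (hy : y ∉ L) :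
    extendByZero L α y = 0 := by
  unfold extendByZero
  rw [Function.extend_apply']
  · rfl
  · rintro ⟨a, rfl⟩
    exact hy a.2

/-- with trivial supporting subgroups the Dade map is induction -/
theorem bgp_ind_eq_dade [Fintype G] [Fintype L] (hD : DadeHypothesis A L H)
    (hH : ∀ a ∈ A, H a = ⊥) (α : L → ℂ) (hα : IsClassFunction L α)
    (hαA : ∀ x : L, (x : G) ∉ A → α x = 0) :
    indFun L α = dadeIsometry A L H α := by
  classical
  have hext0 : ∀ y : G, y ∉ A → extendByZero L α y = 0 := by
    intro y hy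
    by_cases hyL : y ∈ L
    · rw [bgp_extend_mem α hyL]
      exact hαA ⟨y, hyL⟩ hy
    · exact bgp_extend_not_mem α hyL
  funext g
  unfold indFun
  by_cases hg : g ∈ dadeSupp A H
  · obtain ⟨a, ha, u, hu, x₀, hx₀⟩ := hg
    have haL : a ∈ L := hD.subset ha
    rw [dadeIsometry_apply hD α hα g ⟨a, haL⟩ ha x₀ u hu hx₀]
    rw [hH a ha, Subgroup.mem_bot] at hu
    rw [hu, mul_one] at hx₀
    have hcent : Subgroup.centralizer ({a} : Set G) ≤ L := by
      rw [← hD.sup_eq a ha, hH a ha, bot_sup_eq]
      exact inf_le_left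
    have key : ∀ y : G, extendByZero L α (y⁻¹ * a * y) = if y ∈ L then α ⟨a, haL⟩ else 0 := by
      intro y
      by_cases hy : y ∈ L
      · rw [if_pos hy]
        have hmem : y⁻¹ * a * y ∈ L := L.mul_mem (L.mul_mem (L.inv_mem hy) haL) hy
        rw [bgp_extend_mem α hmem]
        have h1 := hα ⟨a, haL⟩ (⟨y, hy⟩⁻¹ : L)
        rw [← h1]
        congr 1
        apply Subtype.ext
        simp
      · rw [if_neg hy]
        apply hext0
        intro hA
        obtain ⟨l, hl, hle⟩ := hD.fusion a ha y⁻¹ (by simpa using hA)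
        have h2 : y * l ∈ Subgroup.centralizer ({a} : Set G) := by
          rw [Subgroup.mem_centralizer_singleton_iff]
          have h3 : l * a * l⁻¹ = y⁻¹ * a * y := by simpa using hle
          calc y * l * a = y * (l * a * l⁻¹) * l := by group
            _ = y * (y⁻¹ * a * y) * l := by rw [h3]
            _ = a * (y * l) := by group
        have h4 : y * l ∈ L := hcent h2
        apply hy
        have : y = (y * l) * l⁻¹ := by group
        rw [this]
        exact L.mul_mem h4 (L.inv_mem hl)
    have hsum : ∑ x : G, extendByZero L α (x⁻¹ * g * x) =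
        ∑ y : G, extendByZero L α (y⁻¹ * a * y) := by
      apply Fintype.sum_equiv (Equiv.mulLeft x₀)
      intro x
      simp only [Equiv.coe_mulLeft]
      congr 1
      rw [← hx₀]
      group
    rw [hsum]
    simp_rw [key]
    rw [Cfsg.Agent.Lib.helper7.h7_sum_subgroup L (fun _ => α ⟨a, haL⟩)]
    rw [Finset.sum_const, Finset.card_univ, ← Nat.card_eq_fintype_card, nsmul_eq_mul]
    have hL : (Nat.card L : ℂ) ≠ 0 := by exact_mod_cast Nat.card_pos.ne'
    field_simp
  · rw [dadeIsometry_zero α g hg]
    have : ∑ x : G, extendByZero L α (x⁻¹ * g * x) = 0 := by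
      apply Finset.sum_eq_zero
      intro x _
      apply hext0
      intro hA
      apply hg
      refine ⟨x⁻¹ * g * x, hA, 1, Subgroup.one_mem _, x⁻¹, by group⟩
    rw [this, mul_zero]

end dade

end Cfsg.Agent.Lib.helper2
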