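import Mathlib
import Cfsg.Prelude.Def_OddOrderChar
import Cfsg.Prelude.Def_OddOrderLocal
import Cfsg.Agent.Lib.helper2.PF10A
import Cfsg.Agent.Lib.Helper11.VirtChar
import Cfsg.Agent.S1500
import Cfsg.Agent.S1501

set_option autoImplicit false
open scoped ComplexConjugate

namespace Cfsg.Agent.Lib.helper2

open Cfsg Cfsg.Agent.Lib.Helper11

section dadeLin

variable {G : Type*} [Group G] {A : Set G} {L : Subgroup G} {H : G → Subgroup G}

theorem bgp_dade_add (α β : L → ℂ) :
    dadeIsometry A L H (α + β) = dadeIsometry A L H α + dadeIsometry A L H β := by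
  funext g
  unfold dadeIsometry
  simp only [Pi.add_apply]
  split_ifs
  · rfl
  · simp

theorem bgp_dade_zsmul (n : ℤ) (α : L → ℂ) :
    dadeIsometry A L H (n • α) = n • dadeIsometry A L H α := by
  funext g
  unfold dadeIsometry
  simp only [Pi.smul_apply]
  split_ifs
  · rfl
  · simp

theorem bgp_one_not_mem_dadeSupp (hD : DadeHypothesis A L H) : (1 : G) ∉ dadeSupp A H := by
  rintro ⟨a, ha, u, hu, x, hx⟩
  have h1 : a * u = 1 := by rw [← hx]; group
  have hu' : u = a⁻¹ := by
    have : u = a⁻¹ * (a * u) := by group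
    rw [this, h1, mul_one]
  have hmem : u ∈ H a ⊓ (L ⊓ Subgroup.centralizer ({a} : Set G)) := by
    refine ⟨hu, ?_, ?_⟩
    · rw [hu']; exact L.inv_mem (hD.subset ha)
    · rw [hu']
      apply Subgroup.inv_mem
      rw [Subgroup.mem_centralizer_singleton_iff]
  rw [hD.inf_eq_bot a ha, Subgroup.mem_bot] at hmem
  rw [hmem, mul_one] at h1
  exact hD.one_not_mem (h1 ▸ ha)

theorem bgp_dade_one (hD : DadeHypothesis A L H) (α : L → ℂ) :
    dadeIsometry A L H α 1 = 0 :=
  dadeIsometry_zero α 1 (bgp_one_not_mem_dadeSupp hD)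

theorem bgp_dade_isometryOn [Fintype G] [Fintype L] (hD : DadeHypothesis A L H)
    (E : Set (L → ℂ)) (hE1 : ∀ α ∈ E, IsGeneralizedCharacter L α)
    (hE2 : ∀ α ∈ E, ∀ x : L, (x : G) ∉ A → α x = 0) :
    IsLinearIsometryOn E (dadeIsometry A L H) := by
  refine ⟨fun α _ β _ => bgp_dade_add α β, fun α _ n => bgp_dade_zsmul n α, ?_, ?_⟩
  · intro α hα β hβ
    exact (Cfsg.Agent.S1500.result A L H hD α (genChar_classFunction α (hE1 α hα))
      (hE2 α hα)).1 β (genChar_classFunction β (hE1 β hβ)) (hE2 β hβ)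
  · intro α hα
    exact Cfsg.Agent.S1501.result A L H hD α (hE1 α hα) (hE2 α hα)

end dadeLin

end Cfsg.Agent.Lib.helper2
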