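import Mathlib
import Cfsg.Prelude.Def_OddOrderChar
import Cfsg.Prelude.Def_OddOrderLocal
import Cfsg.Agent.Lib.helper2.PF10B
import Cfsg.Agent.Lib.helper2.CharInd
import Cfsg.Agent.Lib.Helper10.TypeP
import Cfsg.Agent.Lib.Helper11.FrobIrr
import Cfsg.Agent.Lib.Helper11.FrobQuot
import Cfsg.Agent.Lib.Helper11.FitTIb
import Cfsg.Agent.Lib.Helper11.CNNormalSylow
import Cfsg.Agent.Lib.Helper11.SibSetup
import Cfsg.Agent.Lib.Helper11.AbelianQuot
import Cfsg.Agent.Lib.Helper1.FrobCenter
import Cfsg.Agent.S1535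
import Cfsg.Agent.S1524

set_option autoImplicit false
open scoped ComplexConjugate commutatorElement

namespace Cfsg.Agent.Lib.helper2

open Cfsg Cfsg.Agent.Lib.Helper11

section grp

variable {G : Type*} [Group G]

theorem bgp_mem_fittingHallOf {L : Subgroup G} (x : L) :
    (x : G) ∈ fittingHallOf L ↔ x ∈ fittingHall ↥L := by
  unfold fittingHallOf
  constructor
  · rintro ⟨y, hy, hxy⟩
    have : y = x := Subtype.ext hxy
    exact this ▸ hy
  · intro hx
    exact ⟨x, hx, rfl⟩

theorem bgp_subgroupOf_fittingHallOf (L : Subgroup G) :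
    (fittingHallOf L).subgroupOf L = fittingHall ↥L := by
  unfold fittingHallOf Subgroup.subgroupOf
  exact Subgroup.comap_map_eq_self_of_injective L.subtype_injective _

theorem bgp_typeA_eq {L : Subgroup G} (hI : IsOfTypeI L)
    (hfrob : ∀ x ∈ fittingHallOf L, x ≠ 1 →
      L ⊓ Subgroup.centralizer ({x} : Set G) ≤ fittingHallOf L) :
    typeA L = (fittingHallOf L : Set G) \ {1} := by
  unfold typeA
  rw [if_pos hI]
  ext a
  simp only [Set.mem_ofPred_eq, Set.mem_sdiff, SetLike.mem_coe, Set.mem_singleton_iff]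
  constructor
  · rintro ⟨haL, ha1, x, hx, hx1, hax⟩
    exact ⟨hfrob x hx hx1 ⟨haL, Subgroup.mem_centralizer_singleton_iff.mpr hax⟩, ha1⟩
  · rintro ⟨ha, ha1⟩
    exact ⟨Cfsg.Agent.Lib.Helper10.fittingHallOf_le L ha, ha1, a, ha, ha1, rfl⟩

theorem bgp_frob_hC {L : Subgroup G}
    (hfrob : ∀ x ∈ fittingHallOf L, x ≠ 1 →
      L ⊓ Subgroup.centralizer ({x} : Set G) ≤ fittingHallOf L) :
    ∀ n ∈ fittingHall ↥L, n ≠ 1 → Subgroup.centralizer ({n} : Set ↥L) ≤ fittingHall ↥L := by
  intro n hn hn1 y hy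
  rw [← bgp_mem_fittingHallOf]
  apply hfrob (n : G) ((bgp_mem_fittingHallOf n).mpr hn) (fun h => hn1 (Subtype.ext h))
  refine ⟨y.2, ?_⟩
  rw [Subgroup.mem_centralizer_singleton_iff] at hy
  exact Subgroup.mem_centralizer_singleton_iff.mpr (congrArg Subtype.val hy)

end grp

section chars

variable {N : Type*} [Group N] [Fintype N]

theorem bgp_zspan_vanish (H : Subgroup N) [H.Normal] {α : N → ℂ}
    (hα : α ∈ zspan (inducedIrrAbove H ⊥)) (x : N) (hx : x ∉ H) : α x = 0 := by
  unfold zspan at hα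
  induction hα using Submodule.span_induction with
  | mem χ hχ =>
    obtain ⟨θ, -, -, -, rfl⟩ := hχ
    exact indFun_eq_zero_of_not_mem H θ x hx
  | zero => rfl
  | add a b _ _ iha ihb => simp [iha, ihb]
  | smul n a _ iha => simp [iha]

theorem bgp_induced_isCharacter (H : Subgroup N) :
    ∀ χ ∈ inducedIrrAbove H ⊥, IsCharacter N χ := by
  classical
  rintro χ ⟨θ, hθ, -, -, rfl⟩
  exact isCharacter_indFun H θ (Cfsg.Agent.Lib.helper7.h7_irr_isCharacter hθ)

end chars

section pgroup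

variable {H : Type*} [Group H] [Finite H]

/-- a nonabelian `p`-group has abelianization of order at least `p ^ 2` -/
theorem bgp_index_commutator_ge {p m : ℕ} (hp : p.Prime) (hm : Nat.card H = p ^ m)
    (hab : ¬ ∀ x y : H, x * y = y * x) : p ^ 2 ≤ (commutator H).index := by
  haveI : Fact p.Prime := ⟨hp⟩
  have hpg : IsPGroup p H := IsPGroup.of_card hm
  haveI : Group.IsNilpotent H := hpg.isNilpotent
  have hdvd : (commutator H).index ∣ p ^ m := hm ▸ Subgroup.index_dvd_card _
  obtain ⟨k, hk, hidx⟩ := (Nat.dvd_prime_pow hp).mp hdvd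
  have hcard : Nat.card (H ⧸ commutator H) = p ^ k := hidx
  have hncyc : ¬ IsCyclic (H ⧸ commutator H) := fun h => hab (FrobQuot.nilpotent_comm_of_cyclic h)
  rw [hidx]
  apply Nat.pow_le_pow_right hp.pos
  by_contra hlt
  push Not at hlt
  apply hncyc
  interval_cases k
  · rw [pow_zero] at hcard
    haveI := (Nat.card_eq_one_iff_unique.mp hcard).1
    exact isCyclic_of_subsingleton
  · rw [pow_one] at hcard
    exact isCyclic_of_prime_card hcard

end pgroup

end Cfsg.Agent.Lib.helper2
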