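import Mathlib
import Cfsg.Prelude.Def_OddOrderChar
import Cfsg.Prelude.Def_OddOrderLocal
import Cfsg.Agent.Lib.helper2.PF10C

set_option autoImplicit false
open scoped ComplexConjugate commutatorElement

namespace Cfsg.Agent.Lib.helper2

open Cfsg Cfsg.Agent.Lib.Helper11

section zgrp

variable {N : Type*} [Group N] [Finite N]

/-- the complement of a Frobenius-type normal subgroup, of odd order, has order equal to its
exponent -/
theorem bgp_exponent_complement (H U : Subgroup N) [H.Normal]
    (hc : Subgroup.IsComplement' H U) (hH1 : H ≠ ⊥) (hU1 : U ≠ ⊥)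
    (hC : ∀ n ∈ H, n ≠ 1 → Subgroup.centralizer ({n} : Set N) ≤ H)
    (hodd : Odd (Nat.card N)) : Monoid.exponent (N ⧸ H) = H.index := by
  have hfpf : ∀ u ∈ U, u ≠ 1 → H ⊓ Subgroup.centralizer {u} = ⊥ := by
    intro u hu hu1
    rw [eq_bot_iff]
    intro n hn
    rw [Subgroup.mem_bot]
    by_contra hn1
    have h1 : u ∈ Subgroup.centralizer ({n} : Set N) := by
      rw [Subgroup.mem_centralizer_singleton_iff]
      exact ((Subgroup.mem_centralizer_singleton_iff.mp hn.2)).symm
    have h2 : u ∈ H ⊓ U := ⟨hC n hn.1 hn1 h1, hu⟩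
    rw [hc.disjoint.eq_bot, Subgroup.mem_bot] at h2
    exact hu1 h2
  obtain ⟨V, hVc, hV1, hVH, hUV, hVfpf⟩ :=
    Cfsg.Agent.Lib.Helper1.exists_fpf_abelian H U hc hH1 hU1 hfpf
  have hmapU : ∀ D : Subgroup U, D.map U.subtype ≤ U := fun D => Subgroup.map_subtype_le D
  have hoddU : ¬ 2 ∣ Nat.card U := by
    intro h2
    have h3 : 2 ∣ Nat.card N := h2.trans (Subgroup.card_subgroup_dvd_card U)
    rcases hodd with ⟨k, hk⟩
    omega
  have hZ : IsZGroup U := by
    refine ⟨fun p hp P => ?_⟩
    have hpf : Fact p.Prime := ⟨hp⟩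
    apply Cfsg.Agent.Lib.Helper1.isCyclic_of_map_subtype U (P : Subgroup U)
    have hPp : IsPGroup p ((P : Subgroup U).map U.subtype) := P.2.map _
    by_cases hp2 : p = 2
    · subst hp2
      obtain ⟨k, hk⟩ := IsPGroup.iff_card.mp hPp
      have hk0 : k = 0 := by
        by_contra hk0
        apply hoddU
        have h1 : 2 ∣ Nat.card ((P : Subgroup U).map U.subtype) := hk ▸ dvd_pow_self 2 hk0
        exact h1.trans (Subgroup.card_dvd_of_le (hmapU _))
      rw [hk0, pow_zero] at hk
      have := (Nat.card_eq_one_iff_unique.mp hk).1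
      exact isCyclic_of_subsingleton
    · exact Cfsg.Agent.Lib.Helper1.isCyclic_pgroup_of_fpf _ V hV1 ((hmapU _).trans hUV)
        (fun a ha => hVfpf a (hmapU _ ha)) p hp2 hPp
  have h1 : Monoid.exponent (N ⧸ H) = Monoid.exponent U :=
    Monoid.exponent_eq_of_mulEquiv hc.symm.QuotientMulEquiv
  rw [h1, hZ.exponent_eq_card, hc.symm.index_eq_card]

end zgrp

section main

theorem bgp_S1542_core {G : Type*} [Group G] [Fintype G] (hG : IsMinSimpleOddOrder G)
    (L : Subgroup G) [Fintype L] (hL : IsCoatom L) (hI : IsOfTypeI L)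
    (hfrob : ∀ x ∈ fittingHallOf L, x ≠ 1 →
      L ⊓ Subgroup.centralizer ({x} : Set G) ≤ fittingHallOf L)
    (hD : DadeHypothesis (typeA L) L (supportR L)) :
    (∀ χ ∈ inducedIrrAbove (fittingHall L) ⊥, IsIrrCharacter L χ) ∧
    IsCoherent (inducedIrrAbove (fittingHall L) ⊥) {1}ᶜ
      (dadeIsometry (typeA L) L (supportR L)) := by
  classical
  have hC := bgp_frob_hC hfrob
  refine ⟨fun χ hχ => FrobIrr.irr_of_induced _ hC hχ, ?_⟩
  obtain ⟨hsolv, hodd, hH1, hH2, U, hU1, hc, -, -⟩ := hI.1
  have hA := bgp_typeA_eq hI hfrob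
  have hE1 : ∀ α ∈ zspanOn (inducedIrrAbove (fittingHall L) ⊥) {1}ᶜ,
      IsGeneralizedCharacter L α :=
    fun α hα => SibSetup.zspan_genChar (bgp_induced_isCharacter (fittingHall L)) hα.1
  have hE2 : ∀ α ∈ zspanOn (inducedIrrAbove (fittingHall L) ⊥) {1}ᶜ,
      ∀ x : L, (x : G) ∉ typeA L → α x = 0 := by
    intro α hα x hx
    by_cases hxH : x ∈ fittingHall L
    · apply hα.2
      intro hx1
      apply hx
      rw [hA]
      exact ⟨(bgp_mem_fittingHallOf x).mpr hxH, fun h => hx1 (Subtype.ext h)⟩
    · exact bgp_zspan_vanish (fittingHall L) hα.1 x hxH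
  have hτ : IsLinearIsometryOn (zspanOn (inducedIrrAbove (fittingHall L) ⊥) {1}ᶜ)
      (dadeIsometry (typeA L) L (supportR L)) := bgp_dade_isometryOn hD _ hE1 hE2
  have hτ1 : ∀ α ∈ zspanOn (inducedIrrAbove (fittingHall L) ⊥) {1}ᶜ,
      dadeIsometry (typeA L) L (supportR L) α 1 = 0 := fun α _ => bgp_dade_one hD α
  have hcardmul := Subgroup.card_mul_index (fittingHall L)
  have hoddH : Odd (Nat.card (fittingHall L)) ∧ Odd (fittingHall L).index := by
    rw [← hcardmul] at hodd
    exact Nat.odd_mul.mp hodd
  have he : Nat.card (fittingHall L) ≠ (fittingHall L).index + 1 := by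
    obtain ⟨⟨a, ha⟩, ⟨b, hb⟩⟩ := hoddH
    omega
  have hset := FrobIrr.set_eq (fittingHall L) hC
  have key := Cfsg.Agent.S1535.result (G := G) (fittingHall L) hH1 hH2 hC he
    (dadeIsometry (typeA L) L (supportR L)) (hset ▸ hτ) (hset ▸ hτ1)
  rw [hset] at key
  rcases key with key | ⟨p, hp, ⟨m, hm⟩, hnab, hidx⟩
  · exact key
  · have hHL : fittingHallOf L ≤ L := Cfsg.Agent.Lib.Helper10.fittingHallOf_le L
    have hMF : L ≤ Subgroup.normalizer (fittingHallOf L : Set G) :=
      Cfsg.Agent.Lib.Helper10.le_normalizer_fittingHallOf L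
    have hF1 : fittingHallOf L ≠ ⊥ := by
      intro h
      apply hH1
      unfold fittingHallOf at h
      exact (Subgroup.map_eq_bot_iff_of_injective _ L.subtype_injective).mp h
    rcases hI.2 with hTI | ⟨hab, -, -⟩ | ⟨hexp, -⟩
    · -- the TI case: the Dade map is induction
      have hN := FitTI.normalizer_eq_of_le_normalizer hG hL hHL hF1 hMF
      have hsuppR : ∀ a ∈ typeA L, supportR L a = ⊥ := by
        intro a ha
        rw [hA] at ha
        have hcent : Subgroup.centralizer ({a} : Set G) ≤ L := by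
          intro g hg
          by_contra hgL
          rw [← hN] at hgL
          have h1 : g * a * g⁻¹ = a := by
            rw [Subgroup.mem_centralizer_singleton_iff.mp hg]
            group
          exact ha.2 (hTI g hgL a ha.1 (by rw [h1]; exact ha.1))
        unfold supportR
        rw [dif_neg]
        exact fun h => h.1 hcent
      have hW1 : U.map L.subtype ≠ ⊥ := by
        intro h
        exact hU1 ((Subgroup.map_eq_bot_iff_of_injective _ L.subtype_injective).mp h)
      have hnil : Group.IsNilpotent (fittingHallOf L) := by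
        haveI : Group.IsNilpotent (fittingHall ↥L) := fittingHall_isNilpotent
        unfold fittingHallOf
        exact Group.nilpotent_of_mulEquiv
          ((fittingHall ↥L).equivMapOfInjective L.subtype L.subtype_injective)
      have hHn : ∀ x ∈ L, ∀ h ∈ fittingHallOf L, x * h * x⁻¹ ∈ fittingHallOf L := by
        intro x hx h hh
        exact (Subgroup.mem_normalizer_iff.mp (hMF hx) h).mp hh
      have hinf : fittingHallOf L ⊓ U.map L.subtype = ⊥ := by
        unfold fittingHallOf
        rw [← Subgroup.map_inf_eq _ _ _ L.subtype_injective, hc.disjoint.eq_bot, Subgroup.map_bot]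
      have hsup : fittingHallOf L ⊔ U.map L.subtype = L := by
        unfold fittingHallOf
        rw [← Subgroup.map_sup, hc.sup_eq_top, ← MonoidHom.range_eq_map, Subgroup.range_subtype]
      have hfpf : ∀ w ∈ U.map L.subtype, w ≠ 1 → ∀ h ∈ fittingHallOf L, w * h = h * w → h = 1 := by
        intro w hw hw1 h hh hwh
        by_contra hh1
        have h1 : w ∈ fittingHallOf L :=
          hfrob h hh hh1 ⟨Subgroup.map_subtype_le U hw, Subgroup.mem_centralizer_singleton_iff.mpr hwh⟩
        have h2 : w ∈ fittingHallOf L ⊓ U.map L.subtype := ⟨h1, hw⟩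
        rw [hinf, Subgroup.mem_bot] at h2
        exact hw1 h2
      have h24 := Cfsg.Agent.S1524.result (fittingHallOf L) L (U.map L.subtype) hodd hHL
        (Subgroup.map_subtype_le U) hF1 hW1 hnil hHn hinf hsup hfpf hTI hN
      rw [bgp_subgroupOf_fittingHallOf] at h24
      obtain ⟨hne, τ₁, hτ₁, hag⟩ := h24
      refine ⟨hne, τ₁, hτ₁, fun α hα => ?_⟩
      rw [hag α hα]
      exact bgp_ind_eq_dade hD hsuppR α (genChar_classFunction α (hE1 α hα)) (hE2 α hα)
    · -- the abelian case
      exfalso
      apply hnab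
      refine ⟨⟨fun x y => ?_⟩⟩
      have h1 := hab.is_comm.comm (⟨(x : G), (bgp_mem_fittingHallOf x.1).mpr x.2⟩ : fittingHallOf L)
        ⟨(y : G), (bgp_mem_fittingHallOf y.1).mpr y.2⟩
      have h2 : ((x : L) : G) * ((y : L) : G) = ((y : L) : G) * ((x : L) : G) :=
        congrArg Subtype.val h1
      apply Subtype.ext
      apply Subtype.ext
      exact h2
    · -- the exponent case
      exfalso
      have hcardF : Nat.card (fittingHallOf L) = Nat.card (fittingHall L) := by
        unfold fittingHallOf
        exact Subgroup.card_map_of_injective L.subtype_injective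
      have hm0 : m ≠ 0 := by
        intro h0
        rw [h0, pow_zero] at hm
        exact hH1 (Subgroup.card_eq_one.mp hm)
      have hpdvd : p ∣ Nat.card (fittingHallOf L) := by
        rw [hcardF, hm]
        exact dvd_pow_self p hm0
      have hexp1 := hexp p hp hpdvd
      rw [bgp_exponent_complement (fittingHall L) U hc hH1 hU1 hC hodd] at hexp1
      -- `p ^ 2 ≤ |H : H'|`
      have hcomm : (⁅fittingHall L, fittingHall L⁆.subgroupOf (fittingHall L)) =
          commutator (fittingHall L) := by
        rw [← Subgroup.map_subtype_commutator]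
        unfold Subgroup.subgroupOf
        exact Subgroup.comap_map_eq_self_of_injective (fittingHall L).subtype_injective _
      rw [hcomm] at hidx
      have hge := bgp_index_commutator_ge hp hm (fun h => hnab ⟨⟨h⟩⟩)
      -- arithmetic
      obtain ⟨⟨a, ha⟩, ⟨b, hb⟩⟩ := hoddH
      have hpodd : Odd p := by
        rcases hp.eq_two_or_odd' with h2 | h2
        · exfalso
          rw [h2] at hm
          have : 2 ∣ Nat.card (fittingHall L) := hm ▸ dvd_pow_self 2 hm0
          omega
        · exact h2
      obtain ⟨c, hc'⟩ := hpodd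
      obtain ⟨d, hd⟩ := hexp1
      set e := (fittingHall L).index with he'
      have hd2 : 2 ∣ d := by
        have h3 : 2 ∣ e * d := by rw [← hd]; omega
        rcases (Nat.Prime.dvd_mul Nat.prime_two).mp h3 with h4 | h4
        · omega
        · exact h4
      obtain ⟨d', rfl⟩ := hd2
      have hd'pos : 0 < d' := by
        rcases Nat.eq_zero_or_pos d' with h0 | h0
        · rw [h0] at hd
          have := hp.two_le
          omega
        · exact h0
      have h5 : 2 * e ≤ p - 1 := by
        rw [hd]
        nlinarith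
      have h6 : 4 * e ^ 2 + 1 < p ^ 2 := by
        have hp2 := hp.two_le
        have h7 : 2 * e + 1 ≤ p := by omega
        nlinarith
      omega

end main

end Cfsg.Agent.Lib.helper2
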