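import Cfsg.Agent.Lib.Helper1.PLK.Defs
import Cfsg.Agent.Lib.helper2.PLKU6core
import Cfsg.Agent.Lib.Helper16.PLKU3
import Cfsg.Agent.Lib.Helper16.PLKU4c

/-!
# Project PLK, row U6 (helper2): `nu_decomp`, verbatim.
-/

set_option autoImplicit false

namespace Cfsg.Agent.Lib.Helper1.PLK

open Polynomial
open Cfsg.Agent.Lib.Helper29.GLK
open Cfsg.Agent.Lib.Helper1.SLK

universe u

theorem nu_decomp {F : Type u} [Field F] {n : ℕ} (x : Matrix.GeneralLinearGroup (Fin n) F)
    {ι : Type u} [Fintype ι] (p : ι → F[X]) (e : ι → ℕ) (hp : ∀ j, Irreducible (p j))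
    (Φ : gMod x ≃ₗ[F[X]] DirectSum ι fun j => F[X] ⧸ Ideal.span {p j ^ e j})
    (P : F[X]) (hP : Irreducible P) (k : ℕ) :
    nu x (P ^ k) =
      P.natDegree * ∑ j, (open Classical in if Associated (p j) P then min (e j) k else 0) :=
  plku6_core x (fun M _ _ _ f => finrank_ker_lmap M f) finrank_ker_quot_pow p e hp Φ P hP k

end Cfsg.Agent.Lib.Helper1.PLK
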