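import Mathlib

set_option autoImplicit false

namespace Cfsg.Agent.Lib.helper2.QuadCW

theorem quad_sum {V : Type*} [AddCommGroup V] (q : V → ZMod 2) (B : V → V → ZMod 2)
    (hq : ∀ x y, q (x + y) = q x + q y + B x y)
    (hl : ∀ a b c, B (a + b) c = B a c + B b c) :
    ∀ (N : ℕ) (f : Fin N → V),
      q (∑ a, f a) = ∑ c, (q (f c) + ∑ a, if a < c then B (f a) (f c) else 0) := by
  have hl0 : ∀ c, B 0 c = 0 := by
    intro c
    have := hl 0 0 c
    rw [add_zero] at this
    exact left_eq_add.mp this
  have hq0 : q 0 = 0 := by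
    have := hq 0 0
    rw [add_zero, hl0, add_zero] at this
    exact left_eq_add.mp this
  have hlsum : ∀ (N : ℕ) (f : Fin N → V) c, B (∑ a, f a) c = ∑ a, B (f a) c := by
    intro N
    induction N with
    | zero => intro f c; simp [hl0]
    | succ N ih =>
      intro f c
      rw [Fin.sum_univ_castSucc, hl, ih, Fin.sum_univ_castSucc]
  intro N
  induction N with
  | zero => intro f; simp [hq0]
  | succ N ih =>
    intro f
    rw [Fin.sum_univ_castSucc, hq, ih, hlsum, Fin.sum_univ_castSucc]
    simp only [Fin.sum_univ_castSucc (n := N), Fin.castSucc_lt_castSucc_iff, Fin.castSucc_lt_last,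
      if_true, lt_irrefl, if_false, add_zero]
    have : ∀ c : Fin N, ¬ (Fin.last N < Fin.castSucc c) := fun c => by
      simp [Fin.lt_def]
    simp only [this, if_false, add_zero]
    ring

open MvPolynomial in
theorem quad_maps_common_zero {V : Type*} [AddCommGroup V] [Module (ZMod 2) V] [Finite V]
    (m : ℕ) (q : Fin m → V → ZMod 2) (B : Fin m → V → V → ZMod 2)
    (hq : ∀ j x y, q j (x + y) = q j x + q j y + B j x y)
    (hl : ∀ j a b c, B j (a + b) c = B j a c + B j b c)
    (hr : ∀ j a b c, B j a (b + c) = B j a b + B j a c)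
    (hdim : 2 * m < Module.finrank (ZMod 2) V) :
    ∃ v : V, v ≠ 0 ∧ ∀ j, q j v = 0 := by
  classical
  have hl0 : ∀ j c, B j 0 c = 0 := by
    intro j c
    have := hl j 0 0 c
    rw [add_zero] at this
    exact left_eq_add.mp this
  have hr0 : ∀ j a, B j a 0 = 0 := by
    intro j a
    have := hr j a 0 0
    rw [add_zero] at this
    exact left_eq_add.mp this
  have hq0 : ∀ j, q j 0 = 0 := by
    intro j
    have := hq j 0 0
    rw [add_zero, hl0, add_zero] at this
    exact left_eq_add.mp this
  have hls : ∀ j (t : ZMod 2) a c, B j (t • a) c = t * B j a c := by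
    intro j t a c
    have ht : t = 0 ∨ t = 1 := by revert t; decide
    rcases ht with rfl | rfl
    · simp [hl0]
    · simp
  have hrs : ∀ j (t : ZMod 2) a c, B j a (t • c) = t * B j a c := by
    intro j t a c
    have ht : t = 0 ∨ t = 1 := by revert t; decide
    rcases ht with rfl | rfl
    · simp [hr0]
    · simp
  have hqs : ∀ j (t : ZMod 2) a, q j (t • a) = t * q j a := by
    intro j t a
    have ht : t = 0 ∨ t = 1 := by revert t; decide
    rcases ht with rfl | rfl
    · simp [hq0]
    · simp
  let N := Module.finrank (ZMod 2) V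
  let b : Module.Basis (Fin N) (ZMod 2) V := Module.finBasis (ZMod 2) V
  let P : Fin m → MvPolynomial (Fin N) (ZMod 2) := fun j =>
    ∑ c : Fin N, (C (q j (b c)) * X c
      + ∑ a : Fin N, if a < c then C (B j (b a) (b c)) * X a * X c else 0)
  have hdeg : ∀ j, (P j).totalDegree ≤ 2 := by
    intro j
    refine (totalDegree_finsetSum_le (fun c _ => ?_))
    refine (totalDegree_add _ _).trans (max_le ?_ ?_)
    · refine (totalDegree_mul _ _).trans ?_
      rw [totalDegree_C, totalDegree_X]
      norm_num
    · refine (totalDegree_finsetSum_le (fun a _ => ?_))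
      split_ifs
      · refine (totalDegree_mul _ _).trans ?_
        refine (add_le_add (totalDegree_mul _ _) le_rfl).trans ?_
        rw [totalDegree_C, totalDegree_X, totalDegree_X]
      · simp
  have heval : ∀ j (x : Fin N → ZMod 2), eval x (P j) = q j (∑ a, x a • b a) := by
    intro j x
    rw [quad_sum (q j) (B j) (hq j) (hl j) N (fun a => x a • b a)]
    simp only [P, map_sum, map_add, map_mul, eval_C, eval_X]
    refine Finset.sum_congr rfl (fun c _ => ?_)
    rw [hqs]
    congr 1
    · ring
    · refine Finset.sum_congr rfl (fun a _ => ?_)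
      split_ifs
      · rw [map_mul, map_mul, eval_C, eval_X, eval_X, hls, hrs]
        ring
      · simp
  have hsum : (∑ j ∈ (Finset.univ : Finset (Fin m)), (P j).totalDegree) < Fintype.card (Fin N) := by
    calc (∑ j ∈ (Finset.univ : Finset (Fin m)), (P j).totalDegree)
        ≤ ∑ j ∈ (Finset.univ : Finset (Fin m)), 2 := Finset.sum_le_sum (fun j _ => hdeg j)
      _ = 2 * m := by simp [mul_comm]
      _ < Fintype.card (Fin N) := by rw [Fintype.card_fin]; exact hdim
  have hCW := char_dvd_card_solutions_of_sum_lt (K := ZMod 2) 2 hsum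
  have h0 : ∀ i ∈ (Finset.univ : Finset (Fin m)), eval (0 : Fin N → ZMod 2) (P i) = 0 := by
    intro i _
    rw [heval]
    simp [hq0]
  rw [Fintype.card_eq_nat_card] at hCW
  have hcard : 1 < Nat.card { x : Fin N → ZMod 2 // ∀ i ∈ (Finset.univ : Finset (Fin m)), eval x (P i) = 0 } := by
    have hpos : 0 < Nat.card { x : Fin N → ZMod 2 // ∀ i ∈ (Finset.univ : Finset (Fin m)), eval x (P i) = 0 } :=
      haveI : Nonempty { x : Fin N → ZMod 2 // ∀ i ∈ (Finset.univ : Finset (Fin m)), eval x (P i) = 0 } := ⟨⟨0, h0⟩⟩
      Nat.card_pos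
    obtain ⟨k, hk⟩ := hCW
    omega
  have := (Finite.one_lt_card_iff_nontrivial).mp hcard
  obtain ⟨⟨x, hx⟩, hne⟩ := exists_ne (⟨0, h0⟩ : { x : Fin N → ZMod 2 // ∀ i ∈ (Finset.univ : Finset (Fin m)), eval x (P i) = 0 })
  refine ⟨∑ a, x a • b a, ?_, fun j => ?_⟩
  · intro h
    apply hne
    apply Subtype.ext
    have h2 : b.equivFun.symm x = 0 := by rw [Module.Basis.equivFun_symm_apply]; exact h
    exact b.equivFun.symm.injective (by rw [h2, map_zero])
  · rw [← heval]
    exact hx j (Finset.mem_univ j)

theorem card_le_of_anisotropic {V W : Type*} [CommGroup V] [CommGroup W] [Finite V] [Finite W]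
    (hV : ∀ v : V, v ^ 2 = 1) (hW : ∀ w : W, w ^ 2 = 1) (sq : V → W) (β : V → V → W)
    (hsq : ∀ x y, sq (x * y) = sq x * sq y * β x y)
    (hβl : ∀ a b c, β (a * b) c = β a c * β b c)
    (hβr : ∀ a b c, β a (b * c) = β a b * β a c)
    (haniso : ∀ v, sq v = 1 → v = 1) : Nat.card V ≤ Nat.card W ^ 2 := by
  classical
  let _ : Module (ZMod 2) (Additive V) := AddCommGroup.zmodModule (n := 2) (by
    intro x
    apply Additive.toMul.injective
    rw [toMul_nsmul, toMul_zero]
    exact hV _)
  let _ : Module (ZMod 2) (Additive W) := AddCommGroup.zmodModule (n := 2) (by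
    intro x
    apply Additive.toMul.injective
    rw [toMul_nsmul, toMul_zero]
    exact hW _)
  have hfinV : Module.Finite (ZMod 2) (Additive V) := Module.Finite.of_finite
  have hfinW : Module.Finite (ZMod 2) (Additive W) := Module.Finite.of_finite
  have hcardV : Nat.card V = 2 ^ Module.finrank (ZMod 2) (Additive V) := by
    have h := Module.natCard_eq_pow_finrank (K := ZMod 2) (V := Additive V)
    rw [Nat.card_zmod] at h
    exact h
  have hcardW : Nat.card W = 2 ^ Module.finrank (ZMod 2) (Additive W) := by
    have h := Module.natCard_eq_pow_finrank (K := ZMod 2) (V := Additive W)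
    rw [Nat.card_zmod] at h
    exact h
  let n := Module.finrank (ZMod 2) (Additive W)
  let bW : Module.Basis (Fin n) (ZMod 2) (Additive W) := Module.finBasis (ZMod 2) (Additive W)
  have hle : Module.finrank (ZMod 2) (Additive V) ≤ 2 * n := by
    by_contra hlt
    rw [not_le] at hlt
    obtain ⟨v, hv0, hv⟩ := quad_maps_common_zero (V := Additive V) n
      (fun j x => bW.repr (Additive.ofMul (sq (Additive.toMul x))) j)
      (fun j x y => bW.repr (Additive.ofMul (β (Additive.toMul x) (Additive.toMul y))) j)
      (by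
        intro j x y
        simp only [toMul_add, hsq, ofMul_mul, map_add, Finsupp.add_apply])
      (by
        intro j a b c
        simp only [toMul_add, hβl, ofMul_mul, map_add, Finsupp.add_apply])
      (by
        intro j a b c
        simp only [toMul_add, hβr, ofMul_mul, map_add, Finsupp.add_apply])
      hlt
    apply hv0
    apply Additive.toMul.injective
    rw [toMul_zero]
    apply haniso
    have h1 : bW.repr (Additive.ofMul (sq (Additive.toMul v))) = 0 := by
      ext j
      exact hv j
    have h2 : Additive.ofMul (sq (Additive.toMul v)) = 0 := by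
      have := congrArg bW.repr.symm h1
      simpa using this
    exact Additive.ofMul.injective h2
  rw [hcardV, hcardW, ← pow_mul]
  exact Nat.pow_le_pow_right (by norm_num) (by rw [mul_comm]; exact hle)

end Cfsg.Agent.Lib.helper2.QuadCW
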