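import Mathlib
import Cfsg.Agent.Lib.Helper10.RES.Defs

/-!
# Project RES : piece AD (`adjust`)
-/

set_option autoImplicit false
set_option linter.unusedVariables false
set_option linter.unusedSectionVars false

namespace Cfsg.Agent.Lib.Helper10.RES

open scoped Pointwise

/-- Sylow conjugation inside a subgroup `U` normalized by `h`. -/
theorem resad_sylow_conj {A : Type*} [Group A] [Finite A] {p : ℕ} [Fact p.Prime]
    (U Pm : Subgroup A) (hPU : Pm ≤ U) (hp : IsPGroup p Pm) (hidx : ¬ p ∣ Pm.relIndex U)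
    (h : A) (hU : ∀ β ∈ U, h * β * h⁻¹ ∈ U) :
    ∃ c ∈ U, ∀ β ∈ Pm, (c * h) * β * (c * h)⁻¹ ∈ Pm := by
  classical
  have hp1 : IsPGroup p (Pm.subgroupOf U) := hp.comap_subtype
  have hidx' : ¬ p ∣ (Pm.subgroupOf U).index := hidx
  set P1 : Sylow p U := hp1.toSylow hidx' with hP1
  set P2 : Subgroup U := (Pm.map (MulAut.conj h).toMonoidHom).subgroupOf U with hP2
  have hp2 : IsPGroup p P2 := (hp.map _).comap_subtype
  obtain ⟨Q, hQ⟩ := hp2.exists_le_sylow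
  obtain ⟨g, hg⟩ := MulAction.exists_smul_eq U Q P1
  refine ⟨g.1, g.2, fun β hβ => ?_⟩
  have h1 : (⟨h * β * h⁻¹, hU β (hPU hβ)⟩ : U) ∈ P2 := by
    rw [hP2, Subgroup.mem_subgroupOf]
    exact ⟨β, hβ, rfl⟩
  have h2 := hQ h1
  have h3 : MulAut.conj g • (⟨h * β * h⁻¹, hU β (hPU hβ)⟩ : U) ∈
      MulAut.conj g • (Q : Subgroup U) := Subgroup.smul_mem_pointwise_smul _ _ _ h2
  rw [← Sylow.coe_subgroup_smul, hg, hP1] at h3
  have h3' := (IsPGroup.mem_toSylow hp1 hidx').mp h3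
  rw [Subgroup.mem_subgroupOf] at h3'
  have h4 : ((MulAut.conj g • (⟨h * β * h⁻¹, hU β (hPU hβ)⟩ : U) : U) : A) =
      (g.1 * h) * β * (g.1 * h)⁻¹ := by
    rw [MulAut.smul_def, MulAut.conj_apply]
    simp only [Subgroup.coe_mul, Subgroup.coe_inv, mul_inv_rev]
    group
  rw [h4] at h3'
  exact h3'

variable {E : Type*} [Group E]

theorem resad_chain_one (K T : Subgroup E) : ChainTriv K T (1 : MulAut E) := by
  refine ⟨fun t ht => ?_, fun e => ?_⟩
  · rw [MulAut.one_apply, inv_mul_cancel]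
    exact K.one_mem
  · rw [MulAut.one_apply, inv_mul_cancel]
    exact T.one_mem

theorem resad_chain_mem_K {K T : Subgroup E} (hKT : K ≤ T) {β : MulAut E}
    (hβ : ChainTriv K T β) {k : E} (hk : k ∈ K) : β k ∈ K := by
  have h1 := hβ.1 k (hKT hk)
  have h2 := K.mul_mem hk h1
  rwa [mul_inv_cancel_left] at h2

theorem resad_chain_mem_T {K T : Subgroup E} (hKT : K ≤ T) {β : MulAut E}
    (hβ : ChainTriv K T β) {t : E} (ht : t ∈ T) : β t ∈ T := by
  have h1 := hKT (hβ.1 t ht)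
  have h2 := T.mul_mem ht h1
  rwa [mul_inv_cancel_left] at h2

theorem resad_chain_mul {K T : Subgroup E} (hKT : K ≤ T) {β γ : MulAut E}
    (hβ : ChainTriv K T β) (hγ : ChainTriv K T γ) : ChainTriv K T (β * γ) := by
  refine ⟨fun t ht => ?_, fun e => ?_⟩
  · rw [MulAut.mul_apply]
    have h1 := hγ.1 t ht
    have h2 := hβ.1 t ht
    have h3 := resad_chain_mem_K hKT hβ h1
    have h4 : t⁻¹ * β (γ t) = (t⁻¹ * β t) * β (t⁻¹ * γ t) := by
      rw [map_mul, map_inv]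
      group
    rw [h4]
    exact K.mul_mem h2 h3
  · rw [MulAut.mul_apply]
    have h1 := hγ.2 e
    have h2 := hβ.2 e
    have h3 := resad_chain_mem_T hKT hβ h1
    have h4 : e⁻¹ * β (γ e) = (e⁻¹ * β e) * β (e⁻¹ * γ e) := by
      rw [map_mul, map_inv]
      group
    rw [h4]
    exact T.mul_mem h2 h3

theorem resad_chain_pow {K T : Subgroup E} (hKT : K ≤ T) {β : MulAut E}
    (hβ : ChainTriv K T β) (m : ℕ) : ChainTriv K T (β ^ m) := by
  induction m with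
  | zero => rw [pow_zero]; exact resad_chain_one K T
  | succ m ih => rw [pow_succ]; exact resad_chain_mul hKT ih hβ

theorem resad_chain_inv [Finite E] {K T : Subgroup E} (hKT : K ≤ T) {β : MulAut E}
    (hβ : ChainTriv K T β) : ChainTriv K T β⁻¹ := by
  have h1 : β⁻¹ = β ^ (orderOf β - 1) := by
    apply inv_eq_of_mul_eq_one_right
    rw [← pow_succ', Nat.sub_add_cancel (orderOf_pos β), pow_orderOf_eq_one]
  rw [h1]
  exact resad_chain_pow hKT hβ _

/-- the chain-trivial elements of `𝔄` -/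
def resad_U [Finite E] (𝔄 : Subgroup (MulAut E)) (K T : Subgroup E) (hKT : K ≤ T) :
    Subgroup (MulAut E) where
  carrier := {β | β ∈ 𝔄 ∧ ChainTriv K T β}
  mul_mem' := fun {a b} ha hb => ⟨𝔄.mul_mem ha.1 hb.1, resad_chain_mul hKT ha.2 hb.2⟩
  one_mem' := ⟨𝔄.one_mem, resad_chain_one K T⟩
  inv_mem' := fun {a} ha => ⟨𝔄.inv_mem ha.1, resad_chain_inv hKT ha.2⟩

theorem resad_mem_U [Finite E] (𝔄 : Subgroup (MulAut E)) (K T : Subgroup E) (hKT : K ≤ T)
    (β : MulAut E) : β ∈ resad_U 𝔄 K T hKT ↔ β ∈ 𝔄 ∧ ChainTriv K T β := Iff.rfl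

theorem resad_inv_mem_T [Finite E] (T : Subgroup E) (h' : MulAut E) (hT : ∀ t ∈ T, h' t ∈ T)
    {t : E} (ht : t ∈ T) : h'⁻¹ t ∈ T := by
  set f : T → T := fun t => ⟨h' t, hT t t.2⟩ with hf
  have hinj : Function.Injective f := by
    intro a b hab
    have := congrArg Subtype.val hab
    simp only [hf] at this
    exact Subtype.ext (h'.injective this)
  obtain ⟨t', ht'⟩ := (Finite.injective_iff_surjective.mp hinj) ⟨t, ht⟩
  have h1 : h' t'.1 = t := congrArg Subtype.val ht'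
  rw [← h1, MulAut.inv_apply_self]
  exact t'.2

theorem resad_conj_chain [Finite E] {K T : Subgroup E} (hKT : K ≤ T) (h' : MulAut E)
    (hK : ∀ k ∈ K, h' k ∈ K) (hT : ∀ t ∈ T, h' t ∈ T) {β : MulAut E}
    (hβ : ChainTriv K T β) : ChainTriv K T (h' * β * h'⁻¹) := by
  refine ⟨fun t ht => ?_, fun e => ?_⟩
  · rw [MulAut.mul_apply, MulAut.mul_apply]
    have h1 := resad_inv_mem_T T h' hT ht
    have h2 := hK _ (hβ.1 _ h1)
    rw [map_mul, map_inv, MulAut.apply_inv_self] at h2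
    exact h2
  · rw [MulAut.mul_apply, MulAut.mul_apply]
    have h2 := hT _ (hβ.2 (h'⁻¹ e))
    rw [map_mul, map_inv, MulAut.apply_inv_self] at h2
    exact h2

variable [Finite E] {p : ℕ} [Fact p.Prime]

/-- **AD**. Sylow adjustment: an element of `𝔄` preserving the chain `K ≤ T` can be multiplied by a
chain-trivial element of `𝔄` so as to normalize the Sylow subgroup `Pm`. -/
theorem adjust (𝔄 Pm : Subgroup (MulAut E)) (hPle : Pm ≤ 𝔄)
    (hP : ∃ R : Sylow p ↥𝔄, (R : Subgroup ↥𝔄) = Pm.subgroupOf 𝔄)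
    (K T : Subgroup E) (hKT : K ≤ T) (hPU : ∀ β ∈ Pm, ChainTriv K T β)
    (h' : MulAut E) (hh' : h' ∈ 𝔄) (hK : ∀ k ∈ K, h' k ∈ K) (hT : ∀ t ∈ T, h' t ∈ T) :
    ∃ c ∈ 𝔄, ChainTriv K T c ∧ ∀ β ∈ Pm, (c * h') * β * (c * h')⁻¹ ∈ Pm := by
  classical
  obtain ⟨R, hR⟩ := hP
  set U := resad_U 𝔄 K T hKT with hU
  have hU𝔄 : U ≤ 𝔄 := fun β hβ => hβ.1
  have hPmU : Pm ≤ U := fun β hβ => ⟨hPle hβ, hPU β hβ⟩
  have hp0 : IsPGroup p (Pm.subgroupOf 𝔄) := hR ▸ R.isPGroup'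
  have hp : IsPGroup p Pm := hp0.of_equiv (Subgroup.subgroupOfEquivOfLe hPle)
  have hidx0 : ¬ p ∣ Pm.relIndex 𝔄 := by
    have := R.not_dvd_index
    rw [hR] at this
    exact this
  have hidx : ¬ p ∣ Pm.relIndex U := by
    intro hdvd
    apply hidx0
    rw [← Subgroup.relIndex_mul_relIndex Pm U 𝔄 hPmU hU𝔄]
    exact dvd_mul_of_dvd_left hdvd _
  have hnorm : ∀ β ∈ U, h' * β * h'⁻¹ ∈ U := fun β hβ =>
    ⟨𝔄.mul_mem (𝔄.mul_mem hh' hβ.1) (𝔄.inv_mem hh'), resad_conj_chain hKT h' hK hT hβ.2⟩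
  obtain ⟨c, hc, hcP⟩ := resad_sylow_conj U Pm hPmU hp hidx h' hnorm
  exact ⟨c, hc.1, hc.2, hcP⟩

end Cfsg.Agent.Lib.Helper10.RES
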