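import Mathlib

set_option autoImplicit false

namespace Cfsg.Agent.Lib.helper2.S3797Homocyclic

theorem pow_coord {ι : Type} (n : ι → ℕ)
    (w : (i : ι) → Multiplicative (ZMod (n i))) (k : ℕ) (j : ι) :
    Multiplicative.toAdd ((w ^ k) j) = (k : ZMod (n j)) * Multiplicative.toAdd (w j) := by
  rw [Pi.pow_apply, toAdd_pow, nsmul_eq_mul]

theorem homocyclic_of_transitive {S : Type*} [CommGroup S] [Finite S] (hS : IsPGroup 2 S)
    (A : Subgroup (MulAut S))
    (htr : ∀ x y : S, x ≠ 1 → x ^ 2 = 1 → y ≠ 1 → y ^ 2 = 1 → ∃ a ∈ A, a x = y) :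
    ∃ m r : ℕ, Nonempty (S ≃* (Fin r → Multiplicative (ZMod (2 ^ m)))) := by
  classical
  obtain ⟨ι, hι, n, hn1, ⟨e⟩⟩ := CommGroup.equiv_prod_multiplicative_zmod_of_finite S
  have hpow : ∀ i, ∃ a : ℕ, 1 ≤ a ∧ n i = 2 ^ a := by
    intro i
    have : NeZero (n i) := ⟨by have := hn1 i; omega⟩
    let y : S := e.symm (Pi.mulSingle i (Multiplicative.ofAdd (1 : ZMod (n i))))
    obtain ⟨k, hk⟩ := hS y
    have h1 : (Pi.mulSingle i (Multiplicative.ofAdd (1 : ZMod (n i))) :
        (i : ι) → Multiplicative (ZMod (n i))) ^ (2 ^ k) = 1 := by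
      have := congrArg e hk
      rw [map_pow, map_one] at this
      simpa [y] using this
    have h2 := congrFun h1 i
    have h3 := congrArg Multiplicative.toAdd h2
    rw [pow_coord] at h3
    simp only [Pi.mulSingle_eq_same, toAdd_ofAdd, mul_one, Pi.one_apply, toAdd_one] at h3
    have h4 : n i ∣ 2 ^ k := by
      have := (ZMod.natCast_eq_zero_iff (2 ^ k) (n i)).mp (by exact_mod_cast h3)
      exact this
    obtain ⟨a, _, ha⟩ := (Nat.dvd_prime_pow Nat.prime_two).mp h4
    refine ⟨a, ?_, ha⟩
    rcases Nat.eq_zero_or_pos a with rfl | h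
    · have := hn1 i
      rw [ha] at this
      simp at this
    · exact h
  choose a ha1 ha using hpow
  rcases isEmpty_or_nonempty ι with hemp | hne
  · refine ⟨0, 0, ⟨e.trans ?_⟩⟩
    exact
      { toFun := fun _ => 1
        invFun := fun _ => 1
        left_inv := fun x => Subsingleton.elim _ _
        right_inv := fun x => Subsingleton.elim _ _
        map_mul' := fun _ _ => by simp }
  obtain ⟨i0, hi0⟩ := Finite.exists_max a
  have hall : ∀ j, a j = a i0 := by
    intro j
    by_contra hj
    have hlt : a j < a i0 := lt_of_le_of_ne (hi0 j) hj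
    have : NeZero (n i0) := ⟨by have := hn1 i0; omega⟩
    have : NeZero (n j) := ⟨by have := hn1 j; omega⟩
    let y : (i : ι) → Multiplicative (ZMod (n i)) :=
      Pi.mulSingle i0 (Multiplicative.ofAdd (1 : ZMod (n i0)))
    let x : S := e.symm (y ^ (2 ^ (a i0 - 1)))
    let zz : (i : ι) → Multiplicative (ZMod (n i)) :=
      Pi.mulSingle j (Multiplicative.ofAdd ((2 ^ (a j - 1) : ℕ) : ZMod (n j)))
    let z : S := e.symm zz
    have hx1 : x ≠ 1 := by
      intro h
      have h1 : y ^ (2 ^ (a i0 - 1)) = 1 := by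
        have := congrArg e h
        simpa [x] using this
      have h2 := congrArg Multiplicative.toAdd (congrFun h1 i0)
      rw [pow_coord] at h2
      simp only [y, Pi.mulSingle_eq_same, toAdd_ofAdd, mul_one, Pi.one_apply, toAdd_one] at h2
      have h4 : n i0 ∣ 2 ^ (a i0 - 1) :=
        (ZMod.natCast_eq_zero_iff (2 ^ (a i0 - 1)) (n i0)).mp (by exact_mod_cast h2)
      rw [ha i0] at h4
      have := Nat.le_of_dvd (by positivity) h4
      have h5 : 2 ^ (a i0 - 1) < 2 ^ (a i0) :=
        Nat.pow_lt_pow_right (by norm_num) (by have := ha1 i0; omega)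
      omega
    have hx2 : x ^ 2 = 1 := by
      apply e.injective
      rw [map_pow, map_one]
      simp only [x, MulEquiv.apply_symm_apply]
      rw [← pow_mul, ← pow_succ, show a i0 - 1 + 1 = a i0 by have := ha1 i0; omega]
      funext i
      apply Multiplicative.toAdd.injective
      rw [pow_coord]
      by_cases hi : i = i0
      · subst hi
        simp only [y, Pi.mulSingle_eq_same, toAdd_ofAdd, mul_one, Pi.one_apply, toAdd_one]
        rw [← ha i]
        exact ZMod.natCast_self (n i)
      · simp [y, Pi.mulSingle_eq_of_ne hi]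
    have hz1 : z ≠ 1 := by
      intro h
      have h1 : zz = 1 := by
        have := congrArg e h
        simpa [z] using this
      have h2 := congrArg Multiplicative.toAdd (congrFun h1 j)
      simp only [zz, Pi.mulSingle_eq_same, toAdd_ofAdd, Pi.one_apply, toAdd_one] at h2
      have h4 : n j ∣ 2 ^ (a j - 1) :=
        (ZMod.natCast_eq_zero_iff (2 ^ (a j - 1)) (n j)).mp h2
      rw [ha j] at h4
      have := Nat.le_of_dvd (by positivity) h4
      have h5 : 2 ^ (a j - 1) < 2 ^ (a j) :=
        Nat.pow_lt_pow_right (by norm_num) (by have := ha1 j; omega)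
      omega
    have hz2 : z ^ 2 = 1 := by
      apply e.injective
      rw [map_pow, map_one]
      simp only [z, MulEquiv.apply_symm_apply]
      funext i
      apply Multiplicative.toAdd.injective
      rw [pow_coord]
      by_cases hi : i = j
      · subst hi
        simp only [zz, Pi.mulSingle_eq_same, toAdd_ofAdd, Pi.one_apply, toAdd_one]
        rw [← Nat.cast_mul, ← pow_succ', show a i - 1 + 1 = a i by have := ha1 i; omega, ← ha i]
        exact ZMod.natCast_self (n i)
      · simp [zz, Pi.mulSingle_eq_of_ne hi]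
    obtain ⟨φ, _, hφ⟩ := htr x z hx1 hx2 hz1 hz2
    have hpw : z = (φ (e.symm y)) ^ (2 ^ (a i0 - 1)) := by
      rw [← hφ, ← map_pow, ← map_pow]
    have h1 : zz = (e (φ (e.symm y))) ^ (2 ^ (a i0 - 1)) := by
      have := congrArg e hpw
      rw [map_pow] at this
      simpa [z] using this
    have h2 := congrArg Multiplicative.toAdd (congrFun h1 j)
    rw [pow_coord] at h2
    simp only [zz, Pi.mulSingle_eq_same, toAdd_ofAdd] at h2
    have h3 : ((2 ^ (a i0 - 1) : ℕ) : ZMod (n j)) = 0 := by
      rw [ZMod.natCast_eq_zero_iff, ha j]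
      exact pow_dvd_pow 2 (by omega)
    rw [h3, zero_mul] at h2
    have h4 : n j ∣ 2 ^ (a j - 1) :=
      (ZMod.natCast_eq_zero_iff (2 ^ (a j - 1)) (n j)).mp h2
    rw [ha j] at h4
    have := Nat.le_of_dvd (by positivity) h4
    have h5 : 2 ^ (a j - 1) < 2 ^ (a j) :=
      Nat.pow_lt_pow_right (by norm_num) (by have := ha1 j; omega)
    omega
  have hn : n = fun _ => 2 ^ (a i0) := by
    funext i
    rw [ha i, hall i]
  subst hn
  dsimp only at e
  refine ⟨a i0, Fintype.card ι, ⟨e.trans ?_⟩⟩
  exact
    { toFun := fun f k => f ((Fintype.equivFin ι).symm k)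
      invFun := fun f i => f (Fintype.equivFin ι i)
      left_inv := fun f => by
        funext i
        exact congrArg f ((Fintype.equivFin ι).symm_apply_apply i)
      right_inv := fun f => by
        funext k
        exact congrArg f ((Fintype.equivFin ι).apply_symm_apply k)
      map_mul' := fun f g => by funext k; rfl }

end Cfsg.Agent.Lib.helper2.S3797Homocyclic
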