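import Mathlib
import Cfsg.Agent.Lib.helper2.QuadCW

set_option autoImplicit false

namespace Cfsg.Agent.Lib.helper2.S3797PA

theorem comm_hom_right {S : Type*} [Group S]
    (hc : ∀ a b g : S, (a * b * a⁻¹ * b⁻¹) * g = g * (a * b * a⁻¹ * b⁻¹)) (z x y : S) :
    z * (x * y) * z⁻¹ * (x * y)⁻¹ = (z * x * z⁻¹ * x⁻¹) * (z * y * z⁻¹ * y⁻¹) := by
  calc z * (x * y) * z⁻¹ * (x * y)⁻¹
      = z * x * z⁻¹ * ((z * y * z⁻¹ * y⁻¹) * x⁻¹) := by group
    _ = z * x * z⁻¹ * (x⁻¹ * (z * y * z⁻¹ * y⁻¹)) := by rw [hc z y x⁻¹]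
    _ = (z * x * z⁻¹ * x⁻¹) * (z * y * z⁻¹ * y⁻¹) := by group

theorem comm_hom_left {S : Type*} [Group S]
    (hc : ∀ a b g : S, (a * b * a⁻¹ * b⁻¹) * g = g * (a * b * a⁻¹ * b⁻¹)) (x y z : S) :
    (x * y) * z * (x * y)⁻¹ * z⁻¹ = (x * z * x⁻¹ * z⁻¹) * (y * z * y⁻¹ * z⁻¹) := by
  calc (x * y) * z * (x * y)⁻¹ * z⁻¹
      = x * ((y * z * y⁻¹ * z⁻¹) * (z * x⁻¹ * z⁻¹)) := by group
    _ = x * ((z * x⁻¹ * z⁻¹) * (y * z * y⁻¹ * z⁻¹)) := by rw [hc y z (z * x⁻¹ * z⁻¹)]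
    _ = (x * z * x⁻¹ * z⁻¹) * (y * z * y⁻¹ * z⁻¹) := by group

theorem sq_mul_of_central {S : Type*} [Group S]
    (hc : ∀ a b g : S, (a * b * a⁻¹ * b⁻¹) * g = g * (a * b * a⁻¹ * b⁻¹)) (x y : S) :
    (x * y) ^ 2 = x ^ 2 * y ^ 2 * (y * x * y⁻¹ * x⁻¹) := by
  simp only [pow_two]
  calc (x * y) * (x * y) = x * ((y * x * y⁻¹ * x⁻¹) * (x * (y * y))) := by group
    _ = x * ((x * (y * y)) * (y * x * y⁻¹ * x⁻¹)) := by rw [hc y x (x * (y * y))]
    _ = x * x * (y * y) * (y * x * y⁻¹ * x⁻¹) := by group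

theorem cw_bound {S : Type*} [Group S] [Finite S]
    (hcent : ∀ x : S, x ^ 2 = 1 → ∀ y : S, x * y = y * x)
    (hsq : ∀ x : S, (x ^ 2) ^ 2 = 1) :
    Nat.card S ≤ (Nat.card {x : S // x ^ 2 = 1}) ^ 3 := by
  classical
  let W : Subgroup S :=
    { carrier := {x | x ^ 2 = 1}
      mul_mem' := by
        intro a b ha hb
        simp only [Set.mem_ofPred_eq] at ha hb ⊢
        have h1 : (a * b) ^ 2 = a ^ 2 * b ^ 2 := by
          rw [pow_two, pow_two, pow_two, mul_assoc, ← mul_assoc b a b, ← hcent a ha b]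
          group
        rw [h1, ha, hb, mul_one]
      one_mem' := by simp
      inv_mem' := by
        intro a ha
        simp only [Set.mem_ofPred_eq] at ha ⊢
        rw [inv_pow, ha, inv_one] }
  have hWmem : ∀ x : S, x ∈ W ↔ x ^ 2 = 1 := fun x => Iff.rfl
  have hWnormal : W.Normal := by
    refine ⟨fun n hn g => ?_⟩
    have : g * n * g⁻¹ = n := by
      rw [← hcent n hn g, mul_inv_cancel_right]
    rw [this]
    exact hn
  have hV2 : ∀ v : S ⧸ W, v ^ 2 = 1 := by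
    intro v
    induction v using QuotientGroup.induction_on with
    | H x =>
      rw [← QuotientGroup.mk_pow, QuotientGroup.eq_one_iff]
      exact hsq x
  have hinv : ∀ v : S ⧸ W, v⁻¹ = v := by
    intro v
    rw [inv_eq_iff_mul_eq_one, ← pow_two]
    exact hV2 v
  have hVcomm : ∀ a b : S ⧸ W, a * b = b * a := by
    intro a b
    calc a * b = (a * b)⁻¹ := (hinv _).symm
      _ = b⁻¹ * a⁻¹ := mul_inv_rev a b
      _ = b * a := by rw [hinv, hinv]
  let instV : CommGroup (S ⧸ W) :=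
    { (inferInstance : Group (S ⧸ W)) with mul_comm := hVcomm }
  let instW : CommGroup W :=
    { (inferInstance : Group W) with mul_comm := fun a b => Subtype.ext (hcent a.1 a.2 b.1) }
  have hW2 : ∀ w : W, w ^ 2 = 1 := fun w => Subtype.ext w.2
  have hcomm_mem : ∀ a b : S, a * b * a⁻¹ * b⁻¹ ∈ W := by
    intro a b
    rw [← QuotientGroup.eq_one_iff]
    rw [QuotientGroup.mk_mul, QuotientGroup.mk_mul, QuotientGroup.mk_mul, QuotientGroup.mk_inv,
      QuotientGroup.mk_inv, hVcomm (a : S ⧸ W) b]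
    group
  have hc : ∀ a b g : S, (a * b * a⁻¹ * b⁻¹) * g = g * (a * b * a⁻¹ * b⁻¹) :=
    fun a b g => hcent _ (hcomm_mem a b) g
  let sq : S ⧸ W → W := fun v => Quotient.liftOn' v (fun x => (⟨x ^ 2, hsq x⟩ : W)) (by
    intro a b hab
    rw [QuotientGroup.leftRel_apply] at hab
    apply Subtype.ext
    change a ^ 2 = b ^ 2
    have hb : b = a * (a⁻¹ * b) := by group
    have h1 : (a * (a⁻¹ * b)) ^ 2 = a ^ 2 * (a⁻¹ * b) ^ 2 := by
      rw [pow_two, pow_two, pow_two, mul_assoc, ← mul_assoc (a⁻¹ * b) a (a⁻¹ * b),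
        hcent (a⁻¹ * b) hab a]
      group
    rw [hb, h1, (hWmem _).mp hab, mul_one])
  have hsq_mk : ∀ x : S, sq (x : S ⧸ W) = ⟨x ^ 2, hsq x⟩ := fun x => rfl
  let β : S ⧸ W → S ⧸ W → W := fun u v => sq (u * v) * (sq u)⁻¹ * (sq v)⁻¹
  have hβ_mk : ∀ x y : S, β (x : S ⧸ W) (y : S ⧸ W) = ⟨y * x * y⁻¹ * x⁻¹, hcomm_mem y x⟩ := by
    intro x y
    apply Subtype.ext
    change (x * y) ^ 2 * (x ^ 2)⁻¹ * (y ^ 2)⁻¹ = y * x * y⁻¹ * x⁻¹
    rw [sq_mul_of_central hc x y, ← hc y x (x ^ 2 * y ^ 2)]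
    have h : x ^ 2 * y ^ 2 * (x ^ 2)⁻¹ * (y ^ 2)⁻¹ = 1 := by
      rw [hcent (x ^ 2) (hsq x) (y ^ 2)]
      group
    calc y * x * y⁻¹ * x⁻¹ * (x ^ 2 * y ^ 2) * (x ^ 2)⁻¹ * (y ^ 2)⁻¹
        = y * x * y⁻¹ * x⁻¹ * (x ^ 2 * y ^ 2 * (x ^ 2)⁻¹ * (y ^ 2)⁻¹) := by
          simp only [mul_assoc]
      _ = y * x * y⁻¹ * x⁻¹ := by rw [h, mul_one]
  have key := QuadCW.card_le_of_anisotropic (V := S ⧸ W) (W := W) hV2 hW2 sq β
    (by
      intro x y
      change sq (x * y) = sq x * sq y * (sq (x * y) * (sq x)⁻¹ * (sq y)⁻¹)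
      have h : sq x * sq y * (sq (x * y) * (sq x)⁻¹ * (sq y)⁻¹)
          = sq (x * y) * (sq x * (sq x)⁻¹) * (sq y * (sq y)⁻¹) := by ac_rfl
      rw [h, mul_inv_cancel, mul_inv_cancel, mul_one, mul_one])
    (by
      intro a b c
      induction a using QuotientGroup.induction_on with
      | H x =>
      induction b using QuotientGroup.induction_on with
      | H y =>
      induction c using QuotientGroup.induction_on with
      | H z =>
      rw [← QuotientGroup.mk_mul, hβ_mk, hβ_mk, hβ_mk]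
      apply Subtype.ext
      change z * (x * y) * z⁻¹ * (x * y)⁻¹ = (z * x * z⁻¹ * x⁻¹) * (z * y * z⁻¹ * y⁻¹)
      exact comm_hom_right hc z x y)
    (by
      intro a b c
      induction a using QuotientGroup.induction_on with
      | H x =>
      induction b using QuotientGroup.induction_on with
      | H y =>
      induction c using QuotientGroup.induction_on with
      | H z =>
      rw [← QuotientGroup.mk_mul, hβ_mk, hβ_mk, hβ_mk]
      apply Subtype.ext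
      change (y * z) * x * (y * z)⁻¹ * x⁻¹ = (y * x * y⁻¹ * x⁻¹) * (z * x * z⁻¹ * x⁻¹)
      exact comm_hom_left hc y z x)
    (by
      intro v hv
      induction v using QuotientGroup.induction_on with
      | H x =>
      rw [hsq_mk] at hv
      rw [QuotientGroup.eq_one_iff]
      exact congrArg Subtype.val hv)
  have hcardS : Nat.card S = Nat.card (S ⧸ W) * Nat.card W :=
    Subgroup.card_eq_card_quotient_mul_card_subgroup W
  have hcardW : Nat.card {x : S // x ^ 2 = 1} = Nat.card W := rfl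
  rw [hcardW, hcardS, pow_succ]
  exact Nat.mul_le_mul_right _ key

end Cfsg.Agent.Lib.helper2.S3797PA
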