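import Mathlib

set_option autoImplicit false

namespace Cfsg.Agent.Lib.helper2.S3797PB

theorem arith_key (q cQ φ n a : ℕ) (hq : q = 2 ^ n) (hcQ : cQ = 2 ^ a) (hn : 1 ≤ n)
    (h1 : cQ = q + (q - 1) * φ) (h4 : 2 * cQ ≤ q ^ 3) (hφ : 1 ≤ φ) : φ = q := by
  have hq2 : 2 ≤ q := by
    rw [hq]
    calc 2 = 2 ^ 1 := by norm_num
      _ ≤ 2 ^ n := Nat.pow_le_pow_right (by norm_num) hn
  have hna : n < a := by
    have : 2 ^ n < 2 ^ a := by
      rw [← hq, ← hcQ, h1]
      have : 1 ≤ (q - 1) * φ := Nat.one_le_iff_ne_zero.mpr (by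
        apply Nat.mul_ne_zero <;> omega)
      omega
    exact (Nat.pow_lt_pow_iff_right (by norm_num)).mp this
  have ha3 : a + 1 ≤ 3 * n := by
    have : 2 ^ (a + 1) ≤ 2 ^ (3 * n) := by
      rw [pow_succ, mul_comm, ← hcQ, pow_mul', ← hq]
      exact h4
    exact (Nat.pow_le_pow_iff_right (by norm_num)).mp this
  obtain ⟨e, rfl⟩ : ∃ e, a = n + e := ⟨a - n, by omega⟩
  have he : e < 2 * n := by omega
  have he1 : 1 ≤ e := by omega
  have hE : q * (2 ^ e - 1) = (q - 1) * φ := by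
    have h2 : q * 2 ^ e = q + (q - 1) * φ := by
      rw [← h1, hcQ, pow_add, hq]
    have h3 : 1 ≤ 2 ^ e := Nat.one_le_two_pow
    have : q * (2 ^ e - 1) + q = q * 2 ^ e := by
      rw [← Nat.mul_succ]
      congr 1
      omega
    omega
  have hcop : Nat.Coprime q (q - 1) := by
    have : Nat.Coprime (q - 1 + 1) (q - 1) := by simp
    rwa [show q - 1 + 1 = q by omega] at this
  have hdvd : q ∣ φ := by
    have : q ∣ (q - 1) * φ := ⟨_, hE.symm⟩
    exact hcop.dvd_of_dvd_mul_left this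
  obtain ⟨ψ, rfl⟩ := hdvd
  have hE2 : 2 ^ e - 1 = (q - 1) * ψ := by
    have : q * (2 ^ e - 1) = q * ((q - 1) * ψ) := by
      rw [hE]; ring
    exact Nat.eq_of_mul_eq_mul_left (by omega) this
  have hψ : 1 ≤ ψ := by
    rcases Nat.eq_zero_or_pos ψ with h | h
    · subst h
      simp at hφ
    · exact h
  have hen : n ≤ e := by
    by_contra hlt
    rw [not_le] at hlt
    have h5 : 2 ^ e < 2 ^ n := Nat.pow_lt_pow_right (by norm_num) hlt
    rw [← hq] at h5
    have h6 : q - 1 ≤ (q - 1) * ψ := Nat.le_mul_of_pos_right _ hψ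
    omega
  obtain ⟨f, rfl⟩ : ∃ f, e = n + f := ⟨e - n, by omega⟩
  have hf : f < n := by omega
  have hr : 2 ^ f < q := by
    rw [hq]
    exact Nat.pow_lt_pow_right (by norm_num) hf
  have hr1 : 1 ≤ 2 ^ f := Nat.one_le_two_pow
  have hE3 : q * 2 ^ f - 1 = (q - 1) * ψ := by
    rw [← hE2, pow_add, hq]
  have hsplit : q * 2 ^ f - 1 = (q - 1) * 2 ^ f + (2 ^ f - 1) := by
    have : q * 2 ^ f = (q - 1) * 2 ^ f + 2 ^ f := by
      rw [← Nat.succ_mul]
      congr 1
      omega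
    omega
  have hψr : ψ = 2 ^ f := by
    rcases Nat.lt_trichotomy ψ (2 ^ f) with h | h | h
    · exfalso
      have : (q - 1) * ψ < (q - 1) * 2 ^ f := Nat.mul_lt_mul_of_pos_left h (by omega)
      omega
    · exact h
    · exfalso
      have : (q - 1) * (2 ^ f + 1) ≤ (q - 1) * ψ := Nat.mul_le_mul_left _ h
      rw [Nat.mul_succ] at this
      omega
  have hf0 : 2 ^ f = 1 := by
    rw [hψr] at hE3
    omega
  rw [hψr, hf0, mul_one]

theorem sq_inj_mod {S : Type*} [Group S] [Finite S]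
    (hcent : ∀ x : S, x ^ 2 = 1 → ∀ y : S, x * y = y * x)
    (hsq : ∀ x : S, (x ^ 2) ^ 2 = 1)
    (hbound : Nat.card S ≤ (Nat.card {x : S // x ^ 2 = 1}) ^ 3)
    (A : Subgroup (MulAut S))
    (htr : ∀ x y : S, x ≠ 1 → x ^ 2 = 1 → y ≠ 1 → y ^ 2 = 1 → ∃ a ∈ A, a x = y)
    (Q : Subgroup S) (hQA : ∀ a ∈ A, ∀ x ∈ Q, a x ∈ Q) (hWQ : ∀ x : S, x ^ 2 = 1 → x ∈ Q)
    (hQ : Q ≠ ⊤) :
    ∀ x ∈ Q, ∀ y ∈ Q, x ^ 2 = y ^ 2 → (x⁻¹ * y) ^ 2 = 1 := by
  classical
  have hmulW : ∀ a b : S, a ^ 2 = 1 → b ^ 2 = 1 → (a * b) ^ 2 = 1 := by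
    intro a b ha hb
    have h1 : (a * b) ^ 2 = a ^ 2 * b ^ 2 := by
      rw [pow_two, pow_two, pow_two, mul_assoc, ← mul_assoc b a b, ← hcent a ha b]
      group
    rw [h1, ha, hb, mul_one]
  have hinvW : ∀ a : S, a ^ 2 = 1 → (a⁻¹) ^ 2 = 1 := by
    intro a ha
    rw [inv_pow, ha, inv_one]
  intro x hx y hy hxy
  by_cases hx1 : x ^ 2 = 1
  · exact hmulW _ _ (hinvW x hx1) (by rw [← hxy]; exact hx1)
  have hP : IsPGroup 2 S := by
    intro g
    refine ⟨2, ?_⟩
    rw [show (2 : ℕ) ^ 2 = 2 * 2 by norm_num, pow_mul]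
    exact hsq g
  have : Fact (Nat.Prime 2) := ⟨Nat.prime_two⟩
  let W : Subgroup S :=
    { carrier := {x | x ^ 2 = 1}
      mul_mem' := fun {a b} ha hb => hmulW a b ha hb
      one_mem' := by simp
      inv_mem' := fun {a} ha => hinvW a ha }
  have hWmem : ∀ x : S, x ∈ W ↔ x ^ 2 = 1 := fun x => Iff.rfl
  have hWQ' : W ≤ Q := fun x hx => hWQ x hx
  have : Fintype W := Fintype.ofFinite _
  let sqQ : Q → W := fun z => ⟨(z : S) ^ 2, hsq z⟩
  have hsum : Nat.card Q = ∑ w : W, Nat.card {z : Q // sqQ z = w} := by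
    rw [← Nat.card_sigma]
    exact Nat.card_congr (Equiv.sigmaFiberEquiv sqQ).symm
  have hfib1 : Nat.card {z : Q // sqQ z = 1} = Nat.card W := by
    refine Nat.card_congr
      { toFun := fun z => ⟨z.1.1, by
          have := congrArg Subtype.val z.2
          exact this⟩
        invFun := fun u => ⟨⟨u.1, hWQ' u.2⟩, Subtype.ext u.2⟩
        left_inv := fun z => rfl
        right_inv := fun u => rfl }
  have hfibeq : ∀ w w' : W, w ≠ 1 → w' ≠ 1 →
      Nat.card {z : Q // sqQ z = w} = Nat.card {z : Q // sqQ z = w'} := by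
    intro w w' hw hw'
    obtain ⟨a, ha, haw⟩ := htr w.1 w'.1 (fun h => hw (Subtype.ext h)) w.2
      (fun h => hw' (Subtype.ext h)) w'.2
    have hainv : a⁻¹ ∈ A := A.inv_mem ha
    refine Nat.card_congr
      { toFun := fun z => ⟨⟨a z.1.1, hQA a ha _ z.1.2⟩, by
          apply Subtype.ext
          change (a (z.1.1 : S)) ^ 2 = w'.1
          rw [← map_pow, ← haw]
          exact congrArg a (congrArg Subtype.val z.2)⟩
        invFun := fun z => ⟨⟨a⁻¹ z.1.1, hQA a⁻¹ hainv _ z.1.2⟩, by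
          apply Subtype.ext
          change (a⁻¹ (z.1.1 : S)) ^ 2 = w.1
          rw [← map_pow]
          have h1 : (z.1.1 : S) ^ 2 = w'.1 := congrArg Subtype.val z.2
          rw [h1, ← haw]
          simp⟩
        left_inv := fun z => by
          apply Subtype.ext
          apply Subtype.ext
          simp
        right_inv := fun z => by
          apply Subtype.ext
          apply Subtype.ext
          simp }
  let w0 : W := ⟨x ^ 2, hsq x⟩
  have hw0 : w0 ≠ 1 := fun h => hx1 (congrArg Subtype.val h)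
  let φ := Nat.card {z : Q // sqQ z = w0}
  have hcardQ : Nat.card Q = Nat.card W + (Nat.card W - 1) * φ := by
    rw [hsum, ← Finset.add_sum_erase Finset.univ _ (Finset.mem_univ (1 : W)), hfib1]
    congr 1
    rw [Finset.sum_congr rfl (fun w hw => hfibeq w w0 (Finset.ne_of_mem_erase hw) hw0)]
    rw [Finset.sum_const, Finset.card_erase_of_mem (Finset.mem_univ _), Finset.card_univ,
      smul_eq_mul, Nat.card_eq_fintype_card (α := W)]
  obtain ⟨s, hs⟩ := IsPGroup.iff_card.mp hP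
  obtain ⟨a, ha⟩ := IsPGroup.iff_card.mp (hP.to_subgroup Q)
  obtain ⟨n, hn⟩ := IsPGroup.iff_card.mp (hP.to_subgroup W)
  have hn1 : 1 ≤ n := by
    rcases Nat.eq_zero_or_pos n with h | h
    · exfalso
      rw [h, pow_zero] at hn
      have := (Subgroup.card_eq_one (H := W)).mp hn
      have hmem : x ^ 2 ∈ W := hsq x
      rw [this, Subgroup.mem_bot] at hmem
      exact hx1 hmem
    · exact h
  have h4 : 2 * Nat.card Q ≤ Nat.card W ^ 3 := by
    have hdvd : Nat.card Q ∣ Nat.card S := Subgroup.card_subgroup_dvd_card Q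
    have hne : Nat.card Q ≠ Nat.card S := fun h => hQ (Subgroup.eq_top_of_card_eq Q h)
    rw [ha, hs] at hdvd hne
    have hle : a ≤ s := (Nat.pow_dvd_pow_iff_le_right (by norm_num)).mp hdvd
    have hlt : a < s := lt_of_le_of_ne hle (fun h => hne (by rw [h]))
    have : 2 * Nat.card Q ≤ Nat.card S := by
      rw [ha, hs, ← pow_succ']
      exact Nat.pow_le_pow_right (by norm_num) hlt
    exact this.trans hbound
  have hφ1 : 1 ≤ φ := by
    have : Nonempty {z : Q // sqQ z = w0} := ⟨⟨⟨x, hx⟩, rfl⟩⟩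
    exact Nat.card_pos
  have hφq : φ = Nat.card W := arith_key (Nat.card W) (Nat.card Q) φ n a hn ha hn1 hcardQ h4 hφ1
  let f : W → {z : Q // sqQ z = w0} := fun u => ⟨⟨x * u.1, Q.mul_mem hx (hWQ' u.2)⟩, by
    apply Subtype.ext
    change (x * u.1) ^ 2 = x ^ 2
    have h1 : (x * u.1) ^ 2 = x ^ 2 * u.1 ^ 2 := by
      rw [pow_two, pow_two, pow_two, mul_assoc, ← mul_assoc u.1 x u.1, hcent u.1 u.2 x]
      group
    rw [h1, (hWmem _).mp u.2, mul_one]⟩
  have hfinj : Function.Injective f := by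
    intro u v huv
    have := congrArg (fun z : {z : Q // sqQ z = w0} => (z.1.1 : S)) huv
    simp only [f] at this
    exact Subtype.ext (mul_left_cancel this)
  have hfbij := hfinj.bijective_of_nat_card_le (le_of_eq hφq)
  obtain ⟨u, hu⟩ := hfbij.2 ⟨⟨y, hy⟩, by
    apply Subtype.ext
    change y ^ 2 = x ^ 2
    exact hxy.symm⟩
  have hyu : x * u.1 = y := by
    have := congrArg (fun z : {z : Q // sqQ z = w0} => (z.1.1 : S)) hu
    simpa [f] using this
  rw [← hyu, inv_mul_cancel_left]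
  exact u.2

end Cfsg.Agent.Lib.helper2.S3797PB
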