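import Mathlib
import Cfsg.Prelude.Def_LocalStructure
import Cfsg.Agent.S3868
import Cfsg.Agent.Lib.helper15.SL2Card

/-!
# S3875 (least order of a group with non-normal Sylow `p`-subgroups), part A: the lower bound

The lower bound is reduced to the Brauer–Reynolds theorem S4701, taken here as a hypothesis `BRHyp`
(universe `0`), through the structure of the non-simple minimal non-`p`-closed groups (S3868).
-/

set_option autoImplicit false

namespace Cfsg.Agent.Lib.helper2.S3875a

open Cfsg
open scoped commutatorElement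

/-- the statement of S4701 for groups in `Type` -/
def BRHyp : Prop :=
  ∀ (G : Type) [Group G] [Finite G], commutator G = ⊤ → ∀ (p : ℕ) [Fact p.Prime],
    p ∣ Nat.card G → Nat.card G < p ^ 3 → ∀ (P : Sylow p G), ¬ (P : Subgroup G).Normal →
    (∀ N : Subgroup G, N.Normal → Nat.card N ≠ 2) →
    (∃ (F : Type) (_ : Field F) (_ : Fintype F), Fintype.card F = p ∧ 3 < p ∧
        Nonempty (G ≃* Matrix.ProjectiveSpecialLinearGroup (Fin 2) F)) ∨
      (∃ (m : ℕ) (F : Type) (_ : Field F) (_ : Fintype F), Fintype.card F = 2 ^ m ∧ p = 2 ^ m + 1 ∧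
        3 < p ∧ Nonempty (G ≃* Matrix.SpecialLinearGroup (Fin 2) F))

section Card

variable {F : Type*} [Field F] [Fintype F]

theorem s3875_card_center_SL2 :
    Nat.card (Subgroup.center (Matrix.SpecialLinearGroup (Fin 2) F)) =
      Nat.gcd 2 (Fintype.card F - 1) := by
  have e := Matrix.SpecialLinearGroup.center_equiv_rootsOfUnity' (n := Fin 2) (R := F) 0
  rw [Nat.card_congr e.toEquiv, Fintype.card_fin]
  have h1 : (rootsOfUnity 2 F) = (powMonoidHom 2 : Fˣ →* Fˣ).ker := by
    ext x
    simp [mem_rootsOfUnity, MonoidHom.mem_ker]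
  rw [h1, IsCyclic.card_powMonoidHom_ker, Nat.card_units, Nat.card_eq_fintype_card, Nat.gcd_comm]

theorem s3875_card_PSL2_mul :
    Nat.card (Matrix.ProjectiveSpecialLinearGroup (Fin 2) F) * Nat.gcd 2 (Fintype.card F - 1) =
      Fintype.card F * (Fintype.card F ^ 2 - 1) := by
  have h2 := Subgroup.card_eq_card_quotient_mul_card_subgroup
    (Subgroup.center (Matrix.SpecialLinearGroup (Fin 2) F))
  rw [s3875_card_center_SL2, Cfsg.Agent.Lib.helper15.card_SL2] at h2
  exact h2.symm

/-- `2 |PSL₂(q)| = q (q² - 1)` for odd `q` -/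
theorem s3875_two_mul_card_psl2 (hodd : Odd (Fintype.card F)) :
    Nat.card (Matrix.ProjectiveSpecialLinearGroup (Fin 2) F) * 2 =
      Fintype.card F * (Fintype.card F ^ 2 - 1) := by
  have h := s3875_card_PSL2_mul (F := F)
  have hg : Nat.gcd 2 (Fintype.card F - 1) = 2 := by
    obtain ⟨t, ht⟩ := hodd
    rw [ht, Nat.add_sub_cancel]
    exact Nat.gcd_eq_left (Dvd.intro _ rfl)
  rwa [hg] at h

end Card

/-- a commutative group is `p`-closed -/
theorem s3875_isPClosed_of_comm {H : Type*} [Group H] (p : ℕ)
    (hc : ∀ a b : H, a * b = b * a) : IsPClosed p H := by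
  intro P
  refine ⟨fun n hn g => ?_⟩
  have : g * n * g⁻¹ = n := by rw [hc g n, mul_assoc, mul_inv_cancel, mul_one]
  rw [this]; exact hn

/-- a non-`p`-closed group has order divisible by `p` -/
theorem s3875_dvd_card {H : Type*} [Group H] [Finite H] (p : ℕ) [Fact p.Prime]
    (hnc : ¬ IsPClosed p H) : p ∣ Nat.card H := by
  by_contra hnd
  apply hnc
  intro P
  have h1 : Nat.card (P : Subgroup H) = 1 := by
    rw [P.card_eq_multiplicity, Nat.factorization_eq_zero_of_not_dvd hnd, pow_zero]
  have h2 : (P : Subgroup H) = ⊥ := Subgroup.card_eq_one.mp h1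
  rw [h2]; infer_instance

/-- arithmetic: `p (p² - 1) / 2 ≤ t (t² - 1)` for `p = t + 1`, `t ≥ 4` -/
theorem s3875_arith (t : ℕ) (ht : 4 ≤ t) :
    (t + 1) * ((t + 1) ^ 2 - 1) / 2 ≤ t * (t ^ 2 - 1) := by
  have h1 : (t + 1) ^ 2 - 1 = t * (t + 2) := by
    have : (t + 1) ^ 2 = t * (t + 2) + 1 := by ring
    omega
  have h2 : t ^ 2 - 1 = (t - 1) * (t + 1) := by
    obtain ⟨s, rfl⟩ : ∃ s, t = s + 1 := ⟨t - 1, by omega⟩
    have : (s + 1) ^ 2 = s * (s + 1 + 1) + 1 := by ring
    simp only [Nat.add_sub_cancel]
    omega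
  rw [h1, h2]
  apply Nat.div_le_of_le_mul
  obtain ⟨s, rfl⟩ : ∃ s, t = s + 4 := ⟨t - 4, by omega⟩
  have : s + 4 - 1 = s + 3 := by omega
  rw [this]
  nlinarith [Nat.zero_le s]

/-- the lower bound, by strong induction on the order -/
theorem s3875_lower (hBR : BRHyp) (p : ℕ) [Fact p.Prime] (hp : p ≠ 2) (m : ℕ)
    (hleast : ∀ k : ℕ, IsPrimePow k → k % p = 1 → m ≤ k) :
    ∀ (n : ℕ) (H : Type) [Group H] [Finite H], Nat.card H = n → ¬ Cfsg.IsPClosed p H →
      min (p * m) (p * (p ^ 2 - 1) / 2) ≤ n := by
  have hpP : p.Prime := Fact.out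
  have hp3 : 3 ≤ p := by
    have := hpP.two_le
    omega
  intro n
  induction n using Nat.strong_induction_on with
  | _ n ih =>
    intro H _ _ hn hnc
    by_cases hsub : ∀ K : Subgroup H, K ≠ ⊤ → IsPClosed p ↥K
    swap
    · push Not at hsub
      obtain ⟨K, hK, hKnc⟩ := hsub
      have hlt : Nat.card K < n := by
        by_contra hle
        push Not at hle
        exact hK (Subgroup.eq_top_of_le_card K (by rw [hn]; exact hle))
      exact (ih _ hlt ↥K rfl hKnc).trans hlt.le
    by_cases hquo : ∀ (N : Subgroup H) [N.Normal], N ≠ ⊥ → IsPClosed p (H ⧸ N)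
    swap
    · push Not at hquo
      obtain ⟨N, hNn, hN, hNnc⟩ := hquo
      have hlt : Nat.card (H ⧸ N) < n := by
        have h1 := Subgroup.card_eq_card_quotient_mul_card_subgroup N
        have h2 : 1 < Nat.card N := (Subgroup.one_lt_card_iff_ne_bot N).mpr hN
        have h3 : 0 < Nat.card (H ⧸ N) := Nat.card_pos
        rw [hn] at h1
        rw [h1]
        nlinarith
      exact (ih _ hlt (H ⧸ N) rfl hNnc).trans hlt.le
    by_cases hs : IsSimpleGroup H
    · -- the simple case
      by_cases hbig : p * (p ^ 2 - 1) / 2 ≤ n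
      · exact (min_le_right _ _).trans hbig
      exfalso
      push Not at hbig
      have hperf : commutator H = ⊤ := by
        rcases hs.eq_bot_or_eq_top_of_normal (commutator H) inferInstance with h | h
        · exfalso
          apply hnc
          apply s3875_isPClosed_of_comm
          intro a b
          have h1 : ⁅a, b⁆ ∈ commutator H := by
            rw [commutator_def]
            exact Subgroup.commutator_mem_commutator (Subgroup.mem_top a) (Subgroup.mem_top b)
          rw [h, Subgroup.mem_bot] at h1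
          exact commutatorElement_eq_one_iff_mul_comm.mp h1
        · exact h
      have hdvd : p ∣ Nat.card H := s3875_dvd_card p hnc
      have hcube : Nat.card H < p ^ 3 := by
        rw [hn]
        refine lt_of_lt_of_le hbig ?_
        apply Nat.div_le_of_le_mul
        have : p ^ 2 - 1 ≤ p ^ 2 := Nat.sub_le _ _
        calc p * (p ^ 2 - 1) ≤ p * p ^ 2 := Nat.mul_le_mul_left _ this
          _ = p ^ 3 := by ring
          _ ≤ 2 * p ^ 3 := by omega
      obtain ⟨P, hP⟩ : ∃ P : Sylow p H, ¬ (P : Subgroup H).Normal := by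
        by_contra h
        push Not at h
        exact hnc h
      have h2 : ∀ N : Subgroup H, N.Normal → Nat.card N ≠ 2 := by
        intro N hN hc
        rcases hs.eq_bot_or_eq_top_of_normal N hN with h | h
        · rw [h, Subgroup.card_bot] at hc; omega
        · rw [h, Subgroup.card_top] at hc
          apply hnc
          have : Fact (Nat.Prime 2) := ⟨Nat.prime_two⟩
          have : IsCyclic H := isCyclic_of_prime_card hc
          apply s3875_isPClosed_of_comm
          intro a b
          exact (IsCyclic.commGroup (α := H)).mul_comm a b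
      rcases hBR H hperf p hdvd hcube P hP h2 with ⟨F, _, _, hF, -, ⟨e⟩⟩ | ⟨k, F, _, _, hF, hpk, h3p, ⟨e⟩⟩
      · -- `PSL(2,p)`
        have hc : Nat.card H = Nat.card (Matrix.ProjectiveSpecialLinearGroup (Fin 2) F) :=
          Nat.card_congr e.toEquiv
        have hodd : Odd (Fintype.card F) := by
          rw [hF]; exact hpP.odd_of_ne_two hp
        have h2c := s3875_two_mul_card_psl2 (F := F) hodd
        rw [← hc, hn, hF] at h2c
        have : p * (p ^ 2 - 1) / 2 = n := by
          rw [← h2c]; exact Nat.mul_div_cancel _ (by norm_num)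
        omega
      · -- `SL(2,2^k)`
        have hc : Nat.card H = Nat.card (Matrix.SpecialLinearGroup (Fin 2) F) :=
          Nat.card_congr e.toEquiv
        rw [Cfsg.Agent.Lib.helper15.card_SL2, hn, hF] at hc
        have ht : 4 ≤ 2 ^ k := by
          have hk2 : 2 ≤ k := by
            by_contra hk
            push Not at hk
            interval_cases k <;> omega
          calc 4 = 2 ^ 2 := by norm_num
            _ ≤ 2 ^ k := Nat.pow_le_pow_right (by norm_num) hk2
        have := s3875_arith (2 ^ k) ht
        rw [← hpk, ← hc] at this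
        omega
    · -- the non-simple case
      obtain ⟨q, hq, hqp, hcard, -⟩ := Cfsg.Agent.S3868.result hnc hsub hquo hs
      set e := orderOf (q : ZMod p) with he
      have he0 : e ≠ 0 := by
        intro h0
        rw [h0, pow_zero, mul_one] at hcard
        apply hnc
        have : IsCyclic H := isCyclic_of_prime_card hcard
        apply s3875_isPClosed_of_comm
        intro a b
        exact (IsCyclic.commGroup (α := H)).mul_comm a b
      have hpp : IsPrimePow (q ^ e) := ⟨q, e, hq.prime, Nat.pos_of_ne_zero he0, rfl⟩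
      have hmod : q ^ e % p = 1 := by
        have h1 : ((q : ZMod p)) ^ e = 1 := pow_orderOf_eq_one _
        have h2 : ((q ^ e : ℕ) : ZMod p) = ((1 : ℕ) : ZMod p) := by
          push_cast; exact h1
        have h3 := (ZMod.natCast_eq_natCast_iff' _ _ _).mp h2
        rw [h3]
        exact Nat.mod_eq_of_lt (by omega)
      have hm := hleast _ hpp hmod
      refine (min_le_left _ _).trans ?_
      rw [← hn, hcard]
      exact Nat.mul_le_mul_left _ hm

end Cfsg.Agent.Lib.helper2.S3875a
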