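import Mathlib
import Cfsg.Prelude.Def_LocalStructure
import Cfsg.Agent.Lib.helper2.S3875a

/-!
# S3875, part B: the two groups attaining the bound

* the semidirect product of the additive group of the field with `m = r ^ k` elements by a subgroup of
  order `p` of its multiplicative group (`m ≡ 1 mod p`), of order `p m`;
* `PSL₂(p)`, of order `p (p² - 1) / 2` (`p ≥ 5`).
-/

set_option autoImplicit false

namespace Cfsg.Agent.Lib.helper2.S3875b

open Cfsg Cfsg.Agent.Lib.helper2.S3875a

section Affine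

variable {F : Type} [Field F]

/-- the action of a group of units on the additive group -/
noncomputable def s3875_phi (C : Subgroup Fˣ) : C →* MulAut (Multiplicative F) :=
  (MulAutMultiplicative F).symm.toMonoidHom.comp ((DistribMulAction.toAddAut Fˣ F).comp C.subtype)

theorem s3875_phi_apply (C : Subgroup Fˣ) (g : C) (a : F) :
    s3875_phi C g (Multiplicative.ofAdd a) = Multiplicative.ofAdd (((g : Fˣ) : F) * a) := rfl

end Affine

/-- the group of order `p m` -/
theorem s3875_exists_affine (p : ℕ) [Fact p.Prime] (m : ℕ) (hm : IsPrimePow m) (hm1 : m % p = 1) :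
    ∃ (H : Type) (_ : Group H) (_ : Finite H), Nat.card H = p * m ∧ ¬ Cfsg.IsPClosed p H := by
  classical
  have hpP : p.Prime := Fact.out
  obtain ⟨r, k, hr, hk, rfl⟩ := hm
  have hrP : r.Prime := Nat.prime_iff.mpr hr
  have : Fact r.Prime := ⟨hrP⟩
  have hrp : r ≠ p := by
    rintro rfl
    have : r ^ k % r = 0 := Nat.mod_eq_zero_of_dvd (dvd_pow_self r hk.ne')
    omega
  let F := GaloisField r k
  have hcF : Nat.card F = r ^ k := GaloisField.card r k hk.ne'
  have : Fintype F := Fintype.ofFinite F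
  have hcU : Nat.card Fˣ = r ^ k - 1 := by rw [Nat.card_units, hcF]
  have hpU : p ∣ Nat.card Fˣ := by
    rw [hcU]
    have h1 : 1 ≤ r ^ k := Nat.one_le_pow _ _ hrP.pos
    have h2 : (r ^ k - 1) % p = 0 := by
      have := Nat.mod_add_div (r ^ k) p
      rw [hm1] at this
      have h3 : r ^ k - 1 = p * (r ^ k / p) := by omega
      rw [h3]; exact Nat.mul_mod_right _ _
    exact Nat.dvd_of_mod_eq_zero h2
  obtain ⟨ζ, hζ⟩ := exists_prime_orderOf_dvd_card' p hpU
  let C : Subgroup Fˣ := Subgroup.zpowers ζ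
  have hcC : Nat.card C = p := by rw [Nat.card_zpowers, hζ]
  let φ := s3875_phi C
  refine ⟨Multiplicative F ⋊[φ] C, inferInstance, ?_, ?_, ?_⟩
  · have : Finite C := Nat.finite_of_card_ne_zero (by rw [hcC]; exact hpP.ne_zero)
    exact Finite.of_equiv _ SemidirectProduct.equivProd.symm
  · rw [SemidirectProduct.card, hcC, Nat.card_congr Multiplicative.toAdd, hcF, mul_comm]
  · intro hcl
    -- the element `ζ` and the translation by `1`
    let g : C := ⟨ζ, Subgroup.mem_zpowers ζ⟩
    let x : Multiplicative F := Multiplicative.ofAdd 1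
    let ig : Multiplicative F ⋊[φ] C := SemidirectProduct.inr g
    let ix : Multiplicative F ⋊[φ] C := SemidirectProduct.inl x
    have hgp : ig ^ p = 1 := by
      show (SemidirectProduct.inr g : Multiplicative F ⋊[φ] C) ^ p = 1
      rw [← map_pow]
      have : g ^ p = 1 := by
        apply Subtype.ext
        show ζ ^ p = 1
        rw [← hζ]; exact pow_orderOf_eq_one ζ
      rw [this, map_one]
    -- `ig` lies in a Sylow subgroup, normal by hypothesis
    have hpg : IsPGroup p (Subgroup.zpowers ig) := by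
      apply IsPGroup.of_card (n := 1)
      rw [Nat.card_zpowers, pow_one]
      refine orderOf_eq_prime hgp ?_
      intro h1
      have h2 : g = 1 := SemidirectProduct.inr_injective (by rw [map_one]; exact h1)
      have h3 : ζ = 1 := congrArg Subtype.val h2
      rw [h3, orderOf_one] at hζ
      exact hpP.one_lt.ne hζ
    obtain ⟨P, hP⟩ := hpg.exists_le_sylow
    have hPn : (P : Subgroup (Multiplicative F ⋊[φ] C)).Normal := hcl P
    have higP : ig ∈ (P : Subgroup _) := hP (Subgroup.mem_zpowers ig)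
    have hy : ix * ig * ix⁻¹ * ig⁻¹ ∈ (P : Subgroup _) :=
      Subgroup.mul_mem _ (hPn.conj_mem ig higP ix) (Subgroup.inv_mem _ higP)
    have hyeq : ix * ig * ix⁻¹ * ig⁻¹ =
        SemidirectProduct.inl (Multiplicative.ofAdd ((1 : F) - (ζ : F))) := by
      have h1 : ig * ix⁻¹ * ig⁻¹ = SemidirectProduct.inl (φ g x⁻¹) := by
        have e1 : ix⁻¹ = SemidirectProduct.inl x⁻¹ := (map_inv _ _).symm
        have e2 : ig⁻¹ = SemidirectProduct.inr g⁻¹ := (map_inv _ _).symm
        rw [e1, e2]
        exact (SemidirectProduct.inl_aut g x⁻¹).symm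
      have h2 : ix * ig * ix⁻¹ * ig⁻¹ = ix * (ig * ix⁻¹ * ig⁻¹) := by group
      rw [h2, h1]
      show SemidirectProduct.inl x * SemidirectProduct.inl (φ g x⁻¹) = _
      rw [← map_mul]
      congr 1
      have h3 : x⁻¹ = Multiplicative.ofAdd (-(1 : F)) := rfl
      rw [h3]
      show x * s3875_phi C g (Multiplicative.ofAdd (-(1 : F))) = _
      rw [s3875_phi_apply]
      show Multiplicative.ofAdd (1 : F) * Multiplicative.ofAdd ((ζ : F) * (-1)) = _
      rw [← ofAdd_add]
      congr 1
      ring
    rw [hyeq] at hy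
    set y : Multiplicative F ⋊[φ] C :=
      SemidirectProduct.inl (Multiplicative.ofAdd ((1 : F) - (ζ : F))) with hydef
    -- `y ^ r = 1`
    have hyr : y ^ r = 1 := by
      rw [hydef, ← map_pow, ← ofAdd_nsmul]
      have : r • ((1 : F) - (ζ : F)) = 0 := by
        rw [nsmul_eq_mul]
        have : ((r : ℕ) : F) = 0 := CharP.cast_eq_zero F r
        rw [this, zero_mul]
      rw [this, ofAdd_zero, map_one]
    -- `y` has `p`-power order
    obtain ⟨j, hj⟩ := (P.2 ⟨y, hy⟩)
    have hj' : y ^ p ^ j = 1 := by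
      have := congrArg Subtype.val hj
      simpa using this
    have hcop : Nat.Coprime (p ^ j) r :=
      Nat.Coprime.pow_left j ((Nat.coprime_primes hpP hrP).mpr (Ne.symm hrp))
    have hy1 : y = 1 := by
      have h1 : orderOf y ∣ p ^ j := orderOf_dvd_of_pow_eq_one hj'
      have h2 : orderOf y ∣ r := orderOf_dvd_of_pow_eq_one hyr
      have h3 : orderOf y ∣ 1 := by
        have := Nat.dvd_gcd h1 h2
        rwa [hcop] at this
      exact orderOf_eq_one_iff.mp (Nat.dvd_one.mp h3)
    have h4 : Multiplicative.ofAdd ((1 : F) - (ζ : F)) = 1 :=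
      SemidirectProduct.inl_injective (by rw [map_one]; exact hy1)
    have h5 : (1 : F) - (ζ : F) = 0 := h4
    have h6 : ζ = 1 := by
      apply Units.ext
      rw [Units.val_one]
      exact (sub_eq_zero.mp h5).symm
    rw [h6, orderOf_one] at hζ
    exact hpP.one_lt.ne hζ

/-- `PSL₂(p)` -/
theorem s3875_exists_psl (p : ℕ) [Fact p.Prime] (hp5 : 5 ≤ p) :
    ∃ (H : Type) (_ : Group H) (_ : Finite H), Nat.card H = p * (p ^ 2 - 1) / 2 ∧
      ¬ Cfsg.IsPClosed p H := by
  classical
  have hpP : p.Prime := Fact.out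
  have hp2 : p ≠ 2 := by omega
  let G := Matrix.ProjectiveSpecialLinearGroup (Fin 2) (ZMod p)
  have hcF : Fintype.card (ZMod p) = p := ZMod.card p
  have hodd : Odd (Fintype.card (ZMod p)) := by rw [hcF]; exact hpP.odd_of_ne_two hp2
  have h2c := s3875_two_mul_card_psl2 (F := ZMod p) hodd
  rw [hcF] at h2c
  have hcard : Nat.card G = p * (p ^ 2 - 1) / 2 := by
    rw [← h2c]; exact (Nat.mul_div_cancel _ (by norm_num)).symm
  have : Finite G := Nat.finite_of_card_ne_zero (by
    intro h0
    rw [h0, zero_mul] at h2c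
    have : 0 < p * (p ^ 2 - 1) := by
      apply Nat.mul_pos hpP.pos
      have : 1 < p ^ 2 := Nat.one_lt_pow (by norm_num) hpP.one_lt
      omega
    omega)
  refine ⟨G, inferInstance, inferInstance, hcard, ?_⟩
  intro hcl
  have : IsSimpleGroup G :=
    Matrix.ProjectiveSpecialLinearGroup.rank_two_simple (by
      rw [Nat.card_eq_fintype_card, hcF]; omega)
  -- `p` divides the order
  have hpd : p ∣ Nat.card G := by
    have h1 : p ∣ Nat.card G * 2 := by rw [h2c]; exact dvd_mul_right _ _
    exact (Nat.Coprime.dvd_of_dvd_mul_right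
      ((Nat.coprime_primes hpP Nat.prime_two).mpr hp2) h1)
  obtain ⟨P⟩ : Nonempty (Sylow p G) := inferInstance
  have hPn := hcl P
  rcases IsSimpleGroup.eq_bot_or_eq_top_of_normal (P : Subgroup G) hPn with h | h
  · -- trivial Sylow subgroup
    have h1 : Nat.card (P : Subgroup G) = 1 := by rw [h]; exact Subgroup.card_bot
    have h2 := P.card_eq_multiplicity
    rw [h1] at h2
    have h3 : (Nat.card G).factorization p = 0 := by
      by_contra h0
      have : 1 < p ^ (Nat.card G).factorization p := Nat.one_lt_pow h0 hpP.one_lt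
      omega
    have h4 : 0 < (Nat.card G).factorization p :=
      hpP.factorization_pos_of_dvd Nat.card_pos.ne' hpd
    omega
  · -- `G` would be a `p`-group
    have h1 : Nat.card (P : Subgroup G) = Nat.card G := by rw [h]; exact Subgroup.card_top
    obtain ⟨j, hj⟩ := IsPGroup.iff_card.mp P.2
    rw [h1] at hj
    rw [hj] at h2c
    -- `p ^ j * 2 = p * (p ^ 2 - 1)`
    have hsq : p ^ 2 - 1 = (p - 1) * (p + 1) := by
      obtain ⟨s, rfl⟩ : ∃ s, p = s + 1 := ⟨p - 1, by omega⟩
      have : (s + 1) ^ 2 = s * (s + 1 + 1) + 1 := by ring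
      simp only [Nat.add_sub_cancel]
      omega
    have hnd : ¬ p ∣ p ^ 2 - 1 := by
      intro hd
      have h3 : p ∣ p ^ 2 := dvd_pow_self p (by norm_num)
      have h4 : 1 ≤ p ^ 2 := Nat.one_le_pow _ _ hpP.pos
      have h5 : p ∣ p ^ 2 - (p ^ 2 - 1) := Nat.dvd_sub h3 hd
      have h6 : p ^ 2 - (p ^ 2 - 1) = 1 := by omega
      rw [h6] at h5
      exact hpP.one_lt.ne' (Nat.dvd_one.mp h5)
    rcases j with _ | _ | j
    · -- `2 = p (p² - 1)`
      simp only [pow_zero, one_mul] at h2c
      have : 5 * 1 ≤ p * (p ^ 2 - 1) := by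
        apply Nat.mul_le_mul hp5
        have : 1 < p ^ 2 := Nat.one_lt_pow (by norm_num) hpP.one_lt
        omega
      omega
    · -- `2 p = p (p² - 1)`
      simp only [zero_add, pow_one] at h2c
      have h3 : 2 = p ^ 2 - 1 := Nat.eq_of_mul_eq_mul_left hpP.pos h2c
      have : 25 ≤ p ^ 2 := by nlinarith
      omega
    · -- `p ∣ p² - 1`
      apply hnd
      have h3 : p * (p ^ (j + 1) * 2) = p * (p ^ 2 - 1) := by
        rw [← h2c]; ring
      have h4 := Nat.eq_of_mul_eq_mul_left hpP.pos h3
      rw [← h4]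
      exact Dvd.dvd.mul_right (dvd_pow_self p (by omega)) 2

end Cfsg.Agent.Lib.helper2.S3875b
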