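import Mathlib
import Cfsg.Prelude.Def_LocalStructure
import Cfsg.Agent.Lib.helper2.S3875a
import Cfsg.Agent.Lib.helper2.S3875b

/-!
# S3875: assembly from the Brauer–Reynolds hypothesis
-/

set_option autoImplicit false

namespace Cfsg.Agent.Lib.helper2.S3875c

open Cfsg Cfsg.Agent.Lib.helper2.S3875a Cfsg.Agent.Lib.helper2.S3875b

theorem s3875_main (hBR : BRHyp) (p : ℕ) [Fact p.Prime] (hp : p ≠ 2) (m : ℕ) (hm : IsPrimePow m)
    (hm1 : m % p = 1) (hleast : ∀ k : ℕ, IsPrimePow k → k % p = 1 → m ≤ k) :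
    (∀ (H : Type) [Group H] [Finite H], ¬ Cfsg.IsPClosed p H →
        min (p * m) (p * (p ^ 2 - 1) / 2) ≤ Nat.card H) ∧
      ∃ (H : Type) (_ : Group H) (_ : Finite H),
        Nat.card H = min (p * m) (p * (p ^ 2 - 1) / 2) ∧ ¬ Cfsg.IsPClosed p H := by
  have hpP : p.Prime := Fact.out
  refine ⟨fun H _ _ hnc => s3875_lower hBR p hp m hleast _ H rfl hnc, ?_⟩
  by_cases h : p * m ≤ p * (p ^ 2 - 1) / 2
  · rw [min_eq_left h]
    exact s3875_exists_affine p m hm hm1
  · push Not at h
    rw [min_eq_right h.le]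
    apply s3875_exists_psl p
    have h2 := hpP.two_le
    by_contra h5
    push Not at h5
    have h3 : p = 3 := by
      interval_cases p
      · exact absurd rfl hp
      · rfl
      · exact absurd hpP (by norm_num)
    subst h3
    have hm4 : m ≤ 4 := hleast 4 ⟨2, 2, Nat.prime_two.prime, by norm_num, by norm_num⟩ (by norm_num)
    norm_num at h
    omega

end Cfsg.Agent.Lib.helper2.S3875c
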