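import Mathlib
import Cfsg.Agent.Lib.Helper19.S5954.Defs
import Cfsg.Agent.Lib.Helper26.S5954UADJ
import Cfsg.Agent.Lib.Helper19.S5956UBETASYMM

set_option autoImplicit false
set_option linter.unusedVariables false
set_option linter.unusedSectionVars false

/-!
# S5954 row UBETA (helper2): `β(u, v) = B u (M^(s-1) v)` is `(-1)^(s-1)`-hermitian on `N`.
-/

namespace Cfsg.Agent.Lib.Helper19.S5954

open Polynomial Module Cfsg.Agent.Lib.Helper13.S5955 Cfsg.Agent.Lib.helper14.JTa Cfsg.Agent.Lib.Helper11.S5956U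

variable {F : Type*} [Field F] {V : Type*} [AddCommGroup V] [Module F V]

/-- UBETA [M] -/
theorem h_beta_symm {r : ℕ} (hr : 0 < r) {σ : F →+* F} {B : V →ₛₗ[σ] V →ₗ[F] F} {x : Module.End F V}
    (h : HCtx r σ B x) (N : Submodule F V) (hN : SInv x N) (s : ℕ) (hs : 1 ≤ s)
    (hnil : ∀ v ∈ N, ((x - 1) ^ s) v = 0) (u v : V) (hu : u ∈ N) (hv : v ∈ N) :
    B v (((x - 1) ^ (s - 1)) u) = (-1) ^ (s - 1) * σ (B u (((x - 1) ^ (s - 1)) v)) := by
  rw [← h.symm (((x - 1) ^ (s - 1)) u) v, h_adj_pow hr h, ← pow_mul,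
    s5956ubetasymm_top_pow hN s hs hnil _ v hv, map_mul, map_pow, map_neg, map_one]

end Cfsg.Agent.Lib.Helper19.S5954
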