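import Mathlib
import Cfsg.Agent.Lib.helper15.S5972.Defs
import Cfsg.Agent.Lib.helper2.S5972COUNTDVDcore
import Cfsg.Agent.Lib.Helper13.S5972COUNT

/-!
# S5972 row COUNTDVD (helper2): `ts_count_dvd` verbatim (core in `S5972COUNTDVDcore`, count from row COUNT).
-/

set_option autoImplicit false

namespace Cfsg.Agent.Lib.helper15.S5972

open Polynomial Module Cfsg.Agent.Lib.Helper13.S5955

/-- COUNTDVD [M] (twin of S5955 C2, Helper11/S5955C2.lean). -/
theorem ts_count_dvd {F : Type*} [Field F] [Fintype F] {p : ℕ} [Fact p.Prime] [CharP F p]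
    (hodd : Odd (Fintype.card F)) (d m : ℕ) (hm : m ≤ d) (r : ℕ) [Fact r.Prime]
    (hr : r ∣ Nat.card (TSm d m F)) :
    r ≠ p ∧ ∃ j : ℕ, j < m ∧ r ∣ Fintype.card F ^ (2 * (d - j)) - 1 :=
  s5972countdvd_core d m hm (ts_count hodd d m hm) r hr

end Cfsg.Agent.Lib.helper15.S5972
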