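import Mathlib
import Cfsg.Agent.Lib.Helper29.S5981.Defs
import Cfsg.Agent.Lib.helper14.InvD

set_option autoImplicit false
set_option linter.unusedVariables false
set_option linter.unusedSectionVars false

/-!
# S5981 / E1 (helper2): `e_charpoly_sq`

`x * x = μ²`, `2 μ ≠ 0`: in helper14's basis of eigenvectors (`InvD.eigen_basis`) the matrix of `x` is diagonal with entries `μ` (`a` times)
and `-μ` (`b` times), so the characteristic polynomial is `(X - μ)^a (X + μ)^b`.
-/

namespace Cfsg.Agent.Lib.Helper29.S5981

open scoped MatrixGroups Matrix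
open Polynomial

variable {F : Type*} [Field F]

/-- E1 -/
theorem e_charpoly_sq (h2 : (2 : F) ≠ 0) (n : ℕ) (x : Matrix (Fin n) (Fin n) F) (μ : F) (hμ : μ ≠ 0)
    (hx : x * x = (μ * μ) • (1 : Matrix (Fin n) (Fin n) F)) :
    ∃ a b : ℕ, a + b = n ∧ x.charpoly = (X - C μ) ^ a * (X + C μ) ^ b := by
  classical
  obtain ⟨a, b, B, hp, hm⟩ := Cfsg.Agent.Lib.helper14.InvD.eigen_basis x μ hμ h2 hx
  refine ⟨a, b, ?_, ?_⟩
  · have h1 := Module.finrank_eq_card_basis B
    rw [Module.finrank_fin_fun, Fintype.card_sum, Fintype.card_fin, Fintype.card_fin] at h1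
    exact h1.symm
  · set d : Fin a ⊕ Fin b → F := Sum.elim (fun _ => μ) (fun _ => -μ) with hd
    have hB : ∀ j, Matrix.toLin' x (B j) = d j • B j := by
      intro j
      rw [Matrix.toLin'_apply]
      cases j with
      | inl i => exact hp i
      | inr j => exact hm j
    have hmat : LinearMap.toMatrix B B (Matrix.toLin' x) = Matrix.diagonal d := by
      ext i j
      rw [LinearMap.toMatrix_apply, hB j, map_smul, Finsupp.smul_apply, Module.Basis.repr_self,
        Finsupp.single_apply, Matrix.diagonal_apply, smul_eq_mul]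
      by_cases hij : i = j
      · subst hij
        simp
      · have hji : ¬ j = i := fun h => hij h.symm
        simp [hij, hji]
    rw [← Matrix.charpoly_toLin' x, ← LinearMap.charpoly_toMatrix (Matrix.toLin' x) B, hmat,
      Matrix.charpoly_diagonal, Fintype.prod_sum_type]
    simp only [hd, Sum.elim_inl, Sum.elim_inr, Finset.prod_const, Finset.card_univ, Fintype.card_fin,
      C_neg, sub_neg_eq_add]

end Cfsg.Agent.Lib.Helper29.S5981
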