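import Mathlib
import Cfsg.Agent.Lib.Helper29.S5981.Defs
import Cfsg.Agent.Lib.Helper22.TD.Arith

set_option autoImplicit false
set_option linter.unusedVariables false
set_option linter.unusedSectionVars false

/-!
# S5981 / R0 (helper2): `ord_le`

`r ∣ |SL_n : H ∩ SL_n|`, `r ≠ p`  ⟹  `ord_r(q) ≤ n`  (via helper22's `td_order_le`).
-/

namespace Cfsg.Agent.Lib.Helper29.S5981

open scoped MatrixGroups

variable {F : Type*} [Field F] [Fintype F]

/-- general form: any subgroup `H` of `GL_n(F)` -/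
theorem s5981r0_ord_le {p : ℕ} [Fact p.Prime] [CharP F p] (n : ℕ)
    (H : Subgroup (GL (Fin n) F)) (r : ℕ) [Fact r.Prime] (hrp : r ≠ p)
    (hΩ : r ∣ H.relIndex (Cfsg.Geo.specialLinear (Fin n) F)) :
    orderOf ((Fintype.card F : ℕ) : ZMod r) ≤ n := by
  have hrpr : r.Prime := Fact.out
  have hppr : p.Prime := Fact.out
  have hrq : ¬ r ∣ Fintype.card F := by
    obtain ⟨k, -, hk⟩ := FiniteField.card F p
    rw [hk]
    intro h
    exact hrp ((Nat.prime_dvd_prime_iff_eq hrpr hppr).mp (hrpr.dvd_of_dvd_pow h))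
  have hcard : r ∣ Nat.card (GL (Fin n) F) := by
    have h1 : H.relIndex (Cfsg.Geo.specialLinear (Fin n) F) ∣
        Nat.card (Cfsg.Geo.specialLinear (Fin n) F) := Subgroup.index_dvd_card _
    exact (hΩ.trans h1).trans (Subgroup.card_subgroup_dvd_card _)
  exact Cfsg.Agent.Lib.Helper22.TD.td_order_le r n hrq hcard

/-- R0 : `r ∣ |SL_n : H ∩ SL_n|` divides `|SL_n(q)|`; `r ≠ p` so `ord_r(q) ≤ n`. -/
theorem ord_le {p : ℕ} [Fact p.Prime] [CharP F p] {q : ℕ} (hq : Fintype.card F = q)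
    (n : ℕ) (hn : 3 ≤ n) (Q : (Fin n → F) → F)
    (r : ℕ) [Fact r.Prime] (hrp : r ≠ p)
    (hΩ : r ∣ (Cfsg.Geo.quadSimilarityGroup Q).relIndex (Cfsg.Geo.specialLinear (Fin n) F)) :
    orderOf ((q : ℕ) : ZMod r) ≤ n := by
  subst hq
  exact s5981r0_ord_le (p := p) n _ r hrp hΩ

end Cfsg.Agent.Lib.Helper29.S5981
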