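import Mathlib
import Cfsg.Prelude.Def_Classical
import Cfsg.Agent.Lib.Helper1.S8U.Defs
import Cfsg.Agent.Lib.helper23.SO8ASMcore
import Cfsg.Agent.Lib.helper15.SO8SPLUS
import Cfsg.Agent.Lib.helper6.SO8SMINUS
import Cfsg.Agent.Lib.Helper16.SO8SUM
import Cfsg.Agent.Lib.helper7.SO8IMINUS
import Cfsg.Agent.Lib.helper7.SO8IPLUS
import Cfsg.Agent.Lib.Helper22.SO8A2

set_option autoImplicit false
set_option linter.unusedVariables false

/-!
# Project S8U (S3590), row TGALL (helper2): the core `s8utgall_core` = `tgt_all` with the STATEMENTS of AFF3, TGODD, TGTWO, TGFOUR, TGEIGHT as hypotheses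
(the SO8 rows `oreal_splus`, `oreal_sminus`, `oreal_sum`, `oreal_iminus`, `oreal_iplus`, `aniso_facts` are cited from main).
-/

namespace Cfsg.Agent.Lib.Helper1.S8U

open Matrix Module Polynomial Cfsg.Agent.Lib.Helper16 Cfsg.Agent.Lib.Helper13.OTS Cfsg.Agent.Lib.Helper19.SO8
  Cfsg.Agent.Lib.helper14.OrthInv

/-- parity facts for `q = 2 t` -/
theorem s8utgall_parity (t : ℕ) (ht : 1 ≤ t) (k : ℕ) (hk : k ≠ 0) :
    Odd ((2 * t) ^ k + 1) ∧ Odd ((2 * t) ^ k - 1) := by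
  have hE : Even ((2 * t) ^ k) := Nat.even_pow.mpr ⟨even_two_mul t, hk⟩
  have hpos : 1 ≤ (2 * t) ^ k := Nat.one_le_pow _ _ (by omega)
  exact ⟨hE.add_one, Nat.Even.sub_odd hpos hE odd_one⟩

/-- TGALL, with the statements of AFF3 and of the TG-rows as hypotheses -/
theorem s8utgall_core {F : Type*} [Field F] [Fintype F] [CharP F 2] (a b : F) (hab : Aniso a b)
    (hAFF : ∀ n : ℕ, n ∈ Set.range (orderOf : AffK (Hd a b hab) → ℕ) ↔
      (∃ g ∈ Hd a b hab, orderOf g = n) ∨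
        (∃ g ∈ Hd a b hab, 2 * orderOf g = n ∧ geoM g (orderOf g) ≠ 0))
    (hODD : ∀ N ∈ T8 (Fintype.card F), Odd N → ∃ g ∈ Hd a b hab, orderOf g = N)
    (hTWO : ∀ m : ℕ, Odd m → ∀ s : ℤ, (s = 1 ∨ s = -1) → OReal F 3 s m →
      ∃ g ∈ Hd a b hab, orderOf g = m ∧ geoM g m ≠ 0)
    (hFOUR : ∀ m : ℕ, Odd m → OReal F 2 (-1) m →
      ∃ g ∈ Hd a b hab, orderOf g = 2 * m ∧ geoM g (2 * m) ≠ 0)
    (hEIGHT : ∀ m : ℕ, Odd m → ∀ s₁ : ℤ, (s₁ = 1 ∨ s₁ = -1) → OReal F 1 s₁ m → OReal F 1 (-s₁) 2 →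
      ∃ g ∈ Hd a b hab, orderOf g = 4 * m ∧ geoM g (4 * m) ≠ 0) :
    ∀ N ∈ T8 (Fintype.card F), N ∈ Set.range (orderOf : AffK (Hd a b hab) → ℕ) := by
  obtain ⟨t, ht, hq⟩ := so8asm_even_card (F := F)
  obtain ⟨-, c, hc⟩ := aniso_facts a b hab
  obtain ⟨-, -, -, -, -, eA, -, eB, -, -, eC, -, -, -⟩ := so8asm_arith t ht
  have hpar := s8utgall_parity t ht
  have h1t : 1 ≤ 2 * t := by omega
  -- the pieces
  have P1 : OReal F 1 1 (2 * t - 1) := by
    have h := oreal_splus (F := F) 1 le_rfl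
    rwa [hq, pow_one] at h
  have P3 : OReal F 3 1 ((2 * t) ^ 3 - 1) := by
    have h := oreal_splus (F := F) 3 (by norm_num)
    rwa [hq] at h
  have M1 : OReal F 1 (-1) (2 * t + 1) := by
    have h := oreal_sminus (F := F) 1 le_rfl c hc
    rwa [hq, pow_one] at h
  have M2 : OReal F 2 (-1) ((2 * t) ^ 2 + 1) := by
    have h := oreal_sminus (F := F) 2 (by norm_num) c hc
    rwa [hq] at h
  have M3 : OReal F 3 (-1) ((2 * t) ^ 3 + 1) := by
    have h := oreal_sminus (F := F) 3 (by norm_num) c hc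
    rwa [hq] at h
  have IM : OReal F 1 (-1) 2 := oreal_iminus c hc
  have IP : OReal F 1 1 2 := oreal_iplus
  have S12a : OReal F 3 (-1) (((2 * t) ^ 2 + 1) * (2 * t - 1)) :=
    so8asm_cast (oreal_sum 1 2 le_rfl 1 (-1) _ _ P1 M2) (by norm_num) (by norm_num)
      (by rw [eA.symm.lcm_eq_mul, mul_comm])
  have S12b : OReal F 3 1 (((2 * t) ^ 2 + 1) * (2 * t + 1)) :=
    so8asm_cast (oreal_sum 1 2 le_rfl (-1) (-1) _ _ M1 M2) (by norm_num) (by norm_num)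
      (by rw [eB.symm.lcm_eq_mul, mul_comm])
  have hsq : (2 * t - 1) * (2 * t + 1) = (2 * t) ^ 2 - 1 := by
    obtain ⟨r, hr⟩ : ∃ r, 2 * t = r + 1 := ⟨2 * t - 1, by omega⟩
    rw [hr, Nat.add_sub_cancel]
    have : (r + 1) ^ 2 = r * (r + 1 + 1) + 1 := by ring
    rw [this, Nat.add_sub_cancel]
  have S11 : OReal F 2 (-1) ((2 * t) ^ 2 - 1) :=
    so8asm_cast (oreal_sum 1 1 le_rfl 1 (-1) _ _ P1 M1) (by norm_num) (by norm_num)
      (by rw [eC.lcm_eq_mul, hsq])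
  -- the twelve cases
  intro N hN
  rw [hAFF]
  have hN' := hN
  rw [hq] at hN'
  simp only [T8, List.mem_cons, List.not_mem_nil, or_false] at hN'
  rcases hN' with h | h | h | h | h | h | h | h | h | h | h | h
  · left
    apply hODD N hN
    rw [h]
    exact (hpar 4 (by norm_num)).1
  · left
    apply hODD N hN
    rw [h]
    exact (hpar 4 (by norm_num)).2
  · left
    apply hODD N hN
    rw [h]
    have h1 := (hpar 1 one_ne_zero).1
    rw [pow_one] at h1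
    exact (hpar 3 (by norm_num)).2.mul h1
  · left
    apply hODD N hN
    rw [h]
    have h1 := (hpar 1 one_ne_zero).2
    rw [pow_one] at h1
    exact (hpar 3 (by norm_num)).1.mul h1
  · right
    obtain ⟨g, hg, ho, hgeo⟩ := hTWO _ (hpar 3 (by norm_num)).2 1 (Or.inl rfl) P3
    exact ⟨g, hg, by rw [ho, h], by rw [ho]; exact hgeo⟩
  · right
    obtain ⟨g, hg, ho, hgeo⟩ := hTWO _ (hpar 3 (by norm_num)).1 (-1) (Or.inr rfl) M3
    exact ⟨g, hg, by rw [ho, h], by rw [ho]; exact hgeo⟩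
  · right
    have h1 := (hpar 1 one_ne_zero).2
    rw [pow_one] at h1
    obtain ⟨g, hg, ho, hgeo⟩ := hTWO _ ((hpar 2 (by norm_num)).1.mul h1) (-1) (Or.inr rfl) S12a
    exact ⟨g, hg, by rw [ho, h], by rw [ho]; exact hgeo⟩
  · right
    have h1 := (hpar 1 one_ne_zero).1
    rw [pow_one] at h1
    obtain ⟨g, hg, ho, hgeo⟩ := hTWO _ ((hpar 2 (by norm_num)).1.mul h1) 1 (Or.inl rfl) S12b
    exact ⟨g, hg, by rw [ho, h], by rw [ho]; exact hgeo⟩
  · right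
    obtain ⟨g, hg, ho, hgeo⟩ := hFOUR _ (hpar 2 (by norm_num)).1 M2
    exact ⟨g, hg, by rw [ho, h]; ring, by rw [ho]; exact hgeo⟩
  · right
    obtain ⟨g, hg, ho, hgeo⟩ := hFOUR _ (hpar 2 (by norm_num)).2 S11
    exact ⟨g, hg, by rw [ho, h]; ring, by rw [ho]; exact hgeo⟩
  · right
    have h1 := (hpar 1 one_ne_zero).2
    rw [pow_one] at h1
    obtain ⟨g, hg, ho, hgeo⟩ := hEIGHT _ h1 1 (Or.inl rfl) P1 IM
    exact ⟨g, hg, by rw [ho, h]; ring, by rw [ho]; exact hgeo⟩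
  · right
    have h1 := (hpar 1 one_ne_zero).1
    rw [pow_one] at h1
    have IP' : OReal F 1 (-(-1)) 2 := by rw [neg_neg]; exact IP
    obtain ⟨g, hg, ho, hgeo⟩ := hEIGHT _ h1 (-1) (Or.inr rfl) M1 IP'
    exact ⟨g, hg, by rw [ho, h]; ring, by rw [ho]; exact hgeo⟩

end Cfsg.Agent.Lib.Helper1.S8U
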