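import Mathlib
import Cfsg.Prelude.Def_Classical
import Cfsg.Agent.Lib.Helper1.S8U.Defs
import Cfsg.Agent.Lib.helper2.S8UTGALLcore
import Cfsg.Agent.Lib.Helper28.S8UAFF3
import Cfsg.Agent.Lib.helper15.S8UTGODD
import Cfsg.Agent.Lib.Helper29.S8UTGTWO
import Cfsg.Agent.Lib.Helper29.S8UTGFOUR
import Cfsg.Agent.Lib.Helper22.S8UTGEIGHT

set_option autoImplicit false
set_option linter.unusedVariables false

/-!
# Project S8U (S3590), row TGALL (helper2): `tgt_all`, verbatim from `Helper1/S8U/Skel.lean.txt` (= `s8utgall_core` on AFF3 + TGODD + TGTWO + TGFOUR + TGEIGHT).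
-/

namespace Cfsg.Agent.Lib.Helper1.S8U

open Matrix Module Polynomial Cfsg.Agent.Lib.Helper16 Cfsg.Agent.Lib.Helper13.OTS Cfsg.Agent.Lib.Helper19.SO8
  Cfsg.Agent.Lib.helper14.OrthInv

/-- TGALL -/
theorem tgt_all {F : Type*} [Field F] [Fintype F] [CharP F 2] (a b : F) (hab : Aniso a b) :
    ∀ N ∈ T8 (Fintype.card F), N ∈ Set.range (orderOf : AffK (Hd a b hab) → ℕ) :=
  s8utgall_core a b hab (fun n => aff_range (Hd a b hab) n)
    (fun N hN hodd => tgt_odd a b hab N hN hodd)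
    (fun m hm s hs h => tgt_two a b hab m hm s hs h)
    (fun m hm h => tgt_four a b hab m hm h)
    (fun m hm s₁ hs h₁ h₂ => tgt_eight a b hab m hm s₁ hs h₁ h₂)

end Cfsg.Agent.Lib.Helper1.S8U
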