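import Mathlib

set_option autoImplicit false
set_option linter.unusedVariables false
set_option linter.unusedSectionVars false

/-!
# Explicit unipotent elements of `Sp_2`, `Sp_4`, `Sp_6` over any commutative ring of characteristic 2 (helper2; for projects S8U / SO8)
The matrices have entries in `ZMod 2`; the identities are checked there by `decide` and carried over by the ring homomorphism `ZMod 2 →+* F`.
-/

namespace Cfsg.Agent.Lib.helper2.S8UUNIP

open Matrix

/-- mapping `J` -/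
theorem s8uunip_map_J {l : Type*} [DecidableEq l] {R S : Type*} [CommRing R] [CommRing S] (f : R →+* S) :
    (Matrix.J l R).map f = Matrix.J l S := by
  ext i j
  rcases i with i | i <;> rcases j with j | j
  · simp [Matrix.J]
  · by_cases h : i = j
    · simp [Matrix.J, h]
    · simp [Matrix.J, h]
  · by_cases h : i = j
    · simp [Matrix.J, h]
    · simp [Matrix.J, h]
  · simp [Matrix.J]

/-- a symplectic matrix stays symplectic under a ring homomorphism -/
theorem s8uunip_map_mem {l : Type*} [DecidableEq l] [Fintype l] {R S : Type*} [CommRing R] [CommRing S]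
    (f : R →+* S) (X : Matrix (l ⊕ l) (l ⊕ l) R) (hX : X ∈ Matrix.symplecticGroup l R) :
    X.map f ∈ Matrix.symplecticGroup l S := by
  rw [SymplecticGroup.mem_iff] at hX ⊢
  have h1 : (X * Matrix.J l R * Xᵀ).map f = (Matrix.J l R).map f := by rw [hX]
  rw [Matrix.map_mul, Matrix.map_mul, s8uunip_map_J] at h1
  rw [← Matrix.transpose_map]
  exact h1

/-- powers commute with `map` -/
theorem s8uunip_map_pow {n : Type*} [DecidableEq n] [Fintype n] {R S : Type*} [CommRing R] [CommRing S]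
    (f : R →+* S) (X : Matrix n n R) (k : ℕ) : (X ^ k).map f = (X.map f) ^ k :=
  map_pow f.mapMatrix X k

/-- the transvection of `Sp_2` over `ZMod 2` -/
def u2 : Matrix (Fin 1 ⊕ Fin 1) (Fin 1 ⊕ Fin 1) (ZMod 2) :=
  Matrix.fromBlocks 1 1 0 1

/-- a regular unipotent element of `Sp_4` over `ZMod 2` -/
def u4 : Matrix (Fin 2 ⊕ Fin 2) (Fin 2 ⊕ Fin 2) (ZMod 2) :=
  Matrix.fromBlocks !![1, 1; 0, 1] !![0, 1; 0, 1] 0 !![1, 0; 1, 1]

/-- a regular unipotent element of `Sp_6` over `ZMod 2` -/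
def u8 : Matrix (Fin 3 ⊕ Fin 3) (Fin 3 ⊕ Fin 3) (ZMod 2) :=
  Matrix.fromBlocks !![1, 1, 0; 0, 1, 1; 0, 0, 1] !![0, 0, 0; 0, 0, 1; 0, 0, 1] 0 !![1, 0, 0; 1, 1, 0; 1, 1, 1]

theorem u2_mem : u2 ∈ Matrix.symplecticGroup (Fin 1) (ZMod 2) := by
  rw [SymplecticGroup.mem_iff]
  decide

theorem u4_mem : u4 ∈ Matrix.symplecticGroup (Fin 2) (ZMod 2) := by
  rw [SymplecticGroup.mem_iff]
  decide

theorem u8_mem : u8 ∈ Matrix.symplecticGroup (Fin 3) (ZMod 2) := by
  rw [SymplecticGroup.mem_iff]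
  decide

theorem u2_pow : u2 ^ 2 = 1 := by decide
theorem u2_ne : u2 ≠ 1 := by decide
theorem u4_pow : u4 ^ 4 = 1 := by decide
theorem u4_ne : u4 ^ 2 ≠ 1 := by decide
theorem u8_pow : u8 ^ 8 = 1 := by decide
theorem u8_ne : u8 ^ 4 ≠ 1 := by decide

/-- the canonical ring homomorphism `ZMod 2 →+* F` -/
noncomputable def cast2 (F : Type*) [Field F] [CharP F 2] : ZMod 2 →+* F := ZMod.castHom (dvd_refl 2) F

theorem cast2_inj (F : Type*) [Field F] [CharP F 2] {n : Type*} [DecidableEq n] [Fintype n]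
    (X Y : Matrix n n (ZMod 2)) (h : X.map (cast2 F) = Y.map (cast2 F)) : X = Y := by
  haveI : Fact (Nat.Prime 2) := ⟨Nat.prime_two⟩
  ext i j
  have h1 := congrFun (congrFun h i) j
  simp only [Matrix.map_apply] at h1
  exact (cast2 F).injective h1

/-- transfer: a symplectic `X₀` over `ZMod 2` with `X₀ ^ (2 ^ (k + 1)) = 1`, `X₀ ^ (2 ^ k) ≠ 1` gives an element of order `2 ^ (k + 1)` of
`Sp_2m(F)`. -/
theorem s8uunip_transfer (F : Type*) [Field F] [CharP F 2] {m : ℕ} (X₀ : Matrix (Fin m ⊕ Fin m) (Fin m ⊕ Fin m) (ZMod 2))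
    (hmem : X₀ ∈ Matrix.symplecticGroup (Fin m) (ZMod 2)) (k : ℕ) (hpow : X₀ ^ (2 ^ (k + 1)) = 1)
    (hne : X₀ ^ (2 ^ k) ≠ 1) :
    ∃ X : Matrix.symplecticGroup (Fin m) F, orderOf X = 2 ^ (k + 1) ∧ X ^ (2 ^ (k + 1)) = 1 ∧ X ^ (2 ^ k) ≠ 1 := by
  have hX : X₀.map (cast2 F) ∈ Matrix.symplecticGroup (Fin m) F := s8uunip_map_mem (cast2 F) X₀ hmem
  have h1 : (⟨X₀.map (cast2 F), hX⟩ : Matrix.symplecticGroup (Fin m) F) ^ (2 ^ (k + 1)) = 1 := by
    apply Subtype.ext
    rw [SubmonoidClass.coe_pow]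
    show (X₀.map (cast2 F)) ^ (2 ^ (k + 1)) = 1
    rw [← s8uunip_map_pow, hpow]
    exact Matrix.map_one _ (map_zero _) (map_one _)
  have h2 : (⟨X₀.map (cast2 F), hX⟩ : Matrix.symplecticGroup (Fin m) F) ^ (2 ^ k) ≠ 1 := by
    intro h
    apply hne
    apply cast2_inj F
    have h3 := congrArg Subtype.val h
    rw [SubmonoidClass.coe_pow] at h3
    have h4 : (X₀.map (cast2 F)) ^ (2 ^ k) = 1 := h3
    rw [← s8uunip_map_pow] at h4
    rw [h4]
    exact (Matrix.map_one _ (map_zero _) (map_one _)).symm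
  haveI : Fact (Nat.Prime 2) := ⟨Nat.prime_two⟩
  exact ⟨_, orderOf_eq_prime_pow h2 h1, h1, h2⟩

/-- an involution in `Sp_2(F)` -/
theorem exists_order2 (F : Type*) [Field F] [CharP F 2] :
    ∃ X : Matrix.symplecticGroup (Fin 1) F, orderOf X = 2 ∧ X ^ 2 = 1 ∧ X ≠ 1 := by
  obtain ⟨X, h1, h2, h3⟩ := s8uunip_transfer F u2 u2_mem 0 (by simpa using u2_pow) (by simpa using u2_ne)
  exact ⟨X, by simpa using h1, by simpa using h2, by simpa using h3⟩

/-- an element of order `4` in `Sp_4(F)` -/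
theorem exists_order4 (F : Type*) [Field F] [CharP F 2] :
    ∃ X : Matrix.symplecticGroup (Fin 2) F, orderOf X = 4 ∧ X ^ 4 = 1 ∧ X ^ 2 ≠ 1 := by
  obtain ⟨X, h1, h2, h3⟩ := s8uunip_transfer F u4 u4_mem 1 (by simpa using u4_pow) (by simpa using u4_ne)
  exact ⟨X, by simpa using h1, by simpa using h2, by simpa using h3⟩

/-- an element of order `8` in `Sp_6(F)` -/
theorem exists_order8 (F : Type*) [Field F] [CharP F 2] :
    ∃ X : Matrix.symplecticGroup (Fin 3) F, orderOf X = 8 ∧ X ^ 8 = 1 ∧ X ^ 4 ≠ 1 := by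
  obtain ⟨X, h1, h2, h3⟩ := s8uunip_transfer F u8 u8_mem 2 (by simpa using u8_pow) (by simpa using u8_ne)
  exact ⟨X, by simpa using h1, by simpa using h2, by simpa using h3⟩

end Cfsg.Agent.Lib.helper2.S8UUNIP
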