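import Mathlib
import Cfsg.Agent.Lib.helper2.S91Defs

set_option autoImplicit false

/-! S91 core, part A: arithmetic and fibre counting. -/

namespace Cfsg.Agent.Lib.helper2.S91
open Subgroup

/-- summing `m^(p-1) b_i^p ≤ a_i^p` over `i` -/
theorem sum_pow_le {ι : Type*} [Fintype ι] (a b : ι → ℕ) (m p : ℕ) (hp : 0 < p)
    (h : ∀ i, m ^ (p - 1) * b i ^ p ≤ a i ^ p) :
    m ^ (p - 1) * (∑ i, b i) ^ p ≤ (∑ i, a i) ^ p := by
  have hp' : (p : ℝ) ≠ 0 := by exact_mod_cast hp.ne'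
  set t : ℝ := ((m : ℝ) ^ (p - 1)) ^ ((1 : ℝ) / p) with ht
  have hm0 : (0 : ℝ) ≤ (m : ℝ) ^ (p - 1) := by positivity
  have ht0 : 0 ≤ t := Real.rpow_nonneg hm0 _
  have htp : t ^ p = (m : ℝ) ^ (p - 1) := by
    rw [ht, ← Real.rpow_natCast, ← Real.rpow_mul hm0, one_div, inv_mul_cancel₀ hp', Real.rpow_one]
  have hi : ∀ i, t * (b i : ℝ) ≤ (a i : ℝ) := by
    intro i
    have h1 : (t * (b i : ℝ)) ^ p ≤ (a i : ℝ) ^ p := by
      rw [mul_pow, htp]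
      exact_mod_cast h i
    exact le_of_pow_le_pow_left₀ hp.ne' (by positivity) h1
  have hs : t * ∑ i, (b i : ℝ) ≤ ∑ i, (a i : ℝ) := by
    rw [Finset.mul_sum]
    exact Finset.sum_le_sum fun i _ => hi i
  have h2 : (t * ∑ i, (b i : ℝ)) ^ p ≤ (∑ i, (a i : ℝ)) ^ p :=
    pow_le_pow_left₀ (by positivity) hs p
  rw [mul_pow, htp] at h2
  exact_mod_cast h2

/-- fibre decomposition of `uIn` along a map to a finite type -/
theorem uIn_eq_sum_fiber (p : ℕ) {G : Type*} [Group G] [Finite G] {ι : Type*} [Fintype ι]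
    (T : Set G) (f : G → ι) :
    uIn p T = ∑ c, uIn p {g : G | g ∈ T ∧ f g = c} := by
  unfold uIn
  let F : {g : G // g ∈ T ∧ ∃ k : ℕ, orderOf g = p ^ k} → ι := fun g => f g.1
  rw [Nat.card_congr (Equiv.sigmaFiberEquiv F).symm, Nat.card_sigma]
  apply Finset.sum_congr rfl
  intro c _
  apply Nat.card_congr
  refine ⟨fun g => ⟨g.1.1, ⟨g.1.2.1, g.2⟩, g.1.2.2⟩, fun g => ⟨⟨g.1, g.2.1.1, g.2.2⟩, g.2.1.2⟩,
    fun g => rfl, fun g => rfl⟩

theorem uIn_congr (p : ℕ) {G : Type*} [Group G] {S T : Set G} (h : S = T) : uIn p S = uIn p T := by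
  rw [h]

end Cfsg.Agent.Lib.helper2.S91
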