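import Mathlib
import Cfsg.Agent.Lib.helper2.S91CoreA
import Cfsg.Agent.Lib.Helper1.S91CNT
import Cfsg.Agent.Lib.Helper13.S91STARa
import Cfsg.Agent.Lib.helper2.S91Pineq

set_option autoImplicit false

/-! S91 core, part B: the coset-wise inequality and the core lemma. -/

namespace Cfsg.Agent.Lib.helper2.S91
open Subgroup
open scoped Pointwise

universe u

section
variable {G : Type u} [Group G]

/-- `K ⊓ N(P0) = K ⊓ C(P0)` for `K` normal with `K ⊓ P0 = ⊥`. -/
theorem inf_normalizer_eq (K P0 : Subgroup G) [K.Normal] (hd : K ⊓ P0 = ⊥) :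
    K ⊓ normalizer (P0 : Set G) = K ⊓ centralizer (P0 : Set G) := by
  apply le_antisymm
  · intro k hk
    refine Subgroup.mem_inf.mpr ⟨hk.1, ?_⟩
    rw [mem_centralizer_iff]
    intro u hu
    have h1 : k * u * k⁻¹ ∈ P0 := (mem_normalizer_iff.mp hk.2 u).mp hu
    have h2 : k * u * k⁻¹ * u⁻¹ ∈ P0 := P0.mul_mem h1 (P0.inv_mem hu)
    have h3 : k * u * k⁻¹ * u⁻¹ ∈ K := by
      have : k * u * k⁻¹ * u⁻¹ = k * (u * k⁻¹ * u⁻¹) := by group
      rw [this]
      exact K.mul_mem hk.1 (Normal.conj_mem inferInstance _ (K.inv_mem hk.1) u)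
    have h4 : k * u * k⁻¹ * u⁻¹ ∈ K ⊓ P0 := ⟨h3, h2⟩
    rw [hd, mem_bot] at h4
    have : k * u = u * k := by
      have h5 : k * u = (k * u * k⁻¹ * u⁻¹) * (u * k) := by group
      rw [h5, h4, one_mul]
    exact this.symm
  · exact inf_le_inf_left _ (centralizer_le_normalizer _)

theorem inf_eq_bot_of_coprime [Finite G] (p : ℕ) [Fact p.Prime] (K P0 : Subgroup G)
    (hK : (Nat.card K).Coprime p) (hP0 : IsPGroup p P0) : K ⊓ P0 = ⊥ := by
  obtain ⟨k, hk⟩ := IsPGroup.iff_card.mp hP0
  apply (Subgroup.disjoint_of_coprime_natCard ?_).eq_bot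
  rw [hk]
  exact Nat.Coprime.pow_right k hK

end

end Cfsg.Agent.Lib.helper2.S91

namespace Cfsg.Agent.Lib.helper2.S91
open Subgroup
open scoped Pointwise

universe u

section
variable {G : Type u} [Group G]

/-- Frattini: `|G : N(P0)| = |K : K ⊓ N(P0)|` -/
theorem index_normalizer_eq [Finite G] (p : ℕ) [Fact p.Prime] (K L P0 : Subgroup G)
    [K.Normal] [L.Normal] (hK : (Nat.card K).Coprime p) (hP0 : IsPGroup p P0)
    (hL : K ⊔ P0 = L) :
    (normalizer (P0 : Set G)).index = (K ⊓ normalizer (P0 : Set G)).relIndex K := by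
  have hd : K ⊓ P0 = ⊥ := inf_eq_bot_of_coprime p K P0 hK hP0
  have hP0L : P0 ≤ L := hL ▸ le_sup_right
  have hKL : K ≤ L := hL ▸ le_sup_left
  -- card L = card K * card P0
  have hcardL : Nat.card L = Nat.card K * Nat.card P0 := by
    have h1 : K.relIndex (K ⊔ P0) = K.relIndex P0 := relIndex_sup_left _ _
    have h2 : K.relIndex P0 = Nat.card P0 := by
      rw [← inf_relIndex_right, hd, relIndex_bot_left]
    have h3 : K.relIndex L * Nat.card K = Nat.card L := by
      rw [mul_comm]
      have := Subgroup.card_mul_index (K.subgroupOf L)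
      rw [Nat.card_congr (Subgroup.subgroupOfEquivOfLe hKL).toEquiv] at this
      exact this
    rw [← h3, ← hL, h1, h2, mul_comm]
  -- P0 as a Sylow subgroup of L
  obtain ⟨k, hk⟩ := IsPGroup.iff_card.mp hP0
  have hfac : (Nat.card L).factorization p = k := by
    rw [hcardL, hk]
    have hp : p.Prime := Fact.out
    have hK0 : Nat.card K ≠ 0 := Nat.card_pos.ne'
    rw [Nat.factorization_mul hK0 (pow_ne_zero _ hp.ne_zero)]
    simp only [Finsupp.coe_add, Pi.add_apply]
    rw [Nat.factorization_eq_zero_of_not_dvd (fun h => ?_), zero_add, Nat.Prime.factorization_pow hp]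
    · simp
    · exact hp.one_lt.ne' (Nat.Coprime.eq_one_of_dvd hK.symm h)
  have e1 : Nat.card (P0.subgroupOf L) = p ^ (Nat.card L).factorization p := by
    rw [hfac, ← hk]
    exact Nat.card_congr (Subgroup.subgroupOfEquivOfLe hP0L).toEquiv
  have hfr := Sylow.normalizer_sup_eq_top (Sylow.ofCard (P0.subgroupOf L) e1)
  have hmap : ((Sylow.ofCard (P0.subgroupOf L) e1 : Sylow p L) : Subgroup L).map L.subtype = P0 := by
    show (P0.subgroupOf L).map L.subtype = P0
    rw [subgroupOf_map_subtype, inf_of_le_left hP0L]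
  rw [hmap] at hfr
  -- H ⊔ K = ⊤
  have hHK : normalizer (P0 : Set G) ⊔ K = ⊤ := by
    rw [eq_top_iff, ← hfr, ← hL]
    apply sup_le le_sup_left
    apply sup_le le_sup_right
    exact le_trans le_normalizer le_sup_left
  -- index computation
  have h1 : K.relIndex (normalizer (P0 : Set G) ⊔ K) = K.relIndex (normalizer (P0 : Set G)) :=
    relIndex_sup_right _ _
  rw [hHK, relIndex_top_right] at h1
  -- |G| = |K| * K.index ; |G| = |H| * H.index ; |H| = |H ⊓ K| * K.relIndex H
  have h2 := Subgroup.card_mul_index K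
  have h3 := Subgroup.card_mul_index (normalizer (P0 : Set G))
  have h4 : Nat.card ↥(K ⊓ normalizer (P0 : Set G)) * K.relIndex (normalizer (P0 : Set G)) =
      Nat.card ↥(normalizer (P0 : Set G)) := by
    rw [← inf_relIndex_right]
    have := Subgroup.card_mul_index ((K ⊓ normalizer (P0 : Set G)).subgroupOf (normalizer (P0 : Set G)))
    rw [Nat.card_congr (Subgroup.subgroupOfEquivOfLe inf_le_right).toEquiv] at this
    exact this
  have h5 : Nat.card ↥(K ⊓ normalizer (P0 : Set G)) *
      (K ⊓ normalizer (P0 : Set G)).relIndex K = Nat.card K := by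
    have := Subgroup.card_mul_index ((K ⊓ normalizer (P0 : Set G)).subgroupOf K)
    rw [Nat.card_congr (Subgroup.subgroupOfEquivOfLe inf_le_left).toEquiv] at this
    exact this
  have hpos : 0 < Nat.card ↥(K ⊓ normalizer (P0 : Set G)) := Nat.card_pos
  have hpos2 : 0 < K.index := Nat.pos_of_ne_zero Subgroup.index_ne_zero_of_finite
  -- |H| * H.index = |K| * K.index, |H| = c * K.index, |K| = c * r  ⇒ H.index = r
  have h6 : Nat.card ↥(K ⊓ normalizer (P0 : Set G)) * K.index * (normalizer (P0 : Set G)).index =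
      Nat.card ↥(K ⊓ normalizer (P0 : Set G)) * K.index *
        (K ⊓ normalizer (P0 : Set G)).relIndex K := by
    rw [← h1] at h4
    calc Nat.card ↥(K ⊓ normalizer (P0 : Set G)) * K.index * (normalizer (P0 : Set G)).index
        = Nat.card ↥(normalizer (P0 : Set G)) * (normalizer (P0 : Set G)).index := by rw [h4]
      _ = Nat.card K * K.index := by rw [h3, h2]
      _ = _ := by rw [← h5]; ring
  exact Nat.eq_of_mul_eq_mul_left (Nat.mul_pos hpos hpos2) h6

end

end Cfsg.Agent.Lib.helper2.S91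

namespace Cfsg.Agent.Lib.helper2.S91
open Subgroup
open scoped Pointwise

universe u

section
variable {G : Type u} [Group G]

/-- the coset `xL` as `K·(x P0)` -/
theorem coset_eq (K L P0 : Subgroup G) [K.Normal] [L.Normal] (hL : K ⊔ P0 = L) (x : G) :
    {g : G | g ∈ (Set.univ : Set G) ∧ (QuotientGroup.mk g : G ⧸ L) = QuotientGroup.mk x} =
      {g : G | ∃ k ∈ K, ∃ u ∈ P0, g = k * (x * u)} := by
  ext g
  simp only [Set.mem_univ, true_and, Set.mem_setOf_eq]
  constructor
  · intro h
    have h1 : x⁻¹ * g ∈ L := by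
      rw [← QuotientGroup.eq]
      exact h.symm
    rw [← hL, ← SetLike.mem_coe, normal_mul] at h1
    obtain ⟨k', hk', u, hu, hku⟩ := h1
    refine ⟨x * k' * x⁻¹, Normal.conj_mem inferInstance k' hk' x, u, hu, ?_⟩
    have : g = x * (x⁻¹ * g) := by group
    rw [this, ← hku]
    group
  · rintro ⟨k, hk, u, hu, rfl⟩
    have hkL : k ∈ L := hL ▸ (le_sup_left : K ≤ K ⊔ P0) hk
    have huL : u ∈ L := hL ▸ (le_sup_right : P0 ≤ K ⊔ P0) hu
    rw [QuotientGroup.eq]
    have : (k * (x * u))⁻¹ * x = u⁻¹ * (x⁻¹ * k⁻¹ * x) := by group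
    rw [this]
    exact L.mul_mem (L.inv_mem huL) (by
      have := Normal.conj_mem (inferInstance : L.Normal) k⁻¹ (L.inv_mem hkL) x⁻¹
      simpa using this)

/-- the part of the coset `xL` inside `H = N(P0)` as `C·(x P0)` -/
theorem coset_eq_H (K L P0 : Subgroup G) [K.Normal] [L.Normal] (hL : K ⊔ P0 = L) (x : G)
    (hx : x ∈ normalizer (P0 : Set G)) :
    {g : G | g ∈ (normalizer (P0 : Set G) : Set G) ∧
        (QuotientGroup.mk g : G ⧸ L) = QuotientGroup.mk x} =
      {g : G | ∃ k ∈ K ⊓ normalizer (P0 : Set G), ∃ u ∈ P0, g = k * (x * u)} := by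
  ext g
  constructor
  · rintro ⟨hgH, hgc⟩
    have h1 : g ∈ {g : G | g ∈ (Set.univ : Set G) ∧
        (QuotientGroup.mk g : G ⧸ L) = QuotientGroup.mk x} := ⟨Set.mem_univ _, hgc⟩
    rw [coset_eq K L P0 hL x] at h1
    obtain ⟨k, hk, u, hu, hg⟩ := h1
    refine ⟨k, ⟨hk, ?_⟩, u, hu, hg⟩
    have huH : u ∈ normalizer (P0 : Set G) := le_normalizer hu
    have : k = g * u⁻¹ * x⁻¹ := by rw [hg]; group
    rw [this]
    exact Subgroup.mul_mem _ (Subgroup.mul_mem _ hgH (Subgroup.inv_mem _ huH))
      (Subgroup.inv_mem _ hx)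
  · rintro ⟨k, hk, u, hu, rfl⟩
    have h1 : (k * (x * u)) ∈ {g : G | g ∈ (Set.univ : Set G) ∧
        (QuotientGroup.mk g : G ⧸ L) = QuotientGroup.mk x} := by
      rw [coset_eq K L P0 hL x]
      exact ⟨k, hk.1, u, hu, rfl⟩
    refine ⟨?_, h1.2⟩
    exact Subgroup.mul_mem _ hk.2 (Subgroup.mul_mem _ hx (le_normalizer hu))

end

end Cfsg.Agent.Lib.helper2.S91

namespace Cfsg.Agent.Lib.helper2.S91
open Subgroup
open scoped Pointwise

universe u

section
variable {G : Type u} [Group G]

theorem coset_ineq [Finite G] (p : ℕ) [Fact p.Prime] (K L P0 : Subgroup G) [K.Normal] [L.Normal]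
    (hK : (Nat.card K).Coprime p) (hP0 : IsPGroup p P0) (hL : K ⊔ P0 = L) (c : G ⧸ L) :
    (normalizer (P0 : Set G)).index ^ (p - 1) *
      uIn p {g : G | g ∈ (normalizer (P0 : Set G) : Set G) ∧
        (QuotientGroup.mk g : G ⧸ L) = c} ^ p ≤
    uIn p {g : G | g ∈ (Set.univ : Set G) ∧ (QuotientGroup.mk g : G ⧸ L) = c} ^ p := by
  classical
  have hp : p.Prime := Fact.out
  by_cases hb : uIn p {g : G | g ∈ (normalizer (P0 : Set G) : Set G) ∧
      (QuotientGroup.mk g : G ⧸ L) = c} = 0
  · rw [hb, zero_pow hp.ne_zero, mul_zero]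
    exact Nat.zero_le _
  · have hne : Nonempty {g : G // g ∈ {g : G | g ∈ (normalizer (P0 : Set G) : Set G) ∧
        (QuotientGroup.mk g : G ⧸ L) = c} ∧ ∃ k : ℕ, orderOf g = p ^ k} := by
      by_contra h
      rw [not_nonempty_iff] at h
      apply hb
      unfold uIn
      exact Nat.card_of_isEmpty
    obtain ⟨⟨x, ⟨hxH, hxc⟩, kx, hkx⟩⟩ := hne
    subst hxc
    haveI : Fintype ↥P0 := Fintype.ofFinite _
    have hxp : IsPGroup p (zpowers x) := by
      apply IsPGroup.of_card (n := kx)
      rw [Nat.card_zpowers, hkx]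
    have hzH : zpowers x ≤ normalizer (P0 : Set G) := by
      rw [zpowers_le]
      exact hxH
    have hR : IsPGroup p (zpowers x ⊔ P0 : Subgroup G) :=
      IsPGroup.to_sup_of_normal_right' hxp hP0 hzH
    have hRK : (zpowers x ⊔ P0 : Subgroup G) ≤ normalizer (K : Set G) := by
      rw [normalizer_eq_top]
      exact le_top
    have hP0R : P0 ≤ (zpowers x ⊔ P0 : Subgroup G) := le_sup_right
    have hxR : x ∈ (zpowers x ⊔ P0 : Subgroup G) := (le_sup_left : zpowers x ≤ _) (mem_zpowers x)
    have hRH : (zpowers x ⊔ P0 : Subgroup G) ≤ normalizer (P0 : Set G) := sup_le hzH le_normalizer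
    have hCc : (Nat.card ↥(K ⊓ normalizer (P0 : Set G))).Coprime p :=
      Nat.Coprime.coprime_dvd_left (Subgroup.card_dvd_of_le inf_le_left) hK
    have hRC : (zpowers x ⊔ P0 : Subgroup G) ≤
        normalizer ((K ⊓ normalizer (P0 : Set G) : Subgroup G) : Set G) := by
      intro r hr
      have hrH := hRH hr
      rw [mem_normalizer_iff]
      intro k
      constructor
      · rintro ⟨hk1, hk2⟩
        exact ⟨Normal.conj_mem inferInstance k hk1 r,
          Subgroup.mul_mem _ (Subgroup.mul_mem _ hrH hk2) (Subgroup.inv_mem _ hrH)⟩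
      · rintro ⟨hk1, hk2⟩
        refine ⟨?_, ?_⟩
        · have := Normal.conj_mem (inferInstance : K.Normal) _ hk1 r⁻¹
          simpa [mul_assoc] using this
        · have := Subgroup.mul_mem _ (Subgroup.mul_mem _ (Subgroup.inv_mem _ hrH) hk2) hrH
          simpa [mul_assoc] using this
    have ha := cnt p K (zpowers x ⊔ P0) P0 hK hR hRK hP0R x hxR
    have hb' := cnt p (K ⊓ normalizer (P0 : Set G)) (zpowers x ⊔ P0) P0 hCc hR hRC hP0R x hxR
    rw [coset_eq K L P0 hL x, ha, coset_eq_H K L P0 hL x hxH, hb']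
    have hd : K ⊓ P0 = ⊥ := inf_eq_bot_of_coprime p K P0 hK hP0
    have hCeq : K ⊓ normalizer (P0 : Set G) = K ⊓ centralizer (P0 : Set G) :=
      inf_normalizer_eq K P0 hd
    have hE3 : ∀ u : ↥P0, (K ⊓ normalizer (P0 : Set G)) ⊓ centralizer {x * (u : G)} =
        K ⊓ centralizer {x} ⊓ centralizer (P0 : Set G) := by
      intro u
      ext k
      rw [hCeq]
      simp only [mem_inf, mem_centralizer_iff, Set.mem_singleton_iff, forall_eq, SetLike.mem_coe]
      constructor
      · rintro ⟨⟨hk, hkP⟩, hkx⟩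
        refine ⟨⟨hk, ?_⟩, hkP⟩
        have h1 := hkP u u.2
        have h2 : x * k * u = k * x * u := by
          calc x * k * u = x * (k * u) := by group
            _ = x * (u * k) := by rw [h1]
            _ = x * u * k := by group
            _ = k * (x * u) := hkx
            _ = k * x * u := by group
        exact mul_right_cancel h2
      · rintro ⟨⟨hk, hkx⟩, hkP⟩
        refine ⟨⟨hk, hkP⟩, ?_⟩
        have h1 := hkP u u.2
        calc x * u * k = x * (u * k) := by group
          _ = x * (k * u) := by rw [h1]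
          _ = (x * k) * u := by group
          _ = (k * x) * u := by rw [hkx]
          _ = k * (x * u) := by group
    have hsumb : ∑ u : ↥P0, ((K ⊓ normalizer (P0 : Set G)) ⊓ centralizer {x * (u : G)}).relIndex
        (K ⊓ normalizer (P0 : Set G)) = Nat.card ↥P0 *
        (K ⊓ centralizer {x} ⊓ centralizer (P0 : Set G)).relIndex (K ⊓ normalizer (P0 : Set G)) := by
      rw [Finset.sum_congr rfl (fun u _ => by rw [hE3 u]), Finset.sum_const, Finset.card_univ,
        smul_eq_mul, Nat.card_eq_fintype_card]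
    rw [hsumb]
    have hstar := star_of_pineq p K P0 x (pineq p K (zpowers x ⊔ P0) P0 hK hR hRK hP0R hRH x hxR)
    have hm := index_normalizer_eq p K L P0 hK hP0 hL
    rw [hm]
    have hDC : K ⊓ centralizer {x} ⊓ centralizer (P0 : Set G) ≤ K ⊓ normalizer (P0 : Set G) := by
      rw [hCeq]
      intro k hk
      exact ⟨hk.1.1, hk.2⟩
    have hrel := relIndex_mul_relIndex (K ⊓ centralizer {x} ⊓ centralizer (P0 : Set G))
      (K ⊓ normalizer (P0 : Set G)) K hDC inf_le_left
    rw [← hCeq] at hstar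
    rw [← hrel] at hstar
    set s := Nat.card ↥P0
    set d := (K ⊓ centralizer {x} ⊓ centralizer (P0 : Set G)).relIndex (K ⊓ normalizer (P0 : Set G))
    set m := (K ⊓ normalizer (P0 : Set G)).relIndex K
    set A := ∑ u : ↥P0, (K ⊓ centralizer {x * (u : G)}).relIndex K
    have hmpos : 0 < m := Nat.pos_of_ne_zero (Subgroup.index_ne_zero_of_finite)
    have h1 : m ^ (p - 1) * (s * d) ^ p * m ≤ A ^ p * m := by
      calc m ^ (p - 1) * (s * d) ^ p * m = s ^ p * (d * m) ^ p := by
            have : m ^ (p - 1) * m = m ^ p := by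
              rw [← pow_succ, Nat.sub_add_cancel hp.one_le]
            rw [mul_pow, mul_pow, ← this]
            ring
        _ ≤ A ^ p * m := hstar
    exact Nat.le_of_mul_le_mul_right h1 hmpos

end

end Cfsg.Agent.Lib.helper2.S91

namespace Cfsg.Agent.Lib.helper2.S91
open Subgroup

universe u

/-- S91-CORE -/
theorem core {G : Type u} [Group G] [Finite G] (p : ℕ) [Fact p.Prime] (K L P0 : Subgroup G)
    [K.Normal] [L.Normal] (hK : (Nat.card K).Coprime p) (hP0 : IsPGroup p P0)
    (hL : K ⊔ P0 = L) :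
    (normalizer (P0 : Set G)).index ^ (p - 1) * uIn p (normalizer (P0 : Set G) : Set G) ^ p ≤
      uIn p (Set.univ : Set G) ^ p := by
  classical
  have hp : p.Prime := Fact.out
  haveI : Fintype (G ⧸ L) := Fintype.ofFinite _
  rw [uIn_eq_sum_fiber p (normalizer (P0 : Set G) : Set G) (fun g => (QuotientGroup.mk g : G ⧸ L)),
    uIn_eq_sum_fiber p (Set.univ : Set G) (fun g => (QuotientGroup.mk g : G ⧸ L))]
  exact sum_pow_le _ _ _ p hp.pos (fun c => coset_ineq p K L P0 hK hP0 hL c)

end Cfsg.Agent.Lib.helper2.S91
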