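import Mathlib
import Cfsg.Agent.Lib.helper2.S91Core
import Cfsg.Agent.Lib.helper3.S91NORM
import Cfsg.Agent.Lib.Helper11.S91QUOT
import Cfsg.Agent.Lib.Helper28.S91INF
import Cfsg.Agent.Lib.Helper9.S91SER
import Cfsg.Agent.Lib.Helper5.PConstr
import Cfsg.Agent.Lib.Helper5.Hol2

set_option autoImplicit false

namespace Cfsg.Agent.Lib.helper2.S91
open Subgroup

universe u

theorem uIn_univ (p : ℕ) {G : Type*} [Group G] :
    uIn p (Set.univ : Set G) = Nat.card {g : G // ∃ k : ℕ, orderOf g = p ^ k} := by
  unfold uIn
  apply Nat.card_congr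
  exact Equiv.subtypeEquivRight (fun g => by simp)

theorem main_aux (p : ℕ) [Fact p.Prime] : ∀ (n : ℕ) (G : Type u) [Group G] [Finite G],
    Nat.card G = n → Cfsg.IsPSolvable p G → ∀ P : Sylow p G,
    Nat.card ↥(P : Subgroup G) ^ p * Nat.card (Sylow p G) ^ (p - 1) ≤
      Nat.card {g : G // ∃ k : ℕ, orderOf g = p ^ k} ^ p := by
  intro n
  induction n using Nat.strong_induction_on with
  | _ n ih =>
    intro G _ _ hn hG P
    have hp : p.Prime := Fact.out
    have hupos : 0 < Nat.card {g : G // ∃ k : ℕ, orderOf g = p ^ k} := by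
      have : Nonempty {g : G // ∃ k : ℕ, orderOf g = p ^ k} := ⟨⟨1, 0, by simp⟩⟩
      exact Nat.card_pos
    by_cases hdvd : p ∣ Nat.card G
    · by_cases hcore : ∃ N : Subgroup G, N.Normal ∧ IsPGroup p N ∧ N ≠ ⊥
      · obtain ⟨N, hNn, hNp, hNb⟩ := hcore
        haveI := hNn
        apply quot_step p N hNp P
        intro Q
        have hlt : Nat.card (G ⧸ N) < n := by
          rw [← hn, ← Subgroup.index_eq_card, ← Subgroup.index_mul_card N]
          have h1 : 1 < Nat.card N := by
            rw [Subgroup.one_lt_card_iff_ne_bot]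
            exact hNb
          have h2 : 0 < N.index := Nat.pos_of_ne_zero Subgroup.index_ne_zero_of_finite
          nlinarith
        exact ih _ hlt (G ⧸ N) rfl
          (Helper5.h5_isPSolvable_of_surjective (QuotientGroup.mk' N)
            (QuotientGroup.mk'_surjective N) hG) Q
      · obtain ⟨K, L, hKn, hLn, hKL, hKc, a, ha1, ha⟩ := exists_KL p hG hdvd
        haveI := hKn
        haveI := hLn
        obtain ⟨hc, hsup⟩ := inf_sylow p K L hKL hKc a ha P
        set P0 : Subgroup G := (P : Subgroup G) ⊓ L with hP0
        have hP0p : IsPGroup p P0 := P.2.to_le inf_le_left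
        have hP0b : P0 ≠ ⊥ := by
          intro h
          rw [h, Subgroup.card_bot] at hc
          have : 1 < p ^ a := Nat.one_lt_pow (by omega) hp.one_lt
          omega
        have hHne : normalizer (P0 : Set G) ≠ ⊤ := by
          intro h
          apply hcore
          exact ⟨P0, Subgroup.normalizer_eq_top_iff.mp h, hP0p, hP0b⟩
        have hlt : Nat.card ↥(normalizer (P0 : Set G)) < n := by
          rw [← hn]
          have h1 := Subgroup.card_le_card_group (normalizer (P0 : Set G))
          rcases h1.lt_or_eq with h2 | h2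
          · exact h2
          · exact absurd ((Subgroup.card_eq_iff_eq_top _).mp h2) hHne
        have hH : Cfsg.IsPSolvable p ↥(normalizer (P0 : Set G)) :=
          Helper5.isPSolvable_of_injective (normalizer (P0 : Set G)).subtype
            (Subgroup.subtype_injective _) hG
        have h1 := norm_step p L P (fun Q => ih _ hlt _ rfl hH Q)
        have h2 := core p K L P0 hKc hP0p hsup
        rw [uIn_univ] at h2
        exact h1.trans h2
    · -- p does not divide |G|
      have hP1 : ∀ Q : Sylow p G, Nat.card ↥(Q : Subgroup G) = 1 := by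
        intro Q
        obtain ⟨k, hk⟩ := IsPGroup.iff_card.mp Q.2
        have h1 : Nat.card ↥(Q : Subgroup G) ∣ Nat.card G := Subgroup.card_subgroup_dvd_card _
        rcases Nat.eq_zero_or_pos k with h0 | h0
        · rw [hk, h0, pow_zero]
        · exfalso
          apply hdvd
          exact dvd_trans (dvd_pow_self p (by omega)) (hk ▸ h1)
      have hsub : Nat.card (Sylow p G) = 1 := by
        haveI : Subsingleton (Sylow p G) := by
          constructor
          intro Q1 Q2
          apply Sylow.ext
          rw [(Subgroup.card_eq_one).mp (hP1 Q1), (Subgroup.card_eq_one).mp (hP1 Q2)]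
        haveI : Nonempty (Sylow p G) := ⟨P⟩
        exact Nat.card_unique
      rw [hP1 P, hsub, one_pow, one_pow, one_mul]
      exact Nat.one_le_pow _ _ hupos

end Cfsg.Agent.Lib.helper2.S91
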