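import Mathlib
import Cfsg.Agent.Lib.helper3.S983.TblDefs
import Cfsg.Agent.Lib.helper23.OrdGen3
import Cfsg.Agent.S0904

/-!
# Project S983 (S0983), row E5: `|G| = p^a q^b r` simple non-abelian ⟹ `|G| = e r d`, `1 < e ∣ r - 1`, `d ≡ 1 (mod r)`.

`og3_sylow_data` at the prime `r` + `S0904` (`C_G(S) = S` for a Sylow `r`-subgroup `S`).
-/

set_option autoImplicit false

namespace Cfsg.Agent.Lib.helper3.S983

open Cfsg.Agent.Lib.helper23

/-- E5 [M] -/
theorem e5_kill {G : Type*} [Group G] [Finite G] [IsSimpleGroup G] (hG : ¬ IsMulCommutative G)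
    (p q r a b : ℕ) (hp : p.Prime) (hq : q.Prime) (hr : r.Prime) (hpq : p ≠ q) (hpr : p ≠ r) (hqr : q ≠ r)
    (hcard : Nat.card G = p ^ a * q ^ b * r) :
    ∃ e d : ℕ, 1 < e ∧ e ∣ r - 1 ∧ d % r = 1 ∧ Nat.card G = e * r * d := by
  classical
  haveI hrF : Fact r.Prime := ⟨hr⟩
  have hnd : ¬ r ∣ p ^ a * q ^ b := by
    intro h
    rcases (Nat.Prime.dvd_mul hr).mp h with h1 | h1
    · exact hpr ((Nat.prime_dvd_prime_iff_eq hr hp).mp (hr.dvd_of_dvd_pow h1)).symm
    · exact hqr ((Nat.prime_dvd_prime_iff_eq hr hq).mp (hr.dvd_of_dvd_pow h1)).symm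
  have hcard' : Nat.card G = r ^ 1 * (p ^ a * q ^ b) := by rw [hcard]; ring
  have hm1 : 1 < p ^ a * q ^ b := by
    by_contra hle
    have hm0 : p ^ a * q ^ b ≠ 0 := by
      have := hp.pos
      have := hq.pos
      positivity
    have hm : p ^ a * q ^ b = 1 := by omega
    rw [hm, mul_one, pow_one] at hcard'
    haveI : Fact (Nat.card G).Prime := ⟨by rw [hcard']; exact hr⟩
    haveI : IsCyclic G := isCyclic_of_prime_card (p := Nat.card G) rfl
    apply hG
    exact ⟨⟨fun x y => IsCyclic.commGroup.mul_comm x y⟩⟩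
  obtain ⟨S⟩ : Nonempty (Sylow r G) := inferInstance
  obtain ⟨hS, hN, _, e, he, he1, hCe⟩ := og3_sylow_data r (p ^ a * q ^ b) hcard' hnd hm1 S
  have hC : Nat.card (Subgroup.centralizer ((S : Subgroup G) : Set G)) = r := by
    have h904 : Subgroup.centralizer ((S : Subgroup G) : Set G) = (S : Subgroup G) :=
      Cfsg.Agent.S0904.result p q r a b hp hq hpq hpr hqr hcard S
    rw [h904, hS]
  rw [hC] at hCe
  have hr1 : 1 ≤ r - 1 := by have := hr.two_le; omega
  have he0 : e ≠ 0 := by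
    rintro rfl
    rw [zero_dvd_iff] at he
    omega
  refine ⟨e, Nat.card (Sylow r G), by omega, he, ?_, ?_⟩
  · have := card_sylow_modEq_one r G
    have h1 : 1 % r = 1 := Nat.mod_eq_of_lt hr.one_lt
    rw [Nat.ModEq, h1] at this
    exact this
  · rw [← hN, ← hCe]; ring

end Cfsg.Agent.Lib.helper3.S983
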