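import Cfsg.Agent.Lib.helper7.SAP.Defs

/-!
# SAP row CAR1 (`car_basic`): consequences of Carmichael's relations.  (helper2)
-/

namespace Cfsg.Agent.Lib.helper7.SAP

open Equiv

universe u

/-- CAR1 [S]: consequences of Carmichael's relations. -/
theorem car_basic {G : Type u} [Group G] {ι : Type*} (x : ι → G) (h : CarRel x) (i j : ι) (hij : i ≠ j) :
    x i * x j * x i = (x j)⁻¹ ∧ (x i)⁻¹ = x i ^ 2 ∧ (x j * x i) ^ 2 = 1 := by
  refine ⟨?_, ?_, h.2 j i (Ne.symm hij)⟩
  · have h2 := h.2 i j hij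
    rw [pow_two] at h2
    rw [eq_inv_iff_mul_eq_one]
    simpa [mul_assoc] using h2
  · have h3 := h.1 i
    rw [inv_eq_iff_mul_eq_one, ← pow_succ']
    exact h3

end Cfsg.Agent.Lib.helper7.SAP
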