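import Cfsg.Agent.Lib.helper7.SAP.Defs

/-!
# SAP row GL4 (`glue_beta'_act`), core: the statements of BASE1 (`zo_conj_a_pow`, at `H.a`, `H.z`)
and BASE2 (`zo_conj_β`, at `H.toBaseHyp`) are hypotheses.  (helper2)
-/

namespace Cfsg.Agent.Lib.helper7.SAP

open Equiv

universe u

section glue
variable {p k l : ℕ} {G : Type u} [Group G]

/-- pure group identity behind GL4 -/
theorem sapgl4_aux (b β w v : G) (h : β * w * β⁻¹ = v⁻¹) :
    (b * β * b⁻¹) * (b * w * b⁻¹) * (b * β * b⁻¹)⁻¹ = (b * v * b⁻¹)⁻¹ := by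
  have h' : (b * v * b⁻¹)⁻¹ = b * v⁻¹ * b⁻¹ := by group
  rw [h', ← h]
  group

/-- GL4 core: `β' = a^l β a^-l` acts on the old family as `x ↦ l + r (x - l)` (with inversion). -/
theorem sapgl4_core (H : GlueHyp p k l G)
    (hB1 : ∀ (i : ℕ) (x : ZMod p),
      H.a ^ i * zo H.a H.z x * (H.a ^ i)⁻¹ = zo H.a H.z (x + (i : ZMod p)))
    (hB2 : ∀ x : ZMod p,
      H.β * zo H.a H.z x * H.β⁻¹ = (zo H.a H.z ((H.r : ZMod p) * x))⁻¹)
    (x : ZMod p) :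
    (H.a ^ l * H.β * (H.a ^ l)⁻¹) * zo H.a H.z x * (H.a ^ l * H.β * (H.a ^ l)⁻¹)⁻¹ =
      (zo H.a H.z ((l : ZMod p) + (H.r : ZMod p) * (x - (l : ZMod p))))⁻¹ := by
  have h1 : zo H.a H.z x = H.a ^ l * zo H.a H.z (x - (l : ZMod p)) * (H.a ^ l)⁻¹ := by
    rw [hB1, sub_add_cancel]
  have h2 := hB2 (x - (l : ZMod p))
  have h3 := hB1 l ((H.r : ZMod p) * (x - (l : ZMod p)))
  rw [add_comm ((H.r : ZMod p) * (x - (l : ZMod p))) _] at h3
  rw [← h3, h1]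
  exact sapgl4_aux _ _ _ _ h2

end glue

end Cfsg.Agent.Lib.helper7.SAP
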