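import Mathlib
import Cfsg.Prelude.Def_Characters
import Cfsg.Agent.Lib.helper2.SF1

set_option autoImplicit false

namespace Cfsg.Agent.Lib.helper2

open Representation

universe u v v' w

section generic

variable {k : Type w} [Field k] {G : Type u} [Group G]

theorem sfReal_zero : SfReal k G (0 : G → k) := by
  refine ⟨0, 1, ?_⟩
  intro g
  unfold Representation.character
  have : ((1 : Representation k G (Fin 0 → k)) g) = 0 := Subsingleton.elim _ _
  rw [this, map_zero]
  rfl

theorem sfReal_add {χ ψ : G → k} (h1 : SfReal k G χ) (h2 : SfReal k G ψ) :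
    SfReal k G (χ + ψ) := by
  obtain ⟨d1, ρ1, h1⟩ := h1
  obtain ⟨d2, ρ2, h2⟩ := h2
  have h3 := sfReal_of_rep (ρ1.prod ρ2)
  have h4 : (ρ1.prod ρ2).character = χ + ψ := by
    funext g
    rw [Pi.add_apply, ← h1 g, ← h2 g]
    exact LinearMap.trace_prodMap' (ρ1 g) (ρ2 g)
  rwa [h4] at h3

theorem sfReal_nsmul {χ : G → k} (h1 : SfReal k G χ) (n : ℕ) : SfReal k G (n • χ) := by
  induction n with
  | zero => rw [zero_smul]; exact sfReal_zero
  | succ n ih => rw [succ_nsmul]; exact sfReal_add ih h1

theorem sfReal_sum {ι : Type*} (s : Finset ι) (f : ι → G → k) (h : ∀ i ∈ s, SfReal k G (f i)) :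
    SfReal k G (∑ i ∈ s, f i) := by
  classical
  induction s using Finset.induction_on with
  | empty => rw [Finset.sum_empty]; exact sfReal_zero
  | insert a s ha ih =>
    rw [Finset.sum_insert ha]
    exact sfReal_add (h a (Finset.mem_insert_self a s))
      (ih fun i hi => h i (Finset.mem_insert_of_mem hi))

/-- trace of a restriction to the range of a commuting idempotent -/
theorem sf_trace_proj {V : Type v} [AddCommGroup V] [Module k V] [FiniteDimensional k V]
    (A P : V →ₗ[k] V) (hP : P ∘ₗ P = P) (hAP : A ∘ₗ P = P ∘ₗ A)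
    (hmem : ∀ x ∈ LinearMap.range P, A x ∈ LinearMap.range P) :
    LinearMap.trace k (LinearMap.range P) (A.restrict hmem) = LinearMap.trace k V (A ∘ₗ P) := by
  let ι : LinearMap.range P →ₗ[k] V := (LinearMap.range P).subtype
  let π : V →ₗ[k] LinearMap.range P := P.rangeRestrict
  have h1 : A ∘ₗ P = (A ∘ₗ ι) ∘ₗ π := by
    apply LinearMap.ext
    intro v
    rfl
  have h2 : A.restrict hmem = π ∘ₗ (A ∘ₗ ι) := by
    apply LinearMap.ext
    rintro ⟨u, v, rfl⟩
    apply Subtype.ext
    show A (P v) = P (A (P v))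
    have e1 : A (P v) = P (A v) := congrArg (fun f => f v) hAP
    have e2 : P (P (A v)) = P (A v) := congrArg (fun f => f (A v)) hP
    rw [e1, e2]
  rw [h1, h2, LinearMap.trace_comp_comm']

end generic

section monomial

variable {k : Type w} [Field k] {G : Type u} [Group G]

/-- right regular representation on functions -/
noncomputable def sfReg (k : Type w) [Field k] (G : Type u) [Group G] :
    Representation k G (G → k) where
  toFun g := LinearMap.funLeft k k (fun x => x * g)
  map_one' := by
    apply LinearMap.ext; intro f; funext x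
    simp [LinearMap.funLeft_apply]
  map_mul' g h := by
    apply LinearMap.ext; intro f; funext x
    simp [LinearMap.funLeft_apply, mul_assoc]

theorem sfReg_apply (g : G) (f : G → k) (x : G) : sfReg k G g f x = f (x * g) := rfl

variable [Fintype G]

/-- the projection onto the `lam`-semi-invariant functions -/
noncomputable def sfProj (E : Subgroup G) [Fintype E] (lam : E →* k) : (G → k) →ₗ[k] (G → k) where
  toFun f x := (Fintype.card E : k)⁻¹ * ∑ e : E, lam e⁻¹ * f ((e : G) * x)
  map_add' f1 f2 := by
    funext x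
    simp only [Pi.add_apply, mul_add, Finset.sum_add_distrib]
  map_smul' c f := by
    funext x
    simp only [Pi.smul_apply, smul_eq_mul, RingHom.id_apply, Finset.mul_sum]
    refine Finset.sum_congr rfl fun e _ => ?_
    ring

theorem sfProj_apply (E : Subgroup G) [Fintype E] (lam : E →* k) (f : G → k) (x : G) :
    sfProj E lam f x = (Fintype.card E : k)⁻¹ * ∑ e : E, lam e⁻¹ * f ((e : G) * x) := rfl

theorem sfProj_comm (E : Subgroup G) [Fintype E] (lam : E →* k) (g : G) :
    sfReg k G g ∘ₗ sfProj E lam = sfProj E lam ∘ₗ sfReg k G g := by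
  apply LinearMap.ext; intro f; funext x
  simp only [LinearMap.comp_apply, sfReg_apply, sfProj_apply, mul_assoc]

theorem sfProj_idem (E : Subgroup G) [Fintype E] (lam : E →* k) [NeZero (Fintype.card E : k)] :
    sfProj E lam ∘ₗ sfProj E lam = sfProj E lam := by
  apply LinearMap.ext; intro f; funext x
  simp only [LinearMap.comp_apply, sfProj_apply]
  have h1 : ∀ e : E, lam e⁻¹ * ((Fintype.card E : k)⁻¹ * ∑ e' : E, lam e'⁻¹ * f ((e' : G) * ((e : G) * x)))
      = (Fintype.card E : k)⁻¹ * ∑ e'' : E, lam e''⁻¹ * f ((e'' : G) * x) := by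
    intro e
    rw [mul_left_comm, Finset.mul_sum]
    congr 1
    rw [← Equiv.sum_comp (Equiv.mulRight e) (fun e'' : E => lam e''⁻¹ * f ((e'' : G) * x))]
    refine Finset.sum_congr rfl fun e' _ => ?_
    have h2 : lam (e' * e)⁻¹ = lam e⁻¹ * lam e'⁻¹ := by rw [mul_inv_rev, map_mul]
    have h3 : ((e' * e : E) : G) * x = (e' : G) * ((e : G) * x) := by
      rw [Subgroup.coe_mul, mul_assoc]
    rw [Equiv.coe_mulRight, h2, h3, mul_assoc]
  rw [Finset.sum_congr rfl fun e _ => h1 e, Finset.sum_const, Finset.card_univ, nsmul_eq_mul,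
    ← mul_assoc, ← mul_assoc, inv_mul_cancel₀ (NeZero.ne _), one_mul]

open Classical in
/-- the `k`-valued induced class function of a linear character -/
noncomputable def sfInd (E : Subgroup G) [Fintype E] (lam : E →* k) (g : G) : k :=
  (Fintype.card E : k)⁻¹ * ∑ x : G, (if h : x⁻¹ * g * x ∈ E then lam ⟨x⁻¹ * g * x, h⟩ else 0)

theorem sf_trace_reg_proj [DecidableEq G] (E : Subgroup G) [Fintype E] (lam : E →* k) (g : G) :
    LinearMap.trace k (G → k) (sfReg k G g ∘ₗ sfProj E lam) = sfInd E lam g := by
  classical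
  have key : ∀ z : G, ∑ e : E, lam e⁻¹ * (Pi.single z (1 : k) : G → k) ((e : G) * (z * g)) =
      if h : z * g * z⁻¹ ∈ E then lam ⟨z * g * z⁻¹, h⟩ else 0 := by
    intro y
    by_cases h : y * g * y⁻¹ ∈ E
    · rw [dif_pos h]
      rw [Finset.sum_eq_single (⟨y * g * y⁻¹, h⟩⁻¹ : E)]
      · rw [inv_inv]
        have : (((⟨y * g * y⁻¹, h⟩ : E)⁻¹ : E) : G) * (y * g) = y := by
          rw [Subgroup.coe_inv]
          show (y * g * y⁻¹)⁻¹ * (y * g) = y
          group
        rw [this, Pi.single_eq_same, mul_one]
      · intro e _ hne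
        rw [Pi.single_apply, if_neg, mul_zero]
        intro heq
        apply hne
        apply Subtype.ext
        rw [Subgroup.coe_inv]
        show (e : G) = (y * g * y⁻¹)⁻¹
        have : (e : G) = y * (y * g)⁻¹ := eq_mul_inv_of_mul_eq heq
        rw [this]; group
      · intro hx; exact absurd (Finset.mem_univ _) hx
    · rw [dif_neg h]
      apply Finset.sum_eq_zero
      intro e _
      rw [Pi.single_apply, if_neg, mul_zero]
      intro heq
      apply h
      have : y * g * y⁻¹ = ((e⁻¹ : E) : G) := by
        rw [Subgroup.coe_inv]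
        have : (e : G) = y * (y * g)⁻¹ := eq_mul_inv_of_mul_eq heq
        rw [this]; group
      rw [this]
      exact (e⁻¹).2
  rw [LinearMap.trace_eq_matrix_trace k (Pi.basisFun k G), Matrix.trace]
  simp only [Matrix.diag_apply, LinearMap.toMatrix_apply, Pi.basisFun_apply, Pi.basisFun_repr,
    LinearMap.comp_apply, sfReg_apply, sfProj_apply]
  unfold sfInd
  rw [← Finset.mul_sum]
  congr 1
  rw [Finset.sum_congr rfl fun y _ => key y]
  refine Fintype.sum_equiv (Equiv.inv G) _ _ (fun y => ?_)
  simp only [Equiv.inv_apply, inv_inv]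

theorem sfReal_ind (E : Subgroup G) [Fintype E] (lam : E →* k) [NeZero (Fintype.card E : k)] :
    SfReal k G (sfInd E lam) := by
  classical
  have hmem : ∀ (g : G), ∀ x ∈ LinearMap.range (sfProj E lam),
      sfReg k G g x ∈ LinearMap.range (sfProj E lam) := by
    rintro g _ ⟨w, rfl⟩
    refine ⟨sfReg k G g w, ?_⟩
    exact (congrArg (fun f => f w) (sfProj_comm E lam g)).symm
  let sub : Subrepresentation (sfReg k G) := ⟨LinearMap.range (sfProj E lam), fun g v hv => hmem g v hv⟩
  have h1 := sfReal_of_rep sub.toRepresentation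
  have h2 : sub.toRepresentation.character = sfInd E lam := by
    funext g
    rw [← sf_trace_reg_proj E lam g,
      ← sf_trace_proj (sfReg k G g) (sfProj E lam) (sfProj_idem E lam) (sfProj_comm E lam g) (hmem g)]
    rfl
  rwa [h2] at h1

end monomial

end Cfsg.Agent.Lib.helper2
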