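import Mathlib
import Cfsg.Prelude.Def_Characters
import Cfsg.Agent.Lib.helper2.SF2
import Cfsg.Agent.Lib.helper2.BrauerInd

set_option autoImplicit false

namespace Cfsg.Agent.Lib.helper2

open Representation
open scoped ComplexConjugate
open Cfsg.Agent.Lib.helper7 Cfsg.Agent.Lib.Helper11 Cfsg.Agent.Lib.Helper25 Cfsg.Agent.Lib.Helper24

universe u v

section complex

variable {G : Type u} [Group G] (K : Subfield ℂ)

/-- base change of a coordinate representation over `K ⊆ ℂ` to `ℂ` -/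
noncomputable def sfBase {d : ℕ} (ρ : Representation K G (Fin d → K)) :
    Representation ℂ G (Fin d → ℂ) where
  toFun g := Matrix.toLin' ((LinearMap.toMatrix' (ρ g)).map (algebraMap K ℂ))
  map_one' := by
    rw [map_one, LinearMap.toMatrix'_one, Matrix.map_one _ (map_zero _) (map_one _),
      Matrix.toLin'_one]
    rfl
  map_mul' g h := by
    rw [map_mul, LinearMap.toMatrix'_mul, Matrix.map_mul, Matrix.toLin'_mul]
    rfl

theorem sfBase_toMatrix {d : ℕ} (ρ : Representation K G (Fin d → K)) (g : G) :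
    LinearMap.toMatrix' (sfBase K ρ g) = (LinearMap.toMatrix' (ρ g)).map (algebraMap K ℂ) := by
  show LinearMap.toMatrix' (Matrix.toLin' ((LinearMap.toMatrix' (ρ g)).map (algebraMap K ℂ))) = _
  rw [LinearMap.toMatrix'_toLin']

theorem sfBase_entry {d : ℕ} (ρ : Representation K G (Fin d → K)) (g : G) (i j : Fin d) :
    LinearMap.toMatrix' (sfBase K ρ g) i j ∈ K := by
  rw [sfBase_toMatrix]
  exact (LinearMap.toMatrix' (ρ g) i j).2

theorem sfBase_character {d : ℕ} (ρ : Representation K G (Fin d → K)) (g : G) :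
    (sfBase K ρ).character g = ((ρ.character g : K) : ℂ) := by
  unfold Representation.character
  rw [LinearMap.trace_eq_matrix_trace ℂ (Pi.basisFun ℂ (Fin d)),
    LinearMap.trace_eq_matrix_trace K (Pi.basisFun K (Fin d)),
    LinearMap.toMatrix_eq_toMatrix', LinearMap.toMatrix_eq_toMatrix', sfBase_toMatrix]
  unfold Matrix.trace
  simp only [Matrix.diag_apply, Matrix.map_apply]
  push_cast
  rfl

theorem sfReal_isCharacter {χ : G → K} (h : SfReal K G χ) :
    Cfsg.IsCharacter G (fun g => ((χ g : K) : ℂ)) := by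
  obtain ⟨d, ρ, hρ⟩ := h
  refine ⟨d, sfBase K ρ, ?_⟩
  funext g
  rw [sfBase_character, hρ]

theorem isCharacter_inv_conj [Finite G] {ψ : G → ℂ} (hψ : Cfsg.IsCharacter G ψ) (g : G) :
    ψ g⁻¹ = conj (ψ g) := by
  obtain ⟨n, σ, rfl⟩ := hψ
  exact char_inv σ g

theorem sf_H [Fintype G] (χ : G → ℂ) (hχ : Cfsg.IsCharacter G χ) (χK : G → K)
    (hχK : ∀ g, ((χK g : K) : ℂ) = χ g)
    (V : Type v) [AddCommGroup V] [Module K V] [FiniteDimensional K V] (ρ : Representation K G V)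
    (hV : Module.finrank K V ≠ 0) :
    ∑ g : G, (ρ.character g + χK g) * ρ.character g⁻¹ ≠ 0 := by
  intro h0
  have hψ : Cfsg.IsCharacter G (fun g => ((ρ.character g : K) : ℂ)) :=
    sfReal_isCharacter K (sfReal_of_rep ρ)
  set ψ : G → ℂ := fun g => ((ρ.character g : K) : ℂ) with hψdef
  have h1 : ∑ g : G, (ψ g + χ g) * conj (ψ g) = 0 := by
    have h2 := congrArg (fun x : K => (x : ℂ)) h0
    simp only [Subfield.coe_zero] at h2
    rw [← h2]
    push_cast
    refine Finset.sum_congr rfl fun g _ => ?_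
    rw [hχK g, ← isCharacter_inv_conj hψ g]
  obtain ⟨m1, hm1⟩ := classInner_character_nat hψ hψ
  obtain ⟨m2, hm2⟩ := classInner_character_nat hχ hψ
  have hne : (Nat.card G : ℂ) ≠ 0 := by exact_mod_cast Nat.card_pos.ne'
  have h3 : (m1 : ℂ) + (m2 : ℂ) = 0 := by
    rw [← hm1, ← hm2]
    unfold Cfsg.classInner
    rw [← mul_add, ← Finset.sum_add_distrib]
    simp only [← add_mul]
    rw [h1, mul_zero]
  have h4 : m1 = 0 := by
    have : ((m1 + m2 : ℕ) : ℂ) = 0 := by push_cast; exact h3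
    have := Nat.cast_eq_zero.mp this
    omega
  rw [h4, Nat.cast_zero] at hm1
  unfold Cfsg.classInner at hm1
  have h5 : ∑ g : G, ψ g * conj (ψ g) = 0 := by
    rcases mul_eq_zero.mp hm1 with h | h
    · exact absurd (inv_eq_zero.mp h) hne
    · exact h
  have h6 : ∀ g : G, ψ g * conj (ψ g) = ((Complex.normSq (ψ g) : ℝ) : ℂ) := fun g =>
    Complex.mul_conj (ψ g)
  simp only [h6] at h5
  have h7 : ∑ g : G, Complex.normSq (ψ g) = 0 := by exact_mod_cast h5
  have h8 := (Finset.sum_eq_zero_iff_of_nonneg (fun g _ => Complex.normSq_nonneg (ψ g))).mp h7 1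
    (Finset.mem_univ _)
  have h9 : ψ 1 = 0 := Complex.normSq_eq_zero.mp h8
  rw [hψdef] at h9
  simp only [Representation.char_one] at h9
  apply hV
  exact_mod_cast h9

/-- differences of `K`-realizable characters -/
def sfDiff (K : Subfield ℂ) (G : Type u) [Group G] : AddSubgroup (G → ℂ) where
  carrier := {f | ∃ a b : G → K, SfReal K G a ∧ SfReal K G b ∧
    ∀ g, f g = ((a g : K) : ℂ) - ((b g : K) : ℂ)}
  zero_mem' := ⟨0, 0, sfReal_zero, sfReal_zero, fun g => by simp⟩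
  add_mem' := by
    rintro f1 f2 ⟨a1, b1, ha1, hb1, h1⟩ ⟨a2, b2, ha2, hb2, h2⟩
    refine ⟨a1 + a2, b1 + b2, sfReal_add ha1 ha2, sfReal_add hb1 hb2, fun g => ?_⟩
    rw [Pi.add_apply, h1 g, h2 g, Pi.add_apply, Pi.add_apply]
    push_cast
    ring
  neg_mem' := by
    rintro f ⟨a, b, ha, hb, h⟩
    refine ⟨b, a, hb, ha, fun g => ?_⟩
    rw [Pi.neg_apply, h g]
    ring

theorem sf_gens2_le [Fintype G]
    (hK : ∀ z : ℂ, z ^ (Monoid.exponent G) = 1 → z ∈ K) :
    gens2 G ⊆ (sfDiff K G : Set (G → ℂ)) := by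
  classical
  rintro f ⟨E, lam, p, hp, hE, rfl⟩
  have hmem : ∀ e : E, ((lam e : ℂˣ) : ℂ) ∈ K := by
    intro e
    apply hK
    have h1 : e ^ (Monoid.exponent G) = 1 := by
      apply Subtype.ext
      rw [Subgroup.coe_pow, Subgroup.coe_one]
      exact Monoid.pow_exponent_eq_one _
    have h2 := congrArg (fun x : ℂˣ => (x : ℂ)) (congrArg lam h1)
    simpa using h2
  let lamK : E →* K :=
    { toFun := fun e => ⟨((lam e : ℂˣ) : ℂ), hmem e⟩
      map_one' := Subtype.ext (by simp)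
      map_mul' := fun a b => Subtype.ext (by simp) }
  haveI : NeZero (Fintype.card E : K) := ⟨by
    have : Fintype.card E ≠ 0 := Fintype.card_ne_zero
    exact_mod_cast this⟩
  refine ⟨sfInd E lamK, 0, sfReal_ind E lamK, sfReal_zero, fun g => ?_⟩
  rw [Pi.zero_apply, Subfield.coe_zero, sub_zero]
  unfold sfInd Cfsg.indFun
  rw [Subfield.coe_mul, Subfield.coe_inv, Nat.card_eq_fintype_card]
  have hc : (((Fintype.card E : ℕ) : K) : ℂ) = ((Fintype.card E : ℕ) : ℂ) := by push_cast; rfl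
  rw [hc]
  congr 1
  rw [← Subfield.coe_subtype, map_sum]
  refine Finset.sum_congr rfl fun x _ => ?_
  by_cases h : x⁻¹ * g * x ∈ E
  · rw [dif_pos h, h7_extendByZero_mem E _ _ h]
    rfl
  · rw [dif_neg h, h7_extendByZero_not_mem E _ _ h, map_zero]

theorem sf_irr_real [Fintype G] (hK : ∀ z : ℂ, z ^ (Monoid.exponent G) = 1 → z ∈ K)
    (χ : G → ℂ) (hχ : Cfsg.IsIrrCharacter G χ) :
    ∃ χK : G → K, SfReal K G χK ∧ ∀ g, ((χK g : K) : ℂ) = χ g := by
  have hχc : Cfsg.IsCharacter G χ := isCharacter_of_irr ⟨χ, hχ⟩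
  have h1 := char_mem_span_gens2 χ hχc
  have h2 : Submodule.span ℤ (gens2 G) ≤ AddSubgroup.toIntSubmodule (sfDiff K G) :=
    Submodule.span_le.mpr (sf_gens2_le K hK)
  obtain ⟨a, b, ha, hb, hab⟩ := h2 h1
  refine ⟨a - b, ?_, fun g => ?_⟩
  · obtain ⟨d1, ρ1, h1⟩ := ha
    obtain ⟨d2, ρ2, h2⟩ := hb
    haveI : NeZero (Nat.card G : K) := ⟨by
      have : Nat.card G ≠ 0 := Nat.card_pos.ne'
      exact_mod_cast this⟩
    refine sf_cancel (a - b) ?_ d2 (Fin d2 → K) ρ2 ?_ (Fin d1 → K) ρ1 ?_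
    · intro V _ _ _ ρ hV
      exact sf_H K χ hχc (a - b) (fun g => by rw [Pi.sub_apply, Subfield.coe_sub, hab g]) V ρ hV
    · rw [Module.finrank_fin_fun]
    · intro g
      rw [h1 g, h2 g, Pi.sub_apply]
      ring
  · rw [Pi.sub_apply, Subfield.coe_sub, hab g]

theorem sf_main [Finite G] (hK : ∀ z : ℂ, z ^ (Monoid.exponent G) = 1 → z ∈ K)
    (ψ : G → ℂ) (hψ : Cfsg.IsCharacter G ψ) :
    ∃ (d : ℕ) (σ : Representation ℂ G (Fin d → ℂ)), σ.character = ψ ∧
      ∀ g i j, LinearMap.toMatrix' (σ g) i j ∈ K := by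
  classical
  haveI := Fintype.ofFinite G
  haveI : Fintype (Cfsg.IrrCharacter G) := Fintype.ofFinite _
  obtain ⟨m, -, hexp⟩ := isCharacter_expansion hψ
  have h1 : ∀ χ : Cfsg.IrrCharacter G, ∃ χK : G → K, SfReal K G χK ∧
      ∀ g, ((χK g : K) : ℂ) = (χ : G → ℂ) g := fun χ => sf_irr_real K hK χ χ.2
  choose cK hcK1 hcK2 using h1
  have h2 : SfReal K G (∑ χ : Cfsg.IrrCharacter G, m χ • cK χ) :=
    sfReal_sum _ _ fun χ _ => sfReal_nsmul (hcK1 χ) (m χ)
  obtain ⟨d, ρ, hρ⟩ := h2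
  refine ⟨d, sfBase K ρ, ?_, fun g i j => sfBase_entry K ρ g i j⟩
  funext g
  rw [sfBase_character, hρ g, hexp, Finset.sum_apply, Finset.sum_apply]
  rw [← Subfield.coe_subtype, map_sum]
  refine Finset.sum_congr rfl fun χ _ => ?_
  rw [Pi.smul_apply, Pi.smul_apply, Subfield.coe_subtype, nsmul_eq_mul, Subfield.coe_mul, hcK2 χ g,
    smul_eq_mul]
  push_cast
  rfl

end complex

end Cfsg.Agent.Lib.helper2
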