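import Cfsg.Agent.Lib.Helper1.SLK.Defs
import Cfsg.Agent.Lib.helper2.SLKA7core
import Cfsg.Agent.Lib.Helper10.SLKA3
import Cfsg.Agent.Lib.Helper10.SLKD5
import Cfsg.Agent.Lib.helper4.SLKD3

/-!
# Project SLK, row A7 (helper2): `exists_commute_det_pow`, verbatim.
-/

set_option autoImplicit false

namespace Cfsg.Agent.Lib.Helper1.SLK

open Polynomial
open Cfsg.Agent.Lib.Helper29.GLK

universe u

theorem exists_commute_det_pow {F : Type u} [Field F] [Fintype F] [DecidableEq F] {n : ℕ}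
    (x : Matrix.GeneralLinearGroup (Fin n) F) (G : ℕ → F[X]) (h : IsInv x G)
    (i : Fin n) (hi : (G i).natDegree ≠ 0) (c : Fˣ) :
    ∃ h : Matrix.GeneralLinearGroup (Fin n) F,
      Commute h x ∧ Matrix.GeneralLinearGroup.det h = c ^ ((i : ℕ) + 1) :=
  slka7_core x (fun g a hg Φ => det_conj_dmul x g a hg Φ) norm_quot_pow exists_norm_eq G h i hi c

end Cfsg.Agent.Lib.Helper1.SLK
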