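import Mathlib
import Cfsg.Agent.Lib.helper3.SPB.Defs

/-!
# Project SPB, row T0 (`XQ_mapB`): `(S.map f).XQ Q Qs = (S.XQ Q Qs).map f`.  helper2.
-/

set_option autoImplicit false

namespace Cfsg.Agent.Lib.helper3.SPB

open Cfsg.Agent.Lib.helper15.St2 Cfsg.Agent.Lib.helper3.STC Cfsg.Agent.Lib.Lead.STD Cfsg.Agent.Lib.Lead.STB
  Cfsg.Agent.Lib.Lead.SPN Cfsg.Agent.Lib.Helper16 Cfsg.Agent.Lib.Helper12.OMB

universe u v w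

section T

/-- T0 -/
theorem XQ_mapB {K : Type*} [Field K] {ι : Type*} {G : Type*} [Group G] {H : Type*} [Group H]
    (S : SysB K ι G) (f : G →* H) (Q : ι ⊕ ι → ι ⊕ ι → Prop) (Qs : ι ⊕ ι → Prop) : (S.map f).XQ Q Qs = (S.XQ Q Qs).map f := by
  unfold SysB.XQ
  rw [MonoidHom.map_closure]
  congr 1
  ext g
  constructor
  · rintro (⟨a, b, t, h1, h2, h3, rfl⟩ | ⟨a, t, h1, rfl⟩)
    · exact ⟨S.x a b t, Or.inl ⟨a, b, t, h1, h2, h3, rfl⟩, rfl⟩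
    · exact ⟨S.xs a t, Or.inr ⟨a, t, h1, rfl⟩, rfl⟩
  · rintro ⟨y, (⟨a, b, t, h1, h2, h3, rfl⟩ | ⟨a, t, h1, rfl⟩), rfl⟩
    · exact Or.inl ⟨a, b, t, h1, h2, h3, rfl⟩
    · exact Or.inr ⟨a, t, h1, rfl⟩

end T

end Cfsg.Agent.Lib.helper3.SPB
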