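import Mathlib
import Cfsg.Prelude.Def_GeometricClasses
import Cfsg.Agent.Lib.Lead.SPU.Defs

set_option autoImplicit false
set_option linter.unusedVariables false
set_option linter.unusedSectionVars false
set_option linter.unusedSimpArgs false

/-!
# Project SPU, piece STEP3A (helper2) : the core, with `trans_ns` and `univ3` taken as hypotheses.

`spustep3a_core` : if `C = C_Sp(j) ≤ M ≤ Sp`, `C` is transitive on the vectors of each non-zero norm (`htr`) and
`u0^⊥h` represents every scalar (`hun`), then `XX M u0` with `Qj u0 ≠ 0` gives `XX M x` for every non-singular `x`.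
-/

namespace Cfsg.Agent.Lib.Lead.SPU

open Matrix Cfsg.Agent.S5646 Cfsg.Agent.S5647 Cfsg.Agent.Lib.Helper28.SpPair

variable {m : ℕ} {F : Type*} [Field F] {j j1 : Matrix (Fin m ⊕ Fin m) (Fin m ⊕ Fin m) F} {c0 : F}
  {M : Subgroup (Matrix.GeneralLinearGroup (Fin m ⊕ Fin m) F)}

open Cfsg.Agent.Lib.helper6

theorem spustep3a_jj (hJ : JS j c0) (x : Fin m ⊕ Fin m → F) : j *ᵥ (j *ᵥ x) = c0 • x := by
  rw [Matrix.mulVec_mulVec, hJ.sq, Matrix.smul_mulVec, Matrix.one_mulVec]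

theorem spustep3a_Bsymm (hJ : JS j c0) (x y : Fin m ⊕ Fin m → F) :
    Cfsg.sympForm m F x (j *ᵥ y) = Cfsg.sympForm m F y (j *ᵥ x) := by
  have h1 := hJ.adj x y
  rw [sympForm_swap m y (j *ᵥ x), h1, neg_neg]

/-- the norm-transfer step: a centre of non-zero norm gives all centres of the same norm. -/
theorem spustep3a_same (hM : M ≤ Cfsg.spGL m F) (hC : ∀ g, InC j g → g ∈ M)
    (htr : ∀ x y : Fin m ⊕ Fin m → F, Qj j x ≠ 0 → Qj j x = Qj j y →
      ∃ g : Matrix.GeneralLinearGroup (Fin m ⊕ Fin m) F, InC j g ∧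
        (g : Matrix (Fin m ⊕ Fin m) (Fin m ⊕ Fin m) F) *ᵥ x = y)
    (u x : Fin m ⊕ Fin m → F) (hu : Qj j u ≠ 0) (hX : XX M u) (hux : Qj j u = Qj j x) : XX M x := by
  obtain ⟨g, hg, hgx⟩ := htr u x hu hux
  have := XX_conj M hM u hX g (hC g hg)
  rwa [hgx] at this

theorem spustep3a_core (hJ : JS j c0) (hM : M ≤ Cfsg.spGL m F) (hC : ∀ g, InC j g → g ∈ M)
    (htr : ∀ x y : Fin m ⊕ Fin m → F, Qj j x ≠ 0 → Qj j x = Qj j y →
      ∃ g : Matrix.GeneralLinearGroup (Fin m ⊕ Fin m) F, InC j g ∧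
        (g : Matrix (Fin m ⊕ Fin m) (Fin m ⊕ Fin m) F) *ᵥ x = y)
    (hun : ∀ (a : Fin m ⊕ Fin m → F) (c : F), ∃ t : Fin m ⊕ Fin m → F, HOj j t a ∧ Qj j t = c)
    (u0 : Fin m ⊕ Fin m → F) (hu : Qj j u0 ≠ 0) (hX : XX M u0) :
    ∀ x : Fin m ⊕ Fin m → F, Qj j x ≠ 0 → XX M x := by
  intro x hx
  have h2 : (2 : F) ≠ 0 := hJ.two
  set c1 := Qj j u0 with hc1
  set c := Qj j x with hc
  set a : F := c / (2 * c1) - 1 with ha
  obtain ⟨t, ⟨ht1, ht2⟩, htQ⟩ := hun u0 (c1 - (a * a - c0) * c1)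
  -- the auxiliary vector
  set y : Fin m ⊕ Fin m → F := a • u0 + j *ᵥ u0 + t with hy
  have hut : Cfsg.sympForm m F u0 t = 0 := by rw [sympForm_swap, ht1, neg_zero]
  have hujt : Cfsg.sympForm m F u0 (j *ᵥ t) = 0 := by rw [spustep3a_Bsymm hJ, ht2]
  have hjy : j *ᵥ y = a • (j *ᵥ u0) + c0 • u0 + j *ᵥ t := by
    rw [hy, Matrix.mulVec_add, Matrix.mulVec_add, Matrix.mulVec_smul, spustep3a_jj hJ]
  have hjut : Cfsg.sympForm m F (j *ᵥ u0) (j *ᵥ t) = 0 := by
    rw [hJ.adj, spustep3a_jj hJ, sympForm_smul_right, hut, mul_zero, neg_zero]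
  have htju : Cfsg.sympForm m F t (j *ᵥ u0) = 0 := ht2
  have htu : Cfsg.sympForm m F t u0 = 0 := ht1
  have hjuu : Cfsg.sympForm m F (j *ᵥ u0) u0 = - c1 := by
    rw [sympForm_swap]; rfl
  have hjuju : Cfsg.sympForm m F (j *ᵥ u0) (j *ᵥ u0) = 0 := sympForm_self m _
  have huu : Cfsg.sympForm m F u0 u0 = 0 := sympForm_self m _
  have huju : Cfsg.sympForm m F u0 (j *ᵥ u0) = c1 := rfl
  have htjt : Cfsg.sympForm m F t (j *ᵥ t) = c1 - (a * a - c0) * c1 := htQ
  have hQy : Qj j y = c1 := by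
    unfold Qj
    rw [hjy, hy]
    simp only [sympForm_add_left, sympForm_add_right, sympForm_smul_left, sympForm_smul_right,
      huu, huju, hjuu, hjuju, hut, hujt, hjut, htju, htu, htjt]
    ring
  have hXy : XX M y := spustep3a_same hM hC htr u0 y hu hX (by rw [hQy])
  have hfy : Cfsg.sympForm m F u0 y = c1 := by
    rw [hy]
    simp only [sympForm_add_right, sympForm_smul_right, huu, huju, hut]
    ring
  have hXs : XX M (u0 + y) := XX_add M hM u0 y hX hXy (by rw [hfy]; exact hu)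
  have hQs : Qj j (u0 + y) = c := by
    unfold Qj
    rw [Matrix.mulVec_add, hjy, hy]
    simp only [sympForm_add_left, sympForm_add_right, sympForm_smul_left, sympForm_smul_right,
      huu, huju, hjuu, hjuju, hut, hujt, hjut, htju, htu, htjt]
    rw [ha]
    field_simp
    ring
  exact spustep3a_same hM hC htr (u0 + y) x (by rw [hQs]; exact hx) hXs (by rw [hQs])

end Cfsg.Agent.Lib.Lead.SPU
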