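import Mathlib
import Cfsg.Prelude.Def_GeometricClasses
import Cfsg.Agent.Lib.Lead.SPU.Defs
import Cfsg.Agent.Lib.Helper11.SPUREFL
import Cfsg.Agent.Lib.Helper11.SPUUNIV3
import Cfsg.Agent.Lib.helper2.SPUSTEP3Acore

set_option autoImplicit false
set_option linter.unusedVariables false
set_option linter.unusedSectionVars false

/-!
# Project SPU, piece STEP3A (helper2) : `step3a` verbatim.

Self-contained over the landed REFL + UNIV3 (helper11): carries its own copy of the transitivity of `C` on the vectors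
of a given non-zero norm (`spustep3a_trans`, = the statement `trans_ns`), so it does not wait for BASIC / TRANS.
-/

namespace Cfsg.Agent.Lib.Lead.SPU

open Matrix Cfsg.Agent.S5646 Cfsg.Agent.S5647 Cfsg.Agent.Lib.Helper28.SpPair

variable {m : ℕ} {F : Type*} [Field F] {j j1 : Matrix (Fin m ⊕ Fin m) (Fin m ⊕ Fin m) F} {c0 : F}
  {M : Subgroup (Matrix.GeneralLinearGroup (Fin m ⊕ Fin m) F)}

open Cfsg.Agent.Lib.helper6

theorem spustep3a_HOj_symm (hJ : JS j c0) (x y : Fin m ⊕ Fin m → F) (h : HOj j x y) : HOj j y x := by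
  refine ⟨?_, ?_⟩
  · rw [sympForm_swap, h.1, neg_zero]
  · rw [spustep3a_Bsymm hJ, h.2]

theorem spustep3a_inC_mul (g1 g2 : Matrix.GeneralLinearGroup (Fin m ⊕ Fin m) F)
    (h1 : InC j g1) (h2 : InC j g2) : InC j (g2 * g1) := by
  refine ⟨(Cfsg.spGL m F).mul_mem h2.1 h1.1, ?_⟩
  rw [Units.val_mul, Matrix.mul_assoc, h1.2, ← Matrix.mul_assoc, h2.2, Matrix.mul_assoc]

/-- own copy of the statement `trans_ns` -/
theorem spustep3a_trans [Fintype F] (hm : 7 ≤ m) (hJ : JS j c0) (x y : Fin m ⊕ Fin m → F)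
    (hx : Qj j x ≠ 0) (hxy : Qj j x = Qj j y) :
    ∃ g : Matrix.GeneralLinearGroup (Fin m ⊕ Fin m) F, InC j g ∧
      (g : Matrix (Fin m ⊕ Fin m) (Fin m ⊕ Fin m) F) *ᵥ x = y := by
  obtain ⟨w, _, hwx, hwy, _, hwQ⟩ := univ3 hm hJ x y 0 (Qj j x)
  obtain ⟨hd1, hs1⟩ := refl_swap hJ x w hx hwQ.symm (spustep3a_HOj_symm hJ w x hwx)
  obtain ⟨hd2, hs2⟩ := refl_swap hJ w y (by rw [hwQ]; exact hx) (by rw [hwQ]; exact hxy) hwy
  obtain ⟨g1, hg1, hg1a⟩ := refl_ex hJ (x - w) hd1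
  obtain ⟨g2, hg2, hg2a⟩ := refl_ex hJ (w - y) hd2
  refine ⟨g2 * g1, spustep3a_inC_mul g1 g2 hg1 hg2, ?_⟩
  rw [Units.val_mul, ← Matrix.mulVec_mulVec, hg1a, hs1, hg2a, hs2]

/-- STEP3A [M-L] : all non-singular centres. -/
theorem step3a [Fintype F] (hm : 7 ≤ m) (hJ : JS j c0) (hM : M ≤ Cfsg.spGL m F)
    (hC : ∀ g, InC j g → g ∈ M) (u0 : Fin m ⊕ Fin m → F) (hu : Qj j u0 ≠ 0) (hX : XX M u0) :
    ∀ x : Fin m ⊕ Fin m → F, Qj j x ≠ 0 → XX M x :=
  spustep3a_core hJ hM hC (fun x y hx hxy => spustep3a_trans hm hJ x y hx hxy)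
    (fun a c => by
      obtain ⟨t, _, h1, _, _, h4⟩ := univ3 hm hJ a a a c
      exact ⟨t, h1, h4⟩) u0 hu hX

end Cfsg.Agent.Lib.Lead.SPU
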