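import Mathlib
import Cfsg.Prelude.Def_GeometricClasses
import Cfsg.Agent.Lib.Lead.SPU.Defs
import Cfsg.Agent.Lib.Helper1.SPUCONJ
import Cfsg.Agent.Lib.Lead.SPULEMA
import Cfsg.Agent.Lib.Helper25.SPUSTEP1
import Cfsg.Agent.Lib.Helper27.SPUEXZ
import Cfsg.Agent.Lib.Helper25.SPUSTEP2
import Cfsg.Agent.Lib.helper2.SPUSTEP3A
import Cfsg.Agent.Lib.helper4.SPUSTEP3B
import Cfsg.Agent.Lib.Helper20.SPUSETUP
import Cfsg.Agent.Lib.Helper1.SPUSTRICT
import Cfsg.Agent.Lib.helper2.SPUMAINcore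

set_option autoImplicit false
set_option linter.unusedVariables false
set_option linter.unusedSectionVars false

/-!
# Project SPU, piece MAIN (helper2) : `main` verbatim, from `setup` (helper20), `strict` (helper1) and the assembly
`spumain_asm` (= the statement `core`; own copy of the assembly of `js_conj`, `inC_conj`, `lemA`, `step1`, `exz`, `step2`,
`step3a`, `step3b`, `sp_gen`, so that MAIN does not wait for the CORE row).
-/

namespace Cfsg.Agent.Lib.Lead.SPU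

open Matrix Cfsg.Agent.S5646 Cfsg.Agent.S5647 Cfsg.Agent.Lib.Helper28.SpPair

variable {m : ℕ} {F : Type*} [Field F] {j j1 : Matrix (Fin m ⊕ Fin m) (Fin m ⊕ Fin m) F} {c0 : F}
  {M : Subgroup (Matrix.GeneralLinearGroup (Fin m ⊕ Fin m) F)}

/-- own copy of the assembly `core` (fallback) -/
theorem spumain_asm [Fintype F] (hm : 7 ≤ m) (hJ : JS j c0) (hM : M ≤ Cfsg.spGL m F)
    (hC : ∀ g, InC j g → g ∈ M) (g : Matrix.GeneralLinearGroup (Fin m ⊕ Fin m) F) (hg : g ∈ M)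
    (hg1 : ¬ ((g : Matrix (Fin m ⊕ Fin m) (Fin m ⊕ Fin m) F) * j = j * (g : Matrix (Fin m ⊕ Fin m) (Fin m ⊕ Fin m) F)))
    (hg2 : ¬ ((g : Matrix (Fin m ⊕ Fin m) (Fin m ⊕ Fin m) F) * j = -(j * (g : Matrix (Fin m ⊕ Fin m) (Fin m ⊕ Fin m) F)))) :
    Cfsg.spGL m F ≤ M := by
  have hgS := hM hg
  have hJ1 := js_conj hJ g hgS
  set j1 : Matrix (Fin m ⊕ Fin m) (Fin m ⊕ Fin m) F := (g : Matrix (Fin m ⊕ Fin m) (Fin m ⊕ Fin m) F) * j *
      ((g⁻¹ : Matrix.GeneralLinearGroup (Fin m ⊕ Fin m) F) : Matrix (Fin m ⊕ Fin m) (Fin m ⊕ Fin m) F) with hj1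
  have hginv : ((g⁻¹ : Matrix.GeneralLinearGroup (Fin m ⊕ Fin m) F) : Matrix (Fin m ⊕ Fin m) (Fin m ⊕ Fin m) F) *
      (g : Matrix (Fin m ⊕ Fin m) (Fin m ⊕ Fin m) F) = 1 := by
    rw [← Units.val_mul, inv_mul_cancel, Units.val_one]
  have hj1g : j1 * (g : Matrix (Fin m ⊕ Fin m) (Fin m ⊕ Fin m) F) =
      (g : Matrix (Fin m ⊕ Fin m) (Fin m ⊕ Fin m) F) * j := by
    rw [hj1, Matrix.mul_assoc, hginv, Matrix.mul_one]
  have hC1 : ∀ g', InC j1 g' → g' ∈ M := by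
    intro g' hg'
    have h1 := hC _ (inC_conj g hgS g' hg')
    have h2 : g' = g * (g⁻¹ * g' * g) * g⁻¹ := by group
    rw [h2]
    exact M.mul_mem (M.mul_mem hg h1) (M.inv_mem hg)
  have hne : j1 ≠ j := by
    intro h
    apply hg1
    rw [← hj1g, h]
  have hne' : j1 ≠ -j := by
    intro h
    apply hg2
    rw [← hj1g, h, Matrix.neg_mul]
  obtain ⟨p, hp1, hp⟩ := lemA hm hJ hJ1 hne hne'
  obtain ⟨u0, v0, huv, hu, hv, hSR⟩ := step1 hm hJ hJ1 hM hC hC1 p hp1 hp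
  obtain ⟨z, hz, hzu, hzv⟩ := exz hm hJ u0 v0 hu hv
  have hX : XX M u0 := step2 hJ hM hC u0 v0 z huv hSR hz hzu hzv
  have hall := step3b hJ hM (step3a hm hJ hM hC u0 hu hX)
  exact sp_gen M (fun v c g hg => hall v c g hg)

/-- MAIN [M] : S5665 from `setup`, `strict`, `core`. -/
theorem main [Fintype F] (hm : 7 ≤ m) (hodd : Odd (Fintype.card F))
    (K : Subalgebra F (Matrix (Fin m ⊕ Fin m) (Fin m ⊕ Fin m) F))
    (hK : Cfsg.Geo.IsFieldSubalgebra 2 K)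
    (hac : Cfsg.Geo.IsAdjointClosedFor (Cfsg.sympForm m F) K)
    (hnsa : ¬ Cfsg.Geo.IsSelfAdjointFor (Cfsg.sympForm m F) K) :
    Cfsg.Geo.IsMaximalIn (Cfsg.spGL m F) (Cfsg.Geo.subalgebraNormalizer K ⊓ Cfsg.spGL m F) := by
  obtain ⟨j, c0, hJ, hN⟩ := setup hodd K hK hac hnsa
  exact spumain_core K j hN (strict (by omega) hJ)
    (fun M hM hC g hg h1 h2 => spumain_asm hm hJ hM hC g hg h1 h2)

end Cfsg.Agent.Lib.Lead.SPU
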