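import Mathlib
import Cfsg.Prelude.Def_GeometricClasses
import Cfsg.Agent.Lib.Lead.SPU.Defs

set_option autoImplicit false
set_option linter.unusedVariables false
set_option linter.unusedSectionVars false

/-!
# Project SPU, piece MAIN (helper2) : the core, with the conclusions of `setup`, `strict`, `core` taken as hypotheses.
-/

namespace Cfsg.Agent.Lib.Lead.SPU

open Matrix Cfsg.Agent.S5646 Cfsg.Agent.S5647 Cfsg.Agent.Lib.Helper28.SpPair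

variable {m : ℕ} {F : Type*} [Field F] {j j1 : Matrix (Fin m ⊕ Fin m) (Fin m ⊕ Fin m) F} {c0 : F}
  {M : Subgroup (Matrix.GeneralLinearGroup (Fin m ⊕ Fin m) F)}

theorem spumain_core
    (K : Subalgebra F (Matrix (Fin m ⊕ Fin m) (Fin m ⊕ Fin m) F))
    (j : Matrix (Fin m ⊕ Fin m) (Fin m ⊕ Fin m) F)
    (hN : ∀ g : Matrix.GeneralLinearGroup (Fin m ⊕ Fin m) F,
        g ∈ Cfsg.Geo.subalgebraNormalizer K ↔
          ((g : Matrix (Fin m ⊕ Fin m) (Fin m ⊕ Fin m) F) * j = j * (g : Matrix (Fin m ⊕ Fin m) (Fin m ⊕ Fin m) F) ∨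
           (g : Matrix (Fin m ⊕ Fin m) (Fin m ⊕ Fin m) F) * j = -(j * (g : Matrix (Fin m ⊕ Fin m) (Fin m ⊕ Fin m) F))))
    (hstr : ∃ g : Matrix.GeneralLinearGroup (Fin m ⊕ Fin m) F, g ∈ Cfsg.spGL m F ∧
      ¬ ((g : Matrix (Fin m ⊕ Fin m) (Fin m ⊕ Fin m) F) * j = j * (g : Matrix (Fin m ⊕ Fin m) (Fin m ⊕ Fin m) F)) ∧
      ¬ ((g : Matrix (Fin m ⊕ Fin m) (Fin m ⊕ Fin m) F) * j = -(j * (g : Matrix (Fin m ⊕ Fin m) (Fin m ⊕ Fin m) F))))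
    (hcore : ∀ M : Subgroup (Matrix.GeneralLinearGroup (Fin m ⊕ Fin m) F), M ≤ Cfsg.spGL m F →
      (∀ g, InC j g → g ∈ M) → ∀ g : Matrix.GeneralLinearGroup (Fin m ⊕ Fin m) F, g ∈ M →
      ¬ ((g : Matrix (Fin m ⊕ Fin m) (Fin m ⊕ Fin m) F) * j = j * (g : Matrix (Fin m ⊕ Fin m) (Fin m ⊕ Fin m) F)) →
      ¬ ((g : Matrix (Fin m ⊕ Fin m) (Fin m ⊕ Fin m) F) * j = -(j * (g : Matrix (Fin m ⊕ Fin m) (Fin m ⊕ Fin m) F))) →
      Cfsg.spGL m F ≤ M) :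
    Cfsg.Geo.IsMaximalIn (Cfsg.spGL m F) (Cfsg.Geo.subalgebraNormalizer K ⊓ Cfsg.spGL m F) := by
  refine ⟨?_, ?_⟩
  · refine lt_of_le_of_ne inf_le_right ?_
    intro heq
    obtain ⟨g, hg, h1, h2⟩ := hstr
    have hgH : g ∈ Cfsg.Geo.subalgebraNormalizer K ⊓ Cfsg.spGL m F := by rw [heq]; exact hg
    rcases (hN g).1 hgH.1 with h | h
    · exact h1 h
    · exact h2 h
  · intro M hHM hMS
    by_cases hMH : M ≤ Cfsg.Geo.subalgebraNormalizer K ⊓ Cfsg.spGL m F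
    · exact Or.inl (le_antisymm hMH hHM)
    · right
      obtain ⟨g, hgM, hgH⟩ := SetLike.not_le_iff_exists.1 hMH
      have hgN : g ∉ Cfsg.Geo.subalgebraNormalizer K := fun h => hgH ⟨h, hMS hgM⟩
      have h1 : ¬ ((g : Matrix (Fin m ⊕ Fin m) (Fin m ⊕ Fin m) F) * j =
          j * (g : Matrix (Fin m ⊕ Fin m) (Fin m ⊕ Fin m) F)) := fun h => hgN ((hN g).2 (Or.inl h))
      have h2 : ¬ ((g : Matrix (Fin m ⊕ Fin m) (Fin m ⊕ Fin m) F) * j =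
          -(j * (g : Matrix (Fin m ⊕ Fin m) (Fin m ⊕ Fin m) F))) := fun h => hgN ((hN g).2 (Or.inr h))
      have hC : ∀ g', InC j g' → g' ∈ M := fun g' hg' =>
        hHM ⟨(hN g').2 (Or.inl hg'.2), hg'.1⟩
      exact le_antisymm hMS (hcore M hMS hC g hgM h1 h2)

end Cfsg.Agent.Lib.Lead.SPU
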