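import Mathlib
import Cfsg.Agent.Lib.helper2.STUV6core
import Cfsg.Agent.Lib.Helper12.STUV5

/-!
# STU row V6 (`cj_wl_al`), verbatim: wrapper of `stuv6_core` on V5 `cj_wl_nal` (Helper12.STUV5).  (helper2)
-/

set_option autoImplicit false

namespace Cfsg.Agent.Lib.Helper27.STU

open Cfsg.Agent.Lib.helper15.St2 Cfsg.Agent.Lib.helper3.STC

namespace SysU

variable {F : Type*} [Field F] [StarRing F] {od : Prop} {ι : Type*} {G : Type*} [Group G] (S : SysU F od ι G)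

/-- V6 -/
theorem cj_wl_al {a l : ι ⊕ ι} (hla : l ≠ a) (hla' : l ≠ ng a) {ξ : Lam F od} (hc : ξ.c ≠ 0) (t : F) :
    cj (S.wl a ξ) (S.xs a l t) = S.xs (ng a) l ((star ξ.c)⁻¹ * t) :=
  S.stuv6_core (fun hla hla' _ hc t => S.cj_wl_nal hla hla' hc t) hla hla' hc t

end SysU

end Cfsg.Agent.Lib.Helper27.STU
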