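import Mathlib
import Cfsg.Agent.Lib.helper2.SU5Z3core
import Cfsg.Agent.Lib.Helper16.SU5Z0
import Cfsg.Agent.Lib.Helper21.SU5Z1core
import Cfsg.Agent.Lib.Helper21.SU5Z2

/-!
# Project SU5, row Z3 (`model_commLU`), verbatim: wrapper of `su5z3_core` on Z0 `wu_eq_huU` (Helper16.SU5Z0) + `su5z1_core` (Helper21.SU5Z1core, = the statement of Z1)
+ Z2 `match_rootsU` (Helper21.SU5Z2).  helper2.
-/

set_option autoImplicit false

namespace Cfsg.Agent.Lib.Helper19.SU5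

open Cfsg.Agent.Lib.helper17.SLP Cfsg.Agent.Lib.helper3.SP4 Cfsg.Agent.Lib.Helper22.SU4
open Cfsg.Agent.Lib.Helper27.STU (Lam XpM XmM XpS XmS SUm XpU XmU SysU)
open Cfsg.Agent.Lib.helper3.STC (ng sws)
open Cfsg.Agent.Lib.helper3.SU5 (Dat Tab5 Pre)

universe u v w

section Z

variable {F : Type u} {K : Type u} [Field F] [Field K] [StarRing F] [Fintype F] [Fintype K] {D : Tw F K}

variable {G₀ : Type v} [Group G₀] (S : SysU F True (Fin 2) G₀)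

/-- Z3 -/
theorem model_commLU (hFK : Fintype.card F = Fintype.card K ^ 2) (P : RO D)
    (ψa : Matrix.SpecialLinearGroup (Fin 2) F →* G₀) (ψb : ↥(SUm F True) →* G₀) (M : MatchU S ψa ψb) :
    cm (rx ψa 1) (rx (phiL P ψb) 1) = xcU P ψa ψb 1 * xDU P ψa ψb 1 ∧
      cm (rx ψa 1) (xcU P ψa ψb 1) = xDU P ψa ψb 1 ^ 2 ∧
      cm (rx ψa 1) (xcU P ψa ψb (P.ζ : F)) = xDU P ψa ψb (D.tr (P.ζ : F)) ∧
      Commute (rx ψa 1) (xDU P ψa ψb 1) ∧ Commute (rx (phiL P ψb) 1) (xDU P ψa ψb 1) :=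
  su5z3_core S P ψa ψb (su5z1_core S P (fun η r h => wu_eq_huU hFK P η r h) ψa ψb M)
    (match_rootsU S hFK P ψa ψb M)

end Z

end Cfsg.Agent.Lib.Helper19.SU5
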