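import Mathlib
import Cfsg.Agent.Lib.helper3.T2E.Defs3
import Cfsg.Agent.Lib.helper8.ChevTwE6H16

/-!
# T2E (S2108), row L4 `long_lift44`: CORE (the cited rows L1 L2 L3 S0 D13c D9 D6 as hypotheses).  helper2.
-/

set_option autoImplicit false

namespace Cfsg.Agent.Lib.helper3.T2E

open Cfsg.Lie Cfsg.Lie.ChevalleyDatum Matrix
open Cfsg.Agent.Lib.helper8 Cfsg.Agent.Lib.Helper10.TEM Cfsg.Agent.Lib.helper7.Ce
  Cfsg.Agent.Lib.helper15.St2

universe u

variable {K : Type u} [Field K] {q : ℕ} {f : K ≃+* K} {Γ : Type u} [Group Γ]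
  {π : Γ →* ↥(twistedE6 K q)}

theorem t2el4h2_pow_add (hF : Frob q f) (a b : K) : (a + b) ^ q = a ^ q + b ^ q := by
  rw [← hF.pow, ← hF.pow, ← hF.pow, map_add]

theorem t2el4h2_pow_sub (hF : Frob q f) (a b : K) : (a - b) ^ q = a ^ q - b ^ q := by
  rw [← hF.pow, ← hF.pow, ← hF.pow, map_sub]

theorem t2el4h2_eps_pow (hF : Frob q f) {ε : K} (hε : ε = 1 ∨ ε = -1) : ε ^ q = ε := by
  rcases hε with rfl | rfl
  · exact one_pow q
  · exact hF.neg

theorem t2el4h2_eps_sq {ε : K} (hε : ε = 1 ∨ ε = -1) : ε * ε = 1 := by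
  rcases hε with rfl | rfl <;> simp

theorem t2el4h2_core (hF : Frob q f) {L42 L40 : K → Γ} (h42 : IsRootLift q π 42 L42)
    (h40 : IsRootLift q π 40 L40)
    (hL1 : (∀ s t u, cm (L42 (s + t)) (L40 u) = cm (L42 s) (L40 u) * cm (L42 t) (L40 u)) ∧
      (∀ s t u, cm (L42 s) (L40 (t + u)) = cm (L42 s) (L40 t) * cm (L42 s) (L40 u)))
    (hL2 : ∀ lam : K, lam ≠ 0 → ∀ t u : K,
      cm (L42 (lam * t)) (L40 (lam⁻¹ * u)) = cm (L42 t) (L40 u))
    (hL3 : ∀ t u : K, t * u + (t * u) ^ q = 0 → cm (L42 t) (L40 u) = 1)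
    (hS0 : ∀ v : K, v ^ q = v → ∃ w : K, w + w ^ q = v)
    (hD13c : ∃ ε : K, (ε = 1 ∨ ε = -1) ∧
      ∀ t u : K, cm (XS q 42 t) (XS q 40 u) = X 44 (ε * (t * u + (t * u) ^ q)))
    (hD9 : ∀ h : GG K, h ∈ chevE6.diagonalSubgroup K →
      h8chi chevE6 hB h 44 = h8chi chevE6 hB h 42 * h8chi chevE6 hB h 40)
    (hD6 : ∀ h : GG K, h ∈ T1 K q → (h8chi chevE6 hB h 44) ^ q = h8chi chevE6 hB h 44) :
    ∃ L44 : K → Γ, IsRootLift q π 44 L44 ∧ ∃ ε : K, (ε = 1 ∨ ε = -1) ∧
      ∀ t u, cm (L42 t) (L40 u) = L44 (ε * (t * u + (t * u) ^ q)) := by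
  classical
  obtain ⟨ε, hε, hcomm⟩ := hD13c
  have hεq : ε ^ q = ε := t2el4h2_eps_pow hF hε
  have hεε : ε * ε = 1 := t2el4h2_eps_sq hε
  have s42 : h8sE6 42 ≠ 42 := by decide
  have s40 : h8sE6 40 ≠ 40 := by decide
  have s44 : h8sE6 44 = 44 := by decide
  have a42 : ∀ t : K, Adm q 42 t := fun t h => absurd h s42
  have a40 : ∀ t : K, Adm q 40 t := fun t h => absurd h s40
  have a44 : ∀ t : K, Adm q 44 t ↔ t ^ q = t := fun t => ⟨fun h => h s44, fun h _ => h⟩
  -- `L42 0 = 1`, `L40 0 = 1`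
  have z42 : L42 0 = 1 := by
    have := h42.add 0 0 (a42 0) (a42 0)
    rw [add_zero] at this
    exact (mul_eq_left).1 this.symm
  have z40 : L40 0 = 1 := by
    have := h40.add 0 0 (a40 0) (a40 0)
    rw [add_zero] at this
    exact (mul_eq_left).1 this.symm
  -- everything through `cm (L42 1) (L40 (t * u))`
  have hnorm : ∀ t u : K, cm (L42 t) (L40 u) = cm (L42 1) (L40 (t * u)) := by
    intro t u
    by_cases ht : t = 0
    · subst ht
      rw [z42, zero_mul, z40]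
      unfold cm; group
    · have := hL2 t ht 1 (t * u)
      rw [mul_one, inv_mul_cancel_left₀ ht] at this
      exact this
  -- equal traces give equal commutators
  have key : ∀ a b : K, a + a ^ q = b + b ^ q → cm (L42 1) (L40 a) = cm (L42 1) (L40 b) := by
    intro a b hab
    have h0 : 1 * (a - b) + (1 * (a - b)) ^ q = 0 := by
      rw [one_mul, t2el4h2_pow_sub hF]
      linear_combination hab
    have h1 := hL3 1 (a - b) h0
    have h2 := hL1.2 1 b (a - b)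
    rw [h1, mul_one] at h2
    rw [← h2]
    congr 2
    ring
  -- the choice of `w`
  have hex : ∀ v : K, ∃ w : K, v ^ q = v → w + w ^ q = ε * v := by
    intro v
    by_cases hv : v ^ q = v
    · obtain ⟨w, hw⟩ := hS0 (ε * v) (by rw [mul_pow, hεq, hv])
      exact ⟨w, fun _ => hw⟩
    · exact ⟨0, fun h => absurd h hv⟩
  choose W hW using hex
  refine ⟨fun v => if v ^ q = v then cm (L42 1) (L40 (W v)) else 1, ⟨?_, ?_, ?_⟩, ε, hε, ?_⟩
  · -- map
    intro v hv
    have hv' : v ^ q = v := (a44 v).1 hv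
    simp only [if_pos hv']
    have e1 : pm π (cm (L42 1) (L40 (W v))) = cm (pm π (L42 1)) (pm π (L40 (W v))) :=
      map_cm (pm π) _ _
    rw [e1, h42.map 1 (a42 1), h40.map (W v) (a40 _)]
    unfold XT
    rw [if_neg s42, if_neg s40, if_pos s44, hcomm, one_mul, hW v hv', ← mul_assoc, hεε, one_mul]
  · -- add
    intro s t hs ht
    have hs' : s ^ q = s := (a44 s).1 hs
    have ht' : t ^ q = t := (a44 t).1 ht
    have hst : (s + t) ^ q = s + t := by rw [t2el4h2_pow_add hF, hs', ht']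
    simp only [if_pos hs', if_pos ht', if_pos hst]
    rw [← hL1.2]
    apply key
    rw [hW _ hst, t2el4h2_pow_add hF]
    have e1 := hW s hs'
    have e2 := hW t ht'
    linear_combination -(e1 + e2)
  · -- tor
    intro γ hγ v hv
    have hv' : v ^ q = v := (a44 v).1 hv
    have hT1 : pm π γ ∈ T1 K q := ⟨hγ, (π γ).2⟩
    have hχq := hD6 (pm π γ) hT1
    have hχv : (h8chi chevE6 hB (pm π γ) 44 * v) ^ q = h8chi chevE6 hB (pm π γ) 44 * v := by
      rw [mul_pow, hχq, hv']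
    simp only [if_pos hv', if_pos hχv]
    have e1 : γ * cm (L42 1) (L40 (W v)) * γ⁻¹ =
        cm (γ * L42 1 * γ⁻¹) (γ * L40 (W v) * γ⁻¹) := by
      unfold cm; group
    rw [e1, h42.tor γ hγ 1 (a42 1), h40.tor γ hγ (W v) (a40 _), hnorm]
    apply key
    rw [hW _ hχv, mul_one, ← mul_assoc, ← hD9 (pm π γ) hγ, mul_pow, hχq]
    have e2 := hW v hv'
    linear_combination (h8chi chevE6 hB (pm π γ) 44) * e2
  · -- the formula
    intro t u
    have hv : (ε * (t * u + (t * u) ^ q)) ^ q = ε * (t * u + (t * u) ^ q) := by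
      rw [mul_pow, hεq, t2el4h2_pow_add hF, ← hF.pow ((t * u) ^ q), ← hF.pow (t * u), hF.inv,
        hF.pow]
      ring
    simp only [if_pos hv]
    rw [hnorm]
    apply key
    rw [hW _ hv, ← mul_assoc, hεε, one_mul]

end Cfsg.Agent.Lib.helper3.T2E
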