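import Mathlib
import Cfsg.Agent.Lib.helper23.TD4V.Defs
import Cfsg.Agent.Lib.helper2.TD4VJCcore
import Cfsg.Agent.Lib.helper4.TD4VJ2

/-!
# Project TD4V (S2462), row JC (helper2): `XA_comm_X0 XmA_comm_X0 hJ3_comm_X0 XA_comm_X23`, verbatim.
-/

set_option autoImplicit false

namespace Cfsg.Agent.Lib.helper23.TD4V

open Cfsg.Lie Cfsg.Lie.ChevalleyDatum Matrix
open Cfsg.Agent.Lib.helper8 Cfsg.Agent.Lib.helper8.TD4
open Cfsg.Agent.Lib.helper23.P4V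

universe u v

section J

variable {K : Type u} [Field K]

theorem XA_comm_X0 (s1 s2 s3 c : K) : XA s1 s2 s3 * X 0 c = X 0 c * XA s1 s2 s3 :=
  (td4vjc_core X_comm hh_comm).1 s1 s2 s3 c

theorem XmA_comm_X0 (s1 s2 s3 c : K) : XmA s1 s2 s3 * X 0 c = X 0 c * XmA s1 s2 s3 :=
  (td4vjc_core X_comm hh_comm).2.1 s1 s2 s3 c

theorem hJ3_comm_X0 (d1 d2 d3 c : K) : hJ3 d1 d2 d3 * X 0 c = X 0 c * hJ3 d1 d2 d3 :=
  (td4vjc_core X_comm hh_comm).2.2.1 d1 d2 d3 c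

theorem XA_comm_X23 (s1 s2 s3 c : K) : XA s1 s2 s3 * X 23 c = X 23 c * XA s1 s2 s3 :=
  (td4vjc_core X_comm hh_comm).2.2.2 s1 s2 s3 c

end J

end Cfsg.Agent.Lib.helper23.TD4V
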