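import Mathlib
import Cfsg.Agent.Lib.helper8.TDM.Defs
import Cfsg.Agent.Lib.helper23.TD4VComm0

/-!
# Project TDM (designer helper8), row I2 (`X_add X_zero tw_zero`), verbatim.  helper2.
-/

set_option autoImplicit false

namespace Cfsg.Agent.Lib.helper8.TDM

open Cfsg.Lie Cfsg.Lie.ChevalleyDatum Matrix
open Cfsg.Agent.Lib.helper8 Cfsg.Agent.Lib.helper8.TD4
open Cfsg.Agent.Lib.helper23.TD4V

universe u

section I

variable {K : Type u} [Field K] [Fintype K] (q : ℕ)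

omit [Fintype K] in
/-- `X r t = 1` for an index out of range -/
theorem tdmi2_X_out (r : ℕ) (hr : ¬ r < 24) (t : K) : (X r t : GG K) = 1 := by
  apply Units.ext
  show chevD4.x K r t = 1
  unfold ChevalleyDatum.x
  rw [dif_neg]
  exact hr

omit [Fintype K] in
theorem tdmi2_X_zero (r : ℕ) : (X r 0 : GG K) = 1 :=
  h8xU_zero chevD4 hB r

omit [Fintype K] in
theorem tdmi2_X_add (r : ℕ) (s t : K) : (X r (s + t) : GG K) = X r s * X r t := by
  by_cases hr : r < 24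
  · exact (td4vc_add r hr s t).symm
  · rw [tdmi2_X_out r hr, tdmi2_X_out r hr, tdmi2_X_out r hr, mul_one]

/-- **I2** [S] (all three).  `h8xU_add`, `h8xU_zero` (helper8; `td4vc_add` in helper23.TD4VComm0); `zero_pow` (`q ≠ 0`, `q ^ 2 ≠ 0` from `hq.pos`), `neg_zero`. -/
theorem X_add (r : ℕ) (s t : K) : (X r (s + t) : GG K) = X r s * X r t :=
  tdmi2_X_add r s t

theorem X_zero (r : ℕ) : (X r 0 : GG K) = 1 :=
  tdmi2_X_zero r

theorem tw_zero (hq : IsPrimePow q) : Xa q (0 : K) = 1 ∧ Xab q (0 : K) = 1 ∧ X2ab q (0 : K) = 1 ∧ Xma q (0 : K) = 1 := by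
  have hq0 : q ≠ 0 := hq.pos.ne'
  have hq2 : q ^ 2 ≠ 0 := pow_ne_zero 2 hq0
  refine ⟨?_, ?_, ?_, ?_⟩
  · unfold Xa XA
    rw [zero_pow hq0, zero_pow hq2, tdmi2_X_zero, tdmi2_X_zero, tdmi2_X_zero, mul_one, mul_one]
  · unfold Xab XAB
    rw [zero_pow hq0, zero_pow hq2, neg_zero, tdmi2_X_zero, tdmi2_X_zero, tdmi2_X_zero, mul_one, mul_one]
  · unfold X2ab X2AB
    rw [zero_pow hq0, zero_pow hq2, neg_zero, tdmi2_X_zero, tdmi2_X_zero, tdmi2_X_zero, mul_one, mul_one]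
  · unfold Xma XmA
    rw [zero_pow hq0, zero_pow hq2, tdmi2_X_zero, tdmi2_X_zero, tdmi2_X_zero, mul_one, mul_one]

end I

end Cfsg.Agent.Lib.helper8.TDM
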