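import Cfsg.Agent.Lib.helper2.TOG4core
import Cfsg.Agent.Lib.helper4.TOG3core
import Cfsg.Agent.Lib.Helper18.TOSGALGA
import Cfsg.Agent.Lib.Helper13.TOSGALGB
import Cfsg.Agent.Lib.Helper13.TOSGALGC
import Cfsg.Agent.Lib.helper8.TOG1
import Cfsg.Agent.Lib.helper6.TOSYMP1
import Cfsg.Agent.Lib.Helper24.TOND

/-!
# Project TO (S5704), piece G4: `sgAll_of_sgA` (verbatim)

`tog4_core` fed with the landed pieces SGALGA (helper18), SGALGB/C (helper13), ND (helper24),
G1 (helper8), SYMP1 (helper6) and the core of G3 (helper4, `tog3_core`, with the bundle `tog2_Hyp`).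
-/

set_option autoImplicit false

namespace Cfsg.Agent.Lib.helper7.TO

open Matrix Cfsg.Agent.Lib.helper7.TP Cfsg.Agent.Lib.Helper28.SympAbs
open scoped Kronecker

variable {a b : ℕ} {F : Type*} [Field F]

/-- the bundle of hypotheses of helper4's `tog2_core` / `tog3_core`, from the landed pieces. -/
theorem tog4_hyp (C : Ctx a b F) (ha : 2 ≤ a) (hb : 6 ≤ b)
    (M : Subgroup (Matrix.GeneralLinearGroup (Fin a × Fin b) F)) (hT : C.T1 ≤ M) (h : C.SgA M) :
    tog2_Hyp C M :=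
  ⟨sg_ex C, sgq_mul C, sg_comm C, isSgV_iff_isSgQ C,
    fun u w z c hwz t ht => sgA_all C ha (by omega) M hT h u w z c hwz t ht,
    fun w w' => exists_hyp_perp2 C.hf₂ (by omega) w w'⟩

/-- the statement of `sgQ_pure` (G3), under my prefix (the verbatim name stays with helper4). -/
theorem tog4_sgQ_pure (C : Ctx a b F) (ha : 2 ≤ a) (hb : 6 ≤ b)
    (M : Subgroup (Matrix.GeneralLinearGroup (Fin a × Fin b) F)) (hT : C.T1 ≤ M) (h : C.SgA M)
    (u : Fin a → F) (w : Fin b → F) (v : Fin a × Fin b → F) (hv : C.f (ten u w) v = 0)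
    (t : Matrix.GeneralLinearGroup (Fin a × Fin b) F) (ht : C.IsSgQ t (ten u w) v) : t ∈ M :=
  tog3_core C ha M (tog4_hyp C ha hb M hT h) u w v hv t ht

theorem sgAll_of_sgA (C : Ctx a b F) (ha : 2 ≤ a) (hb : 6 ≤ b)
    (M : Subgroup (Matrix.GeneralLinearGroup (Fin a × Fin b) F)) (hT : C.T1 ≤ M) (h : C.SgA M) :
    C.SgAll M :=
  tog4_core C M (fun t p v c ht hc => isSgV_eq_one C t p v c ht hc) (fun X hX => f_nondeg C X hX)
    (fun p v hp hpv => sgq_ex C p v hp hpv)
    (fun u w v hv t ht => tog4_sgQ_pure C ha hb M hT h u w v hv t ht)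
    (fun k t hk p v c ht => sg_conj C k t hk p v c ht)
    (fun t p v c hv => isSgV_iff_isSgQ C t p v c hv)

end Cfsg.Agent.Lib.helper7.TO
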