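import Cfsg.Agent.Lib.helper7.TO.Basic

/-!
# Project TO (S5704, leader helper7), piece G4 (helper2): the core `tog4_core`

`sgAll_of_sgA` with the statements of `isSgV_eq_one` (SGALG8), `f_nondeg` (ND), `sgq_ex` (SGALG2), `sgQ_pure` (G3, for the given `M`),
`sg_conj` (SGALG4) and `isSgV_iff_isSgQ` (SGALG6) as hypotheses.
-/

set_option autoImplicit false

namespace Cfsg.Agent.Lib.helper7.TO

open Matrix Cfsg.Agent.Lib.helper7.TP Cfsg.Agent.Lib.Helper28.SympAbs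
open scoped Kronecker

variable {a b : ℕ} {F : Type*} [Field F]

/-- a partner for a non-zero vector of a symplectic space, with prescribed value. -/
theorem tog4_partner {n : ℕ} {f : (Fin n → F) → (Fin n → F) → F}
    (hf : Cfsg.Geo.IsSymplecticForm f) {u : Fin n → F} (hu : u ≠ 0) (κ : F) :
    ∃ u' : Fin n → F, f u u' = κ := by
  obtain ⟨x, hx⟩ := (hf.nondegenerate u hu).2
  refine ⟨(κ / f u x) • x, ?_⟩
  rw [hf.bilinear.smul_right, div_mul_cancel₀ _ hx]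

/-- a pure tensor not perpendicular to a given non-zero vector. -/
theorem tog4_pure (C : Ctx a b F)
    (hnd : ∀ X : Fin a × Fin b → F, X ≠ 0 → ∃ Y : Fin a × Fin b → F, C.f X Y ≠ 0)
    {P : Fin a × Fin b → F} (hP : P ≠ 0) :
    ∃ (u : Fin a → F) (w : Fin b → F), C.f (ten u w) P ≠ 0 := by
  obtain ⟨Y, hY⟩ := hnd P hP
  rw [eq_sum_ten Y, C.f_sum_right] at hY
  obtain ⟨i, _, hi⟩ := Finset.exists_ne_zero_of_sum_ne_zero hY
  exact ⟨Pi.single i 1, fun j => Y (i, j), by rw [C.f_symm]; exact hi⟩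

/-- **row G4, core**. -/
theorem tog4_core (C : Ctx a b F) (M : Subgroup (Matrix.GeneralLinearGroup (Fin a × Fin b) F))
    (hone : ∀ (t : Matrix.GeneralLinearGroup (Fin a × Fin b) F) (p v : Fin a × Fin b → F) (c : F),
      C.IsSgV t p v c → (c = 0 ∨ p = 0 ∨ ∃ l : F, v = l • p) → t = 1)
    (hnd : ∀ X : Fin a × Fin b → F, X ≠ 0 → ∃ Y : Fin a × Fin b → F, C.f X Y ≠ 0)
    (hsgq : ∀ p v : Fin a × Fin b → F, C.q p = 0 → C.f p v = 0 →
      ∃ t : Matrix.GeneralLinearGroup (Fin a × Fin b) F, t ∈ C.G ∧ C.IsSgQ t p v)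
    (hG3 : ∀ (u : Fin a → F) (w : Fin b → F) (v : Fin a × Fin b → F), C.f (ten u w) v = 0 →
      ∀ t : Matrix.GeneralLinearGroup (Fin a × Fin b) F, C.IsSgQ t (ten u w) v → t ∈ M)
    (hconj : ∀ (k t : Matrix.GeneralLinearGroup (Fin a × Fin b) F), k ∈ C.G →
      ∀ (p v : Fin a × Fin b → F) (c : F), C.IsSgV t p v c →
        C.IsSgV (k * t * k⁻¹) ((k : Matrix (Fin a × Fin b) (Fin a × Fin b) F) *ᵥ p)
          ((k : Matrix (Fin a × Fin b) (Fin a × Fin b) F) *ᵥ v) c)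
    (hiff : ∀ (t : Matrix.GeneralLinearGroup (Fin a × Fin b) F) (p v : Fin a × Fin b → F) (c : F),
      C.q v = 0 → (C.IsSgV t p v c ↔ C.IsSgQ t p (c • v))) :
    C.SgAll M := by
  intro t P v c hP hv hPv ht
  by_cases hP0 : P = 0
  · rw [hone t P v c ht (Or.inr (Or.inl hP0))]
    exact M.one_mem
  -- the two pure tensors
  obtain ⟨u₁, w₁, hκ⟩ := tog4_pure C hnd hP0
  set κ : F := C.f (ten u₁ w₁) P with hκdef
  have hu₁ : u₁ ≠ 0 := by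
    intro h0
    apply hκ
    rw [hκdef, h0, ten_zero_left, C.f_zero_left]
  have hw₁ : w₁ ≠ 0 := by
    intro h0
    apply hκ
    rw [hκdef, h0, ten_zero_right, C.f_zero_left]
  obtain ⟨u₂, hu₂⟩ := tog4_partner C.hf₁ hu₁ 1
  obtain ⟨w₂, hw₂⟩ := tog4_partner C.hf₂ hw₁ κ
  have h12 : C.f (ten u₁ w₁) (ten u₂ w₂) = κ := by rw [C.f_ten, hu₂, hw₂, one_mul]
  -- the element `m`
  set y : Fin a × Fin b → F := κ⁻¹ • (P - ten u₂ w₂) with hy
  have hp₁y : C.f (ten u₁ w₁) y = 0 := by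
    rw [hy, C.hf.smul_right, C.f_sub_right, h12, ← hκdef, sub_self, mul_zero]
  obtain ⟨m, hmG, hm⟩ := hsgq (ten u₁ w₁) y (C.q_ten u₁ w₁) hp₁y
  have hmM : m ∈ M := hG3 u₁ w₁ y hp₁y m hm
  have hfy : C.f y (ten u₂ w₂) = κ⁻¹ * C.f P (ten u₂ w₂) := by
    rw [hy, C.hf.smul_left, C.f_sub_left, C.f_ten_self, sub_zero]
  have hqy : C.q y = -(κ⁻¹ * κ⁻¹ * C.f P (ten u₂ w₂)) := by
    rw [hy, C.q_smul, C.q_sub, hP, C.q_ten]
    ring
  have hmp₂ : (m : Matrix (Fin a × Fin b) (Fin a × Fin b) F) *ᵥ ten u₂ w₂ = P := by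
    rw [hm (ten u₂ w₂), h12, hfy, hqy, hy]
    have hk : κ * κ⁻¹ = 1 := mul_inv_cancel₀ hκ
    have e1 : κ • κ⁻¹ • (P - ten u₂ w₂) = P - ten u₂ w₂ := by rw [smul_smul, hk, one_smul]
    have e2 : -(κ⁻¹ * κ⁻¹ * C.f P (ten u₂ w₂)) * κ = -(κ⁻¹ * C.f P (ten u₂ w₂)) := by
      have : κ⁻¹ * κ⁻¹ * C.f P (ten u₂ w₂) * κ = κ⁻¹ * C.f P (ten u₂ w₂) * (κ * κ⁻¹) := by ring
      rw [neg_mul, this, hk, mul_one]
    rw [e1, e2, neg_smul]
    abel
  -- conjugate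
  have hkG : m⁻¹ ∈ C.G := C.G.inv_mem hmG
  have hc := hconj m⁻¹ t hkG P v c ht
  have hkP : ((m⁻¹ : Matrix.GeneralLinearGroup (Fin a × Fin b) F) :
      Matrix (Fin a × Fin b) (Fin a × Fin b) F) *ᵥ P = ten u₂ w₂ := by
    rw [← hmp₂, Ctx.inv_mulVec_mulVec]
  rw [hkP, inv_inv] at hc
  set v' : Fin a × Fin b → F := ((m⁻¹ : Matrix.GeneralLinearGroup (Fin a × Fin b) F) :
      Matrix (Fin a × Fin b) (Fin a × Fin b) F) *ᵥ v with hv'
  have hqv' : C.q v' = 0 := by rw [hv', (C.mem_G _).mp hkG, hv]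
  have hfv' : C.f (ten u₂ w₂) v' = 0 := by
    rw [← hkP, hv', C.G_f hkG, hPv]
  have hQ := (hiff _ _ _ _ hqv').mp hc
  have ht' : m⁻¹ * t * m ∈ M :=
    hG3 u₂ w₂ (c • v') (by rw [C.hf.smul_right, hfv', mul_zero]) _ hQ
  have : t = m * (m⁻¹ * t * m) * m⁻¹ := by group
  rw [this]
  exact M.mul_mem (M.mul_mem hmM ht') (M.inv_mem hmM)

end Cfsg.Agent.Lib.helper7.TO
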