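import Cfsg.Agent.Lib.Helper21.TS.XA

/-!
# Project TS (S5666), piece LB: `lb_tv`

`1 + ζ ⊗ w w^* ∈ M`, `ζ ≠ 0` skew-adjoint, `w ≠ 0` singular ⟹ `M` contains a transvection `≠ 1`
with a pure centre: the product of the two commutators with `t_u(±1) ⊗ 1` is
`tvm JV (u ⊗ w) (-2 q)`, `q = f₁(u, ζ u) ≠ 0`.
-/

set_option autoImplicit false
set_option linter.unusedSectionVars false
set_option linter.unusedVariables false

namespace Cfsg.Agent.Lib.Helper21.TS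

open Matrix
open scoped Kronecker
open Cfsg.Agent.Lib.helper7.TP

variable {ι : Type*} [Fintype ι] [DecidableEq ι] {a b : ℕ} {F : Type*} [Field F]
  {J1 : Matrix (Fin a) (Fin a) F} {J2 : Matrix (Fin b) (Fin b) F}
  {M : Subgroup (Matrix.GeneralLinearGroup (Fin a × Fin b) F)}

/-- a non-zero skew-adjoint `ζ` (for an alternating non-degenerate `J`, `2 ≠ 0`) has some `u` with
`f(u, ζ u) ≠ 0`. -/
theorem tslb_ex_u {J ζ : Matrix ι ι F} (hJ : Jᵀ = -J) (two : (2 : F) ≠ 0) (hdet : J.det ≠ 0)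
    (hζ : SkewAdj J ζ) (hζ0 : ζ ≠ 0) : ∃ u : ι → F, bf J u (ζ *ᵥ u) ≠ 0 := by
  by_contra hcon
  push Not at hcon
  have hsk := (skewAdj_iff_bf J ζ).mp hζ
  have hsym : ∀ x y, bf J x (ζ *ᵥ y) = bf J y (ζ *ᵥ x) := by
    intro x y
    have h1 := hsk x y
    rw [bf_alt hJ (ζ *ᵥ x) y] at h1
    have := neg_injective h1
    exact this.symm
  have hzero : ∀ x y, bf J x (ζ *ᵥ y) = 0 := by
    intro x y
    have h := hcon (x + y)
    rw [Matrix.mulVec_add, bf_add_left, bf_add_right, bf_add_right, hcon x, hcon y, hsym y x] at h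
    have h2 : (2 : F) * bf J x (ζ *ᵥ y) = 0 := by linear_combination h
    rcases mul_eq_zero.mp h2 with h3 | h3
    · exact absurd h3 two
    · exact h3
  have hJζ : J * ζ = 0 := by
    apply bf_ext
    intro x y
    rw [← bf_mulVec_right, hzero]
    simp [bf]
  apply hζ0
  have hu : IsUnit J.det := isUnit_iff_ne_zero.mpr hdet
  calc ζ = J⁻¹ * (J * ζ) := by rw [← Matrix.mul_assoc, Matrix.nonsing_inv_mul J hu, Matrix.one_mul]
    _ = 0 := by rw [hJζ, Matrix.mul_zero]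

/-- `N ζ N = f(u, ζ u) N` for `N = opm J u u`. -/
theorem tslb_NzN (J ζ : Matrix ι ι F) (u : ι → F) :
    opm J u u * ζ * opm J u u = bf J u (ζ *ᵥ u) • opm J u u := by
  rw [Matrix.ext_iff_mulVec]
  intro x
  rw [← Matrix.mulVec_mulVec, ← Matrix.mulVec_mulVec, opm_mulVec, opm_mulVec, Matrix.mulVec_smul,
    bf_smul_right, Matrix.smul_mulVec, opm_mulVec, smul_smul, mul_comm]

/-- `t_u(c) ζ t_u(-c) = ζ + c (N ζ - ζ N) - c² q N`. -/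
theorem tslb_conj (J ζ : Matrix ι ι F) (u : ι → F) (c : F) :
    tvm J u c * ζ * tvm J u (-c) =
      ζ + c • (opm J u u * ζ - ζ * opm J u u) - (c * c * bf J u (ζ *ᵥ u)) • opm J u u := by
  have h := tslb_NzN J ζ u
  simp only [tvm, Matrix.add_mul, Matrix.mul_add, Matrix.one_mul, Matrix.mul_one, Matrix.smul_mul,
    Matrix.mul_smul, h]
  module

/-- the commutator of `1 + ζ ⊗ w w^*` with `t_u(c) ⊗ 1`. -/
theorem tslb_comm (C : Ctx J1 J2) (hT0 : T0 J1 J2 ≤ M) {ζ : Matrix (Fin a) (Fin a) F} {w : Fin b → F}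
    (hw0 : bf J2 w w = 0) (hin : InM M (XBm J2 ζ w)) (u : Fin a → F) (c : F) :
    InM M (XBm J2 (tvm J1 u c * ζ * tvm J1 u (-c) - ζ) w) := by
  have huu : bf J1 u u = 0 := bf_self_alt C.alt C.two u
  have hginv : InM M (XBm J2 (-ζ) w) :=
    hin.of_mul_eq_one (by rw [XBm_mul J2 w hw0, add_neg_cancel, XBm_zero])
  have hk : kronG (tvG J1 u huu c) (1 : Matrix.GeneralLinearGroup (Fin b) F) ∈ M :=
    hT0 (kronG_mem_T0 (tvG_mem_Iso C.alt u huu c) (Subgroup.one_mem _))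
  have h1 := hin.conj hk
  rw [XBm_conjA] at h1
  have h2 := h1.mul hginv
  rw [XBm_mul J2 w hw0] at h2
  have e : (((tvG J1 u huu c)⁻¹ : Matrix.GeneralLinearGroup (Fin a) F) : Matrix (Fin a) (Fin a) F) =
      tvm J1 u (-c) := rfl
  rw [e, tvG_coe, ← sub_eq_add_neg] at h2
  exact h2

/-- LB: the core, exhibiting the pure transvection. -/
theorem tslb_core (C : Ctx J1 J2) (hT0 : T0 J1 J2 ≤ M) {ζ : Matrix (Fin a) (Fin a) F} {w : Fin b → F}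
    (hζ : SkewAdj J1 ζ) (hζ0 : ζ ≠ 0) (hw0 : bf J2 w w = 0) (hin : InM M (XBm J2 ζ w)) :
    ∃ (u : Fin a → F) (c : F), u ≠ 0 ∧ c ≠ 0 ∧ InM M (tvm (JV J1 J2) (ten u w) c) := by
  obtain ⟨u, hq⟩ := tslb_ex_u C.alt C.two C.det1 hζ hζ0
  have hu0 : u ≠ 0 := by
    rintro rfl
    apply hq
    rw [bf_zero_left]
  refine ⟨u, -2 * bf J1 u (ζ *ᵥ u), hu0, mul_ne_zero (neg_ne_zero.mpr C.two) hq, ?_⟩
  have h1 := tslb_comm C hT0 hw0 hin u 1
  have h2 := tslb_comm C hT0 hw0 hin u (-1)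
  have h3 := h1.mul h2
  rw [XBm_mul J2 w hw0, tslb_conj, tslb_conj] at h3
  have e : ζ + (1 : F) • (opm J1 u u * ζ - ζ * opm J1 u u) - (1 * 1 * bf J1 u (ζ *ᵥ u)) • opm J1 u u - ζ +
      (ζ + (-1 : F) • (opm J1 u u * ζ - ζ * opm J1 u u) - (-1 * -1 * bf J1 u (ζ *ᵥ u)) • opm J1 u u - ζ) =
      (-2 * bf J1 u (ζ *ᵥ u)) • opm J1 u u := by
    module
  rw [e] at h3
  have e2 : XBm J2 ((-2 * bf J1 u (ζ *ᵥ u)) • opm J1 u u) w =
      tvm (JV J1 J2) (ten u w) (-2 * bf J1 u (ζ *ᵥ u)) := by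
    rw [XBm, tvm, Matrix.smul_kronecker, opm_kron]
  rw [e2] at h3
  exact h3

/-- LB [M-L]. the `B` side: `1 + ζ ⊗ w w^* ∈ M`, `ζ ≠ 0` skew-adjoint, `w ≠ 0` singular ⟹ a pure transvection in `M`.
(`(x,y) ↦ f₁(x, ζ y)` is symmetric and `≠ 0`, so some `u` has `q := f₁(u, ζ u) ≠ 0` (`2 ≠ 0`).  `τ_c = t_u(c)`, `N = opm J1 u u`, `N² = 0`:
`τ_c ζ τ_c⁻¹ - ζ = c (N ζ - ζ N) - c² q N`.  `k_c = kronG (tvG J1 u c) 1 ∈ T0`, `g = XBm J2 ζ w`; the matrices `1 + ξ ⊗ w w^*` multiply additively in `ξ`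
(`(w w^*)² = 0`); `(k_1 g k_1⁻¹ g⁻¹)(k_{-1} g k_{-1}⁻¹ g⁻¹) = 1 - 2 q N ⊗ w w^* = tvm JV (u ⊗ w) (-2 q)`.) -/
theorem lb_tv (C : Ctx J1 J2) (hT0 : T0 J1 J2 ≤ M) {ζ : Matrix (Fin a) (Fin a) F} {w : Fin b → F}
    (hζ : SkewAdj J1 ζ) (hζ0 : ζ ≠ 0) (hw : w ≠ 0) (hw0 : bf J2 w w = 0) (hin : InM M (XBm J2 ζ w)) :
    ¬ NTp J1 J2 M := by
  obtain ⟨u, c, hu, hc, h⟩ := tslb_core C hT0 hζ hζ0 hw0 hin
  intro hNT
  exact hNT u w c hu hw hc h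

end Cfsg.Agent.Lib.Helper21.TS
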