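import Mathlib
import Cfsg.Prelude.Def_Characters
import Cfsg.Agent.Lib.helper7.ProjExtCyclic

set_option autoImplicit false

namespace Cfsg.Agent.Lib.helper2

open Cfsg.Agent.Lib.helper7

section ct

variable {Γ : Type*} [Group Γ] (N : Subgroup Γ) [hN : N.Normal]
variable {V : Type*} [AddCommGroup V] [Module ℂ V]

/-- the map to implementer pairs -/
def ctF : Γ × (Module.End ℂ V)ˣ →* (Module.End ℂ V)ˣ × MulAut N :=
  (MonoidHom.snd Γ (Module.End ℂ V)ˣ).prod
    ((MulAut.conjNormal (H := N)).comp (MonoidHom.fst Γ (Module.End ℂ V)ˣ))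

/-- the determinant hom on units of the endomorphism ring -/
noncomputable def ctDetU : (Module.End ℂ V)ˣ →* ℂˣ :=
  Units.map (LinearMap.det : Module.End ℂ V →* ℂ)

/-- the determinant condition -/
noncomputable def ctDet : Γ × (Module.End ℂ V)ˣ →* ℂˣ :=
  (powMonoidHom (Nat.card N)).comp
    ((ctDetU (V := V)).comp (MonoidHom.snd Γ (Module.End ℂ V)ˣ))

variable (ρ : Representation ℂ N V)

/-- the central extension: pairs `(g, A)` with `A` implementing conjugation by `g` and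
`det A ^ |N| = 1` -/
noncomputable def ctE : Subgroup (Γ × (Module.End ℂ V)ˣ) :=
  (h7_implSubgroup ρ).comap (ctF N) ⊓ (ctDet (V := V) N).ker

theorem ct_mem (x : Γ × (Module.End ℂ V)ˣ) :
    x ∈ ctE N ρ ↔ h7_Implements ρ x.2 (MulAut.conjNormal x.1) ∧
      ctDetU x.2 ^ Nat.card N = 1 := by
  unfold ctE
  rw [Subgroup.mem_inf, Subgroup.mem_comap, MonoidHom.mem_ker]
  rfl

/-- projection to `Γ` -/
noncomputable def ctπ : ctE N ρ →* Γ :=
  (MonoidHom.fst Γ (Module.End ℂ V)ˣ).comp (ctE N ρ).subtype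

/-- the tautological representation -/
noncomputable def ctτ : Representation ℂ (ctE N ρ) V :=
  ((Units.coeHom (Module.End ℂ V)).comp (MonoidHom.snd Γ (Module.End ℂ V)ˣ)).comp
    (ctE N ρ).subtype

theorem ctπ_apply (x : ctE N ρ) : ctπ N ρ x = (x : Γ × (Module.End ℂ V)ˣ).1 := rfl

theorem ctτ_apply (x : ctE N ρ) :
    ctτ N ρ x = (((x : Γ × (Module.End ℂ V)ˣ).2 : (Module.End ℂ V)ˣ) : Module.End ℂ V) := rfl

theorem ct_det_sc [FiniteDimensional ℂ V] (c : ℂˣ) :
    ctDetU (h7_sc (V := V) c) = c ^ Module.finrank ℂ V := by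
  apply Units.ext
  simp only [ctDetU, h7_sc, Units.coe_map, MonoidHom.coe_coe, Units.val_pow_eq_pow_val]
  rw [Algebra.algebraMap_eq_smul_one, LinearMap.det_smul, map_one, mul_one]

omit hN in
theorem ct_implements_sc [FiniteDimensional ℂ V] {A : (Module.End ℂ V)ˣ} {φ : MulAut N}
    (h : h7_Implements ρ A φ) (c : ℂˣ) : h7_Implements ρ (h7_sc c * A) φ := by
  intro n
  rw [mul_inv_rev, ← h n]
  have h1 := h7_sc_comm c (A * ρ.asGroupHom n * A⁻¹)
  calc h7_sc c * A * ρ.asGroupHom n * (A⁻¹ * (h7_sc c)⁻¹)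
      = h7_sc c * (A * ρ.asGroupHom n * A⁻¹) * (h7_sc c)⁻¹ := by group
    _ = A * ρ.asGroupHom n * A⁻¹ := by rw [h1]; group

/-- the projection is surjective -/
theorem ct_surj [Finite Γ] [FiniteDimensional ℂ V] [ρ.IsIrreducible]
    (hinv : ∀ (g : Γ) (n : N), ρ.character (MulAut.conjNormal g n) = ρ.character n) :
    Function.Surjective (ctπ N ρ) := by
  classical
  haveI : Fintype Γ := Fintype.ofFinite Γ
  intro g
  obtain ⟨A, hA⟩ := h7_exists_implements N ρ hinv g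
  have hd : Module.finrank ℂ V ≠ 0 := Cfsg.Agent.Lib.Helper25.finrank_ne_zero_of_irr ρ
  obtain ⟨c, hc⟩ := IsAlgClosed.exists_pow_nat_eq (((ctDetU A)⁻¹ : ℂˣ) : ℂ)
    (Nat.pos_of_ne_zero hd)
  have hc0 : c ≠ 0 := by
    intro h0
    rw [h0, zero_pow hd] at hc
    exact (Units.ne_zero _) hc.symm
  have hcu : (Units.mk0 c hc0) ^ Module.finrank ℂ V = (ctDetU A)⁻¹ := by
    apply Units.ext
    rw [Units.val_pow_eq_pow_val, Units.val_mk0]
    exact hc
  have hmem : ((g, h7_sc (Units.mk0 c hc0) * A) : Γ × (Module.End ℂ V)ˣ) ∈ ctE N ρ := by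
    rw [ct_mem]
    refine ⟨ct_implements_sc N ρ hA _, ?_⟩
    show ctDetU (h7_sc (Units.mk0 c hc0) * A) ^ Nat.card N = 1
    rw [map_mul, ct_det_sc, hcu, inv_mul_cancel, one_pow]
  exact ⟨⟨_, hmem⟩, rfl⟩

/-- elements of the kernel are scalar -/
theorem ct_ker_scalar [FiniteDimensional ℂ V] [ρ.IsIrreducible] (x : ctE N ρ)
    (hx : ctπ N ρ x = 1) :
    ∃ c : ℂˣ, (x : Γ × (Module.End ℂ V)ˣ) = (1, h7_sc c) ∧
      c ^ (Module.finrank ℂ V * Nat.card N) = 1 := by
  have hmem := (ct_mem N ρ _).mp x.2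
  have hx1 : (x : Γ × (Module.End ℂ V)ˣ).1 = 1 := hx
  have himp := hmem.1
  rw [hx1, map_one] at himp
  have hcomm : ∀ n : N, (x : Γ × (Module.End ℂ V)ˣ).2 * ρ.asGroupHom n =
      ρ.asGroupHom n * (x : Γ × (Module.End ℂ V)ˣ).2 := by
    intro n
    have := himp n
    rw [MulAut.one_apply] at this
    exact mul_inv_eq_iff_eq_mul.mp this
  obtain ⟨c, hc⟩ := h7_schur_units ρ _ hcomm
  refine ⟨c, Prod.ext hx1 hc, ?_⟩
  have h2 := hmem.2
  rw [hc, ct_det_sc] at h2
  rw [pow_mul]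
  exact h2

/-- the kernel is central -/
theorem ct_ker_central [FiniteDimensional ℂ V] [ρ.IsIrreducible] (z : ctE N ρ)
    (hz : ctπ N ρ z = 1) (e : ctE N ρ) : z * e = e * z := by
  obtain ⟨c, hc, -⟩ := ct_ker_scalar N ρ z hz
  apply Subtype.ext
  rw [Subgroup.coe_mul, Subgroup.coe_mul, hc]
  apply Prod.ext
  · simp
  · simp only [Prod.snd_mul]
    exact h7_sc_comm c _

theorem ct_ker_le_center [FiniteDimensional ℂ V] [ρ.IsIrreducible] :
    (ctπ N ρ).ker ≤ Subgroup.center (ctE N ρ) := by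
  intro z hz
  rw [Subgroup.mem_center_iff]
  intro e
  exact (ct_ker_central N ρ z (MonoidHom.mem_ker.mp hz) e).symm

/-- the kernel is finite -/
theorem ct_ker_finite [Finite N] [FiniteDimensional ℂ V] [ρ.IsIrreducible] :
    Finite (ctπ N ρ).ker := by
  have hd : Module.finrank ℂ V ≠ 0 := Cfsg.Agent.Lib.Helper25.finrank_ne_zero_of_irr ρ
  have hk : Module.finrank ℂ V * Nat.card N ≠ 0 :=
    Nat.mul_ne_zero hd Nat.card_pos.ne'
  haveI : NeZero (Module.finrank ℂ V * Nat.card N) := ⟨hk⟩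
  have hfin : Finite (rootsOfUnity (Module.finrank ℂ V * Nat.card N) ℂ) := inferInstance
  let f : (ctπ N ρ).ker → rootsOfUnity (Module.finrank ℂ V * Nat.card N) ℂ := fun z =>
    ⟨Classical.choose (ct_ker_scalar N ρ z.1 (MonoidHom.mem_ker.mp z.2)), by
      rw [mem_rootsOfUnity]
      exact (Classical.choose_spec (ct_ker_scalar N ρ z.1 (MonoidHom.mem_ker.mp z.2))).2⟩
  have hf : Function.Injective f := by
    intro z w hzw
    have h1 := (Classical.choose_spec (ct_ker_scalar N ρ z.1 (MonoidHom.mem_ker.mp z.2))).1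
    have h2 := (Classical.choose_spec (ct_ker_scalar N ρ w.1 (MonoidHom.mem_ker.mp w.2))).1
    have h3 : Classical.choose (ct_ker_scalar N ρ z.1 (MonoidHom.mem_ker.mp z.2)) =
        Classical.choose (ct_ker_scalar N ρ w.1 (MonoidHom.mem_ker.mp w.2)) :=
      congrArg Subtype.val hzw
    apply Subtype.ext
    apply Subtype.ext
    rw [h1, h2, h3]
  exact Finite.of_injective f hf

/-- the extension group is finite -/
theorem ct_finite [Finite Γ] [FiniteDimensional ℂ V] [ρ.IsIrreducible] :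
    Finite (ctE N ρ) := by
  haveI := ct_ker_finite N ρ
  haveI : Finite ((ctE N ρ) ⧸ (ctπ N ρ).ker) :=
    Finite.of_equiv _ (QuotientGroup.quotientKerEquivRange (ctπ N ρ)).symm.toEquiv
  exact Finite.of_subgroup_quotient (ctπ N ρ).ker

/-- the scalar by which a kernel element acts -/
noncomputable def ctLamf [FiniteDimensional ℂ V] [ρ.IsIrreducible] (z : (ctπ N ρ).ker) : ℂˣ :=
  Classical.choose (ct_ker_scalar N ρ z.1 (MonoidHom.mem_ker.mp z.2))

theorem ctLamf_spec [FiniteDimensional ℂ V] [ρ.IsIrreducible] (z : (ctπ N ρ).ker) :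
    ((z : ctE N ρ) : Γ × (Module.End ℂ V)ˣ) = (1, h7_sc (ctLamf N ρ z)) :=
  (Classical.choose_spec (ct_ker_scalar N ρ z.1 (MonoidHom.mem_ker.mp z.2))).1

/-- the scalar character on the kernel -/
noncomputable def ctLam [FiniteDimensional ℂ V] [ρ.IsIrreducible] : (ctπ N ρ).ker →* ℂˣ :=
  MonoidHom.mk' (ctLamf N ρ) (by
    intro z w
    have hV : Nontrivial V := by
      have := Cfsg.Agent.Lib.Helper25.finrank_ne_zero_of_irr ρ
      exact Module.nontrivial_of_finrank_pos (R := ℂ) (Nat.pos_of_ne_zero this)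
    apply h7_sc_injective (V := V)
    have h1 := congrArg Prod.snd (ctLamf_spec N ρ (z * w))
    have h2 := congrArg Prod.snd (ctLamf_spec N ρ z)
    have h3 := congrArg Prod.snd (ctLamf_spec N ρ w)
    simp only at h1 h2 h3
    rw [map_mul, ← h1, ← h2, ← h3]
    rfl)

theorem ctLam_spec [FiniteDimensional ℂ V] [ρ.IsIrreducible] (z : (ctπ N ρ).ker) :
    ((z : ctE N ρ) : Γ × (Module.End ℂ V)ˣ) = (1, h7_sc (ctLam N ρ z)) :=
  ctLamf_spec N ρ z

theorem ctτ_ker [FiniteDimensional ℂ V] [ρ.IsIrreducible] (z : (ctπ N ρ).ker) :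
    ctτ N ρ (z : ctE N ρ) = ((ctLam N ρ z : ℂˣ) : ℂ) • (1 : Module.End ℂ V) := by
  rw [ctτ_apply, ctLam_spec N ρ z]
  simp only [h7_sc, Units.coe_map, MonoidHom.coe_coe]
  rw [Algebra.algebraMap_eq_smul_one]

/-- the embedding of `N` -/
noncomputable def ctι [Finite N] [FiniteDimensional ℂ V] : N →* ctE N ρ where
  toFun n := ⟨((n : Γ), ρ.asGroupHom n), by
    rw [ct_mem]
    refine ⟨?_, ?_⟩
    · show h7_Implements ρ (ρ.asGroupHom n) (MulAut.conjNormal (n : Γ))
      rw [MulAut.conjNormal_val]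
      exact h7_implements_rho ρ n
    · show ctDetU (ρ.asGroupHom n) ^ Nat.card N = 1
      rw [← map_pow, ← map_pow, pow_card_eq_one', map_one, map_one]⟩
  map_one' := by
    apply Subtype.ext
    simp
  map_mul' a b := by
    apply Subtype.ext
    simp

theorem ctι_coe [Finite N] [FiniteDimensional ℂ V] (n : N) :
    ((ctι N ρ n : ctE N ρ) : Γ × (Module.End ℂ V)ˣ) = ((n : Γ), ρ.asGroupHom n) := rfl

theorem ctπ_ι [Finite N] [FiniteDimensional ℂ V] (n : N) : ctπ N ρ (ctι N ρ n) = (n : Γ) := rfl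

theorem ctτ_ι [Finite N] [FiniteDimensional ℂ V] (n : N) : ctτ N ρ (ctι N ρ n) = ρ n := rfl

theorem ctι_injective [Finite N] [FiniteDimensional ℂ V] : Function.Injective (ctι N ρ) := by
  intro a b hab
  have := congrArg (ctπ N ρ) hab
  rw [ctπ_ι, ctπ_ι] at this
  exact Subtype.ext this

/-- conjugating `ι n` -/
theorem ct_conj_ι [Finite N] [FiniteDimensional ℂ V] (e : ctE N ρ) (n : N) :
    e * ctι N ρ n * e⁻¹ = ctι N ρ (MulAut.conjNormal (ctπ N ρ e) n) := by
  have hmem := ((ct_mem N ρ _).mp e.2).1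
  apply Subtype.ext
  rw [Subgroup.coe_mul, Subgroup.coe_mul, Subgroup.coe_inv, ctι_coe, ctι_coe]
  apply Prod.ext
  · simp only [Prod.fst_mul, Prod.fst_inv]
    rw [MulAut.conjNormal_apply]
    rfl
  · simp only [Prod.snd_mul, Prod.snd_inv]
    exact hmem n

instance ct_range_normal [Finite N] [FiniteDimensional ℂ V] : (ctι N ρ).range.Normal := by
  constructor
  rintro _ ⟨n, rfl⟩ e
  rw [ct_conj_ι]
  exact ⟨_, rfl⟩

/-- the tautological representation is irreducible -/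
theorem ctτ_irr [Finite N] [FiniteDimensional ℂ V] [ρ.IsIrreducible] :
    (ctτ N ρ).IsIrreducible :=
  h7_isIrr_of_restrict ρ (ctτ N ρ) (ctι N ρ) (fun n => ctτ_ι N ρ n)

/-- preimage of `N` is kernel times image of `N` -/
theorem ct_comap_N [Finite N] [FiniteDimensional ℂ V] (e : ctE N ρ) (he : ctπ N ρ e ∈ N) :
    ∃ z ∈ (ctπ N ρ).ker, ∃ n : N, e = z * ctι N ρ n := by
  refine ⟨e * (ctι N ρ ⟨_, he⟩)⁻¹, ?_, ⟨_, he⟩, by group⟩
  rw [MonoidHom.mem_ker, map_mul, map_inv, ctπ_ι]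
  exact mul_inv_cancel _

/-- the kernel meets the image of `N` trivially -/
theorem ct_ker_inf_range [Finite N] [FiniteDimensional ℂ V] (e : ctE N ρ)
    (h1 : ctπ N ρ e = 1) (h2 : e ∈ (ctι N ρ).range) : e = 1 := by
  obtain ⟨n, rfl⟩ := h2
  rw [ctπ_ι] at h1
  have : n = 1 := Subtype.ext h1
  rw [this, map_one]

end ct

end Cfsg.Agent.Lib.helper2
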