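import Cfsg.Agent.Lib.helper15.UD.Defs

/-!
# Project UD, row NONISO (verbatim): a non-zero non-degenerate subspace has a non-isotropic vector
-/

set_option autoImplicit false
set_option linter.unusedVariables false
set_option linter.unusedSectionVars false

namespace Cfsg.Agent.Lib.helper15.UD

open Matrix Cfsg.Agent.Lib.Helper28 Cfsg.Agent.Lib.Helper29.ExtrL

variable {n q : ℕ} {F : Type*} [Field F] [Fintype F] {σ : F ≃+* F}

section blockB
variable {f : (Fin n → F) → (Fin n → F) → F}

theorem exists_noniso_in (hf : Cfsg.Geo.IsUnitaryForm σ f) (W : Submodule F (Fin n → F))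
    (hW : Cfsg.Geo.IsNondegenerateOn f W) (hk : 1 ≤ Module.finrank F W) :
    ∃ d ∈ W, f d d ≠ 0 := by
  by_contra hcon
  push Not at hcon
  have hti := UForm.ti_of_iso hf W hcon
  have hne : W ≠ ⊥ := by
    intro h
    rw [h, finrank_bot] at hk
    omega
  obtain ⟨w, hwW, hw0⟩ := Submodule.exists_mem_ne_zero_of_ne_bot hne
  obtain ⟨⟨x, hxW, hx⟩, _⟩ := hW w hwW hw0
  exact hx (hti x hxW w hwW)

end blockB

end Cfsg.Agent.Lib.helper15.UD
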