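import Mathlib
import Cfsg.Agent.Lib.Helper20.UNIC1
import Cfsg.Agent.Lib.Helper28.UNIC3
import Cfsg.Agent.Lib.Helper28.UNIG1A
import Cfsg.Agent.Lib.Helper26.UNIG1B
import Cfsg.Agent.Lib.Helper11.UNIG2B
import Cfsg.Agent.Lib.Helper22.UNIG2C
import Cfsg.Agent.Lib.helper2.UNIG3core
import Cfsg.Agent.Lib.helper8.ChevReflAll
import Cfsg.Agent.Lib.helper8.ChevBNAll
import Cfsg.Agent.Lib.helper8.ChevBNAll2
import Cfsg.Agent.Lib.helper8.ChevOrdAll
import Cfsg.Agent.Lib.helper8.ChevCommAll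

set_option autoImplicit false

namespace Cfsg.Agent.Lib.Helper5.UNI

open Cfsg.Lie Cfsg.Lie.ChevalleyDatum Cfsg.Agent.Lib.helper8 Cfsg.Agent.Lib.helper3
  Cfsg.Agent.Lib.helper14

section Chevalley

universe u

variable {F : Type u} [Field F]

section PLevel

variable (D : ChevalleyDatum) (hB : H8Base.{u} D) (P : Cfsg.BNPair ↥(D.group F))
  (σ : ℕ → ↥(D.group F))

/-- G3: the longest element of `W_J` in the group, with all the properties needed -/
theorem uni_nJ_exists (hD : D ∈ [chevG2, chevB2, chevD4, chevF4, chevE6, chevE7, chevE8])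
    (hPB : P.B = (D.borelSubgroup F).subgroupOf (D.group F))
    (hPN : P.N = (D.monomialSubgroup F).subgroupOf (D.group F))
    (hPS : P.S = {n : ↥(D.group F) | ∃ i < D.rank,
      ((n : GL D.Idx F) : Matrix D.Idx D.Idx F) = D.nMat F (D.simple i) 1})
    (hσv : ∀ i, i < D.rank → ((σ i : ↥(D.group F)) : GL D.Idx F) = h8nU D hB (D.simple i) 1)
    (J : Finset ℕ) (hJ : J ⊆ Finset.range D.rank) :
    ∃ n : ↥(D.group F), n ∈ subN P (σ '' (J : Set ℕ)) ∧
      (∀ j ∈ J, ¬ Pp P (σ j) n⁻¹) ∧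
      (∀ m ∈ subN P (σ '' (J : Set ℕ)), (∀ j ∈ J, ¬ Pp P (σ j) m) →
        ∀ j ∈ J, Pp P (σ j) (m * n)) ∧
      (∀ x ∈ (D.posUnipotent F).subgroupOf (D.group F), n⁻¹ * x * n ∈ P.B →
        x ∈ (D.unipotentRadical F (J : Set ℕ)).subgroupOf (D.group F)) ∧
      (D.diagonalSubgroup F).subgroupOf (D.group F) ≤ P.B.map (MulAut.conj n).toMonoidHom := by
  have hA := h8reflAll D hD
  have hBN := h8bn_all D hD
  have hW := h8bn2_all D hD
  have hO2 := (h8ord_all D hD).2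
  have hC : H8CommAll.{u} D := h8commAll D hD
  have hT := uni_tab_all D hD
  have hJr : ∀ j ∈ J, j < D.rank := fun j hj => Finset.mem_range.mp (hJ hj)
  exact unig3_core D hB P σ hA hBN hPB hσv J
    (uni_exists_wJ D hB hA hBN hO2 hT (J : Set ℕ))
    (fun w hw => uni_nW_mem D hB (J : Set ℕ) w hw)
    (fun w hw x hx hxB => uni_U_inf_conj D hD hB (J : Set ℕ) w hw x hx hxB)
    (fun w hw n hn => uni_h1J D hB P σ hA hBN hW hO2 hT hPB hPN hPS hσv J hJr w hw n hn)
    (fun w hw n hn => uni_h2J D hB P σ hA hC hBN hW hO2 hT hPB hPN hσv J hJr w hw n hn)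

end PLevel

end Chevalley

end Cfsg.Agent.Lib.Helper5.UNI
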