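import Cfsg.Agent.Lib.helper6.UTP.Defs
import Cfsg.Agent.Lib.Helper19.UTPKRON
import Cfsg.Agent.Lib.Helper27.UTPTRANS

/-!
# Project UTP (S5670, leader helper6), piece FLAG (helper2): `lamAu_of_lamEu` VERBATIM; extras `utpflag_*`

Port of `Helper11.TPFLAG`: conjugate by `1 ⊗ β`, `β ∈ SU_b` with `β w = w'` (TRANS), `1 ⊗ β ∈ T0u` (KRON); `β` an isometry gives
`cj σ w' ᵥ* β = cj σ w`.
-/

set_option autoImplicit false
set_option linter.unusedVariables false
set_option linter.unusedSectionVars false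

namespace Cfsg.Agent.Lib.helper6.UTP

open Matrix
open scoped Kronecker
open Cfsg.Agent.Lib.helper7.TP

variable {F : Type*} [Field F] {a b : ℕ}

/-- `ELm` at `w = 0` is `1`. -/
theorem utpflag_ELm_zero (ζ : Matrix (Fin a) (Fin a) F) (ψ : Fin b → F) :
    ELm ζ (0 : Fin b → F) ψ = 1 := by
  rw [Matrix.ext_iff_mulVec]
  intro v
  rw [ELm_mulVec, Matrix.one_mulVec]
  have : ten (ζ *ᵥ ctr ψ v) (0 : Fin b → F) = 0 := by
    funext p; simp [ten]
  rw [this, add_zero]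

/-- an isometry `β` carries the covector of `w` to the covector of `β w`. -/
theorem utpflag_covec (σ : F ≃+* F) {k : ℕ} (β : Matrix.GeneralLinearGroup (Fin k) F)
    (hβ : β ∈ GUm σ (Fin k)) (w : Fin k → F) :
    cj σ ((β : Matrix (Fin k) (Fin k) F) *ᵥ w) ᵥ* (β : Matrix (Fin k) (Fin k) F) = cj σ w := by
  have h : ∀ y : Fin k → F, y ⬝ᵥ (cj σ ((β : Matrix (Fin k) (Fin k) F) *ᵥ w) ᵥ*
      (β : Matrix (Fin k) (Fin k) F)) = y ⬝ᵥ cj σ w := by
    intro y
    have h1 := (mem_GUm σ β).mp hβ y w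
    rw [hf_def, hf_def] at h1
    rw [← h1, dotProduct_comm y, ← Matrix.dotProduct_mulVec, dotProduct_comm]
  funext i
  have := h (Pi.single i 1)
  simpa using this

theorem lamAu_of_lamEu [Fintype F] (σ : F ≃+* F) (hσ : Inv2 σ) (hb : 3 ≤ b)
    (M : Subgroup (Matrix.GeneralLinearGroup (Fin a × Fin b) F)) (hTM : T0u σ a b ≤ M)
    (ζ : Matrix (Fin a) (Fin a) F) (h : LamEu σ M ζ) : LamAu σ M ζ := by
  obtain ⟨w, g0, hw, hww, hg0, hg0M⟩ := h
  intro w' g' hww' hg'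
  by_cases hw' : w' = 0
  · have : g' = 1 := by
      apply Units.ext
      rw [hg', hw', utpflag_ELm_zero]
      rfl
    rw [this]
    exact M.one_mem
  obtain ⟨β, hβG, hβd, hβw⟩ := su_trans_iso σ hσ hb w w' hw hw' hww hww'
  have hcov : cj σ w' ᵥ* (β : Matrix (Fin b) (Fin b) F) = cj σ w := by
    rw [← hβw]; exact utpflag_covec σ β hβG w
  have hdet : ((1 : Matrix (Fin a) (Fin a) F) ⊗ₖ (β : Matrix (Fin b) (Fin b) F)).det = 1 := by
    rw [Matrix.det_kronecker, hβd, Matrix.det_one, one_pow, one_pow, one_mul]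
  have hdet0 : ((1 : Matrix (Fin a) (Fin a) F) ⊗ₖ (β : Matrix (Fin b) (Fin b) F)).det ≠ 0 := by
    rw [hdet]; exact one_ne_zero
  set A : Matrix.GeneralLinearGroup (Fin a × Fin b) F :=
    Matrix.GeneralLinearGroup.mkOfDetNeZero _ hdet0 with hA
  have hAv : (A : Matrix (Fin a × Fin b) (Fin a × Fin b) F) =
      (1 : Matrix (Fin a) (Fin a) F) ⊗ₖ (β : Matrix (Fin b) (Fin b) F) := rfl
  have hAT : A ∈ T0u σ a b := by
    refine kron_mem σ hσ (1 : Matrix.GeneralLinearGroup (Fin a) F) β (Subgroup.one_mem _) hβG ?_ A ?_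
    · rw [hβd]; simp
    · rw [hAv]; rfl
  have : g' = A * g0 * A⁻¹ := by
    rw [eq_mul_inv_iff_mul_eq]
    apply Units.ext
    rw [Units.val_mul, Units.val_mul, hg', hg0, hAv, ELm, ELm, Matrix.add_mul, Matrix.mul_add,
      Matrix.one_mul, Matrix.mul_one, ← Matrix.mul_kronecker_mul, ← Matrix.mul_kronecker_mul,
      Matrix.mul_one, Matrix.one_mul, Matrix.vecMulVec_mul, Matrix.mul_vecMulVec, hβw, hcov]
  rw [this]
  exact M.mul_mem (M.mul_mem (hTM hAT) hg0M) (M.inv_mem (hTM hAT))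

end Cfsg.Agent.Lib.helper6.UTP
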