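import Mathlib
import Cfsg.Prelude.Def_GeometricClasses
import Cfsg.Agent.Lib.Helper27.ASC.Defs
import Cfsg.Agent.Lib.Lead.ASCU.Defs
import Cfsg.Agent.Lib.helper2.UXDefs

/-!
# Project UX (leader: helper2), pieces AR2, AR3 : `uarith_two`, `uarith_three`

The field data of the symplectic-type groups in the unitary case.
-/

set_option autoImplicit false
set_option linter.unusedVariables false
set_option linter.unusedSectionVars false

namespace Cfsg.Agent.Lib.helper2.UX

open Cfsg Cfsg.Geo Cfsg.Agent.Lib.Helper27.ASC Cfsg.Agent.Lib.Lead.ASCU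
open scoped MatrixGroups Matrix

variable {n : ℕ} {F : Type*} [Field F] [Fintype F]

/-- a prime is not a square -/
theorem uxar_prime_ne_sq {p q : ℕ} (hp : p.Prime) : p ≠ q ^ 2 := by
  intro h
  have hq : q ∣ p := ⟨q, by rw [h]; ring⟩
  rcases (Nat.dvd_prime hp).mp hq with h1 | h1
  · rw [h1] at h
    rw [h] at hp
    exact Nat.not_prime_one (by simpa using hp)
  · rw [h1] at h
    have h2 := hp.two_le
    nlinarith

/-- AR2 : the field data of a symplectic-type `2`-group in the unitary case: `q = p ≡ 3 mod 4`. -/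
theorem uarith_two (q p : ℕ) (hF : Fintype.card F = q ^ 2) (hp2 : 2 ≠ p) (hmin : IsMinimalFieldFor 4 p 2 F) :
    p.Prime ∧ q = p ∧ p % 4 = 3 := by
  obtain ⟨hp, -, hcard, -, hmin'⟩ := hmin
  have hqp : q = p := by
    have h1 : q ^ 2 = p ^ 2 := by rw [← hF, hcard]
    exact Nat.pow_left_injective (by norm_num : 2 ≠ 0) h1
  refine ⟨hp, hqp, ?_⟩
  have h1 := hmin' 1 (by norm_num) (by norm_num)
  rw [pow_one] at h1
  have hodd : p % 2 = 1 := by
    rcases hp.eq_two_or_odd with h | h
    · exact absurd h.symm hp2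
    · exact h
  have hp2' := hp.two_le
  by_contra h3
  have h4 : p % 4 = 1 := by omega
  apply h1
  exact (Nat.modEq_iff_dvd' (by omega)).mp (by
    show 1 % 4 = p % 4
    rw [h4])

/-- AR3 : the field data of an extraspecial `3`-group in the unitary case: `q = p ≡ 2 mod 3`. -/
theorem uarith_three (q p e : ℕ) (hF : Fintype.card F = q ^ 2) (hp3 : 3 ≠ p) (hmin : IsMinimalFieldFor 3 p e F) :
    p.Prime ∧ q = p ∧ p % 3 = 2 := by
  obtain ⟨hp, -, hcard, hdvd, hmin'⟩ := hmin
  have hp2' := hp.two_le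
  have hF1 : 1 < Fintype.card F := Fintype.one_lt_card
  have he0 : e ≠ 0 := by
    rintro rfl
    rw [pow_zero] at hcard
    omega
  have he1 : e ≠ 1 := by
    rintro rfl
    rw [pow_one] at hcard
    exact uxar_prime_ne_sq hp (q := q) (by rw [← hcard, hF])
  have hp30 : p % 3 ≠ 0 := by
    intro h0
    have h3 : 3 ∣ p := Nat.dvd_of_mod_eq_zero h0
    exact hp3 ((Nat.prime_dvd_prime_iff_eq Nat.prime_three hp).mp h3)
  have hp31 : p % 3 ≠ 1 := by
    intro h1
    have h3 : 3 ∣ p ^ 1 - 1 := by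
      rw [pow_one]
      exact (Nat.modEq_iff_dvd' (by omega)).mp (by
        show 1 % 3 = p % 3
        rw [h1])
    exact hmin' 1 (by norm_num) (by omega) h3
  have hmod : p % 3 = 2 := by omega
  have h32 : 3 ∣ p ^ 2 - 1 := by
    have h1 : p ^ 2 % 3 = 1 := by
      rw [Nat.pow_mod, hmod]
    have h2 : 1 ≤ p ^ 2 := Nat.one_le_pow _ _ (by omega)
    exact (Nat.modEq_iff_dvd' h2).mp (by
      show 1 % 3 = p ^ 2 % 3
      rw [h1])
  have he2 : e = 2 := by
    by_contra hne
    exact hmin' 2 (by norm_num) (by omega) h32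
  subst he2
  have hqp : q = p := by
    have h1 : q ^ 2 = p ^ 2 := by rw [← hF, hcard]
    exact Nat.pow_left_injective (by norm_num : 2 ≠ 0) h1
  exact ⟨hp, hqp, hmod⟩

end Cfsg.Agent.Lib.helper2.UX
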