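import Cfsg.Agent.Lib.helper2.UXDefs
import Cfsg.Agent.Lib.Helper21.ASCUUPR1
import Cfsg.Agent.Lib.Helper19.ASCUUPR2
import Cfsg.Agent.Lib.Helper18.ASCUUPR3
import Cfsg.Agent.Lib.Helper26.ASCUUPR5
import Cfsg.Agent.Lib.Helper26.SPXCOVER
import Cfsg.Agent.Lib.Helper10.UXPERF
import Cfsg.Agent.Lib.Helper13.UXPRD
import Cfsg.Agent.Lib.Helper20.UXPR6
import Cfsg.Agent.Lib.Helper29.UXPRT

/-!
# Project UX (leader: helper2) : `ux_max`, a maximal subgroup of `SU_n(q)` is the intersection of `SU_n(q)` with a member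
of a class of `InUnitaryClass`, or residual (on top of the frozen statement of S5663)
-/

set_option autoImplicit false
set_option linter.unusedVariables false
set_option linter.unusedSectionVars false
set_option linter.unusedTactic false
set_option linter.unreachableTactic false

namespace Cfsg.Agent.Lib.helper2.UX

open Cfsg Cfsg.Geo Cfsg.Agent.Lib.Helper27.ASC Cfsg.Agent.Lib.Lead.ASCU
open scoped MatrixGroups Matrix

variable {n : ℕ} {F : Type*} [Field F] [Fintype F]

/-- a subfield of prime index is proper -/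
theorem ux_ne_top_of_card_pow {F₁ : Subfield F} {ℓ : ℕ} (hℓ : 2 ≤ ℓ) (h : Fintype.card F = Nat.card F₁ ^ ℓ) :
    F₁ ≠ ⊤ := by
  rintro rfl
  have h1 : Nat.card (⊤ : Subfield F) = Fintype.card F := by
    rw [← Nat.card_eq_fintype_card]
    exact Nat.card_congr (Subfield.topEquiv (K := F)).toEquiv
  rw [h1] at h
  have h2 : 1 < Fintype.card F := Fintype.one_lt_card
  have : Fintype.card F ^ 1 < Fintype.card F ^ ℓ := Nat.pow_lt_pow_right h2 (by omega)
  rw [pow_one] at this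
  omega

/-- the cardinality of the index set of a tensor decomposition -/
theorem ux_tensor_card {n₁ n₂ : ℕ} (e : Fin n ≃ Fin n₁ × Fin n₂) : n = n₁ * n₂ := by
  have := Fintype.card_congr e
  simpa using this

/-- the cardinality of the index set of a tensor-wreath decomposition -/
theorem ux_wreath_card {m t : ℕ} (e : Fin n ≃ (Fin t → Fin m)) : n = m ^ t := by
  have := Fintype.card_congr e
  simpa using this

omit [Fintype F] in
/-- the standard unitary form does not vanish identically -/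
theorem ux_herm_single (q : ℕ) (hn : 0 < n) :
    hermForm n F q (Pi.single (⟨0, hn⟩ : Fin n) 1) (Pi.single (⟨0, hn⟩ : Fin n) 1) = 1 := by
  unfold hermForm
  rw [Finset.sum_eq_single (⟨0, hn⟩ : Fin n)]
  · simp
  · intro b _ hb
    simp [hb]
  · intro h
    exact absurd (Finset.mem_univ _) h

omit [Fintype F] in
/-- a totally singular subspace is proper -/
theorem ux_ts_ne_top (q : ℕ) (hn : 0 < n) (W : Submodule F (Fin n → F))
    (hW : IsTotallySingularFor (hermForm n F q) W) : W ≠ ⊤ := by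
  rintro rfl
  have := hW (Pi.single (⟨0, hn⟩ : Fin n) 1) Submodule.mem_top (Pi.single (⟨0, hn⟩ : Fin n) 1) Submodule.mem_top
  rw [ux_herm_single q hn] at this
  exact one_ne_zero this

/-- a non-degenerate subspace of less than half the dimension is proper -/
theorem ux_nd_ne_top (W : Submodule F (Fin n → F)) (hd : 2 * Module.finrank F W < n) : W ≠ ⊤ := by
  rintro rfl
  rw [finrank_top, Module.finrank_fintype_fun_eq_card, Fintype.card_fin] at hd
  omega

/-- UXMAX : a maximal subgroup of `SU_n(q)`, `n ≥ 4`, is the intersection of `SU_n(q)` with a member of a class, or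
residual.  The two hypotheses `hS`, `hW` (no containment of `SU_n(q)` in a class-6 / class-7 member) are supplied by
the rows. -/
theorem ux_max (q : ℕ) (hF : Fintype.card F = q ^ 2) (hn : 4 ≤ n) (hASU : ASUStmt n F q)
    (hW : ∀ (k t : ℕ) (e : Fin n ≃ (Fin t → Fin k)) (P : GL (Fin n) F), 3 ≤ k → 2 ≤ t →
      ¬ SUg n F q ≤ tensorWreathSubgroup k t e P)
    {H : Subgroup (GL (Fin n) F)} (hH : IsMaximalIn (SUg n F q) H) : UXConcl n F q H := by
  have hn3 : 3 ≤ n := by omega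
  have hex : ¬ (n = 3 ∧ q = 2) := fun h => by omega
  have hcov : H ⊔ (scalars (Fin n) F ⊓ SUg n F q) ≠ SUg n F q :=
    Cfsg.Agent.Lib.helper6.SPX.spxcover_generic (su_perfect q hF hn3 hex) hH
  rcases hASU H hH.1.le hcov with ⟨M, hM, hle⟩ | hres
  · rcases hM with (⟨W, h0, hts, rfl⟩ | ⟨W, h0, hnd, hd, rfl⟩ | ⟨t, k, D, hD, rfl⟩ | ⟨k, D, hk, hD, hts, rfl⟩ |
      ⟨F₀, r, P, hr, hodd, hc, hrat, rfl⟩ | ⟨F₀, P, hodd, hc, hrat, rfl⟩ |
      ⟨F₀, P, ζ, hev, hc, hζ, hζq, hrat, halt, rfl⟩ |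
      ⟨r, R, p, e, k, hR, hA, hsim, hrp, hmin, hcase, rfl⟩) | ⟨r, K, hr, hodd, hK, hadj, rfl⟩ |
      ⟨n₁, n₂, e, P, f₁, f₂, h1, h2, hf₁, hf₂, hT, rfl⟩ | ⟨k, t, e, P, f₁, hk, ht, hex', hf₁, hT, rfl⟩
    · exact Or.inl ⟨W, h0, hts, max_principle hH (hle.trans inf_le_left)
        (upr_subspace q hF hn3 W h0 (ux_ts_ne_top q (by omega) W hts))⟩
    · exact Or.inr (Or.inl ⟨W, h0, hnd, hd, max_principle hH (hle.trans inf_le_left)
        (upr_subspace q hF hn3 W h0 (ux_nd_ne_top W hd))⟩)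
    · refine Or.inr (Or.inr (Or.inl ⟨t, k, D, hD, max_principle hH (hle.trans inf_le_left) ?_⟩))
      by_cases hk1 : k = 1
      · subst hk1
        exact upr_dec q hF hn3 D hD
      · have := hD.decomp.pos
        exact upr_dec_gen q hF hn3 (by omega) D hD.decomp
    · exact Or.inr (Or.inr (Or.inr (Or.inl ⟨k, D, hk, hD, hts, max_principle hH (hle.trans inf_le_left)
        (upr_dec_gen q hF hn3 (by omega) D hD)⟩)))
    · exact Or.inr (Or.inr (Or.inr (Or.inr (Or.inl ⟨F₀, r, P, hr, hodd, hc, hrat,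
        max_principle hH (hle.trans inf_le_left)
          (upr_subfield q hF hn3 F₀ (ux_ne_top_of_card_pow hr.two_le hc) P)⟩))))
    · exact Or.inr (Or.inr (Or.inr (Or.inr (Or.inr (Or.inl ⟨F₀, P, hodd, hc, hrat,
        max_principle hH (hle.trans inf_le_left)
          (upr_subfield q hF hn3 F₀ (ux_ne_top_of_card_pow (le_refl 2) hc) P)⟩)))))
    · exact Or.inr (Or.inr (Or.inr (Or.inr (Or.inr (Or.inr (Or.inl ⟨F₀, P, ζ, hev, hc, hζ, hζq, hrat, halt,
        max_principle hH (hle.trans inf_le_left)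
          (upr_subfield q hF hn3 F₀ (ux_ne_top_of_card_pow (le_refl 2) hc) P)⟩))))))
    · exact Or.inr (Or.inr (Or.inr (Or.inr (Or.inr (Or.inr (Or.inr (Or.inl ⟨r, R, p, e, k, hR, hA, hsim, hrp, hmin,
        hcase, max_principle hH (hle.trans inf_le_left)
          (upr_sympl q hF hn3 hex hR.prime R hR.pGroup hA hsim)⟩)))))))
    · exact Or.inr (Or.inr (Or.inr (Or.inr (Or.inr (Or.inr (Or.inr (Or.inr (Or.inl ⟨r, K, hr, hodd, hK, hadj,
        max_principle hH (hle.trans inf_le_left) (upr_field q hF hn3 hr.two_le K hK)⟩))))))))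
    · exact Or.inr (Or.inr (Or.inr (Or.inr (Or.inr (Or.inr (Or.inr (Or.inr (Or.inr (Or.inl ⟨n₁, n₂, e, P, f₁, f₂,
        h1, h2, hf₁, hf₂, hT, max_principle hH (hle.trans inf_le_left)
          (upr_tensor q hF hn3 h1 (by omega) e P)⟩)))))))))
    · exact Or.inr (Or.inr (Or.inr (Or.inr (Or.inr (Or.inr (Or.inr (Or.inr (Or.inr (Or.inr (Or.inl ⟨k, t, e, P, f₁,
        hk, ht, hex', hf₁, hT, max_principle hH (hle.trans inf_le_left) (hW k t e P hk ht)⟩))))))))))
  · exact Or.inr (Or.inr (Or.inr (Or.inr (Or.inr (Or.inr (Or.inr (Or.inr (Or.inr (Or.inr (Or.inr hres))))))))))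


/-- `q ≥ 2` -/
theorem ux_two_le_q {q : ℕ} (hF : Fintype.card F = q ^ 2) : 2 ≤ q := by
  have h1 : 1 < Fintype.card F := Fintype.one_lt_card
  by_contra h
  have hq : q = 0 ∨ q = 1 := by omega
  rcases hq with rfl | rfl
  · rw [zero_pow (by norm_num)] at hF
    omega
  · rw [one_pow] at hF
    omega

/-- no tensor power `k ^ t`, `k ≥ 3`, `t ≥ 2`, is at most `12` and different from `9` -/
theorem ux_no_wreath {N k t : ℕ} (hk : 3 ≤ k) (ht : 2 ≤ t) (h : N = k ^ t) (h12 : N ≤ 12) (h9 : N ≠ 9) : False := by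
  have hk4 : k < 4 := by
    by_contra hk4
    have : 4 ^ 2 ≤ k ^ t := (Nat.pow_le_pow_left (by omega : 4 ≤ k) 2).trans (Nat.pow_le_pow_right (by omega) ht)
    omega
  obtain rfl : k = 3 := by omega
  have ht3 : t < 3 := by
    by_contra ht3
    have : 3 ^ 3 ≤ 3 ^ t := Nat.pow_le_pow_right (by norm_num) (by omega)
    omega
  obtain rfl : t = 2 := by omega
  omega

/-- `9 = k ^ t`, `k ≥ 3`, `t ≥ 2` forces `k = 3`, `t = 2` -/
theorem ux_wreath9 {k t : ℕ} (hk : 3 ≤ k) (ht : 2 ≤ t) (h : 9 = k ^ t) : k = 3 ∧ t = 2 := by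
  have hk4 : k < 4 := by
    by_contra hk4
    have : 4 ^ 2 ≤ k ^ t := (Nat.pow_le_pow_left (by omega : 4 ≤ k) 2).trans (Nat.pow_le_pow_right (by omega) ht)
    omega
  obtain rfl : k = 3 := by omega
  have ht3 : t < 3 := by
    by_contra ht3
    have : 3 ^ 3 ≤ 3 ^ t := Nat.pow_le_pow_right (by norm_num) (by omega)
    omega
  exact ⟨rfl, by omega⟩

/-- the dimension of an extraspecial `r`-group, `r` odd -/
theorem ux_dim_odd {N r k : ℕ} (hr : 0 < r) (h : N ^ 2 * r = r ^ (1 + 2 * k)) : N = r ^ k := by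
  have h1 : r ^ (1 + 2 * k) = (r ^ k) ^ 2 * r := by ring
  rw [h1] at h
  have h2 : N ^ 2 = (r ^ k) ^ 2 := Nat.eq_of_mul_eq_mul_right hr h
  exact Nat.pow_left_injective (by norm_num : 2 ≠ 0) h2

/-- the dimension of a symplectic-type `2`-group with centre of order `4` -/
theorem ux_dim_two {N k : ℕ} (h : N ^ 2 * 4 = 2 ^ (2 + 2 * k)) : N = 2 ^ k := by
  have h1 : 2 ^ (2 + 2 * k) = (2 ^ k) ^ 2 * 4 := by ring
  rw [h1] at h
  have h2 : N ^ 2 = (2 ^ k) ^ 2 := Nat.eq_of_mul_eq_mul_right (by norm_num) h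
  exact Nat.pow_left_injective (by norm_num : 2 ≠ 0) h2

/-- the prime powers up to `12` -/
theorem ux_prime_pow_cases {N r k : ℕ} (hr : r.Prime) (h : N = r ^ k) (h2 : 2 ≤ N) (h12 : N ≤ 12) :
    (N = 4 ∧ r = 2 ∧ k = 2) ∨ (N = 8 ∧ r = 2 ∧ k = 3) ∨ (N = 9 ∧ r = 3 ∧ k = 2) ∨ (k = 1 ∧ N = r) := by
  have hr2 := hr.two_le
  have hk1 : 1 ≤ k := by
    rcases Nat.eq_zero_or_pos k with rfl | hk
    · rw [pow_zero] at h
      omega
    · exact hk
  have hk4 : k < 4 := by
    by_contra hk4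
    have : 2 ^ 4 ≤ r ^ k := (Nat.pow_le_pow_left hr2 4).trans (Nat.pow_le_pow_right (by omega) (by omega))
    omega
  subst h
  interval_cases k
  · right; right; right
    exact ⟨rfl, pow_one r⟩
  · have : r < 4 := by
      by_contra h4
      have : 4 ^ 2 ≤ r ^ 2 := Nat.pow_le_pow_left (by omega) 2
      omega
    interval_cases r
    · left; exact ⟨by norm_num, rfl, rfl⟩
    · right; right; left; exact ⟨by norm_num, rfl, rfl⟩
  · have : r < 3 := by
      by_contra h3
      have : 3 ^ 3 ≤ r ^ 3 := Nat.pow_le_pow_left (by omega) 3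
      omega
    interval_cases r
    right; left; exact ⟨by norm_num, rfl, rfl⟩

end Cfsg.Agent.Lib.helper2.UX
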