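import Mathlib
import Cfsg.Prelude.Def_GeometricClasses
import Cfsg.Agent.Lib.Helper27.ASC.Defs
import Cfsg.Agent.Lib.Lead.ASCU.Defs
import Cfsg.Agent.Lib.helper2.UXDefs
import Cfsg.Agent.S5656

/-!
# Project UX (leader: helper2), piece P2 : `dec2_q2`

Over `F_4` the stabiliser in `SU_n(2)` of a decomposition into non-degenerate planes is not maximal.  This is the proof of
the landed row S5656 (`Cfsg.Agent.S5656.result`), which never uses its hypothesis `13 ≤ n`.
-/

set_option autoImplicit false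
set_option linter.unusedVariables false
set_option linter.unusedSectionVars false

namespace Cfsg.Agent.Lib.helper2.UX

open Cfsg Cfsg.Geo Cfsg.Agent.Lib.Helper27.ASC Cfsg.Agent.Lib.Lead.ASCU
open scoped MatrixGroups Matrix

variable {n : ℕ} {F : Type*} [Field F] [Fintype F]

section
open Matrix Cfsg.Agent.Lib.Helper28.Herm Cfsg.Agent.S5656

/-- the statement of S5656 without the hypothesis `13 ≤ n` -/
theorem uxp2_core (n : ℕ) (hF : Fintype.card F = 4) {t : ℕ} (D : Fin t → Submodule F (Fin n → F)) (hD : Cfsg.Geo.IsNondegenerateMDecomposition (Cfsg.hermForm n F 2) 2 D) : ∃ K : Subgroup (Matrix.GeneralLinearGroup (Fin n) F), Cfsg.Geo.decompositionStabilizer D ⊓ (Cfsg.GU n F 2 ⊓ Cfsg.Geo.specialLinear (Fin n) F) < K ∧ K < (Cfsg.GU n F 2 ⊓ Cfsg.Geo.specialLinear (Fin n) F) := by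
  classical
  have ht := hD.decomp.two_le
  have h2 := two_zero hF
  obtain ⟨i0, hi0⟩ : ∃ i : Fin t, i = ⟨0, by omega⟩ := ⟨_, rfl⟩
  obtain ⟨i1, hi1⟩ : ∃ i : Fin t, i = ⟨1, by omega⟩ := ⟨_, rfl⟩
  have h01 : i0 ≠ i1 := by
    rw [hi0, hi1]
    intro h
    have := congrArg Fin.val h
    simp at this
  obtain ⟨x0, y0, hx0, hy0, hx0x0, hy0y0, hx0y0, hy0x0, hrep0⟩ :=
    frame hF n (D i0) (hD.decomp.finrank_eq i0) (hD.nondegenerate i0)
  obtain ⟨x1, y1, hx1, hy1, hx1x1, hy1y1, hx1y1, hy1x1, hrep1⟩ :=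
    frame hF n (D i1) (hD.decomp.finrank_eq i1) (hD.nondegenerate i1)
  have c01 := hD.orthogonal i0 i1 h01
  have c10 := hD.orthogonal i1 i0 h01.symm
  have hq2 := hF2 hF
  have hvv : Cfsg.hermForm n F 2 (y0 + y1) (y0 + y1) = 0 := by
    rw [herm_add_left, herm_add_right hq2, herm_add_right hq2, hy0y0, hy1y1, c01 y0 hy0 y1 hy1,
      c10 y1 hy1 y0 hy0]
    linear_combination h2
  have hv0 : y0 + y1 ≠ 0 := by
    intro h
    have h1 : Cfsg.hermForm n F 2 (y0 + y1) y0 = 1 := by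
      rw [herm_add_left, hy0y0, c10 y1 hy1 y0 hy0, add_zero]
    rw [h, herm_zero_left] at h1
    exact zero_ne_one h1
  obtain ⟨g, hgU, hgS, hg⟩ := tv4 hF n (y0 + y1) hv0 hvv
  have hv'v' : Cfsg.hermForm n F 2 (x0 + y0 + (x1 + y1)) (x0 + y0 + (x1 + y1)) = 0 := by
    simp only [herm_add_left, herm_add_right hq2, hx0x0, hy0y0, hx1x1, hy1y1, hx0y0, hy0x0,
      hx1y1, hy1x1, c01 x0 hx0 x1 hx1, c01 x0 hx0 y1 hy1, c01 y0 hy0 x1 hx1, c01 y0 hy0 y1 hy1,
      c10 x1 hx1 x0 hx0, c10 x1 hx1 y0 hy0, c10 y1 hy1 x0 hx0, c10 y1 hy1 y0 hy0]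
    linear_combination (2 : F) * h2
  have hx0v' : Cfsg.hermForm n F 2 x0 (x0 + y0 + (x1 + y1)) = 1 := by
    simp only [herm_add_right hq2, hx0x0, hx0y0, c01 x0 hx0 x1 hx1, c01 x0 hx0 y1 hy1, add_zero]
  have hv'0 : x0 + y0 + (x1 + y1) ≠ 0 := by
    intro h
    rw [h, herm_zero_right n 2 (by norm_num)] at hx0v'
    exact zero_ne_one hx0v'
  obtain ⟨g', hg'U, hg'S, hg'⟩ := tv4 hF n (x0 + y0 + (x1 + y1)) hv'0 hv'v'
  have hx0S : x0 ∈ SS n D := ⟨i0, hx0, by rw [hx0x0]; exact one_ne_zero⟩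
  refine ⟨Cfsg.stabilizing (Cfsg.glToMat (Fin n) F) (SS n D) ⊓
    (Cfsg.GU n F 2 ⊓ Cfsg.Geo.specialLinear (Fin n) F), ?_, ?_⟩
  · rw [SetLike.lt_iff_le_and_exists]
    refine ⟨?_, g, ⟨?_, hgU, hgS⟩, ?_⟩
    · intro a ha
      refine ⟨?_, ha.2⟩
      refine (mem_stabS n _ a).mpr ?_
      intro z
      constructor
      · exact fwd_stab n D a ha.1 ha.2.1 z
      · intro hz
        have := fwd_stab n D a⁻¹ ((Cfsg.Geo.decompositionStabilizer D).inv_mem ha.1)
          ((Cfsg.GU n F 2).inv_mem ha.2.1) _ hz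
        rw [Matrix.mulVec_mulVec, ← Units.val_mul, inv_mul_cancel, Units.val_one,
          Matrix.one_mulVec] at this
        exact this
    · refine (mem_stabS n _ g).mpr ?_
      have hgg : ∀ z, (g : Matrix (Fin n) (Fin n) F) *ᵥ ((g : Matrix (Fin n) (Fin n) F) *ᵥ z) = z := by
        intro z
        rw [hg, hg, herm_add_left, herm_smul_left, hvv, mul_zero, add_zero, add_assoc, ← add_smul]
        have : Cfsg.hermForm n F 2 z (y0 + y1) + Cfsg.hermForm n F 2 z (y0 + y1) = 0 := by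
          linear_combination (Cfsg.hermForm n F 2 z (y0 + y1)) * h2
        rw [this, zero_smul, add_zero]
      have fwd : ∀ z, z ∈ SS n D → (g : Matrix (Fin n) (Fin n) F) *ᵥ z ∈ SS n D := by
        rintro z ⟨i, hzi, hne⟩
        have hne' : Cfsg.hermForm n F 2 ((g : Matrix (Fin n) (Fin n) F) *ᵥ z)
            ((g : Matrix (Fin n) (Fin n) F) *ᵥ z) ≠ 0 := by
          rw [(mem_GU_iff n 2 g).mp hgU]
          exact hne
        by_cases hi0' : i = i0
        · rw [hi0'] at hzi
          have := local_swap hF n (D i0) (D i1) x0 y0 y1 hy0 hx0x0 hy0y0 hx0y0 hy0x0 hrep0 hy1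
            (fun u hu => c01 u hu y1 hy1) z hzi hne
          rw [← hg] at this
          rcases this with h | h
          · exact ⟨i0, h, hne'⟩
          · exact ⟨i1, h, hne'⟩
        · by_cases hi1' : i = i1
          · rw [hi1'] at hzi
            have := local_swap hF n (D i1) (D i0) x1 y1 y0 hy1 hx1x1 hy1y1 hx1y1 hy1x1 hrep1 hy0
              (fun u hu => c10 u hu y0 hy0) z hzi hne
            rw [add_comm y1 y0, ← hg] at this
            rcases this with h | h
            · exact ⟨i1, h, hne'⟩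
            · exact ⟨i0, h, hne'⟩
          · have e : (g : Matrix (Fin n) (Fin n) F) *ᵥ z = z := by
              rw [hg, herm_add_right hq2, hD.orthogonal i i0 hi0' z hzi y0 hy0,
                hD.orthogonal i i1 hi1' z hzi y1 hy1, add_zero, zero_smul, add_zero]
            rw [e]
            exact ⟨i, hzi, hne⟩
      intro z
      constructor
      · exact fwd z
      · intro hz
        have := fwd _ hz
        rw [hgg] at this
        exact this
    · intro hmem
      obtain ⟨σ, hσ⟩ := hmem.1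
      have hgx0 : (g : Matrix (Fin n) (Fin n) F) *ᵥ x0 = x0 := by
        rw [hg, herm_add_right hq2, hx0y0, c01 x0 hx0 y1 hy1, add_zero, zero_smul, add_zero]
      have hgy0 : (g : Matrix (Fin n) (Fin n) F) *ᵥ y0 = y1 := by
        rw [hg, herm_add_right hq2, hy0y0, c01 y0 hy0 y1 hy1, add_zero, one_smul, ← add_assoc]
        have : y0 + y0 = 0 := by rw [← two_smul F y0, h2, zero_smul]
        rw [this, zero_add]
      have m1 : x0 ∈ D (σ i0) := by
        rw [← hσ i0]
        exact ⟨x0, hx0, by rw [Matrix.toLin'_apply]; exact hgx0⟩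
      have m2 : y1 ∈ D (σ i0) := by
        rw [← hσ i0]
        exact ⟨y0, hy0, by rw [Matrix.toLin'_apply]; exact hgy0⟩
      have hx00 : x0 ≠ 0 := by
        intro h
        rw [h, herm_zero_left] at hx0x0
        exact zero_ne_one hx0x0
      have hy10 : y1 ≠ 0 := by
        intro h
        rw [h, herm_zero_left] at hy1y1
        exact zero_ne_one hy1y1
      have e1 := idx_unique n D hD.decomp.indep _ _ x0 hx0 m1 hx00
      have e2 := idx_unique n D hD.decomp.indep _ _ y1 hy1 m2 hy10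
      exact h01 (e1.trans e2.symm)
  · rw [SetLike.lt_iff_le_and_exists]
    refine ⟨fun a ha => ha.2, g', ⟨hg'U, hg'S⟩, ?_⟩
    intro hmem
    have h1 := ((mem_stabS n _ g').mp hmem.1 x0).mp hx0S
    rw [hg', hx0v', one_smul] at h1
    obtain ⟨j, hj, _⟩ := h1
    have hw1 : Cfsg.hermForm n F 2 (x0 + (x0 + y0 + (x1 + y1))) y0 = 1 := by
      simp only [herm_add_left, hx0y0, hy0y0, c10 x1 hx1 y0 hy0, c10 y1 hy1 y0 hy0]
      ring
    have hw2 : Cfsg.hermForm n F 2 (x0 + (x0 + y0 + (x1 + y1))) x1 = 1 := by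
      simp only [herm_add_left, hx1x1, hy1x1, c01 x0 hx0 x1 hx1, c01 y0 hy0 x1 hx1]
      ring
    have hj0 : j = i0 := by
      by_contra hne
      rw [hD.orthogonal j i0 hne _ hj y0 hy0] at hw1
      exact zero_ne_one hw1
    rw [hj0] at hj
    rw [c01 _ hj x1 hx1] at hw2
    exact zero_ne_one hw2

end

/-- P2 : over `F_4` (`q = 2`) the stabiliser of a decomposition into non-degenerate planes is not maximal. -/
theorem dec2_q2 (hF : Fintype.card F = 4) {t : ℕ} (D : Fin t → Submodule F (Fin n → F))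
    (hD : IsNondegenerateMDecomposition (hermForm n F 2) 2 D) :
    NotMax (SUg n F 2) (decompositionStabilizer D ⊓ SUg n F 2) :=
  uxp2_core n hF D hD

end Cfsg.Agent.Lib.helper2.UX
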