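import Mathlib
import Cfsg.Prelude.Def_GeometricClasses
import Cfsg.Agent.Lib.Helper27.ASC.Defs
import Cfsg.Agent.Lib.Lead.ASCU.Defs
import Cfsg.Agent.Lib.helper2.UXDefs
import Cfsg.Agent.Lib.helper2.LXSYC
import Cfsg.Agent.Lib.Helper24.LXSYDcore

/-!
# Project UX (leader: helper2), piece SYD : `usympl_degree`

The degree of an absolutely irreducible symplectic-type group whose centre has order the exponent.
-/

set_option autoImplicit false
set_option linter.unusedVariables false
set_option linter.unusedSectionVars false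

namespace Cfsg.Agent.Lib.helper2.UX

open Cfsg Cfsg.Geo Cfsg.Agent.Lib.Helper27.ASC Cfsg.Agent.Lib.Lead.ASCU
open scoped MatrixGroups Matrix

variable {n : ℕ} {F : Type*} [Field F] [Fintype F]

open Cfsg.Agent.Lib.helper7.LX in
/-- commutators of a symplectic-type group whose centre has order the exponent are scalar, and the scalar elements are the
central ones (generic form of `symplType_comm_scalar`) -/
theorem uxsyd_comm_scalar (hn : 1 ≤ n) {r : ℕ} (R : Subgroup (GL (Fin n) F)) (hR : IsSymplecticTypeGroup r R)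
    (hA : ActsAbsolutelyIrreducibly (matrixSet R))
    (hZ : Nat.card (Subgroup.center R) = r * Nat.gcd 2 r) :
    (∀ x ∈ R, ∀ y ∈ R, x * y * x⁻¹ * y⁻¹ ∈ scalars (Fin n) F) ∧
    (∀ x ∈ R, x ∈ scalars (Fin n) F ↔ ∀ y ∈ R, x * y = y * x) := by
  have hn0 : 0 < n := by omega
  have h2 : ∀ x ∈ R, x ∈ scalars (Fin n) F ↔ ∀ y ∈ R, x * y = y * x := by
    intro x hx
    constructor
    · intro hs y _
      exact lxsyc_scalar_comm x y hs
    · intro hc
      exact lxsyc_scalar_of_comm hn0 R hA x hc
  refine ⟨?_, h2⟩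
  have hZ' : Nat.card (Subgroup.center R) = Monoid.exponent R := by
    rw [hR.exponent_eq, hZ]
  have : Finite R := inferInstance
  have hcl := symplType_class_two hR.prime hR.pGroup hR.cyclic_of_characteristic hZ'
  intro x hx y hy
  have hmem : x * y * x⁻¹ * y⁻¹ ∈ R :=
    R.mul_mem (R.mul_mem (R.mul_mem hx hy) (R.inv_mem hx)) (R.inv_mem hy)
  rw [h2 _ hmem]
  intro z hz
  have h3 := hcl ⟨x, hx⟩ ⟨y, hy⟩
  rw [Subgroup.mem_center_iff] at h3
  have h4 := h3 ⟨z, hz⟩
  have h5 := congrArg (fun g : R => (g : GL (Fin n) F)) h4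
  simpa using h5.symm

/-- SYD : the degree of an absolutely irreducible symplectic-type group whose centre has order the exponent:
`n ^ 2 * |Z(R)| = |R|`. -/
theorem usympl_degree (hn : 1 ≤ n) {r : ℕ} (R : Subgroup (GL (Fin n) F)) (hR : IsSymplecticTypeGroup r R)
    (hA : ActsAbsolutelyIrreducibly (matrixSet R))
    (hZ : Nat.card (Subgroup.center R) = r * Nat.gcd 2 r) :
    n ^ 2 * Nat.card (Subgroup.center R) = Nat.card R := by
  obtain ⟨hc, hz⟩ := uxsyd_comm_scalar hn R hR hA hZ
  exact Cfsg.Agent.Lib.helper7.LX.lxsyd_core (by omega) R hA hc hz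

end Cfsg.Agent.Lib.helper2.UX
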