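import Cfsg.Agent.Lib.helper2.UXMax
import Cfsg.Agent.Lib.Helper18.ASCSCHURB
import Cfsg.Agent.Lib.Helper28.Ld.Trans
import Cfsg.Agent.Lib.helper2.UXP2
import Cfsg.Agent.Lib.Helper21.UXT2
import Cfsg.Agent.Lib.Lead.UXFR62
import Cfsg.Agent.Lib.Helper24.UXFLD62ASM
import Cfsg.Agent.Lib.helper2.UXSYD

/-!
# Project UX (leader: helper2) : the maximal subgroups of `SU_6(q)` (the frozen text of the row), from `ux_max`
-/

set_option autoImplicit false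
set_option linter.unusedVariables false
set_option linter.unusedSectionVars false
set_option linter.unusedTactic false
set_option linter.unreachableTactic false

namespace Cfsg.Agent.Lib.helper2.UX

open Cfsg Cfsg.Geo Cfsg.Agent.Lib.Helper27.ASC Cfsg.Agent.Lib.Lead.ASCU
open scoped MatrixGroups Matrix

variable {n : ℕ} {F : Type*} [Field F] [Fintype F]

/-- `SU_6` -/
theorem ux6 (q : ℕ) (hF : Fintype.card F = q ^ 2) (hASU : ASUStmt 6 F q) (H : Subgroup (GL (Fin 6) F))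
    (hH : IsMaximalIn (GU 6 F q ⊓ specialLinear (Fin 6) F) H) :
    (∃ W : Submodule F (Fin 6 → F), W ≠ ⊥ ∧ Cfsg.Geo.IsTotallySingularFor (Cfsg.hermForm 6 F q) W ∧ H = Cfsg.Geo.subspaceStabilizer W ⊓ (Cfsg.GU 6 F q ⊓ Cfsg.Geo.specialLinear (Fin 6) F)) ∨
    (∃ W : Submodule F (Fin 6 → F), W ≠ ⊥ ∧ Cfsg.Geo.IsNondegenerateOn (Cfsg.hermForm 6 F q) W ∧ 2 * Module.finrank F W < 6 ∧ H = Cfsg.Geo.subspaceStabilizer W ⊓ (Cfsg.GU 6 F q ⊓ Cfsg.Geo.specialLinear (Fin 6) F)) ∨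
    (3 ≤ q ∧ ∃ D : Fin 6 → Submodule F (Fin 6 → F), Cfsg.Geo.IsNondegenerateMDecomposition (Cfsg.hermForm 6 F q) 1 D ∧ H = Cfsg.Geo.decompositionStabilizer D ⊓ (Cfsg.GU 6 F q ⊓ Cfsg.Geo.specialLinear (Fin 6) F)) ∨
    (3 ≤ q ∧ ∃ D : Fin 3 → Submodule F (Fin 6 → F), Cfsg.Geo.IsNondegenerateMDecomposition (Cfsg.hermForm 6 F q) 2 D ∧ H = Cfsg.Geo.decompositionStabilizer D ⊓ (Cfsg.GU 6 F q ⊓ Cfsg.Geo.specialLinear (Fin 6) F)) ∨
    (∃ D : Fin 2 → Submodule F (Fin 6 → F), Cfsg.Geo.IsNondegenerateMDecomposition (Cfsg.hermForm 6 F q) 3 D ∧ H = Cfsg.Geo.decompositionStabilizer D ⊓ (Cfsg.GU 6 F q ⊓ Cfsg.Geo.specialLinear (Fin 6) F)) ∨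
    (∃ D : Fin 2 → Submodule F (Fin 6 → F), Cfsg.Geo.IsMDecomposition 3 D ∧ (∀ i, Cfsg.Geo.IsTotallySingularFor (Cfsg.hermForm 6 F q) (D i)) ∧ H = Cfsg.Geo.decompositionStabilizer D ⊓ (Cfsg.GU 6 F q ⊓ Cfsg.Geo.specialLinear (Fin 6) F)) ∨
    (3 ≤ q ∧ ∃ K : Subalgebra F (Matrix (Fin 6) (Fin 6) F), Cfsg.Geo.IsFieldSubalgebra 3 K ∧ Cfsg.Geo.IsAdjointClosedFor (Cfsg.hermForm 6 F q) K ∧ H = Cfsg.Geo.subalgebraNormalizer K ⊓ (Cfsg.GU 6 F q ⊓ Cfsg.Geo.specialLinear (Fin 6) F)) ∨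
    (3 ≤ q ∧ ∃ (e : Fin 6 ≃ Fin 2 × Fin 3) (P : Matrix.GeneralLinearGroup (Fin 6) F) (f₁ : (Fin 2 → F) → (Fin 2 → F) → F) (f₂ : (Fin 3 → F) → (Fin 3 → F) → F), Cfsg.Geo.IsUnitaryFormPow q f₁ ∧ Cfsg.Geo.IsUnitaryFormPow q f₂ ∧ Cfsg.Geo.IsTensorFormStructure (fun x : F => x ^ q) (Cfsg.hermForm 6 F q) f₁ f₂ e P ∧ H = Cfsg.Geo.tensorProductSubgroup 2 3 e P ⊓ (Cfsg.GU 6 F q ⊓ Cfsg.Geo.specialLinear (Fin 6) F)) ∨
    (∃ (F₀ : Subfield F) (r : ℕ) (P : Matrix.GeneralLinearGroup (Fin 6) F), r.Prime ∧ Odd r ∧ Fintype.card F = Nat.card F₀ ^ r ∧ Cfsg.Geo.IsFormRationalStructure (Cfsg.hermForm 6 F q) F₀ 1 P ∧ H = Cfsg.Geo.subfieldSubgroup F₀ P ⊓ (Cfsg.GU 6 F q ⊓ Cfsg.Geo.specialLinear (Fin 6) F)) ∨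
    (∃ (F₀ : Subfield F) (P : Matrix.GeneralLinearGroup (Fin 6) F) (ζ : F), Fintype.card F = Nat.card F₀ ^ 2 ∧ ζ ≠ 0 ∧ ζ + ζ ^ q = 0 ∧ Cfsg.Geo.IsFormRationalStructure (Cfsg.hermForm 6 F q) F₀ ζ P ∧ (∀ u : Fin 6 → F, (∀ i, u i ∈ F₀) → (Cfsg.hermForm 6 F q) (Matrix.mulVec (P : Matrix (Fin 6) (Fin 6) F) u) (Matrix.mulVec (P : Matrix (Fin 6) (Fin 6) F) u) = 0) ∧ H = Cfsg.Geo.subfieldSubgroup F₀ P ⊓ (Cfsg.GU 6 F q ⊓ Cfsg.Geo.specialLinear (Fin 6) F)) ∨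
    (Odd q ∧ ∃ (F₀ : Subfield F) (P : Matrix.GeneralLinearGroup (Fin 6) F), Fintype.card F = Nat.card F₀ ^ 2 ∧ Cfsg.Geo.IsFormRationalStructure (Cfsg.hermForm 6 F q) F₀ 1 P ∧ H = Cfsg.Geo.subfieldSubgroup F₀ P ⊓ (Cfsg.GU 6 F q ⊓ Cfsg.Geo.specialLinear (Fin 6) F)) ∨
    Cfsg.Geo.InUnitaryResidualClass H := by
  have hq2 : 2 ≤ q := ux_two_le_q hF
  have hn : 3 ≤ 6 := by norm_num
  have hW : ∀ (k t : ℕ) (e : Fin 6 ≃ (Fin t → Fin k)) (P : GL (Fin 6) F), 3 ≤ k → 2 ≤ t →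
      ¬ SUg 6 F q ≤ tensorWreathSubgroup k t e P := fun k t e P hk ht =>
    (ux_no_wreath hk ht (ux_wreath_card e) (by norm_num) (by norm_num)).elim
  rcases ux_max q hF (by norm_num) hASU hW hH with ⟨W, h0, hts, hHW⟩ | ⟨W, h0, hnd, hd, hHW⟩ | ⟨t, k, D, hD, hHD⟩ |
    ⟨k, D, hk, hD, hts, hHD⟩ | ⟨F₀, r, P, hr, hodd, hc, hrat, hHS⟩ | ⟨F₀, P, hodd, hc, hrat, hHS⟩ |
    ⟨F₀, P, ζ, hev, hc, hζ, hζq, hrat, halt, hHS⟩ | ⟨r, R, p, e, k, hR, hA, hsim, hrp, hmin, hcase, hHR⟩ |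
    ⟨r, K, hr, hodd, hK, hadj, hHK⟩ | ⟨n₁, n₂, e, P, f₁, f₂, h1, h2, hf₁, hf₂, hT, hHT⟩ |
    ⟨k, t, e, P, f₁, hk, ht, hex', hf₁, hT, hHW⟩ | hres
  · exact Or.inl ⟨W, h0, hts, hHW⟩
  · exact Or.inr (Or.inl ⟨W, h0, hnd, hd, hHW⟩)
  · have hc := Cfsg.Agent.Lib.Helper28.Ld.card_eq D hD.decomp
    have ht2 := hD.decomp.two_le
    have hk0 := hD.decomp.pos
    have htN : t ≤ 6 := by nlinarith
    interval_cases t
    · -- t = 2, k = 3
      obtain rfl : k = 3 := by omega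
      exact Or.inr (Or.inr (Or.inr (Or.inr (Or.inl ⟨D, hD, hHD⟩))))
    · -- t = 3, k = 2
      obtain rfl : k = 2 := by omega
      by_cases h3 : 3 ≤ q
      · exact Or.inr (Or.inr (Or.inr (Or.inl ⟨h3, D, hD, hHD⟩)))
      · obtain rfl : q = 2 := by omega
        have hF4 : Fintype.card F = 4 := by rw [hF]; norm_num
        exact absurd hH (hHD ▸ not_isMaximalIn_of_notMax (dec2_q2 hF4 D hD))
    · omega
    · omega
    · -- t = 6, k = 1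
      obtain rfl : k = 1 := by omega
      by_cases h3 : 3 ≤ q
      · exact Or.inr (Or.inr (Or.inl ⟨h3, D, hD, hHD⟩))
      · obtain rfl : q = 2 := by omega
        have hF4 : Fintype.card F = 4 := by rw [hF]; norm_num
        exact absurd hH (hHD ▸ not_isMaximalIn_of_notMax (frame6_q2 hF4 D hD))
  · obtain rfl : k = 3 := by omega
    exact Or.inr (Or.inr (Or.inr (Or.inr (Or.inr (Or.inl ⟨D, hD, hts, hHD⟩)))))
  · exact Or.inr (Or.inr (Or.inr (Or.inr (Or.inr (Or.inr (Or.inr (Or.inr (Or.inl ⟨F₀, r, P, hr, hodd, hc, hrat, hHS⟩))))))))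
  · exact Or.inr (Or.inr (Or.inr (Or.inr (Or.inr (Or.inr (Or.inr (Or.inr (Or.inr (Or.inr (Or.inl ⟨hodd, F₀, P, hc, hrat, hHS⟩))))))))))
  · exact Or.inr (Or.inr (Or.inr (Or.inr (Or.inr (Or.inr (Or.inr (Or.inr (Or.inr (Or.inl ⟨F₀, P, ζ, hc, hζ, hζq, hrat, halt, hHS⟩)))))))))
  · have hZ : Nat.card (Subgroup.center R) = r * Nat.gcd 2 r := by
      rcases hcase with ⟨hodd, hz, -, -⟩ | ⟨h2, -, hz, -⟩
      · rw [hz, Nat.Coprime.gcd_eq_one (Nat.coprime_two_left.mpr hodd), mul_one]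
      · subst h2
        rw [hz]
        norm_num
    have hdeg := usympl_degree (by norm_num) R hR hA hZ
    rcases hcase with ⟨hodd, hz, hk1, hcard⟩ | ⟨h2, he2, hz, hcard⟩
    · rw [hz, hcard] at hdeg
      have hdim := ux_dim_odd hR.prime.pos hdeg
      rcases ux_prime_pow_cases hR.prime hdim (by norm_num) (by norm_num) with ⟨h, hr2, hk2⟩ | ⟨h, hr2, hk2⟩ | ⟨h, hr3, hk2⟩ | ⟨hk1', h⟩
      · first | omega | (subst hr2; exact absurd hodd (by decide))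
      · first | omega | (subst hr2; exact absurd hodd (by decide))
      · omega
      · subst h
        exact absurd hR.prime (by norm_num)
    · subst h2 he2
      rw [hz, hcard] at hdeg
      have hdim := ux_dim_two hdeg
      rcases ux_prime_pow_cases Nat.prime_two hdim (by norm_num) (by norm_num) with ⟨h, -, -⟩ | ⟨h, -, -⟩ | ⟨h, hr3, -⟩ | ⟨-, h⟩
      · omega
      · omega
      · omega
      · omega
  · have hdvd : r ∣ 6 := field_finrank_dvd (by norm_num) K hK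
    have hrN : r ≤ 6 := Nat.le_of_dvd (by norm_num) hdvd
    have hr2 := hr.two_le
    interval_cases r
    · exact absurd hodd (by decide)
    · by_cases h3 : 3 ≤ q
      · exact Or.inr (Or.inr (Or.inr (Or.inr (Or.inr (Or.inr (Or.inl ⟨h3, K, hK, hadj, hHK⟩))))))
      · obtain rfl : q = 2 := by omega
        have hF4 : Fintype.card F = 4 := by rw [hF]; norm_num
        exact absurd hH (hHK ▸ not_isMaximalIn_of_notMax (field3_q2 hF4 K hK hadj))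
    · exact absurd hr (by norm_num)
    · exact absurd hdvd (by norm_num)
    · exact absurd hr (by norm_num)
  · have hc := ux_tensor_card e
    have hn1 : n₁ ≤ 6 := by nlinarith
    have hn2 : n₂ ≤ 6 := by nlinarith
    interval_cases n₁ <;> interval_cases n₂ <;> first | omega | skip
    · by_cases h3 : 3 ≤ q
      · exact Or.inr (Or.inr (Or.inr (Or.inr (Or.inr (Or.inr (Or.inr (Or.inl ⟨h3, e, P, f₁, f₂, hf₁, hf₂, hT, hHT⟩)))))))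
      · obtain rfl : q = 2 := by omega
        have hF4 : Fintype.card F = 4 := by rw [hF]; norm_num
        exact absurd hH (hHT ▸ not_isMaximalIn_of_notMax (tensor2_q2 hF4 (by norm_num) e P f₁ f₂ hf₁ hf₂ hT))
  · exact (ux_no_wreath hk ht (ux_wreath_card e) (by norm_num) (by norm_num)).elim
  · exact Or.inr (Or.inr (Or.inr (Or.inr (Or.inr (Or.inr (Or.inr (Or.inr (Or.inr (Or.inr (Or.inr hres))))))))))

end Cfsg.Agent.Lib.helper2.UX
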