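import Mathlib
import Cfsg.Agent.Lib.helper2.GlaubS3
import Cfsg.Agent.Lib.helper2.GlaubCyc1

set_option autoImplicit false

namespace Cfsg.Agent.Lib.helper2

/-- the size of a conjugacy class is the index of the centralizer -/
theorem us_card_carrier {G : Type*} [Group G] (g : G) :
    Nat.card (ConjClasses.mk g).carrier = (Subgroup.centralizer ({g} : Set G)).index := by
  have h1 : (Subgroup.centralizer ({g} : Set G)).index =
      (MulAction.stabilizer (ConjAct G) g).index := by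
    rw [Subgroup.centralizer_eq_comap_stabilizer]
    exact Subgroup.index_comap_of_surjective (MulAction.stabilizer (ConjAct G) g)
      (f := (ConjAct.toConjAct (G := G)).toMonoidHom) ConjAct.toConjAct.surjective
  rw [h1, MulAction.index_stabilizer, ConjAct.orbit_eq_carrier_conjClasses]
  rfl

/-- an element whose centralizer has index prime to `p` is conjugate into the centralizer of a
given Sylow `p`-subgroup -/
theorem us_conj_into_cent {G : Type*} [Group G] [Finite G] (p : ℕ) [Fact p.Prime]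
    (P : Sylow p G) (g : G) (h : ¬ p ∣ (Subgroup.centralizer ({g} : Set G)).index) :
    ∃ x : G, ∀ u ∈ (P : Subgroup G), u * (x * g * x⁻¹) = (x * g * x⁻¹) * u := by
  classical
  set H : Subgroup G := Subgroup.centralizer ({g} : Set G) with hH
  have hP : IsPGroup p (P : Subgroup G) := P.isPGroup'
  have hcard : ¬ p ∣ Nat.card (G ⧸ H) := h
  obtain ⟨a, ha⟩ := hP.nonempty_fixed_point_of_prime_not_dvd_card (G ⧸ H) hcard
  obtain ⟨x, rfl⟩ := QuotientGroup.mk_surjective a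
  refine ⟨x, fun u hu => ?_⟩
  have h1 : (⟨u, hu⟩ : (P : Subgroup G)) • (QuotientGroup.mk x : G ⧸ H) = QuotientGroup.mk x :=
    ha ⟨u, hu⟩
  have h2 : (QuotientGroup.mk (u * x) : G ⧸ H) = QuotientGroup.mk x := h1
  have h3 : (u * x)⁻¹ * x ∈ H := QuotientGroup.eq.mp h2
  rw [hH, Subgroup.mem_centralizer_iff] at h3
  have h4 := h3 g (Set.mem_singleton g)
  -- g * ((u x)⁻¹ x) = ((u x)⁻¹ x) * g
  calc u * (x * g * x⁻¹) = u * (x * (g * ((u * x)⁻¹ * x)) * x⁻¹) * u := by group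
    _ = u * (x * ((u * x)⁻¹ * x * g) * x⁻¹) * u := by rw [h4]
    _ = x * g * x⁻¹ * u := by group

/-- decomposition of the centralizer of an abelian complement -/
theorem us_cent_decomp {G : Type*} [Group G] (N P : Subgroup G) [hN : N.Normal]
    (htop : N ⊔ P = ⊤) (hab : ∀ a ∈ P, ∀ b ∈ P, a * b = b * a)
    (g : G) (hg : ∀ u ∈ P, u * g = g * u) :
    ∃ c ∈ N, (∀ u ∈ P, u * c = c * u) ∧ ∃ v ∈ P, g = c * v := by
  obtain ⟨c, hc, v, hv, rfl⟩ := gc_mem_mul N P htop g
  refine ⟨c, hc, fun u hu => ?_, v, hv, rfl⟩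
  have h1 := hg u hu
  have h2 := hab u hu v hv
  calc u * c = u * (c * v) * v⁻¹ := by group
    _ = c * v * u * v⁻¹ := by rw [h1]
    _ = c * (v * u) * v⁻¹ := by group
    _ = c * (u * v) * v⁻¹ := by rw [h2]
    _ = c * u := by group

/-- fusion of products `c u` with `c ∈ C_N(P)`, `u ∈ P` -/
theorem us_inj {G : Type*} [Group G] [Finite G] (p : ℕ) [Fact p.Prime] (N P : Subgroup G)
    [hN : N.Normal] (hP : IsPGroup p P) (hpN : ¬ p ∣ Nat.card N) (htop : N ⊔ P = ⊤)
    (hab : ∀ a ∈ P, ∀ b ∈ P, a * b = b * a)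
    (c c' u u' : G) (hc : c ∈ N) (hc' : c' ∈ N) (hcP : ∀ v ∈ P, v * c = c * v)
    (hc'P : ∀ v ∈ P, v * c' = c' * v) (hu : u ∈ P) (hu' : u' ∈ P)
    (g : G) (hconj : g * (c * u) * g⁻¹ = c' * u') :
    u = u' ∧ ∃ y ∈ N, (∀ v ∈ P, v * y = y * v) ∧ y * c * y⁻¹ = c' := by
  classical
  have hcop : (Nat.card N).Coprime (Nat.card P) := by
    obtain ⟨k, hk⟩ := IsPGroup.iff_card.mp hP
    rw [hk]
    apply Nat.Coprime.pow_right
    exact (Nat.Coprime.symm ((Nat.Prime.coprime_iff_not_dvd (Fact.out : p.Prime)).mpr hpN))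
  have hdisj : N ⊓ P = ⊥ := gc_disjoint N P hcop
  -- Step 1
  have h1 : u' * u⁻¹ ∈ N := by
    have e : u' * u⁻¹ = c'⁻¹ * (g * c * g⁻¹) * (g * u * g⁻¹ * u⁻¹) := by
      have : c' * u' = g * (c * u) * g⁻¹ := hconj.symm
      calc u' * u⁻¹ = c'⁻¹ * (c' * u') * u⁻¹ := by group
        _ = c'⁻¹ * (g * (c * u) * g⁻¹) * u⁻¹ := by rw [this]
        _ = c'⁻¹ * (g * c * g⁻¹) * (g * u * g⁻¹ * u⁻¹) := by group
    rw [e]
    exact N.mul_mem (N.mul_mem (N.inv_mem hc') (hN.conj_mem c hc g)) (gc_comm_quot N P htop hab g u)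
  have h2 : u' * u⁻¹ ∈ N ⊓ P := ⟨h1, P.mul_mem hu' (P.inv_mem hu)⟩
  rw [hdisj, Subgroup.mem_bot] at h2
  have huu : u = u' := by
    have := congrArg (fun t => t * u) h2
    simp only [inv_mul_cancel_right, one_mul] at this
    exact this.symm
  refine ⟨huu, ?_⟩
  subst huu
  -- Step 2: power argument
  set a : G := g * c * g⁻¹ with ha
  set b : G := g * u * g⁻¹ with hb
  have hab' : a * b = c' * u := by
    rw [ha, hb, ← hconj]; group
  have haN : a ∈ N := hN.conj_mem c hc g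
  have hcomm_ab : Commute a b := by
    have h0 : c * u = u * c := (hcP u hu).symm
    show a * b = b * a
    rw [ha, hb]
    calc g * c * g⁻¹ * (g * u * g⁻¹) = g * (c * u) * g⁻¹ := by group
      _ = g * (u * c) * g⁻¹ := by rw [h0]
      _ = g * u * g⁻¹ * (g * c * g⁻¹) := by group
  have hcomm_cu : Commute c' u := (hc'P u hu).symm
  have hpowN : ∀ x ∈ N, x ^ (Nat.card N) = 1 := by
    intro x hx
    have := pow_card_eq_one' (G := N) (x := ⟨x, hx⟩)
    have h3 := congrArg Subtype.val this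
    rw [Subgroup.coe_pow] at h3
    exact h3
  have hpowP : ∀ x ∈ P, x ^ (Nat.card P) = 1 := by
    intro x hx
    have := pow_card_eq_one' (G := P) (x := ⟨x, hx⟩)
    have h3 := congrArg Subtype.val this
    rw [Subgroup.coe_pow] at h3
    exact h3
  have hbpow : b ^ (Nat.card P) = 1 := by
    rw [hb, conj_pow, hpowP u hu]; group
  -- Bezout
  have hbez := Int.gcd_eq_gcd_ab (Nat.card P) (Nat.card N)
  have hg1 : Int.gcd (Nat.card P : ℤ) (Nat.card N : ℤ) = 1 := by
    rw [Int.gcd_natCast_natCast]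
    exact hcop.symm
  rw [hg1] at hbez
  set z : ℤ := (Nat.card P : ℤ) * Int.gcdA (Nat.card P) (Nat.card N) with hz
  have hz1 : z = 1 - (Nat.card N : ℤ) * Int.gcdB (Nat.card P) (Nat.card N) := by
    rw [hz]; push_cast at hbez; linarith
  have hzN : ∀ x ∈ N, x ^ z = x := by
    intro x hx
    rw [hz1, zpow_sub, zpow_one, zpow_mul, zpow_natCast, hpowN x hx, one_zpow, inv_one, mul_one]
  have hzP : ∀ x : G, x ^ (Nat.card P) = 1 → x ^ z = 1 := by
    intro x hx
    rw [hz, zpow_mul, zpow_natCast, hx, one_zpow]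
  have h3 : a = c' := by
    have e1 : (a * b) ^ z = a := by
      rw [hcomm_ab.mul_zpow, hzN a haN, hzP b hbpow, mul_one]
    have e2 : (c' * u) ^ z = c' := by
      rw [hcomm_cu.mul_zpow, hzN c' hc', hzP u (hpowP u hu), mul_one]
    rw [← e1, hab', e2]
  -- Step 3
  obtain ⟨n, hn, v, hv, rfl⟩ := gc_mem_mul N P htop g
  have h4 : n * c * n⁻¹ = c' := by
    rw [← h3, ha]
    have h0 : v * c = c * v := hcP v hv
    calc n * c * n⁻¹ = n * (c * v) * v⁻¹ * n⁻¹ := by group
      _ = n * (v * c) * v⁻¹ * n⁻¹ := by rw [h0]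
      _ = n * v * c * (n * v)⁻¹ := by group
  have hnorm : ∀ w ∈ P, ∀ x ∈ N, w * x * w⁻¹ ∈ N := fun w _ x hx => hN.conj_mem x hx w
  have hfix : ∀ x : G, (∀ v ∈ P, v * x = x * v) → ∀ w ∈ P, w * x * w⁻¹ = x := by
    intro x hx w hw
    rw [hx w hw]; group
  obtain ⟨y, hy, hyP, hyc⟩ := gs_fusion N P p hP hpN hnorm c c' (hfix c hcP) (hfix c' hc'P) n hn h4
  refine ⟨y, hy, fun w hw => ?_, hyc⟩
  have := hyP w hw
  calc w * y = w * y * w⁻¹ * w := by group
    _ = y * w := by rw [this]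

end Cfsg.Agent.Lib.helper2
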