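import Mathlib
import Cfsg.Agent.Lib.helper2.UniqSing1

set_option autoImplicit false

namespace Cfsg.Agent.Lib.helper2

/-- classes of size prime to `p` are counted by `P × classes of C_N(P)` -/
theorem us_count {G : Type*} [Group G] [Finite G] (p : ℕ) [Fact p.Prime] (N : Subgroup G)
    [hN : N.Normal] (P : Sylow p G) (hpN : ¬ p ∣ Nat.card N)
    (htop : N ⊔ (P : Subgroup G) = ⊤)
    (hab : ∀ a ∈ (P : Subgroup G), ∀ b ∈ (P : Subgroup G), a * b = b * a) :
    Nat.card {C : ConjClasses G // ¬ p ∣ Nat.card C.carrier} =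
      Nat.card (P : Subgroup G) *
        Nat.card (ConjClasses ↥(N ⊓ Subgroup.centralizer ((P : Subgroup G) : Set G))) := by
  classical
  set B : Subgroup G := N ⊓ Subgroup.centralizer ((P : Subgroup G) : Set G) with hB
  have hBmem : ∀ x : G, x ∈ B ↔ x ∈ N ∧ ∀ u ∈ (P : Subgroup G), u * x = x * u := by
    intro x
    rw [hB, Subgroup.mem_inf, Subgroup.mem_centralizer_iff]
    rfl
  have hPp : IsPGroup p (P : Subgroup G) := P.isPGroup'
  -- the map
  have hwd : ∀ (u : (P : Subgroup G)) (c₁ c₂ : B), IsConj c₁ c₂ →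
      ConjClasses.mk ((c₁ : G) * (u : G)) = ConjClasses.mk ((c₂ : G) * (u : G)) := by
    intro u c₁ c₂ h
    rw [isConj_iff] at h
    obtain ⟨d, hd⟩ := h
    rw [ConjClasses.mk_eq_mk_iff_isConj, isConj_iff]
    refine ⟨(d : G), ?_⟩
    have h1 : (d : G) * (c₁ : G) * (d : G)⁻¹ = (c₂ : G) := by
      have := congrArg Subtype.val hd
      simpa using this
    have h2 : (u : G) * (d : G) = (d : G) * (u : G) := ((hBmem d).mp d.2).2 u u.2
    have h3 : (d : G) * (u : G) * (d : G)⁻¹ = (u : G) := by rw [← h2]; group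
    rw [← h1]
    calc (d : G) * ((c₁ : G) * (u : G)) * (d : G)⁻¹
        = (d : G) * (c₁ : G) * (d : G)⁻¹ * ((d : G) * (u : G) * (d : G)⁻¹) := by group
      _ = (d : G) * (c₁ : G) * (d : G)⁻¹ * (u : G) := by rw [h3]
  let φ : ConjClasses B → ↥(P : Subgroup G) → ConjClasses G := fun K u =>
    Quotient.lift (s := IsConj.setoid B) (fun c : B => ConjClasses.mk ((c : G) * (u : G)))
      (fun c₁ c₂ h => hwd u c₁ c₂ h) K
  have hφmk : ∀ (c : B) (u : (P : Subgroup G)),
      φ (ConjClasses.mk c) u = ConjClasses.mk ((c : G) * (u : G)) := fun c u => rfl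
  have hprop : ∀ (K : ConjClasses B) (u : (P : Subgroup G)),
      ¬ p ∣ Nat.card (φ K u).carrier := by
    intro K u
    obtain ⟨c, rfl⟩ := ConjClasses.mk_surjective K
    rw [hφmk, us_card_carrier]
    have hle : (P : Subgroup G) ≤ Subgroup.centralizer ({(c : G) * (u : G)} : Set G) := by
      intro w hw
      rw [Subgroup.mem_centralizer_iff]
      intro h hh
      rw [Set.mem_singleton_iff] at hh
      subst hh
      have h1 : w * (c : G) = (c : G) * w := ((hBmem c).mp c.2).2 w hw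
      have h2 : w * (u : G) = (u : G) * w := hab w hw u u.2
      calc (c : G) * (u : G) * w = (c : G) * ((u : G) * w) := by group
        _ = (c : G) * (w * (u : G)) := by rw [h2]
        _ = ((c : G) * w) * (u : G) := by group
        _ = (w * (c : G)) * (u : G) := by rw [h1]
        _ = w * ((c : G) * (u : G)) := by group
    intro hdvd
    exact P.not_dvd_index (dvd_trans hdvd (Subgroup.index_dvd_of_le hle))
  let Φ : ConjClasses B × ↥(P : Subgroup G) → {C : ConjClasses G // ¬ p ∣ Nat.card C.carrier} :=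
    fun x => ⟨φ x.1 x.2, hprop x.1 x.2⟩
  have hinj : Function.Injective Φ := by
    rintro ⟨K, u⟩ ⟨K', u'⟩ h
    obtain ⟨c, rfl⟩ := ConjClasses.mk_surjective K
    obtain ⟨c', rfl⟩ := ConjClasses.mk_surjective K'
    have h1 : ConjClasses.mk ((c : G) * (u : G)) = ConjClasses.mk ((c' : G) * (u' : G)) :=
      congrArg Subtype.val h
    rw [ConjClasses.mk_eq_mk_iff_isConj, isConj_iff] at h1
    obtain ⟨g, hg⟩ := h1
    obtain ⟨huu, y, hyN, hyP, hyc⟩ := us_inj p N (P : Subgroup G) hPp hpN htop hab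
      (c : G) (c' : G) (u : G) (u' : G) ((hBmem c).mp c.2).1 ((hBmem c').mp c'.2).1
      ((hBmem c).mp c.2).2 ((hBmem c').mp c'.2).2 u.2 u'.2 g hg
    have e1 : u = u' := Subtype.ext huu
    have e2 : (ConjClasses.mk c : ConjClasses B) = ConjClasses.mk c' := by
      rw [ConjClasses.mk_eq_mk_iff_isConj, isConj_iff]
      refine ⟨⟨y, (hBmem y).mpr ⟨hyN, hyP⟩⟩, ?_⟩
      apply Subtype.ext
      simpa using hyc
    rw [e1, e2]
  have hsurj : Function.Surjective Φ := by
    rintro ⟨C, hC⟩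
    obtain ⟨g, rfl⟩ := ConjClasses.mk_surjective C
    rw [us_card_carrier] at hC
    obtain ⟨x, hx⟩ := us_conj_into_cent p P g hC
    obtain ⟨c, hcN, hcP, v, hv, hcv⟩ := us_cent_decomp N (P : Subgroup G) htop hab (x * g * x⁻¹) hx
    refine ⟨(ConjClasses.mk ⟨c, (hBmem c).mpr ⟨hcN, hcP⟩⟩, ⟨v, hv⟩), ?_⟩
    apply Subtype.ext
    show ConjClasses.mk (c * v) = ConjClasses.mk g
    rw [← hcv, ConjClasses.mk_eq_mk_iff_isConj, isConj_iff]
    exact ⟨x⁻¹, by group⟩
  rw [← Nat.card_congr (Equiv.ofBijective Φ ⟨hinj, hsurj⟩), Nat.card_prod, mul_comm]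

end Cfsg.Agent.Lib.helper2
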