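import Mathlib
import Cfsg.Agent.Lib.Helper25.CosetVanish
import Cfsg.Agent.Lib.Helper25.ExtraspecialUnique
import Cfsg.Agent.Lib.Helper24.Cdc3
import Cfsg.Agent.S0133

set_option autoImplicit false
set_option linter.deprecated false

namespace Cfsg.Agent.Lib.helper2
open Cfsg.Agent.Lib.Helper11 Cfsg.Agent.Lib.helper7 Cfsg.Agent.Lib.Helper24 Cfsg.Agent.Lib.Helper25
open scoped ComplexConjugate

variable {G : Type*} [Group G]

theorem us_coset_norm [Finite G] (N : Subgroup G) [hN : N.Normal] [Fintype N]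
    (χ : Cfsg.IrrCharacter G)
    (hirr : Cfsg.IsIrrCharacter ↥N (fun n : ↥N => (χ : G → ℂ) n)) (x : G) :
    ∑ n : N, (χ : G → ℂ) ((n : G) * x) * conj ((χ : G → ℂ) ((n : G) * x)) = (Nat.card N : ℂ) := by
  classical
  haveI := Fintype.ofFinite G
  have hFchar := csv_cosetAvg_isCharacter N χ
  have hF1 : csv_cosetAvg N (χ : G → ℂ) 1 = 1 := by
    rw [csv_cosetAvg_one]
    exact h7_irr_norm hirr
  have hFirr := h7_linear_isIrr hFchar hF1
  have hmul := irr_linear_mul_conj ⟨_, hFirr⟩ hF1 x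
  have hreal := csv_cosetAvg_real N (χ : G → ℂ) x
  set r : ℝ := (Nat.card N : ℝ)⁻¹ * ∑ n : N, ‖(χ : G → ℂ) ((n : G) * x)‖ ^ 2 with hr
  have hr0 : 0 ≤ r := by
    apply mul_nonneg
    · positivity
    · apply Finset.sum_nonneg
      intro i _
      positivity
  simp only at hmul
  rw [hreal] at hmul
  rw [Complex.conj_ofReal] at hmul
  have hrr : r * r = 1 := by exact_mod_cast hmul
  have hr1 : r = 1 := by nlinarith
  have hFx : csv_cosetAvg N (χ : G → ℂ) x = 1 := by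
    rw [hreal, hr1]; simp
  unfold csv_cosetAvg at hFx
  have hNne : (Nat.card N : ℂ) ≠ 0 := by
    have : 0 < Nat.card N := Nat.card_pos
    exact_mod_cast this.ne'
  field_simp at hFx
  exact hFx

theorem us_prod_irr [Finite G] (N : Subgroup G) [hN : N.Normal]
    (χ β : Cfsg.IrrCharacter G)
    (hirr : Cfsg.IsIrrCharacter ↥N (fun n : ↥N => (χ : G → ℂ) n))
    (hβ : ∀ (n : N) (x : G), (β : G → ℂ) ((n : G) * x) = (β : G → ℂ) x) :
    Cfsg.IsIrrCharacter G ((χ : G → ℂ) * (β : G → ℂ)) := by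
  classical
  haveI := Fintype.ofFinite G
  haveI : Fintype N := Fintype.ofFinite N
  have hchar : Cfsg.IsCharacter G ((χ : G → ℂ) * (β : G → ℂ)) :=
    h7_isCharacter_mul (isCharacter_of_irr χ) (isCharacter_of_irr β)
  apply h7_irr_of_norm_one hchar
  have hβn := h7_irr_norm β.2
  unfold Cfsg.classInner at hβn ⊢
  rw [← hβn]
  congr 1
  have hNne : (Nat.card N : ℂ) ≠ 0 := by
    have : 0 < Nat.card N := Nat.card_pos
    exact_mod_cast this.ne'
  -- average over N
  have havg : ∀ f : G → ℂ, ∑ g : G, f g = (Nat.card N : ℂ)⁻¹ * ∑ x : G, ∑ n : N, f ((n : G) * x) := by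
    intro f
    rw [Finset.sum_comm]
    have h1 : ∀ n : N, ∑ x : G, f ((n : G) * x) = ∑ x : G, f x := by
      intro n
      exact Equiv.sum_comp (Equiv.mulLeft (n : G)) f
    simp only [h1, Finset.sum_const, Finset.card_univ, nsmul_eq_mul]
    rw [Nat.card_eq_fintype_card] at hNne ⊢
    field_simp
  rw [havg (fun g => ((χ : G → ℂ) * (β : G → ℂ)) g * conj (((χ : G → ℂ) * (β : G → ℂ)) g))]
  rw [Finset.mul_sum]
  apply Finset.sum_congr rfl
  intro x _
  have h2 : ∀ n : N, ((χ : G → ℂ) * (β : G → ℂ)) ((n : G) * x) *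
      conj (((χ : G → ℂ) * (β : G → ℂ)) ((n : G) * x)) =
      ((χ : G → ℂ) ((n : G) * x) * conj ((χ : G → ℂ) ((n : G) * x))) *
        ((β : G → ℂ) x * conj ((β : G → ℂ) x)) := by
    intro n
    simp only [Pi.mul_apply, map_mul, hβ]
    ring
  simp only [h2]
  rw [← Finset.sum_mul, us_coset_norm N χ hirr x]
  field_simp

theorem us_inner_const [Fintype G] (θ : Cfsg.IrrCharacter G) (hθ : θ ≠ trivIrr G) (c : ℂ) :
    Cfsg.classInner (θ : G → ℂ) (fun _ => c) = 0 := by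
  have h0 : Cfsg.classInner (θ : G → ℂ) (trivIrr G : G → ℂ) = 0 :=
    h7_irr_inner_ne θ.2 (trivIrr G).2 (fun h => hθ (Subtype.ext h))
  unfold Cfsg.classInner at h0 ⊢
  simp only [trivIrr_apply, map_one, mul_one] at h0
  rw [← Finset.sum_mul, ← mul_assoc, h0, zero_mul]

theorem us_abelian [Finite G] (p : ℕ) [Fact p.Prime] (hnil : ¬ Group.IsNilpotent G)
    (N : Subgroup G) [hNn : N.Normal] (hidx : ∃ k : ℕ, N.index = p ^ k)
    (hone : Nat.card {χ : Cfsg.IrrCharacter G // p ∣ Cfsg.charDegree (χ : G → ℂ)} = 1) :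
    ∀ x y : G, x * y * x⁻¹ * y⁻¹ ∈ N := by
  classical
  haveI := Fintype.ofFinite G
  haveI : Fintype N := Fintype.ofFinite N
  have hp : p.Prime := Fact.out
  obtain ⟨k, hk⟩ := hidx
  by_contra hcon
  push Not at hcon
  obtain ⟨x, y, hxy⟩ := hcon
  have hQp : IsPGroup p (G ⧸ N) := IsPGroup.of_card (n := k) (by rw [← hk, Subgroup.index_eq_card])
  have hβex : ∃ β : Cfsg.IrrCharacter (G ⧸ N), (β : G ⧸ N → ℂ) 1 ≠ 1 := by
    by_contra hall
    push Not at hall
    have hc := xs_comm_of_all_linear hall (x : G ⧸ N) (y : G ⧸ N)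
    apply hxy
    rw [← QuotientGroup.eq_one_iff]
    simp only [QuotientGroup.mk_mul, QuotientGroup.mk_inv]
    rw [hc]
    group
  obtain ⟨β, hβ⟩ := hβex
  have hpβ := xs_p_dvd_of_nonlinear p hQp β hβ
  set βt := xs_infl (QuotientGroup.mk' N) (QuotientGroup.mk'_surjective N) β with hβt
  have hβtN : ∀ n : N, (βt : G → ℂ) n = (β : G ⧸ N → ℂ) 1 := by
    intro n
    rw [hβt, xs_infl_apply]
    have : (QuotientGroup.mk' N) (n : G) = 1 := (QuotientGroup.eq_one_iff _).2 n.2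
    rw [this]
  have hβt1 : (βt : G → ℂ) 1 = (β : G ⧸ N → ℂ) 1 := hβtN 1
  have hpβt : p ∣ Cfsg.charDegree (βt : G → ℂ) := by
    rw [xs_charDegree_eq _ _ hβt1]; exact hpβ
  have huniq : ∀ χ : Cfsg.IrrCharacter G, p ∣ Cfsg.charDegree (χ : G → ℂ) → χ = βt := by
    intro χ hχ
    have hsub : Subsingleton {χ : Cfsg.IrrCharacter G // p ∣ Cfsg.charDegree (χ : G → ℂ)} :=
      (Nat.card_eq_one_iff_unique.mp hone).1
    have := Subsingleton.elim
      (⟨χ, hχ⟩ : {χ : Cfsg.IrrCharacter G // p ∣ Cfsg.charDegree (χ : G → ℂ)}) ⟨βt, hpβt⟩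
    exact congrArg Subtype.val this
  have hNbot : N ≠ ⊥ := by
    intro h
    apply hnil
    have : Nat.card G = p ^ k := by rw [← hk, h, Subgroup.index_bot]
    exact (IsPGroup.of_card this).isNilpotent
  have hθex : ∃ θ : Cfsg.IrrCharacter N, θ ≠ trivIrr N := by
    by_contra hall
    push Not at hall
    have hsub : Subsingleton (Cfsg.IrrCharacter N) := ⟨fun a b => by rw [hall a, hall b]⟩
    have hc1 : Nat.card (Cfsg.IrrCharacter N) ≤ 1 := Finite.card_le_one_iff_subsingleton.mpr hsub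
    rw [Cfsg.Agent.S0133.result] at hc1
    have hsub2 : Subsingleton (ConjClasses N) := Finite.card_le_one_iff_subsingleton.mp hc1
    apply hNbot
    rw [Subgroup.eq_bot_iff_forall]
    intro n hn
    have := Subsingleton.elim (ConjClasses.mk (⟨n, hn⟩ : N)) (ConjClasses.mk 1)
    rw [ConjClasses.mk_eq_mk_iff_isConj, isConj_comm, isConj_one_right] at this
    exact congrArg Subtype.val this
  obtain ⟨θ, hθ⟩ := hθex
  have hInd := isCharacter_indFun N (θ : N → ℂ) (isCharacter_of_irr θ)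
  have hInd1 : Cfsg.indFun N (θ : N → ℂ) 1 ≠ 0 := by
    rw [h7_indFun_one]
    apply mul_ne_zero
    · have := Subgroup.index_ne_zero_of_finite (H := N)
      exact_mod_cast this
    · exact irr_one_ne_zero θ
  obtain ⟨χ, m, hm, hχm⟩ := isCharacter_exists_constituent hInd hInd1
  rw [h7_frobenius_reciprocity N (θ : N → ℂ) (χ : G → ℂ)
    (isCharacter_isClassFunction (isCharacter_of_irr χ))] at hχm
  have hnotconst : ∀ c : ℂ, ¬ (∀ n : N, (χ : G → ℂ) n = c) := by
    intro c hc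
    have : (fun n : N => (χ : G → ℂ) n) = fun _ => c := funext hc
    rw [this, us_inner_const θ hθ c] at hχm
    have : (m : ℂ) ≠ 0 := by exact_mod_cast hm.ne'
    exact this hχm.symm
  have hχne : χ ≠ βt := by
    intro h
    apply hnotconst ((β : G ⧸ N → ℂ) 1)
    intro n
    rw [h]; exact hβtN n
  have hpχ : ¬ p ∣ Cfsg.charDegree (χ : G → ℂ) := fun h => hχne (huniq χ h)
  have hcop : (Cfsg.charDegree (χ : G → ℂ)).Coprime N.index := by
    rw [hk]
    exact Nat.Coprime.pow_right k ((Nat.Prime.coprime_iff_not_dvd hp).2 hpχ).symm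
  have hirr := cdc_restrict_irr N χ hcop
  have hβmul : ∀ (n : N) (x : G), (βt : G → ℂ) ((n : G) * x) = (βt : G → ℂ) x := by
    intro n x
    rw [hβt, xs_infl_apply, xs_infl_apply]
    rw [map_mul]
    have : (QuotientGroup.mk' N) (n : G) = 1 := (QuotientGroup.eq_one_iff _).2 n.2
    rw [this, one_mul]
  have hΨ := us_prod_irr N χ βt hirr hβmul
  have hΨ1 : ((χ : G → ℂ) * (βt : G → ℂ)) 1 =
      ((Cfsg.charDegree (χ : G → ℂ) * Cfsg.charDegree (βt : G → ℂ) : ℕ) : ℂ) := by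
    rw [Pi.mul_apply, ← (charDegree_irr χ).1, ← (charDegree_irr βt).1]
    push_cast; ring
  have hΨdeg : Cfsg.charDegree ((χ : G → ℂ) * (βt : G → ℂ)) =
      Cfsg.charDegree (χ : G → ℂ) * Cfsg.charDegree (βt : G → ℂ) := by
    generalize Cfsg.charDegree (χ : G → ℂ) * Cfsg.charDegree (βt : G → ℂ) = d at hΨ1 ⊢
    unfold Cfsg.charDegree
    rw [hΨ1]
    simp
  have hpΨ : p ∣ Cfsg.charDegree ((⟨_, hΨ⟩ : Cfsg.IrrCharacter G) : G → ℂ) := by
    show p ∣ Cfsg.charDegree ((χ : G → ℂ) * (βt : G → ℂ))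
    rw [hΨdeg]
    exact Dvd.dvd.mul_left hpβt _
  have hΨeq := huniq ⟨_, hΨ⟩ hpΨ
  have hΨfun : (χ : G → ℂ) * (βt : G → ℂ) = (βt : G → ℂ) := congrArg Subtype.val hΨeq
  apply hnotconst 1
  intro n
  have h1 := congrFun hΨfun (n : G)
  rw [Pi.mul_apply, hβtN n] at h1
  have hβ0 : (β : G ⧸ N → ℂ) 1 ≠ 0 := irr_one_ne_zero β
  exact mul_right_cancel₀ hβ0 (by rw [h1, one_mul])

end Cfsg.Agent.Lib.helper2
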