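import Cfsg.Agent.Lib.Helper27.WSP.Defs

set_option autoImplicit false
set_option linter.unusedSectionVars false
set_option linter.unusedVariables false

namespace Cfsg.Agent.Lib.Helper27.WSP

open Matrix

/-! ## A : abstract Weyl systems -/
section A

variable {V : Type*} [AddCommGroup V] [Fintype V] {W : Type*} [AddCommGroup W] [Module ℂ W]
  [FiniteDimensional ℂ W] {c : V → V → ℂ} {π : V → Module.End ℂ W}

/-- A1 : the operators of a Weyl system are linearly independent (trace orthogonality) -/
theorem weyl_linearIndependent (h : IsWeyl c π) : LinearIndependent ℂ π := by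
  classical
  rw [Fintype.linearIndependent_iff]
  intro t ht w
  have h1 : π (-w) * ∑ v, t v • π v = 0 := by rw [ht, mul_zero]
  rw [Finset.mul_sum] at h1
  have h2 : ∀ v, π (-w) * (t v • π v) = (t v * c (-w) v) • π (-w + v) := by
    intro v
    rw [mul_smul_comm, h.mul, smul_smul]
  rw [Finset.sum_congr rfl (fun v _ => h2 v)] at h1
  have h3 := congrArg (LinearMap.trace ℂ W) h1
  rw [map_sum, map_zero] at h3
  rw [Finset.sum_eq_single w] at h3
  · rw [map_smul, neg_add_cancel, h.zero, smul_eq_mul] at h3
    have htr : LinearMap.trace ℂ W (1 : Module.End ℂ W) = (Module.finrank ℂ W : ℂ) :=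
      LinearMap.trace_one ℂ W
    rw [htr] at h3
    have hd : (Module.finrank ℂ W : ℂ) ≠ 0 := by exact_mod_cast h.pos.ne'
    rcases mul_eq_zero.mp h3 with h4 | h4
    · rcases mul_eq_zero.mp h4 with h5 | h5
      · exact h5
      · exact absurd h5 (h.c_ne _ _)
    · exact absurd h4 hd
  · intro v _ hvw
    rw [map_smul, h.trace_zero, smul_zero]
    intro h0
    apply hvw
    have : v = w := by
      have := congrArg (fun x => w + x) h0
      simpa using this
    exact this
  · intro hw
    exact absurd (Finset.mem_univ w) hw

/-- A1 : ... and span `End W` (count) -/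
theorem weyl_span (h : IsWeyl c π) : Submodule.span ℂ (Set.range π) = ⊤ := by
  apply (weyl_linearIndependent h).span_eq_top_of_card_eq_finrank'
  rw [h.card, Module.finrank_linearMap, sq]

end A

end Cfsg.Agent.Lib.Helper27.WSP
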