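import Mathlib
import Cfsg.Agent.Lib.Helper1.MinNormal
import Cfsg.Agent.Lib.helper2.PrimSolv

set_option autoImplicit false
set_option linter.unusedVariables false

namespace Cfsg.Agent.Lib.helper2

open Cfsg.Agent.Lib.Helper1

/-- no prime power divisor of `n` bigger than one is `0, 1, -1` modulo `p` -/
def wnInert (p n : ℕ) : Prop :=
  ∀ q : ℕ, IsPrimePow q → q ∣ n →
    ¬ ((q : ℤ) ≡ -1 [ZMOD p] ∨ (q : ℤ) ≡ 0 [ZMOD p] ∨ (q : ℤ) ≡ 1 [ZMOD p])

theorem wn_inert_dvd {p n m : ℕ} (h : wnInert p n) (hm : m ∣ n) : wnInert p m :=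
  fun q hq hqm => h q hq (hqm.trans hm)

theorem wn_inert_not_dvd {p n : ℕ} (hp : p.Prime) (h : wnInert p n) : ¬ p ∣ n := by
  intro hpn
  apply h p hp.isPrimePow hpn
  right; left
  exact (Int.modEq_zero_iff_dvd).mpr (dvd_refl _)

theorem wn_inert_pow {p n s i : ℕ} (h : wnInert p n) (hs : s.Prime) (hi : 1 ≤ i)
    (hd : s ^ i ∣ n) : ¬ (s ^ i ≡ 1 [MOD p]) := by
  intro hmod
  apply h (s ^ i) (hs.isPrimePow.pow (by omega)) hd
  right; right
  have := (Int.natCast_modEq_iff).mpr hmod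
  simpa using this

/-- a core-free maximal subgroup of a finite solvable group: the index is a prime power `s ^ c`,
and if `p` divides the group order then `s = p` or some `s ^ i` with `1 ≤ i ≤ c` is `1` mod `p` -/
theorem wn_prim {Q : Type*} [Group Q] [Finite Q] [Group.IsSolvable Q] (Hb : Subgroup Q)
    (hmax : IsCoatom Hb) (hcore : ∀ N : Subgroup Q, N.Normal → N ≤ Hb → N = ⊥)
    (p : ℕ) (hp : p.Prime) :
    ∃ s c : ℕ, s.Prime ∧ 1 ≤ c ∧ Hb.index = s ^ c ∧
      (p ∣ Nat.card Q → s = p ∨ ∃ i, 1 ≤ i ∧ i ≤ c ∧ s ^ i ≡ 1 [MOD p]) := by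
  classical
  haveI : Nontrivial Q := by
    by_contra hnt
    rw [not_nontrivial_iff_subsingleton] at hnt
    exact hmax.1 (Subsingleton.elim _ _)
  obtain ⟨Kb, hKn, hKne, hKmin⟩ := exists_minimal_normal (G := Q)
  haveI := hKn
  obtain ⟨hKcomm, s, hs, hKexp⟩ := minimal_normal_of_solvable Kb hKne hKmin
  haveI : Fact s.Prime := ⟨hs⟩
  have hKcomm' := (isMulCommutative_subgroup_iff Kb).mp hKcomm
  have hKH : ¬ Kb ≤ Hb := fun h => hKne (hcore Kb hKn h)
  have hsup : Kb ⊔ Hb = ⊤ := by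
    by_contra hne
    have hlt : Hb < Kb ⊔ Hb := lt_of_le_of_ne le_sup_right (fun h => hKH (h ▸ le_sup_left))
    exact hne (hmax.2 _ hlt)
  -- the intersection is normal, hence trivial
  have hint : Kb ⊓ Hb = ⊥ := by
    apply hcore _ _ inf_le_right
    apply normal_of_conj_mem_of_sup_eq_top Kb Hb _ hsup
    · intro k hk y hy
      have : k * y * k⁻¹ = y := conj_eq_of_comm (hKcomm' y hy.1 k hk)
      rw [this]; exact hy
    · intro h hh y hy
      exact ⟨hKn.conj_mem y hy.1 h, Hb.mul_mem (Hb.mul_mem hh hy.2) (Hb.inv_mem hh)⟩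
  -- the order of Kb
  have hKp : IsPGroup s Kb := by
    intro x
    refine ⟨1, ?_⟩
    rw [pow_one]
    exact Subtype.ext (hKexp x x.2)
  obtain ⟨c, hc⟩ := IsPGroup.iff_card.mp hKp
  have hc1 : 1 ≤ c := by
    by_contra h0
    have : c = 0 := by omega
    rw [this, pow_zero] at hc
    exact hKne (Subgroup.card_eq_one.mp hc)
  have hidx : Hb.index = s ^ c := by
    have hcompl : Subgroup.IsComplement' Kb Hb := Subgroup.isComplement'_of_disjoint_and_mul_eq_univ
      (disjoint_iff.mpr hint) (by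
        rw [← Subgroup.normal_mul, hsup]; rfl)
    rw [← hc]
    exact hcompl.index_eq_card.symm ▸ rfl
  have hcompl : Subgroup.IsComplement' Kb Hb := Subgroup.isComplement'_of_disjoint_and_mul_eq_univ
    (disjoint_iff.mpr hint) (by
      rw [← Subgroup.normal_mul, hsup]; rfl)
  refine ⟨s, c, hs, hc1, hidx, ?_⟩
  intro hpQ
  by_cases hsp : s = p
  · exact Or.inl hsp
  right
  haveI : Fact p.Prime := ⟨hp⟩
  have hcop : Nat.Coprime s p := (Nat.coprime_primes hs hp).mpr hsp
  have hpH : p ∣ Nat.card Hb := by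
    have := hcompl.card_mul_card
    rw [hc] at this
    rw [← this] at hpQ
    exact (Nat.Coprime.dvd_mul_left (Nat.Coprime.pow_left c hcop).symm).mp hpQ
  obtain ⟨y, hy⟩ := exists_prime_orderOf_dvd_card' (G := Hb) p hpH
  have hy1 : (y : Q) ≠ 1 := by
    intro h
    have : y = 1 := Subtype.ext h
    rw [this, orderOf_one] at hy
    exact hp.one_lt.ne hy
  have hordy : orderOf (y : Q) = p := by rw [Subgroup.orderOf_coe, hy]
  -- the conjugation action of ⟨y⟩ on Kb
  let φ : Subgroup.zpowers (y : Q) →* MulAut Kb :=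
    (MulAut.conjNormal : Q →* MulAut Kb).comp (Subgroup.zpowers (y : Q)).subtype
  letI : MulAction (Subgroup.zpowers (y : Q)) Kb := MulAction.compHom Kb φ
  have hsmul : ∀ (g : Subgroup.zpowers (y : Q)) (k : Kb), ((g • k : Kb) : Q) = g * k * (g : Q)⁻¹ :=
    fun g k => rfl
  have hYp : IsPGroup p (Subgroup.zpowers (y : Q)) :=
    IsPGroup.of_card (n := 1) (by rw [Nat.card_zpowers, hordy, pow_one])
  have hmod := hYp.card_modEq_card_fixedPoints Kb
  set Cs : Subgroup Q := Kb ⊓ Subgroup.centralizer (Subgroup.zpowers (y : Q) : Set Q) with hCs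
  have hfix : Nat.card (MulAction.fixedPoints (Subgroup.zpowers (y : Q)) Kb) = Nat.card Cs := by
    apply Nat.card_congr
    refine ⟨fun k => ⟨(k.1 : Q), ?_⟩, fun k => ⟨⟨k.1, k.2.1⟩, ?_⟩, fun k => rfl, fun k => rfl⟩
    · refine Subgroup.mem_inf.mpr ⟨k.1.2, ?_⟩
      rw [Subgroup.mem_centralizer_iff]
      intro g hg
      have := congrArg Subtype.val (k.2 ⟨g, hg⟩)
      rw [hsmul] at this
      simp only at this
      calc g * (k.1 : Q) = g * k.1 * g⁻¹ * g := by group
        _ = k.1 * g := by rw [this]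
    · intro g
      apply Subtype.ext
      rw [hsmul]
      have := (Subgroup.mem_centralizer_iff.mp k.2.2) g g.2
      simp only
      rw [this]
      group
  have hCle : Cs ≤ Kb := inf_le_left
  have hCdvd : Nat.card Cs ∣ s ^ c := by
    rw [← hc]
    exact Subgroup.card_dvd_of_le hCle
  obtain ⟨f, hfc, hf⟩ := (Nat.dvd_prime_pow hs).mp hCdvd
  have hCne : Cs ≠ Kb := by
    intro heq
    have hycent : (y : Q) ∈ Subgroup.centralizer (Kb : Set Q) := by
      rw [Subgroup.mem_centralizer_iff]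
      intro k hk
      have hk' : k ∈ Cs := heq ▸ hk
      exact ((Subgroup.mem_centralizer_iff.mp hk'.2) y (Subgroup.mem_zpowers _)).symm
    have hDn : (Hb ⊓ Subgroup.centralizer (Kb : Set Q)).Normal := by
      apply normal_of_conj_mem_of_sup_eq_top Kb Hb _ hsup
      · intro k hk d hd
        have : k * d * k⁻¹ = d := conj_eq_of_comm ((Subgroup.mem_centralizer_iff.mp hd.2) k hk).symm
        rw [this]; exact hd
      · intro h hh d hd
        refine ⟨Hb.mul_mem (Hb.mul_mem hh hd.1) (Hb.inv_mem hh), ?_⟩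
        exact (inferInstance : (Subgroup.centralizer (Kb : Set Q)).Normal).conj_mem d hd.2 h
    have := hcore _ hDn inf_le_left
    have hyD : (y : Q) ∈ Hb ⊓ Subgroup.centralizer (Kb : Set Q) := ⟨y.2, hycent⟩
    rw [this, Subgroup.mem_bot] at hyD
    exact hy1 hyD
  have hflt : f < c := by
    rcases Nat.lt_or_ge f c with h | h
    · exact h
    · exfalso
      have hfc' : f = c := le_antisymm hfc h
      apply hCne
      apply Subgroup.eq_of_le_of_card_ge hCle
      rw [hf, hc, hfc']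
  refine ⟨c - f, by omega, by omega, ?_⟩
  rw [hfix, hc, hf] at hmod
  have e : s ^ c = s ^ f * s ^ (c - f) := by rw [← pow_add]; congr 1; omega
  rw [e] at hmod
  have hcop' : Nat.gcd p (s ^ f) = 1 := (Nat.Coprime.pow_left f hcop).symm
  apply Nat.ModEq.cancel_left_of_coprime hcop'
  rw [mul_one]
  exact hmod

end Cfsg.Agent.Lib.helper2
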