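import Cfsg.Agent.Lib.helper2.Winter9

set_option autoImplicit false
set_option linter.unusedVariables false

namespace Cfsg.Agent.Lib.helper2

open scoped ComplexConjugate Pointwise
open Cfsg.Agent.Lib.helper7 Cfsg.Agent.Lib.Helper25 Cfsg.Agent.Lib.Helper1 Cfsg.Agent.Lib.Helper11

universe u

/-- the Glauberman step: the Sylow `p`-subgroup centralizes `R` -/
theorem wn_glaub {G : Type*} [Group G] [Fintype G] {χ : G → ℂ} (hχ : Cfsg.IsIrrCharacter G χ)
    (p : ℕ) [hpf : Fact p.Prime] (P : Sylow p G) (r : ℕ) (hr : r.Prime) (hrp : r ≠ p)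
    (R : Subgroup G) [hRn : R.Normal] [Fintype R] (hRp : IsPGroup r R)
    (ϑ : Cfsg.IrrCharacter R) (hinv : ∀ g : G, cj R (ϑ : R → ℂ) g = (ϑ : R → ℂ))
    (h0 : ∀ x : R, (x : G) ∉ Subgroup.center G → (ϑ : R → ℂ) x = 0)
    (h1 : ∀ x : R, (x : G) ∈ Subgroup.center G → (ϑ : R → ℂ) x = (ϑ : R → ℂ) 1 * (χ x / χ 1))
    (d : ℕ) (hd : (ϑ : R → ℂ) 1 = (d : ℂ))
    (hcard : d * d * Nat.card ((Subgroup.center G).subgroupOf R) = Nat.card R)
    (hin : ∀ b : ℕ, 1 ≤ b → r ^ b ∣ d →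
      ¬ (((r ^ b : ℕ) : ℤ) ≡ 1 [ZMOD p] ∨ ((r ^ b : ℕ) : ℤ) ≡ -1 [ZMOD p])) :
    R ≤ Subgroup.centralizer ((P : Subgroup G) : Set G) := by
  classical
  have hp := hpf.out
  haveI : Fact r.Prime := ⟨hr⟩
  set C : Subgroup G := R ⊓ Subgroup.centralizer ((P : Subgroup G) : Set G) with hCdef
  have hCR : C ≤ R := inf_le_left
  haveI : Fintype C := Fintype.ofFinite _
  obtain ⟨j, hj⟩ := IsPGroup.iff_card.mp hRp
  obtain ⟨k, hk⟩ := IsPGroup.iff_card.mp P.2
  have hcop : (Nat.card R).Coprime (Nat.card (P : Subgroup G)) := by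
    rw [hj, hk]
    exact Nat.coprime_pow_primes j k hr hp hrp
  have hdr : ∃ a, d = r ^ a := by
    have : d ∣ r ^ j := by
      rw [← hj, ← hcard, mul_assoc]
      exact Dvd.intro _ rfl
    obtain ⟨a, _, ha⟩ := (Nat.dvd_prime_pow hr).mp this
    exact ⟨a, ha⟩
  have hdpos : 0 < d := by
    have := gq_one_ne ϑ.2
    rw [hd] at this
    exact Nat.pos_of_ne_zero (fun h => this (by rw [h]; simp))
  obtain ⟨hi, hii, -, -⟩ := Cfsg.Agent.S4444.result R (P : Subgroup G)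
    (fun s _ g hg => hRn.conj_mem g hg s) hcop p hp P.2 C hCdef hCR
  have hSinv : ∀ s ∈ (P : Subgroup G), ∀ g g' : R, (g' : G) = s * g * s⁻¹ →
      (ϑ : R → ℂ) g' = (ϑ : R → ℂ) g := by
    intro s _ g g' hgg'
    have e : g' = ⟨s * g * s⁻¹, hRn.conj_mem g g.2 s⟩ := by
      apply Subtype.ext
      exact hgg'
    have := congrFun (hinv s) g
    rw [cj_apply] at this
    rw [e]
    exact this
  obtain ⟨β, ⟨m, hm, hpm⟩, huniq⟩ := hi ϑ hSinv
  have hm0 : m ≠ 0 := fun h => hpm (h ▸ dvd_zero p)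
  have hϑC : Cfsg.IsCharacter C (fun c : C => (ϑ : R → ℂ) ⟨c, hCR c.2⟩) :=
    isCharacter_comp_hom (h7_irr_isCharacter ϑ.2) (Subgroup.inclusion hCR)
  obtain ⟨⟨b, hb⟩, hKβ⟩ := wn_mult hχ r hr R hRp (ϑ : R → ℂ) h0 h1 d hd hdr C hCR β m hm hm0
  obtain ⟨d', hd'pos, hd'⟩ := irr_one_eq_finrank β
  have hmd : m * d' ≤ d := isCharacter_degree_ge hϑC β m d d' hm (by rw [← hd]; rfl) hd'
  -- m = 1
  have hm1 : m = 1 := by
    rcases Nat.eq_zero_or_pos b with h0b | hbpos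
    · rw [hb, h0b, pow_zero]
    · exfalso
      obtain ⟨a, ha⟩ := hdr
      have hle : r ^ b ≤ r ^ a := by
        rw [← hb, ← ha]
        calc m ≤ m * d' := Nat.le_mul_of_pos_right m hd'pos
          _ ≤ d := hmd
      have hba : b ≤ a := (Nat.pow_le_pow_iff_right hr.one_lt).mp hle
      apply hin b hbpos (ha ▸ pow_dvd_pow r hba)
      rw [← hb]
      exact hii ϑ hSinv β m hm hpm
  -- β is the only constituent
  have honly : ∀ β' : Cfsg.IrrCharacter C, ∀ m' : ℕ,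
      Cfsg.classInner (fun c : C => (ϑ : R → ℂ) ⟨c, hCR c.2⟩) (β' : C → ℂ) = (m' : ℂ) →
      m' ≠ 0 → β' = β := by
    intro β' m' hm' hm'0
    obtain ⟨⟨b', hb'⟩, -⟩ := wn_mult hχ r hr R hRp (ϑ : R → ℂ) h0 h1 d hd hdr C hCR β' m' hm' hm'0
    apply huniq β' ⟨m', hm', ?_⟩
    rw [hb']
    intro hdvd
    have := hp.dvd_of_dvd_pow hdvd
    exact hrp ((Nat.prime_dvd_prime_iff_eq hp hr).mp this).symm
  -- the restriction equals β
  obtain ⟨Δ, hΔ, hs⟩ := h7_char_split hϑC (β : C → ℂ) β.2 (by rw [hm]; exact_mod_cast hm0)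
  obtain ⟨dΔ, hdΔ⟩ := isCharacter_one_eq_nat hΔ
  have hΔ0 : dΔ = 0 := by
    by_contra hne
    have hΔ1 : Δ 1 ≠ 0 := by rw [hdΔ]; exact_mod_cast hne
    obtain ⟨β'', m'', hm''pos, hm''⟩ := isCharacter_exists_constituent hΔ hΔ1
    obtain ⟨t, ht⟩ := classInner_character_nat (h7_irr_isCharacter β.2) (h7_irr_isCharacter β''.2)
    have htot : Cfsg.classInner (fun c : C => (ϑ : R → ℂ) ⟨c, hCR c.2⟩) (β'' : C → ℂ) =
        ((t + m'' : ℕ) : ℂ) := by
      rw [hs, classInner_add_left, ht, hm'']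
      push_cast; rfl
    have hβ'' := honly β'' (t + m'') htot (by omega)
    rw [hβ''] at htot hm''
    rw [hm, hm1] at htot
    have ht1 : t = 1 := by
      have := h7_irr_norm β.2
      rw [hβ''] at ht
      rw [this] at ht
      exact_mod_cast ht.symm
    have : (1 : ℕ) = t + m'' := by exact_mod_cast htot
    omega
  have hdd' : d = d' := by
    have := congrFun hs 1
    simp only [Pi.add_apply] at this
    rw [hdΔ, hΔ0, hd'] at this
    have h2 : (ϑ : R → ℂ) ⟨((1 : C) : G), hCR (1 : C).2⟩ = (d : ℂ) := by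
      rw [← hd]; rfl
    rw [h2] at this
    simpa using this
  have hcardC := hKβ d' hd'
  rw [hm1, one_mul, ← hdd'] at hcardC
  -- compare with the order of R
  have hYeq : Nat.card ((Subgroup.center G).subgroupOf C) =
      Nat.card ((Subgroup.center G).subgroupOf R) := by
    rw [wn_card_subgroupOf, wn_card_subgroupOf]
    congr 2
    rw [hCdef, ← inf_assoc]
    apply le_antisymm inf_le_left
    apply le_inf le_rfl
    exact inf_le_left.trans (Subgroup.center_le_centralizer _)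
  rw [hYeq, hcard] at hcardC
  have hCeq : C = R := Subgroup.eq_of_le_of_card_ge hCR hcardC.ge
  rw [← hCeq]
  exact inf_le_right

end Cfsg.Agent.Lib.helper2
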