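import Cfsg.Agent.Lib.helper2.Winter10

set_option autoImplicit false
set_option linter.unusedVariables false

namespace Cfsg.Agent.Lib.helper2

open scoped ComplexConjugate Pointwise
open Cfsg.Agent.Lib.helper7 Cfsg.Agent.Lib.Helper25 Cfsg.Agent.Lib.Helper1 Cfsg.Agent.Lib.Helper11

universe u

/-- the quasi-primitive case of Winter's theorem -/
theorem wn_qp {G : Type u} [Group G] [Fintype G] [Group.IsSolvable G] (p : ℕ) [hpf : Fact p.Prime]
    (χ : Cfsg.IrrCharacter G) (hfaith : ∀ g : G, (χ : G → ℂ) g = (χ : G → ℂ) 1 → g = 1)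
    (n : ℕ) (hn : (χ : G → ℂ) 1 = (n : ℂ)) (hin : wnInert p n) (hQP : WnQP (χ : G → ℂ))
    (hIH : ∀ (H : Subgroup G), H ≠ ⊤ → WnGood p H) (P : Sylow p G) :
    (P : Subgroup G).Normal := by
  classical
  have hp := hpf.out
  by_cases hZ : Subgroup.center G = ⊤
  · constructor
    intro x hx g
    have hg : g ∈ Subgroup.center G := hZ ▸ Subgroup.mem_top g
    have := Subgroup.mem_center_iff.mp hg x
    have e : g * x * g⁻¹ = x := by rw [← this]; group
    rw [e]; exact hx
  obtain ⟨r, R, hr, hRn, hRp, hRZ, hRd, hRe⟩ := wn_grp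
    (fun A hA hc => wn_abelian_central χ.2 hfaith hQP A hA hc) hZ
  haveI := hRn
  haveI : Fact r.Prime := ⟨hr⟩
  haveI : Fintype R := Fintype.ofFinite _
  obtain ⟨ϑ, e, he, hval, hinv⟩ := wn_homog χ.2 hQP R
  obtain ⟨h0, h1, hcard⟩ := wn_fully_ram χ.2 hfaith R hRd hRe (ϑ : R → ℂ) ϑ.2 e he hval
  obtain ⟨d, hdpos, hd⟩ := irr_one_eq_finrank ϑ
  have hdn : d ∣ n := by
    have := hval 1
    simp only [OneMemClass.coe_one] at this
    rw [hn, hd] at this
    have h' : n = e * d := by exact_mod_cast this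
    exact h' ▸ Dvd.intro_left _ rfl
  have hcardd := hcard d hd
  obtain ⟨j, hj⟩ := IsPGroup.iff_card.mp hRp
  obtain ⟨a, ha⟩ : ∃ a, d = r ^ a := by
    have : d ∣ r ^ j := by
      rw [← hj, ← hcardd, mul_assoc]
      exact Dvd.intro _ rfl
    obtain ⟨a, _, ha⟩ := (Nat.dvd_prime_pow hr).mp this
    exact ⟨a, ha⟩
  have ha1 : 1 ≤ a := by
    by_contra h
    have ha0 : a = 0 := by omega
    rw [ha0, pow_zero] at ha
    rw [ha, one_mul, one_mul] at hcardd
    apply hRZ
    have htop := (Subgroup.card_eq_iff_eq_top _).mp hcardd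
    intro x hx
    have : (⟨x, hx⟩ : R) ∈ (Subgroup.center G).subgroupOf R := htop ▸ Subgroup.mem_top _
    exact Subgroup.mem_subgroupOf.mp this
  have hrp : r ≠ p := by
    intro h
    apply wn_inert_not_dvd hp hin
    rw [← h]
    exact (dvd_pow_self r (by omega : a ≠ 0)).trans (ha ▸ hdn)
  have hin' : ∀ b : ℕ, 1 ≤ b → r ^ b ∣ d →
      ¬ (((r ^ b : ℕ) : ℤ) ≡ 1 [ZMOD p] ∨ ((r ^ b : ℕ) : ℤ) ≡ -1 [ZMOD p]) := by
    intro b hb hbd hcon
    apply hin (r ^ b) (hr.isPrimePow.pow (by omega)) (hbd.trans hdn)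
    rcases hcon with h | h
    · right; right; exact h
    · left; exact h
  have hcent := wn_glaub χ.2 p P r hr hrp R hRp ϑ hinv h0 h1 d hd hcardd hin'
  -- the centralizer of R
  set G₁ : Subgroup G := Subgroup.centralizer (R : Set G) with hG₁
  haveI hG₁n : G₁.Normal := inferInstance
  haveI : Fintype G₁ := Fintype.ofFinite _
  have hG₁ne : G₁ ≠ ⊤ := by
    intro htop
    apply hRZ
    intro x hx
    rw [Subgroup.mem_center_iff]
    intro g
    have hg : g ∈ G₁ := htop ▸ Subgroup.mem_top g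
    exact (Subgroup.mem_centralizer_iff.mp hg x hx).symm
  have hPG₁ : (P : Subgroup G) ≤ G₁ := by
    intro u hu
    rw [hG₁, Subgroup.mem_centralizer_iff]
    intro x hx
    exact (Subgroup.mem_centralizer_iff.mp (hcent hx) u hu).symm
  obtain ⟨η, e', he', hval', -⟩ := wn_homog χ.2 hQP G₁
  have hec' : (e' : ℂ) ≠ 0 := by exact_mod_cast he'.ne'
  have hfaithη : ∀ x : G₁, (η : G₁ → ℂ) x = (η : G₁ → ℂ) 1 → x = 1 := by
    intro x hx
    apply Subtype.ext
    apply hfaith
    have e1 := hval' x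
    have e2 := hval' 1
    simp only [OneMemClass.coe_one] at e2
    rw [e1, e2, hx]
  obtain ⟨d₁, hd₁pos, hd₁⟩ := irr_one_eq_finrank η
  have hd₁n : d₁ ∣ n := by
    have := hval' 1
    simp only [OneMemClass.coe_one] at this
    rw [hn, hd₁] at this
    have h' : n = e' * d₁ := by exact_mod_cast this
    exact h' ▸ Dvd.intro_left _ rfl
  have hgood := hIH G₁ hG₁ne η hfaithη d₁ hd₁ (wn_inert_dvd hin hd₁n) (P.subtype hPG₁)
  haveI := Sylow.characteristic_of_normal (P.subtype hPG₁) hgood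
  have hmap : ((P.subtype hPG₁ : Sylow p G₁) : Subgroup G₁).map G₁.subtype = (P : Subgroup G) := by
    rw [Sylow.coe_subtype, Subgroup.subgroupOf_map_subtype]
    exact inf_eq_left.mpr hPG₁
  rw [← hmap]
  exact ConjAct.normal_of_characteristic_of_normal

end Cfsg.Agent.Lib.helper2
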