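import Mathlib
import Cfsg.Prelude.Def_Characters
import Cfsg.Agent.Lib.helper2.Winter1
import Cfsg.Agent.Lib.Helper25.CharQuot
import Cfsg.Agent.Lib.helper7.Induction

set_option autoImplicit false
set_option linter.unusedVariables false

namespace Cfsg.Agent.Lib.helper2

open scoped ComplexConjugate Pointwise
open Cfsg.Agent.Lib.helper7 Cfsg.Agent.Lib.Helper25 Cfsg.Agent.Lib.Helper1

universe u

/-- the conclusion of Winter's theorem for the group `G` -/
def WnGood (p : ℕ) (G : Type u) [Group G] : Prop :=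
  ∀ χ : Cfsg.IrrCharacter G, (∀ g : G, (χ : G → ℂ) g = (χ : G → ℂ) 1 → g = 1) →
    ∀ n : ℕ, (χ : G → ℂ) 1 = (n : ℂ) → wnInert p n → ∀ P : Sylow p G, (P : Subgroup G).Normal

/-- the non-faithful version, through the quotient by the kernel -/
theorem wn_quot {H : Type u} [Group H] [Finite H] (p : ℕ) [Fact p.Prime]
    (ψ : Cfsg.IrrCharacter H) (d : ℕ) (hd : (ψ : H → ℂ) 1 = (d : ℂ)) (hin : wnInert p d)
    (hIH : ∀ (K : Subgroup H) [K.Normal], WnGood p (H ⧸ K)) :
    ∃ K : Subgroup H, K.Normal ∧ (∀ g : H, g ∈ K ↔ (ψ : H → ℂ) g = (ψ : H → ℂ) 1) ∧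
      ∀ Q : Sylow p H, ((Q : Subgroup H) ⊔ K).Normal := by
  obtain ⟨K, hKn, n, σ, hσ, hK, hval, hfaith⟩ := quotient_setup ψ
  haveI := hKn
  refine ⟨K, hKn, hK, ?_⟩
  intro Q
  have hgood := hIH K
  have hnorm := hgood ⟨σ.character, ⟨n, σ, hσ, rfl⟩⟩ hfaith d (by
    have := hval 1
    simp only [QuotientGroup.mk_one] at this
    simp only
    rw [this, hd]) hin (Q.mapSurjective (QuotientGroup.mk'_surjective K))
  rw [Sylow.coe_mapSurjective] at hnorm
  have h2 := hnorm.comap (QuotientGroup.mk' K)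
  rw [Subgroup.comap_map_eq, QuotientGroup.ker_mk'] at h2
  exact h2

/-- a normal subgroup containing one Sylow subgroup contains every `p`-subgroup -/
theorem wn_pgroup_le {H : Type*} [Group H] [Finite H] (p : ℕ) [Fact p.Prime] (M : Subgroup H)
    [hM : M.Normal] (Q₀ : Sylow p H) (hQ : (Q₀ : Subgroup H) ≤ M) (A : Subgroup H)
    (hA : IsPGroup p A) : A ≤ M := by
  obtain ⟨Q, hAQ⟩ := hA.exists_le_sylow
  obtain ⟨h, hh⟩ := MulAction.exists_smul_eq H Q₀ Q
  intro a ha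
  have h1 : a ∈ MulAut.conj h • (Q₀ : Subgroup H) := by
    rw [← Sylow.coe_subgroup_smul, hh]; exact hAQ ha
  rw [Subgroup.mem_pointwise_smul_iff_inv_smul_mem] at h1
  have hb := hQ h1
  have e : a = h * ((MulAut.conj h)⁻¹ • a) * h⁻¹ := by
    simp [MulAut.smul_def, mul_assoc]
  rw [e]
  exact hM.conj_mem _ hb h

theorem wn_pow_mem {H : Type*} [Group H] [Finite H] (K : Subgroup H) [K.Normal] (Q₀ : Subgroup H)
    (y : H) (hy : y ∈ Q₀ ⊔ K) : y ^ Nat.card Q₀ ∈ K := by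
  have h1 : (QuotientGroup.mk' K) y ∈ (Q₀ ⊔ K).map (QuotientGroup.mk' K) :=
    Subgroup.mem_map_of_mem _ hy
  rw [Subgroup.map_sup, QuotientGroup.map_mk'_self, sup_bot_eq] at h1
  have h2 : ((QuotientGroup.mk' K) y) ^ Nat.card (Q₀.map (QuotientGroup.mk' K)) = 1 := by
    have := pow_card_eq_one' (G := Q₀.map (QuotientGroup.mk' K)) (x := ⟨_, h1⟩)
    exact congrArg Subtype.val this
  obtain ⟨m, hm⟩ := Subgroup.card_map_dvd (H := Q₀) (QuotientGroup.mk' K)
  have h3 : ((QuotientGroup.mk' K) y) ^ Nat.card Q₀ = 1 := by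
    rw [hm, pow_mul, h2, one_pow]
  rw [← map_pow] at h3
  exact (QuotientGroup.eq_one_iff _).mp h3

/-- the induced character takes its degree where all conjugates lie in the kernel -/
theorem wn_ind_eq_one {G : Type*} [Group G] [Fintype G] (H : Subgroup G) (ψ : H → ℂ) (x : G)
    (hx : ∀ g : G, ∃ h : g⁻¹ * x * g ∈ H, ψ ⟨g⁻¹ * x * g, h⟩ = ψ 1) :
    Cfsg.indFun H ψ x = Cfsg.indFun H ψ 1 := by
  unfold Cfsg.indFun
  congr 1
  refine Finset.sum_congr rfl fun g _ => ?_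
  obtain ⟨h, hh⟩ := hx g
  rw [h7_extendByZero_mem H ψ _ h, hh]
  have : g⁻¹ * 1 * g = ((1 : H) : G) := by simp
  rw [this, h7_extendByZero_coe]

theorem wn_prim_pullback {G : Type*} [Group G] [Finite G] [Group.IsSolvable G] (H : Subgroup G)
    (hmax : IsCoatom H) (p : ℕ) (hp : p.Prime) :
    ∃ s c : ℕ, s.Prime ∧ 1 ≤ c ∧ H.index = s ^ c ∧
      (p ∣ H.normalCore.index → s = p ∨ ∃ i, 1 ≤ i ∧ i ≤ c ∧ s ^ i ≡ 1 [MOD p]) := by
  classical
  set L := H.normalCore with hL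
  have hLH : L ≤ H := H.normalCore_le
  have hsurj : Function.Surjective (QuotientGroup.mk' L) := QuotientGroup.mk'_surjective L
  have hker : (QuotientGroup.mk' L).ker = L := QuotientGroup.ker_mk' L
  have hkerle : (QuotientGroup.mk' L).ker ≤ H := by rw [hker]; exact hLH
  have hHcm : (H.map (QuotientGroup.mk' L)).comap (QuotientGroup.mk' L) = H :=
    Subgroup.comap_map_eq_self hkerle
  have hmaxb : IsCoatom (H.map (QuotientGroup.mk' L)) := isCoatom_map_of_ker_le hsurj hmax hkerle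
  have hcoreb : ∀ N : Subgroup (G ⧸ L), N.Normal → N ≤ H.map (QuotientGroup.mk' L) → N = ⊥ := by
    intro N hN hNH
    haveI := hN
    have h1 : N.comap (QuotientGroup.mk' L) ≤ H :=
      le_trans (Subgroup.comap_mono hNH) hHcm.le
    have h2 : N.comap (QuotientGroup.mk' L) ≤ L := Subgroup.normal_le_normalCore.mpr h1
    rw [← Subgroup.map_comap_eq_self_of_surjective hsurj N, eq_bot_iff]
    calc (N.comap (QuotientGroup.mk' L)).map (QuotientGroup.mk' L)
        ≤ L.map (QuotientGroup.mk' L) := Subgroup.map_mono h2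
      _ = ⊥ := QuotientGroup.map_mk'_self L
  obtain ⟨s, c, hs, hc, hidx, hrest⟩ := wn_prim _ hmaxb hcoreb p hp
  refine ⟨s, c, hs, hc, ?_, ?_⟩
  · rw [← hidx, Subgroup.index_map_eq _ hsurj hkerle]
  · intro hpd
    apply hrest
    rw [← Subgroup.index_eq_card]
    exact hpd

/-- a `p`-subgroup lies in a normal subgroup of index prime to `p` -/
theorem wn_pgroup_le_of_index {G : Type*} [Group G] [Finite G] (p : ℕ) [Fact p.Prime]
    (C : Subgroup G) [C.Normal] (hC : ¬ p ∣ C.index) (A : Subgroup G) (hA : IsPGroup p A) :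
    A ≤ C := by
  intro a ha
  obtain ⟨k, hk⟩ := hA ⟨a, ha⟩
  have hk' : a ^ p ^ k = 1 := congrArg Subtype.val hk
  have h1 : ((QuotientGroup.mk' C) a) ^ p ^ k = 1 := by rw [← map_pow, hk', map_one]
  have h2 : ((QuotientGroup.mk' C) a) ^ C.index = 1 := by
    rw [Subgroup.index_eq_card]; exact pow_card_eq_one'
  have h3 := pow_gcd_eq_one.mpr ⟨h1, h2⟩
  have hcop : Nat.gcd (p ^ k) C.index = 1 :=
    Nat.Coprime.pow_left k ((Nat.Prime.coprime_iff_not_dvd (Fact.out)).mpr hC)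
  rw [hcop, pow_one] at h3
  exact (QuotientGroup.eq_one_iff a).mp h3

end Cfsg.Agent.Lib.helper2
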