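import Cfsg.Agent.Lib.helper2.Winter2

set_option autoImplicit false
set_option linter.unusedVariables false

namespace Cfsg.Agent.Lib.helper2

open scoped ComplexConjugate Pointwise
open Cfsg.Agent.Lib.helper7 Cfsg.Agent.Lib.Helper25 Cfsg.Agent.Lib.Helper1

universe u

/-- the imprimitive case of Winter's theorem -/
theorem wn_imprim {G : Type u} [Group G] [Fintype G] [Group.IsSolvable G] (p : ℕ) [hpf : Fact p.Prime]
    (H : Subgroup G) (hmax : IsCoatom H) (ψ : Cfsg.IrrCharacter H)
    (hfaith : ∀ g : G, Cfsg.indFun H (ψ : H → ℂ) g = Cfsg.indFun H (ψ : H → ℂ) 1 → g = 1)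
    (n : ℕ) (hn : Cfsg.indFun H (ψ : H → ℂ) 1 = (n : ℂ)) (hin : wnInert p n)
    (hIH : ∀ (K : Subgroup H) [K.Normal], WnGood p (H ⧸ K))
    (P : Sylow p G) : (P : Subgroup G).Normal := by
  classical
  have hp := hpf.out
  obtain ⟨d, hdpos, hd⟩ := irr_one_eq_finrank ψ
  have hnid : n = H.index * d := by
    rw [h7_indFun_one, hd] at hn
    exact_mod_cast hn.symm
  have hinI : wnInert p H.index := wn_inert_dvd hin (hnid ▸ Dvd.intro _ rfl)
  have hinD : wnInert p d := wn_inert_dvd hin (hnid ▸ Dvd.intro_left _ rfl)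
  obtain ⟨s, c, hs, hc, hidx, hrest⟩ := wn_prim_pullback H hmax p hp
  have hnd : ¬ p ∣ H.normalCore.index := by
    intro h
    rcases hrest h with hsp | ⟨i, hi1, hic, hmod⟩
    · apply wn_inert_not_dvd hp hinI
      rw [hidx, hsp]
      exact dvd_pow_self p (by omega)
    · exact wn_inert_pow hinI hs hi1 (hidx ▸ pow_dvd_pow s hic) hmod
  set C := H.normalCore with hC
  have hCH : C ≤ H := H.normalCore_le
  have hCn : C.Normal := inferInstance
  -- conjugates of P lie in C
  have hD : ∀ w : G, (P : Subgroup G).map (MulAut.conj w).toMonoidHom ≤ C := fun w =>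
    wn_pgroup_le_of_index p C hnd _ (P.2.map _)
  have hPC : (P : Subgroup G) ≤ C := wn_pgroup_le_of_index p C hnd _ P.2
  obtain ⟨K, hKn, hK, hsup⟩ := wn_quot p ψ d hd hinD hIH
  haveI := hKn
  set Q₀ : Sylow p H := P.subtype (hPC.trans hCH) with hQ₀
  set M : Subgroup H := (Q₀ : Subgroup H) ⊔ K with hM
  haveI hMn : M.Normal := hsup Q₀
  obtain ⟨k, hk⟩ := IsPGroup.iff_card.mp Q₀.2
  -- every element of a conjugate of P lies in M
  have hDM : ∀ w : G, ∀ y ∈ (P : Subgroup G).map (MulAut.conj w).toMonoidHom,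
      ∃ hy : y ∈ H, (⟨y, hy⟩ : H) ∈ M := by
    intro w y hy
    have hyH : y ∈ H := hCH (hD w hy)
    refine ⟨hyH, ?_⟩
    have hA : IsPGroup p (((P : Subgroup G).map (MulAut.conj w).toMonoidHom).subgroupOf H) :=
      (P.2.map _).comap_subtype
    have := wn_pgroup_le p M Q₀ le_sup_left _ hA
    apply this
    rw [Subgroup.mem_subgroupOf]
    exact hy
  -- P together with a conjugate generates a p-group
  constructor
  intro u hu x
  set O := (P : Subgroup G) ⊔ (P : Subgroup G).map (MulAut.conj x).toMonoidHom with hO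
  have hOp : IsPGroup p O := by
    intro o
    refine ⟨k, ?_⟩
    apply Subtype.ext
    rw [Subgroup.coe_pow, Subgroup.coe_one]
    apply hfaith
    apply wn_ind_eq_one
    intro g
    -- the subgroup of elements conjugated into M
    have hW : O ≤ ((M.map H.subtype).comap (MulAut.conj g⁻¹).toMonoidHom) := by
      apply sup_le
      · intro y hy
        rw [Subgroup.mem_comap]
        have hy' : (MulAut.conj g⁻¹).toMonoidHom y ∈
            (P : Subgroup G).map (MulAut.conj g⁻¹).toMonoidHom := Subgroup.mem_map_of_mem _ hy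
        obtain ⟨h1, h2⟩ := hDM g⁻¹ _ hy'
        exact ⟨⟨_, h1⟩, h2, rfl⟩
      · rintro y ⟨u', hu', rfl⟩
        rw [Subgroup.mem_comap]
        have hy' : (MulAut.conj g⁻¹).toMonoidHom ((MulAut.conj x).toMonoidHom u') ∈
            (P : Subgroup G).map (MulAut.conj (g⁻¹ * x)).toMonoidHom := by
          refine ⟨u', hu', ?_⟩
          simp [MulAut.conj_apply, mul_assoc]
        obtain ⟨h1, h2⟩ := hDM (g⁻¹ * x) _ hy'
        exact ⟨⟨_, h1⟩, h2, rfl⟩
    obtain ⟨y, hyM, hyo⟩ := hW o.2
    have hyK := wn_pow_mem K (Q₀ : Subgroup H) y hyM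
    rw [hk] at hyK
    have e : g⁻¹ * (o : G) ^ p ^ k * g = ((y ^ p ^ k : H) : G) := by
      rw [Subgroup.coe_pow]
      have : (y : G) = g⁻¹ * (o : G) * g := by
        have := hyo
        simp only [Subgroup.coe_subtype, MulEquiv.toMonoidHom_eq_coe, MonoidHom.coe_coe,
          MulAut.conj_apply, inv_inv] at this
        exact this
      have hcp := conj_pow (a := g⁻¹) (b := (o : G)) (i := p ^ k)
      rw [inv_inv] at hcp
      rw [this, hcp]
    have hmem : g⁻¹ * (o : G) ^ p ^ k * g ∈ H := e ▸ (y ^ p ^ k).2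
    refine ⟨hmem, ?_⟩
    have e2 : (⟨_, hmem⟩ : H) = y ^ p ^ k := Subtype.ext e
    rw [e2]
    exact (hK (y ^ p ^ k)).mp hyK
  have hOP : O = P := P.is_maximal' hOp le_sup_left
  have : (MulAut.conj x).toMonoidHom u ∈ O := by
    apply (le_sup_right : _ ≤ O)
    exact Subgroup.mem_map_of_mem _ hu
  rw [hOP] at this
  simpa [MulAut.conj_apply] using this

end Cfsg.Agent.Lib.helper2
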