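import Cfsg.Agent.Lib.helper2.Winter3
import Cfsg.Agent.Lib.helper2.Ito
import Cfsg.Agent.Lib.helper2.CharInd
import Cfsg.Agent.Lib.helper2.BergerG1
import Cfsg.Agent.S0147
import Cfsg.Agent.S0854

set_option autoImplicit false
set_option linter.unusedVariables false

namespace Cfsg.Agent.Lib.helper2

open scoped ComplexConjugate Pointwise
open Cfsg.Agent.Lib.helper7 Cfsg.Agent.Lib.Helper25 Cfsg.Agent.Lib.Helper1 Cfsg.Agent.Lib.Helper11

universe u

/-- if some constituent of a restriction to a normal subgroup is not invariant, the character is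
induced from a maximal subgroup and the imprimitive case applies -/
theorem wn_not_qp {G : Type u} [Group G] [Fintype G] [Group.IsSolvable G] (p : ℕ) [hpf : Fact p.Prime]
    (χ : Cfsg.IrrCharacter G) (hfaith : ∀ g : G, (χ : G → ℂ) g = (χ : G → ℂ) 1 → g = 1)
    (n : ℕ) (hn : (χ : G → ℂ) 1 = (n : ℂ)) (hin : wnInert p n)
    (hIH : ∀ (H : Subgroup G), H ≠ ⊤ → ∀ (K : Subgroup H) [K.Normal], WnGood p (H ⧸ K))
    (N : Subgroup G) [hN : N.Normal] [Fintype N] (θ : N → ℂ) (hθ : Cfsg.IsIrrCharacter N θ)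
    (hcon : Cfsg.classInner (fun x : N => (χ : G → ℂ) x) θ ≠ 0) (g₀ : G) (hg₀ : cj N θ g₀ ≠ θ)
    (P : Sylow p G) : (P : Subgroup G).Normal := by
  classical
  set T := inertia N θ with hTdef
  haveI : Fintype T := Fintype.ofFinite _
  have hT := mem_inertia N θ
  have hNT := le_inertia N θ (h7_irr_isClassFunction hθ)
  have hTne : T ≠ ⊤ := by
    intro h
    apply hg₀
    have : g₀ ∈ T := h ▸ Subgroup.mem_top g₀
    exact this
  obtain ⟨ψ₀, hψ₀, hind, -⟩ := Cfsg.Agent.S0854.result N θ hθ T hT hNT (χ : G → ℂ) χ.2 hcon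
  obtain ⟨H, hHmax, hTH⟩ := (eq_top_or_exists_le_coatom T).resolve_left hTne
  haveI : Fintype H := Fintype.ofFinite _
  haveI : Fintype (T.subgroupOf H) := Fintype.ofFinite _
  set ψ : H → ℂ := Cfsg.indFun (T.subgroupOf H)
    (fun x => ψ₀ ⟨(x : H), Subgroup.mem_subgroupOf.mp x.2⟩) with hψdef
  have htrans : Cfsg.indFun H ψ = (χ : G → ℂ) := by
    rw [hψdef, Cfsg.Agent.S0147.result T H hTH ψ₀, hind]
  have hψc : Cfsg.IsCharacter H ψ := by
    apply isCharacter_indFun
    exact isCharacter_comp_hom (h7_irr_isCharacter hψ₀)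
      (Subgroup.subgroupOfEquivOfLe hTH).toMonoidHom
  have hψi : Cfsg.IsIrrCharacter H ψ := by
    apply bg_irr_of_ind_irr H hψc
    rw [htrans]
    exact χ.2
  apply wn_imprim p H hHmax ⟨ψ, hψi⟩ _ n _ hin (hIH H hHmax.1) P
  · intro g hg
    simp only [htrans] at hg
    exact hfaith g hg
  · simp only [htrans]
    exact hn

end Cfsg.Agent.Lib.helper2
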