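import Cfsg.Agent.Lib.helper2.Winter4
import Cfsg.Agent.Lib.helper2.GalProd2

set_option autoImplicit false
set_option linter.unusedVariables false

namespace Cfsg.Agent.Lib.helper2

open scoped ComplexConjugate Pointwise
open Cfsg.Agent.Lib.helper7 Cfsg.Agent.Lib.Helper25 Cfsg.Agent.Lib.Helper1 Cfsg.Agent.Lib.Helper11

universe u

/-- restriction of an irreducible character to a central subgroup -/
theorem wn_central_restrict {X : Type*} [Group X] [Fintype X] (Y : Subgroup X)
    (hY : Y ≤ Subgroup.center X) (β : X → ℂ) (hβ : Cfsg.IsIrrCharacter X β) :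
    ∃ μ : Cfsg.IrrCharacter Y, (μ : Y → ℂ) 1 = 1 ∧ ∀ y : Y, β y = β 1 * (μ : Y → ℂ) y := by
  classical
  haveI : Fintype Y := Fintype.ofFinite _
  haveI hYn : Y.Normal := by
    constructor
    intro y hy g
    have := Subgroup.mem_center_iff.mp (hY hy) g
    have e : g * y * g⁻¹ = y := by rw [this]; group
    rw [e]; exact hy
  have hβY : Cfsg.IsCharacter Y (fun y : Y => β y) :=
    isCharacter_restrict (h7_irr_isCharacter hβ) Y
  have h1ne : (fun y : Y => β y) 1 ≠ 0 := by
    simp only [OneMemClass.coe_one]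
    exact gq_one_ne hβ
  obtain ⟨μ, m, hm, hμ⟩ := isCharacter_exists_constituent hβY h1ne
  have hcon : Cfsg.classInner (fun y : Y => β y) (μ : Y → ℂ) ≠ 0 := by
    rw [hμ]; exact_mod_cast hm.ne'
  have hcomm : ∀ a b : Y, a * b = b * a := by
    intro a b
    apply Subtype.ext
    exact (Subgroup.mem_center_iff.mp (hY a.2) b).symm
  have hμ1 := gq_irr_one_of_comm hcomm μ
  have hinv : ∀ g : X, cj Y (μ : Y → ℂ) g = (μ : Y → ℂ) := by
    intro g
    funext y
    rw [cj_apply]
    have e : (⟨g * y * g⁻¹, hYn.conj_mem y y.2 g⟩ : Y) = y := by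
      apply Subtype.ext
      have := Subgroup.mem_center_iff.mp (hY y.2) g
      simp only
      rw [this]; group
    rw [e]
  obtain ⟨e, he, -, hres⟩ := h7_clifford_invariant Y β hβ (μ : Y → ℂ) μ.2 hcon hinv
  have hval : ∀ y : Y, β y = (e : ℂ) * (μ : Y → ℂ) y := by
    intro y
    have := congrFun hres y
    simpa using this
  have he1 : β 1 = (e : ℂ) := by
    have := hval 1
    rw [hμ1, mul_one] at this
    simpa using this
  refine ⟨μ, hμ1, fun y => ?_⟩
  rw [he1]
  exact hval y

/-- induction from a central subgroup -/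
theorem wn_ind_central {X : Type*} [Group X] [Fintype X] (Y : Subgroup X)
    (hY : Y ≤ Subgroup.center X) (lam : Y → ℂ) (x : X) :
    Cfsg.indFun Y lam x = ((Nat.card X : ℂ) / (Nat.card Y : ℂ)) * Cfsg.extendByZero Y lam x := by
  unfold Cfsg.indFun
  have h : ∀ g : X, Cfsg.extendByZero Y lam (g⁻¹ * x * g) = Cfsg.extendByZero Y lam x := by
    intro g
    by_cases hx : x ∈ Y
    · have := Subgroup.mem_center_iff.mp (hY hx) g
      have e : g⁻¹ * x * g = x := by rw [mul_assoc, ← this]; group
      rw [e]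
    · have hx' : g⁻¹ * x * g ∉ Y := by
        intro hc
        apply hx
        have := Subgroup.mem_center_iff.mp (hY hc) g⁻¹
        have e : x = g * (g⁻¹ * x * g) * g⁻¹ := by group
        rw [e]
        have e2 : g * (g⁻¹ * x * g) * g⁻¹ = g⁻¹ * x * g := by
          calc g * (g⁻¹ * x * g) * g⁻¹ = (g⁻¹)⁻¹ * (g⁻¹ * x * g) * g⁻¹ := by rw [inv_inv]
            _ = (g⁻¹)⁻¹ * (g⁻¹ * (g⁻¹ * x * g)) := by rw [mul_assoc, this]
            _ = g⁻¹ * x * g := by group
        rw [e2]; exact hc
      rw [h7_extendByZero_not_mem Y lam _ hx', h7_extendByZero_not_mem Y lam _ hx]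
  simp only [h, Finset.sum_const, Finset.card_univ, nsmul_eq_mul, Nat.card_eq_fintype_card]
  ring

/-- inner product of a function supported on a central subgroup with an irreducible character -/
theorem wn_supp_central {X : Type*} [Group X] [Fintype X] (Y : Subgroup X) [Fintype Y]
    (hY : Y ≤ Subgroup.center X) (lam : Y → ℂ) (k : ℂ) (f : X → ℂ)
    (hf0 : ∀ x : X, x ∉ Y → f x = 0) (hf1 : ∀ y : Y, f y = k * lam y)
    (β : X → ℂ) (hβ : Cfsg.IsClassFunction X β) :
    Cfsg.classInner f β = (k * (Nat.card Y : ℂ) / (Nat.card X : ℂ)) *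
      Cfsg.classInner lam (fun y : Y => β y) := by
  have hX : (Nat.card X : ℂ) ≠ 0 := by exact_mod_cast Nat.card_pos.ne'
  have hYc : (Nat.card Y : ℂ) ≠ 0 := by exact_mod_cast Nat.card_pos.ne'
  have hfe : f = (k * (Nat.card Y : ℂ) / (Nat.card X : ℂ)) • Cfsg.indFun Y lam := by
    funext x
    rw [Pi.smul_apply, smul_eq_mul, wn_ind_central Y hY lam x]
    by_cases hx : x ∈ Y
    · rw [h7_extendByZero_mem Y lam x hx]
      have := hf1 ⟨x, hx⟩
      simp only at this
      rw [this]
      field_simp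
    · rw [h7_extendByZero_not_mem Y lam x hx, hf0 x hx]
      ring
  rw [hfe, classInner_smul_left, h7_frobenius_reciprocity Y lam β hβ]

end Cfsg.Agent.Lib.helper2
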