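import Cfsg.Agent.Lib.helper2.Winter5

set_option autoImplicit false
set_option linter.unusedVariables false

namespace Cfsg.Agent.Lib.helper2

open scoped ComplexConjugate Pointwise
open Cfsg.Agent.Lib.helper7 Cfsg.Agent.Lib.Helper25 Cfsg.Agent.Lib.Helper1 Cfsg.Agent.Lib.Helper11

universe u

/-- the group-theoretic input: a normal `r`-subgroup of class two modulo the centre -/
theorem wn_grp {G : Type*} [Group G] [Finite G] [Group.IsSolvable G]
    (hab : ∀ A : Subgroup G, A.Normal → (∀ a ∈ A, ∀ b ∈ A, a * b = b * a) →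
      A ≤ Subgroup.center G)
    (hZ : Subgroup.center G ≠ ⊤) :
    ∃ (r : ℕ) (R : Subgroup G), r.Prime ∧ R.Normal ∧ IsPGroup r R ∧ ¬ R ≤ Subgroup.center G ∧
      (∀ a ∈ R, ∀ b ∈ R, a⁻¹ * b * a * b⁻¹ ∈ Subgroup.center G) ∧
      (∀ x ∈ R, x ∉ Subgroup.center G → ∃ y ∈ R, y * x ≠ x * y) := by
  classical
  set Z := Subgroup.center G with hZdef
  have hsurj : Function.Surjective (QuotientGroup.mk' Z) := QuotientGroup.mk'_surjective Z
  have hker : (QuotientGroup.mk' Z).ker = Z := QuotientGroup.ker_mk' Z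
  haveI : Nontrivial (G ⧸ Z) := by
    by_contra hnt
    rw [not_nontrivial_iff_subsingleton] at hnt
    apply hZ
    rw [eq_top_iff]
    intro g _
    have : (QuotientGroup.mk' Z) g = 1 := Subsingleton.elim _ _
    exact (QuotientGroup.eq_one_iff g).mp this
  obtain ⟨Eb, hEn, hEne, hEmin⟩ := exists_minimal_normal (G := G ⧸ Z)
  haveI := hEn
  obtain ⟨hEcomm, r, hr, hEexp⟩ := minimal_normal_of_solvable Eb hEne hEmin
  haveI : Fact r.Prime := ⟨hr⟩
  have hEcomm' := (isMulCommutative_subgroup_iff Eb).mp hEcomm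
  set E := Eb.comap (QuotientGroup.mk' Z) with hEdef
  haveI hEnorm : E.Normal := inferInstance
  have hZE : Z ≤ E := by
    intro x hx
    rw [hEdef, Subgroup.mem_comap]
    have : (QuotientGroup.mk' Z) x = 1 := (QuotientGroup.eq_one_iff x).mpr hx
    rw [this]; exact Eb.one_mem
  -- commutators of E are central
  have hd : ∀ a ∈ E, ∀ b ∈ E, a⁻¹ * b * a * b⁻¹ ∈ Z := by
    intro a ha b hb
    rw [← hker, MonoidHom.mem_ker]
    simp only [map_mul, map_inv]
    have := hEcomm' _ (Subgroup.mem_comap.mp ha) _ (Subgroup.mem_comap.mp hb)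
    rw [mul_assoc _ _ ((QuotientGroup.mk' Z) a), ← this]
    group
  -- the centre of E is central
  have hA : E ⊓ Subgroup.centralizer (E : Set G) ≤ Z := by
    apply hab _ inferInstance
    intro a ha b hb
    exact (Subgroup.mem_centralizer_iff.mp hb.2 a ha.1)
  -- E / Z is an r-group
  have hEp : IsPGroup r Eb := by
    intro x
    exact ⟨1, by rw [pow_one]; exact Subtype.ext (hEexp x x.2)⟩
  obtain ⟨m, hm⟩ := IsPGroup.iff_card.mp hEp
  have hrel : Z.relIndex E = r ^ m := by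
    have h1 := relIndex_ker_comap (QuotientGroup.mk' Z) hsurj Eb
    rw [hker] at h1
    rw [h1, hm]
  -- a Sylow r-subgroup of E
  obtain ⟨R₀⟩ := (inferInstance : Nonempty (Sylow r E))
  set ZE : Subgroup E := Z.subgroupOf E with hZEdef
  haveI : ZE.Normal := inferInstance
  have htop : (R₀ : Subgroup E) ⊔ ZE = ⊤ := by
    rw [← Subgroup.index_eq_one]
    have h1 : ((R₀ : Subgroup E) ⊔ ZE).index ∣ (R₀ : Subgroup E).index :=
      Subgroup.index_dvd_of_le le_sup_left
    have h2 : ((R₀ : Subgroup E) ⊔ ZE).index ∣ r ^ m := by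
      rw [← hrel]
      exact Subgroup.index_dvd_of_le le_sup_right
    obtain ⟨j, hj, hje⟩ := (Nat.dvd_prime_pow hr).mp h2
    rw [hje] at h1 ⊢
    rcases Nat.eq_zero_or_pos j with h0 | hpos
    · rw [h0, pow_zero]
    · exfalso
      exact R₀.not_dvd_index ((dvd_pow_self r hpos.ne').trans h1)
  have hdecomp : ∀ e : E, ∃ u ∈ (R₀ : Subgroup E), ∃ z ∈ ZE, u * z = e := by
    intro e
    have : e ∈ (R₀ : Subgroup E) ⊔ ZE := htop ▸ Subgroup.mem_top e
    exact Subgroup.mem_sup_of_normal_right.mp this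
  have hZEc : ∀ z ∈ ZE, ∀ v : E, z * v = v * z := by
    intro z hz v
    apply Subtype.ext
    have := Subgroup.mem_center_iff.mp (Subgroup.mem_subgroupOf.mp hz) (v : G)
    exact this.symm
  have hR₀n : (R₀ : Subgroup E).Normal := by
    constructor
    intro v hv e
    obtain ⟨u, hu, z, hz, rfl⟩ := hdecomp e
    have e1 : u * z * v * (u * z)⁻¹ = u * v * u⁻¹ := by
      rw [mul_inv_rev, mul_assoc u z v, hZEc z hz v]
      group
    rw [e1]
    exact (R₀ : Subgroup E).mul_mem ((R₀ : Subgroup E).mul_mem hu hv) ((R₀ : Subgroup E).inv_mem hu)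
  haveI := Sylow.characteristic_of_normal R₀ hR₀n
  set R : Subgroup G := (R₀ : Subgroup E).map E.subtype with hRdef
  have hRn : R.Normal := ConjAct.normal_of_characteristic_of_normal
  have hRE : R ≤ E := Subgroup.map_subtype_le _
  have hRp : IsPGroup r R := R₀.2.map _
  have hdecompG : ∀ e ∈ E, ∃ u ∈ R, ∃ z ∈ Z, u * z = e := by
    intro e he
    obtain ⟨u, hu, z, hz, huz⟩ := hdecomp ⟨e, he⟩
    refine ⟨u, ⟨u, hu, rfl⟩, z, Subgroup.mem_subgroupOf.mp hz, ?_⟩
    exact congrArg Subtype.val huz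
  refine ⟨r, R, hr, hRn, hRp, ?_, ?_, ?_⟩
  · intro hRZ
    apply hEne
    rw [eq_bot_iff]
    intro x hx
    obtain ⟨g, rfl⟩ := hsurj x
    have hg : g ∈ E := Subgroup.mem_comap.mpr hx
    obtain ⟨u, hu, z, hz, rfl⟩ := hdecompG g hg
    rw [Subgroup.mem_bot]
    exact (QuotientGroup.eq_one_iff _).mpr (Z.mul_mem (hRZ hu) hz)
  · intro a ha b hb
    exact hd a (hRE ha) b (hRE hb)
  · intro x hx hxZ
    by_contra hall
    push Not at hall
    apply hxZ
    apply hA
    refine Subgroup.mem_inf.mpr ⟨hRE hx, ?_⟩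
    rw [Subgroup.mem_centralizer_iff]
    intro e he
    obtain ⟨u, hu, z, hz, rfl⟩ := hdecompG e he
    have hzc := Subgroup.mem_center_iff.mp hz
    rw [mul_assoc, ← hzc x, ← mul_assoc, hall u hu, mul_assoc]
  
end Cfsg.Agent.Lib.helper2
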