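import Cfsg.Agent.Lib.helper2.Winter6

set_option autoImplicit false
set_option linter.unusedVariables false

namespace Cfsg.Agent.Lib.helper2

open scoped ComplexConjugate Pointwise
open Cfsg.Agent.Lib.helper7 Cfsg.Agent.Lib.Helper25 Cfsg.Agent.Lib.Helper1 Cfsg.Agent.Lib.Helper11

universe u

/-- quasi-primitivity: all constituents of restrictions to normal subgroups are invariant -/
def WnQP {G : Type*} [Group G] (χ : G → ℂ) : Prop :=
  ∀ (N : Subgroup G) [hN : N.Normal] [Fintype N] (θ : N → ℂ), Cfsg.IsIrrCharacter N θ →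
    Cfsg.classInner (fun x : N => χ x) θ ≠ 0 → ∀ g : G, cj N θ g = θ

/-- the central character is an irreducible character of anything mapping to the centre -/
theorem wn_lam_irr {G : Type*} [Group G] [Fintype G] {χ : G → ℂ} (hχ : Cfsg.IsIrrCharacter G χ)
    {Y : Type*} [Group Y] (ι : Y →* G) (hι : ∀ y, ι y ∈ Subgroup.center G) :
    Cfsg.IsIrrCharacter Y (fun y => χ (ι y) / χ 1) ∧ (fun y => χ (ι y) / χ 1) 1 = 1 := by
  obtain ⟨μ, hμ1, hμ⟩ := wn_central_restrict (Subgroup.center G) le_rfl χ hχ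
  have hχ1 := gq_one_ne hχ
  have heq : (fun y => χ (ι y) / χ 1) = fun y => (μ : Subgroup.center G → ℂ)
      ((ι.codRestrict (Subgroup.center G) hι) y) := by
    funext y
    have h := hμ ((ι.codRestrict (Subgroup.center G) hι) y)
    have h' : χ (ι y) = χ 1 * (μ : Subgroup.center G → ℂ)
        ((ι.codRestrict (Subgroup.center G) hι) y) := h
    rw [h', mul_div_cancel_left₀ _ hχ1]
  have h1 : (fun y => χ (ι y) / χ 1) 1 = 1 := by
    simp only [map_one]
    exact div_self hχ1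
  refine ⟨?_, h1⟩
  apply h7_linear_isIrr _ h1
  rw [heq]
  exact isCharacter_comp_hom (h7_irr_isCharacter μ.2) _

theorem wn_homog {G : Type*} [Group G] [Fintype G] {χ : G → ℂ} (hχ : Cfsg.IsIrrCharacter G χ)
    (hQP : WnQP χ) (N : Subgroup G) [hN : N.Normal] [Fintype N] :
    ∃ (η : Cfsg.IrrCharacter N) (e : ℕ), 0 < e ∧ (∀ x : N, χ x = (e : ℂ) * (η : N → ℂ) x) ∧
      ∀ g : G, cj N (η : N → ℂ) g = (η : N → ℂ) := by
  classical
  have hχN : Cfsg.IsCharacter N (fun a : N => χ a) :=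
    isCharacter_restrict (h7_irr_isCharacter hχ) N
  have h1ne : (fun a : N => χ a) 1 ≠ 0 := by
    simp only [OneMemClass.coe_one]
    exact gq_one_ne hχ
  obtain ⟨η, m, hm, hη⟩ := isCharacter_exists_constituent hχN h1ne
  have hcon : Cfsg.classInner (fun a : N => χ a) (η : N → ℂ) ≠ 0 := by
    rw [hη]; exact_mod_cast hm.ne'
  have hinv := hQP N (η : N → ℂ) η.2 hcon
  obtain ⟨e, he, -, hres⟩ := h7_clifford_invariant N χ hχ (η : N → ℂ) η.2 hcon hinv
  refine ⟨η, e, he, ?_, hinv⟩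
  intro a
  have := congrFun hres a
  simpa using this

/-- abelian normal subgroups are central -/
theorem wn_abelian_central {G : Type*} [Group G] [Fintype G] {χ : G → ℂ}
    (hχ : Cfsg.IsIrrCharacter G χ) (hfaith : ∀ g : G, χ g = χ 1 → g = 1) (hQP : WnQP χ)
    (A : Subgroup G) (hN : A.Normal) (hA : ∀ a ∈ A, ∀ b ∈ A, a * b = b * a) :
    A ≤ Subgroup.center G := by
  classical
  haveI := hN
  haveI : Fintype A := Fintype.ofFinite _
  obtain ⟨lam, e, he, hval, hinv⟩ := wn_homog hχ hQP A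
  have hlam1 := gq_irr_one_of_comm (fun a b : A => Subtype.ext (hA a a.2 b b.2)) lam
  intro a ha
  rw [Subgroup.mem_center_iff]
  intro g
  have hc : g * a * g⁻¹ * a⁻¹ ∈ A := A.mul_mem (hN.conj_mem a ha g) (A.inv_mem ha)
  have h2 : χ (g * a * g⁻¹ * a⁻¹) = χ 1 := by
    have e1 := hval ⟨g * a * g⁻¹ * a⁻¹, hc⟩
    have e2 : (⟨g * a * g⁻¹ * a⁻¹, hc⟩ : A) =
        ⟨g * a * g⁻¹, hN.conj_mem a ha g⟩ * (⟨a, ha⟩ : A)⁻¹ := rfl
    have e3 : (lam : A → ℂ) ⟨g * a * g⁻¹, hN.conj_mem a ha g⟩ = (lam : A → ℂ) ⟨a, ha⟩ := by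
      have := congrFun (hinv g) ⟨a, ha⟩
      rwa [cj_apply] at this
    have e4 := hval 1
    rw [hlam1] at e4
    simp only [OneMemClass.coe_one] at e4
    simp only at e1
    rw [e1, e2, irr_linear_mul lam hlam1, e3, ← irr_linear_mul lam hlam1, mul_inv_cancel, hlam1, e4]
  have h3 := hfaith _ h2
  have : g * a * g⁻¹ = a := mul_inv_eq_one.mp h3
  calc g * a = g * a * g⁻¹ * g := by group
    _ = a * g := by rw [this]

/-- a faithful irreducible character vanishes where a central commutator is nontrivial -/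
theorem wn_vanish {G : Type*} [Group G] {χ : G → ℂ}
    (hχ : Cfsg.IsIrrCharacter G χ) (hfaith : ∀ g : G, χ g = χ 1 → g = 1) (x y : G)
    (hc : y⁻¹ * x * y * x⁻¹ ∈ Subgroup.center G) (hne : y * x ≠ x * y) : χ x = 0 := by
  have h1 := gq_fix hχ x y hc
  -- gq_fix : χ (y⁻¹ x y x⁻¹) / χ 1 * χ y = χ y  -- wrong variable; redo directly
  have hcl := h7_irr_isClassFunction hχ
  have h2 : χ x = χ (y⁻¹ * x * y * x⁻¹) / χ 1 * χ x := by
    rw [← gq_cent hχ _ hc x]
    have e : y⁻¹ * x * y * x⁻¹ * x = y⁻¹ * x * (y⁻¹)⁻¹ := by group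
    rw [e]
    exact (hcl x y⁻¹).symm
  have h3 : χ (y⁻¹ * x * y * x⁻¹) / χ 1 ≠ 1 := by
    intro h
    have := gq_cent_inj hχ hfaith _ h
    apply hne
    have e : y⁻¹ * x * y = x := mul_inv_eq_one.mp this
    calc y * x = y * (y⁻¹ * x * y) := by rw [e]
      _ = x * y := by group
  by_contra h0
  apply h3
  have : (χ (y⁻¹ * x * y * x⁻¹) / χ 1 - 1) * χ x = 0 := by
    rw [sub_mul, one_mul, ← h2, sub_self]
  rcases mul_eq_zero.mp this with h | h
  · exact sub_eq_zero.mp h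
  · exact absurd h h0

end Cfsg.Agent.Lib.helper2
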