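import Cfsg.Agent.Lib.helper2.Winter7

set_option autoImplicit false
set_option linter.unusedVariables false

namespace Cfsg.Agent.Lib.helper2

open scoped ComplexConjugate Pointwise
open Cfsg.Agent.Lib.helper7 Cfsg.Agent.Lib.Helper25 Cfsg.Agent.Lib.Helper1 Cfsg.Agent.Lib.Helper11

universe u

theorem wn_fully_ram {G : Type*} [Group G] [Fintype G] {χ : G → ℂ}
    (hχ : Cfsg.IsIrrCharacter G χ) (hfaith : ∀ g : G, χ g = χ 1 → g = 1)
    (R : Subgroup G) [Fintype R]
    (hRd : ∀ a ∈ R, ∀ b ∈ R, a⁻¹ * b * a * b⁻¹ ∈ Subgroup.center G)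
    (hRe : ∀ x ∈ R, x ∉ Subgroup.center G → ∃ y ∈ R, y * x ≠ x * y)
    (ϑ : R → ℂ) (hϑ : Cfsg.IsIrrCharacter R ϑ) (e : ℕ) (he : 0 < e)
    (hval : ∀ x : R, χ x = (e : ℂ) * ϑ x) :
    (∀ x : R, (x : G) ∉ Subgroup.center G → ϑ x = 0) ∧
    (∀ x : R, (x : G) ∈ Subgroup.center G → ϑ x = ϑ 1 * (χ x / χ 1)) ∧
    ∀ d : ℕ, ϑ 1 = (d : ℂ) →
      d * d * Nat.card ((Subgroup.center G).subgroupOf R) = Nat.card R := by
  classical
  have hχ1 := gq_one_ne hχ
  have hϑ1 := gq_one_ne hϑ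
  have hec : (e : ℂ) ≠ 0 := by exact_mod_cast he.ne'
  have h0 : ∀ x : R, (x : G) ∉ Subgroup.center G → ϑ x = 0 := by
    intro x hx
    obtain ⟨y, hy, hne⟩ := hRe x x.2 hx
    have hc := hRd y hy x x.2
    have hv := wn_vanish hχ hfaith x y hc hne
    rw [hval x] at hv
    rcases mul_eq_zero.mp hv with h | h
    · exact absurd h hec
    · exact h
  have h1 : ∀ x : R, ϑ x = ϑ 1 * (χ x / χ 1) := by
    intro x
    have e1 := hval 1
    simp only [OneMemClass.coe_one] at e1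
    rw [hval x, e1]
    field_simp
  refine ⟨h0, fun x _ => h1 x, ?_⟩
  intro d hd
  set Y : Subgroup R := (Subgroup.center G).subgroupOf R with hY
  haveI : Fintype Y := Fintype.ofFinite _
  have hYc : Y ≤ Subgroup.center R := by
    intro y hy
    rw [Subgroup.mem_center_iff]
    intro g
    apply Subtype.ext
    exact Subgroup.mem_center_iff.mp (Subgroup.mem_subgroupOf.mp hy) (g : G)
  obtain ⟨hlam, hlam1⟩ := wn_lam_irr hχ (R.subtype.comp Y.subtype) (fun y => by
    exact Subgroup.mem_subgroupOf.mp y.2)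
  set lam : Y → ℂ := fun y => χ ((R.subtype.comp Y.subtype) y) / χ 1 with hlamdef
  have hsupp := wn_supp_central Y hYc lam (ϑ 1) ϑ (fun x hx => h0 x (fun h => hx h))
    (fun y => h1 y) ϑ (h7_irr_isClassFunction hϑ)
  rw [h7_irr_norm hϑ] at hsupp
  have hres : (fun y : Y => ϑ y) = (ϑ 1) • lam := by
    funext y
    rw [Pi.smul_apply, smul_eq_mul]
    exact h1 y
  rw [hres, h7_classInner_smul_right, h7_irr_norm hlam, hd, Complex.conj_natCast, mul_one] at hsupp
  have hR : (Nat.card R : ℂ) ≠ 0 := by exact_mod_cast Nat.card_pos.ne'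
  have : ((d * d * Nat.card Y : ℕ) : ℂ) = (Nat.card R : ℂ) := by
    push_cast
    field_simp at hsupp
    linear_combination -hsupp
  exact_mod_cast this

end Cfsg.Agent.Lib.helper2
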