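import Cfsg.Agent.Lib.helper2.Winter8
import Cfsg.Agent.Lib.helper2.CharInt
import Cfsg.Agent.S4444

set_option autoImplicit false
set_option linter.unusedVariables false

namespace Cfsg.Agent.Lib.helper2

open scoped ComplexConjugate Pointwise
open Cfsg.Agent.Lib.helper7 Cfsg.Agent.Lib.Helper25 Cfsg.Agent.Lib.Helper1 Cfsg.Agent.Lib.Helper11

universe u

theorem wn_card_subgroupOf {G : Type*} [Group G] (H K : Subgroup G) :
    Nat.card (H.subgroupOf K) = Nat.card (H ⊓ K : Subgroup G) := by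
  rw [← Subgroup.subgroupOf_map_subtype]
  exact (Subgroup.card_map_of_injective K.subtype_injective).symm

/-- multiplicities in the restriction of a fully ramified character to an intermediate subgroup -/
theorem wn_mult {G : Type*} [Group G] [Fintype G] {χ : G → ℂ} (hχ : Cfsg.IsIrrCharacter G χ)
    (r : ℕ) (hr : r.Prime) (R : Subgroup G) [Fintype R] (hRp : IsPGroup r R)
    (ϑ : R → ℂ)
    (h0 : ∀ x : R, (x : G) ∉ Subgroup.center G → ϑ x = 0)
    (h1 : ∀ x : R, (x : G) ∈ Subgroup.center G → ϑ x = ϑ 1 * (χ x / χ 1))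
    (d : ℕ) (hd : ϑ 1 = (d : ℂ)) (hdr : ∃ a, d = r ^ a)
    (C : Subgroup G) [Fintype C] (hCR : C ≤ R) (β' : Cfsg.IrrCharacter C) (m' : ℕ)
    (hm' : Cfsg.classInner (fun c : C => ϑ ⟨c, hCR c.2⟩) (β' : C → ℂ) = (m' : ℂ))
    (hm0 : m' ≠ 0) :
    (∃ b, m' = r ^ b) ∧ ∀ d' : ℕ, (β' : C → ℂ) 1 = (d' : ℂ) →
      m' * Nat.card C = d * d' * Nat.card ((Subgroup.center G).subgroupOf C) := by
  classical
  haveI : Fact r.Prime := ⟨hr⟩
  set Y : Subgroup C := (Subgroup.center G).subgroupOf C with hY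
  haveI : Fintype Y := Fintype.ofFinite _
  have hYc : Y ≤ Subgroup.center C := by
    intro y hy
    rw [Subgroup.mem_center_iff]
    intro g
    apply Subtype.ext
    exact Subgroup.mem_center_iff.mp (Subgroup.mem_subgroupOf.mp hy) (g : G)
  obtain ⟨hlam, hlam1⟩ := wn_lam_irr hχ (C.subtype.comp Y.subtype) (fun y => by
    exact Subgroup.mem_subgroupOf.mp y.2)
  set lam : Y → ℂ := fun y => χ ((C.subtype.comp Y.subtype) y) / χ 1 with hlamdef
  have hsupp := wn_supp_central Y hYc lam (ϑ 1) (fun c : C => ϑ ⟨c, hCR c.2⟩)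
    (fun x hx => h0 ⟨x, hCR x.2⟩ (fun h => hx h))
    (fun y => h1 ⟨(y : C), hCR (y : C).2⟩ (Subgroup.mem_subgroupOf.mp y.2))
    (β' : C → ℂ) (h7_irr_isClassFunction β'.2)
  obtain ⟨μ', hμ1, hμ⟩ := wn_central_restrict Y hYc (β' : C → ℂ) β'.2
  have hres : (fun y : Y => (β' : C → ℂ) y) = ((β' : C → ℂ) 1) • (μ' : Y → ℂ) := by
    funext y
    rw [Pi.smul_apply, smul_eq_mul]
    exact hμ y
  obtain ⟨n', hn'pos, hn', hn'dvd⟩ := irr_degree_dvd_card β'
  rw [hm', hres, h7_classInner_smul_right, hn', Complex.conj_natCast, hd] at hsupp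
  have hC : (Nat.card C : ℂ) ≠ 0 := by exact_mod_cast Nat.card_pos.ne'
  by_cases hlm : lam = (μ' : Y → ℂ)
  · rw [hlm, h7_irr_norm μ'.2, mul_one] at hsupp
    have hnat : m' * Nat.card C = d * n' * Nat.card Y := by
      have : ((m' * Nat.card C : ℕ) : ℂ) = ((d * n' * Nat.card Y : ℕ) : ℂ) := by
        push_cast
        rw [hsupp]
        field_simp
      exact_mod_cast this
    constructor
    · -- all factors on the right are powers of r
      obtain ⟨a, ha⟩ := hdr
      obtain ⟨j, hj⟩ := IsPGroup.iff_card.mp hRp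
      have hCd : Nat.card C ∣ r ^ j := by
        rw [← hj]
        exact Subgroup.card_dvd_of_le hCR
      obtain ⟨j', _, hj'⟩ := (Nat.dvd_prime_pow hr).mp hCd
      have hYd : Nat.card Y ∣ r ^ j' := by
        rw [← hj']
        exact Subgroup.card_subgroup_dvd_card Y
      obtain ⟨j'', _, hj''⟩ := (Nat.dvd_prime_pow hr).mp hYd
      have hn'd : n' ∣ r ^ j' := hj' ▸ hn'dvd
      obtain ⟨a', _, ha'⟩ := (Nat.dvd_prime_pow hr).mp hn'd
      have hdiv : m' ∣ r ^ (a + a' + j'') := by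
        rw [pow_add, pow_add, ← ha, ← ha', ← hj'', ← hnat]
        exact Dvd.intro _ rfl
      obtain ⟨b, _, hb⟩ := (Nat.dvd_prime_pow hr).mp hdiv
      exact ⟨b, hb⟩
    · intro d' hd'
      have : n' = d' := by
        have : (n' : ℂ) = (d' : ℂ) := by rw [← hn', hd']
        exact_mod_cast this
      rw [← this]
      exact hnat
  · exfalso
    rw [h7_irr_inner_ne hlam μ'.2 hlm, mul_zero, mul_zero] at hsupp
    apply hm0
    exact_mod_cast hsupp

end Cfsg.Agent.Lib.helper2
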